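import Cfsg.Agent.H434.LD.WUniq_m3
import Cfsg.Agent.H162.WeilCount
import Cfsg.Agent.H62.SpMult
import Cfsg.Agent.H905.PCover
import Cfsg.Agent.H906.Cover_m3
import Cfsg.Agent.H912.CrossList_m3
import Cfsg.Agent.H932.MtCov_m3
import Cfsg.Agent.Lib.FinFast
import Cfsg.Agent.Prune
set_option linter.all false

section
prune_inst 0x7fffedfaf9fc79dfdffb7e7fa7decffdbbbbbfffe6dff943ffe069ff8b9f1b8289c56bad89e212fe1ef6621410b87b53fffffeffe86fdc7ffffd5ff41ffbee5ff5f73508519488340fbc2ff703f0778e7f3fffffffffffffffffffffffffffbeffbfffffffff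

-- part: H434/LD/WOrb
section
set_option linter.all false
open scoped Cfsg.Agent.FastGrp

/-!
# Small representations have rank one (helper162; port to any coefficient field, helper434)
-/

set_option autoImplicit false
set_option linter.unusedSectionVars false
open Matrix Module Representation Cfsg.Agent.H162.Weil

namespace Cfsg.Agent.H434.WK

variable {F : Type*} [Field F] {n : ℕ} [Fintype F] {𝕜 : Type*} [Field 𝕜] [hq : Fact ((Fintype.card F : 𝕜) ≠ 0)]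
  {V : Type*} [AddCommGroup V] [Module 𝕜 V] {ρ : Representation 𝕜 (Sp n F) V} {ψ : AddChar F 𝕜}

/-- The class of a weight bounds the dimension. -/
theorem card_Ob_le [FiniteDimensional 𝕜 V] (hψ : ψ.IsPrimitive) (h2 : (2 : F) ≠ 0)
    {T : Matrix (Fin n) (Fin n) F} {v : V} (hv : v ∈ Wt ρ ψ T) (hne : v ≠ 0) :
    Nat.card (H162.Weil.Ob T) ≤ finrank 𝕜 V := by
  classical
  have hfin : Finite (H162.Weil.Ob T) := inferInstance
  let _ : Fintype (H162.Weil.Ob T) := Fintype.ofFinite _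
  have hex : ∀ S : H162.Weil.Ob T, ∃ h : GL (Fin n) F, S.1.1 = actT h T := fun S => S.2
  choose h hh using hex
  let b : H162.Weil.Ob T → V := fun S => ρ (mm (h S)) v
  have hb : ∀ S : H162.Weil.Ob T, b S ∈ Wt ρ ψ S.1.1 := by
    intro S
    rw [hh S]
    exact mm_mem_Wt (h S) hv
  have hb0 : ∀ S : H162.Weil.Ob T, b S ≠ 0 := by
    intro S h0
    apply hne
    apply rho_inj (ρ := ρ) (mm (h S))
    rw [map_zero]
    exact h0
  have hli : LinearIndependent 𝕜 b := by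
    rw [linearIndependent_iff']
    intro s g hg S hS
    have h1 := congrArg (Pj ρ ψ S.1.1) hg
    rw [map_zero, map_sum, Finset.sum_eq_single_of_mem S hS, map_smul, Pj_of_mem (hb S)] at h1
    · exact (smul_eq_zero.mp h1).resolve_right (hb0 S)
    · intro S' _ hne'
      rw [map_smul, Pj_of_mem_ne hψ h2 S.1.2 S'.1.2 (fun h => hne' (Subtype.ext (Subtype.ext h.symm))) (hb S'),
        smul_zero]
  have := hli.fintype_card_le_finrank
  rwa [Nat.card_eq_fintype_card]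

theorem normal_top (j : Fin n) (K : Subgroup (Sp n F)) [hK : K.Normal]
    (hu : ∀ S : Sym n F, uu S ∈ K) : K = ⊤ := by
  rw [← top_le_iff, ← S0765.result n, Subgroup.closure_le]
  rintro A ⟨w, c, hA⟩
  obtain ⟨k, -, a', hka⟩ := exists_move j (⊤ : Subgroup (Sp n F)) (fun _ => Subgroup.mem_top _)
    (fun _ => Subgroup.mem_top _) (Subgroup.mem_top _) (w ∘ Sum.inl) (w ∘ Sum.inr)
  rw [Sum.elim_comp_inl_inr] at hka
  obtain ⟨S, hS⟩ := tr_of_zero a' c
  have h1 : k * A = uu S * k := by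
    apply Subtype.ext
    rw [Submonoid.coe_mul, Submonoid.coe_mul, hA, mul_tr, hka, hS]
  have h2 : A = k⁻¹ * uu S * k := by rw [mul_assoc, ← h1, inv_mul_cancel_left]
  rw [h2]
  have := hK.conj_mem _ (hu S) k⁻¹
  rwa [inv_inv] at this

/-- If there is only the trivial weight, the representation is one dimensional. -/
theorem dim_one (hψ : ψ.IsPrimitive) (h2 : (2 : F) ≠ 0) (j : Fin n) (hρ : ρ.IsIrreducible)
    (h0 : ∀ T ∈ Sym n F, T ≠ 0 → ∀ v ∈ Wt ρ ψ T, v = 0) : finrank 𝕜 V = 1 := by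
  have h1 : ∀ (S : Sym n F) (v : V), ρ (uu S) v = v := by
    intro S v
    have h3 : Pj ρ ψ 0 v = v := by
      conv_rhs => rw [← sum_Pj (ρ := ρ) hψ h2 v]
      rw [Finset.sum_eq_single (0 : Sym n F)]
      · rfl
      · intro T _ hT
        apply h0 T.1 T.2 _ _ (Pj_mem _ _)
        intro h; exact hT (Subtype.ext h)
      · simp
    have h4 : v ∈ Wt ρ ψ (0 : Matrix (Fin n) (Fin n) F) := by
      rw [← h3]; exact Pj_mem _ _
    have h5 := h4 S
    rw [pr_zero_left, AddChar.map_zero_eq_one, one_smul] at h5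
    exact h5
  have hker : ρ.ker = ⊤ := by
    apply normal_top j
    intro S
    rw [MonoidHom.mem_ker]
    apply LinearMap.ext
    intro v
    exact h1 S v
  have htriv : ∀ g v, ρ g v = v := by
    intro g v
    have : g ∈ ρ.ker := by rw [hker]; exact Subgroup.mem_top _
    rw [MonoidHom.mem_ker] at this
    rw [this]; rfl
  obtain ⟨v, hv⟩ : ∃ v : V, v ≠ 0 := by
    by_contra hc
    push Not at hc
    have := hρ.toNontrivial
    obtain ⟨U, hU⟩ := exists_ne (⊤ : Subrepresentation ρ)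
    apply hU
    apply Subrepresentation.toSubmodule_injective
    ext v
    rw [hc v]
    simp [zero_mem]
  rw [finrank_eq_one_iff_of_nonzero v hv]
  apply eq_top_of_irr hρ
  · intro g u hu
    rw [htriv]; exact hu
  · exact Submodule.mem_span_singleton_self v
  · exact hv

/-- **Small representations have rank one.** -/
theorem rkOne_of_lt [FiniteDimensional 𝕜 V] (hψ : ψ.IsPrimitive) (h2 : (2 : F) ≠ 0) (hq3 : 3 ≤ Fintype.card F)
    (hn : 2 ≤ n) (hlt : 2 * (Fintype.card F + 1) * finrank 𝕜 V < (Fintype.card F ^ n - 1) *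
      (Fintype.card F ^ n - Fintype.card F)) : RkOne ρ ψ := by
  by_contra hR
  unfold RkOne at hR
  push Not at hR
  obtain ⟨S, hS, w, hw, hw0, a, b, c, d, habcd⟩ := hR
  have h3 := (H162.Weil.card_Ob h2 hq3 hn hS habcd).trans
    (Nat.mul_le_mul le_rfl (card_Ob_le hψ h2 hw hw0))
  omega

/-- **A rank one weight of a non-trivial irreducible representation.** -/
theorem exists_seed [FiniteDimensional 𝕜 V] (hψ : ψ.IsPrimitive) (h2 : (2 : F) ≠ 0) (i : Fin n) (hρ : ρ.IsIrreducible)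
    (hR : RkOne ρ ψ) (h1 : finrank 𝕜 V ≠ 1) :
    ∃ (lam : F) (v : V), Seed ρ ψ lam i v := by
  have h0 : ¬ ∀ T ∈ Sym n F, T ≠ 0 → ∀ v ∈ Wt ρ ψ T, v = 0 := fun h => h1 (dim_one hψ h2 i hρ h)
  push Not at h0
  obtain ⟨T, hT, hT0, v, hv, hne⟩ := h0
  obtain ⟨p, q, hpq⟩ : ∃ p q, T p q ≠ 0 := by
    by_contra hc
    push Not at hc
    exact hT0 (by ext p q; exact hc p q)
  have hr := hR T hT v hv hne
  have hTs : ∀ a b, T a b = T b a := fun a b => Sym.apply ⟨T, hT⟩ a b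
  have hk : T p p ≠ 0 := by
    intro h
    have := hr p p q q
    rw [h, zero_mul, hTs q p] at this
    exact mul_ne_zero hpq hpq this.symm
  have hTT : T = TT (T p p)⁻¹ (fun l => T l p) := by
    ext a b
    rw [TT_apply, hTs b p, hr a p p b]
    field_simp
  have hx : (fun l => T l p : Fin n → F) ≠ 0 := by
    intro h
    exact hk (congrFun h p)
  obtain ⟨g, hg⟩ := exists_vecMul_eq_single _ hx i
  refine ⟨(T p p)⁻¹, ρ (mm g⁻¹) v, hψ, h2, hR, inv_ne_zero hk, ?_, ?_⟩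
  · rw [hTT] at hv
    have h5 := mm_mem_TT g⁻¹ hv
    rw [inv_inv, hg] at h5
    exact h5
  · intro h
    exact hne (rho_inj (ρ := ρ) (mm g⁻¹) (by rw [h, map_zero]))

end Cfsg.Agent.H434.WK
end

-- part: H434/LD/WTwelve
section
prune_inst 0x100506030620200481800800300044400000102004880000800020006410660294420618610001088820c542800000000100120020000000a000800011800800800000421400100000088000004000000000000000000000000000000000000000000000
set_option linter.all false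
open scoped Cfsg.Agent.FastGrp

/-!
# The representations of `Sp₄(5)` of degree 12 (helper434)
-/

set_option autoImplicit false
set_option linter.unusedSectionVars false
open Matrix Module Representation Cfsg.Agent.H162.Weil

namespace Cfsg.Agent.H434.WK

instance fact5 : Fact (Nat.Prime 5) := ⟨by norm_num⟩

/-- representatives of the non-zero vectors up to sign -/
def X12 : Finset (Fin 2 → ZMod 5) :=
  Finset.univ.filter fun x => x 0 = 1 ∨ x 0 = 2 ∨ (x 0 = 0 ∧ (x 1 = 1 ∨ x 1 = 2))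

theorem card_X12 : X12.card = 12 := by decide

theorem X12_ne {x : Fin 2 → ZMod 5} (hx : x ∈ X12) : x ≠ 0 := by
  rintro rfl
  revert hx
  decide

theorem X12_neg {x : Fin 2 → ZMod 5} (hx : x ∈ X12) : -x ∉ X12 := by
  revert x
  decide +kernel

theorem TT_eq' {F : Type*} [Field F] [Fintype F] {n : ℕ} {lam : F} {x y : Fin n → F} (hlam : lam ≠ 0) (hx : x ≠ 0)
    (h : TT lam y = TT lam x) : y = x ∨ y = -x :=
  H162.Weil.TT_eq hlam hx h

theorem five_zmod : (5 : ZMod 5) = 0 := by decide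

theorem zmod_cases (c : ZMod 5) : c = 0 ∨ c = 1 ∨ c = 2 ∨ c = 3 ∨ c = 4 := by
  revert c
  decide

theorem sum5 {M : Type*} [AddCommMonoid M] (g : ZMod 5 → M) : ∑ y : ZMod 5, g y = g 0 + g 1 + g 2 + g 3 + g 4 :=
  Fin.sum_univ_five g

section root

variable {𝕜 : Type*} [Field 𝕜] {ψ : AddChar (ZMod 5) 𝕜}

theorem psi_nat (lam : ZMod 5) (m : ℕ) : ψ ((m : ZMod 5) * lam) = ψ lam ^ m := by
  rw [← nsmul_eq_mul, AddChar.map_nsmul_eq_pow]

theorem psi_pow_five (lam : ZMod 5) : ψ lam ^ 5 = 1 := by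
  rw [← psi_nat]
  have : ((5 : ℕ) : ZMod 5) = 0 := by decide
  rw [this, zero_mul, AddChar.map_zero_eq_one]

theorem psi_ne_one (hψ : ψ.IsPrimitive) {lam : ZMod 5} (hlam : lam ≠ 0) : ψ lam ≠ 1 := by
  intro h
  apply hψ hlam
  ext s
  rw [AddChar.mulShift_apply]
  have h1 : (lam * s : ZMod 5) = ((s.val : ℕ) : ZMod 5) * lam := by
    rw [ZMod.natCast_zmod_val, mul_comm]
  rw [h1, psi_nat, h, one_pow]
  simp

theorem psi_sum (hψ : ψ.IsPrimitive) {lam : ZMod 5} (hlam : lam ≠ 0) :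
    1 + ψ lam + ψ lam ^ 2 + ψ lam ^ 3 + ψ lam ^ 4 = 0 := by
  have h1 := psi_ne_one hψ hlam
  have h2 := psi_pow_five (ψ := ψ) lam
  have h3 : (ψ lam - 1) * (1 + ψ lam + ψ lam ^ 2 + ψ lam ^ 3 + ψ lam ^ 4) = 0 := by
    linear_combination h2
  exact (mul_eq_zero.1 h3).resolve_left (sub_ne_zero.2 h1)

theorem gs_neg (lam : ZMod 5) : gs ψ (-lam) = 1 + 2 * ψ lam ^ 4 + 2 * ψ lam := by
  unfold gs
  rw [sum5]
  have e0 : ψ (-lam * (0 : ZMod 5) ^ 2) = 1 := by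
    rw [show -lam * (0 : ZMod 5) ^ 2 = 0 by ring, AddChar.map_zero_eq_one]
  have e1 : ψ (-lam * (1 : ZMod 5) ^ 2) = ψ lam ^ 4 := by
    rw [← psi_nat]
    congr 1
    push_cast
    linear_combination (-lam) * five_zmod
  have e2 : ψ (-lam * (2 : ZMod 5) ^ 2) = ψ lam := by
    congr 1
    linear_combination (-lam) * five_zmod
  have e3 : ψ (-lam * (3 : ZMod 5) ^ 2) = ψ lam := by
    congr 1
    linear_combination (-2 * lam) * five_zmod
  have e4 : ψ (-lam * (4 : ZMod 5) ^ 2) = ψ lam ^ 4 := by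
    rw [← psi_nat]
    congr 1
    push_cast
    linear_combination (-4 * lam) * five_zmod
  rw [e0, e1, e2, e3, e4]
  ring

/-- the unit `2` -/
def u2 : (ZMod 5)ˣ := ⟨2, 3, by decide, by decide⟩

theorem gs_mul (m : ℕ) (lam : ZMod 5) : gs ψ (-((m : ZMod 5) * lam)) = 1 + 2 * ψ lam ^ (4 * m) + 2 * ψ lam ^ m := by
  rw [gs_neg, psi_nat, ← pow_mul, mul_comm m 4]

theorem chi_neg_one (lam : ZMod 5) (h : gs ψ (-lam) ≠ 0) : chi ψ lam (-1 : (ZMod 5)ˣ) = 1 := by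
  have h1 : gs ψ (-(((-1 : (ZMod 5)ˣ)⁻¹ : (ZMod 5)ˣ) : ZMod 5) * lam) = gs ψ (-lam) := by
    have h2 : -(((-1 : (ZMod 5)ˣ)⁻¹ : (ZMod 5)ˣ) : ZMod 5) * lam = -(((4 : ℕ) : ZMod 5) * lam) := by
      have h3 : (((-1 : (ZMod 5)ˣ)⁻¹ : (ZMod 5)ˣ) : ZMod 5) = ((4 : ℕ) : ZMod 5) := by decide
      rw [h3]; ring
    rw [h2, gs_mul, gs_neg]
    have h4 := psi_pow_five (ψ := ψ) lam
    linear_combination (2 * ψ lam * (ψ lam ^ 10 + ψ lam ^ 5 + 1)) * h4
  rw [chi, h1, inv_mul_cancel₀ h]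

theorem chi_two (hψ : ψ.IsPrimitive) {lam : ZMod 5} (hlam : lam ≠ 0) (h : gs ψ (-lam) ≠ 0) :
    chi ψ lam u2 = -1 := by
  have h1 : gs ψ (-((u2⁻¹ : (ZMod 5)ˣ) : ZMod 5) * lam) = - gs ψ (-lam) := by
    have h2 : -((u2⁻¹ : (ZMod 5)ˣ) : ZMod 5) * lam = -(((3 : ℕ) : ZMod 5) * lam) := by
      have h3 : ((u2⁻¹ : (ZMod 5)ˣ) : ZMod 5) = ((3 : ℕ) : ZMod 5) := by decide
      rw [h3]; ring
    rw [h2, gs_mul, gs_neg]
    have h4 := psi_pow_five (ψ := ψ) lam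
    have h5 := psi_sum hψ hlam
    linear_combination (2 * ψ lam ^ 2 * (ψ lam ^ 5 + 1)) * h4 + 2 * h5
  rw [chi, h1, mul_neg, inv_mul_cancel₀ h]

end root

section rep

variable {𝕜 : Type*} [Field 𝕜] [hq : Fact ((Fintype.card (ZMod 5) : 𝕜) ≠ 0)] {V : Type*} [AddCommGroup V]
  [Module 𝕜 V] {ρ : Representation 𝕜 (Sp 2 (ZMod 5)) V} {ψ : AddChar (ZMod 5) 𝕜} {lam : ZMod 5} {v : V}

theorem five_ne : (5 : 𝕜) ≠ 0 := by
  have := hq.out
  rw [ZMod.card] at this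
  exact_mod_cast this

theorem ij2 : (0 : Fin 2) ≠ 1 := by decide

/-- the family of weight vectors, `0` at `0` -/
noncomputable def ff (ρ : Representation 𝕜 (Sp 2 (ZMod 5)) V) (ψ : AddChar (ZMod 5) 𝕜) (lam : ZMod 5) (v : V)
    (x : Fin 2 → ZMod 5) : V := famF ρ ψ lam 0 v 0 x

theorem ff_zero : ff ρ ψ lam v 0 = 0 := by
  rw [ff, famF, dif_pos rfl]

variable (hs : Seed ρ ψ lam 0 v)

include hs

theorem ff_ne {x : Fin 2 → ZMod 5} (hx : x ≠ 0) : ff ρ ψ lam v x ≠ 0 := by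
  obtain ⟨h, hh⟩ := exists_vecMul_eq_single x hx 0
  have h1 := hs.fam_eq ij2 0 hx h hh
  intro h0
  apply hs.ne
  rw [show famF ρ ψ lam 0 v 0 x = 0 from h0, smul_zero] at h1
  exact rho_inj (ρ := ρ) (mm h) (by rw [h1, map_zero])

theorem ff_mem (x : Fin 2 → ZMod 5) : ff ρ ψ lam v x ∈ Wt ρ ψ (TT lam x) := by
  by_cases hx : x = 0
  · rw [hx, ff_zero]
    exact Submodule.zero_mem _
  · exact hs.fam_mem ij2 0 hx

theorem ff_r2 (g : GL (Fin 2) (ZMod 5)) (x : Fin 2 → ZMod 5) : ρ (mm g) (ff ρ ψ lam v x) =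
    chi ψ lam (GeneralLinearGroup.det g) •
      ff ρ ψ lam v (x ᵥ* ((g⁻¹ : GL (Fin 2) (ZMod 5)) : Matrix (Fin 2) (Fin 2) (ZMod 5))) := by
  by_cases hx : x = 0
  · rw [hx, zero_vecMul, ff_zero, map_zero, smul_zero]
  · exact hs.fam_r2 ij2 0 hx g

theorem gs_ne0 : gs ψ (-lam) ≠ 0 := hs.gs_ne 1 ij2

theorem ff_uu (x : Fin 2 → ZMod 5) (S : Sym 2 (ZMod 5)) :
    ρ (uu S) (ff ρ ψ lam v x) = ψ (lam * (x ⬝ᵥ (S.1 *ᵥ x))) • ff ρ ψ lam v x := by
  rw [ff_mem hs x S, pr_TT]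

/-- the central element -/
theorem ff_neg (x : Fin 2 → ZMod 5) : ff ρ ψ lam v (-x) = ρ (mm (-1)) (ff ρ ψ lam v x) := by
  rw [ff_r2 hs]
  have h1 : GeneralLinearGroup.det (-1 : GL (Fin 2) (ZMod 5)) = 1 := by
    apply Units.ext
    rw [GeneralLinearGroup.val_det_apply, Units.val_neg, Units.val_one, Matrix.det_neg, Matrix.det_one]
    simp only [_root_.Fintype.card_fin, _root_.even_two, _root_.Even.neg_pow, _root_.one_pow, _root_.mul_one, _root_.Units.val_one]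
  have h2 : (((-1 : GL (Fin 2) (ZMod 5))⁻¹ : GL (Fin 2) (ZMod 5)) : Matrix (Fin 2) (Fin 2) (ZMod 5)) = -1 := by
    have : ((-1 : GL (Fin 2) (ZMod 5))⁻¹ : GL (Fin 2) (ZMod 5)) = -1 := by simp
    rw [this, Units.val_neg, Units.val_one]
  rw [h1, chi_one (gs_ne0 hs), one_smul, h2, Matrix.vecMul_neg, Matrix.vecMul_one]

theorem ff_li : LinearIndependent 𝕜 (fun x : X12 => ff ρ ψ lam v x) := by
  rw [linearIndependent_iff']
  intro s g hg x hx
  have h1 := congrArg (Pj ρ ψ (TT lam x.1)) hg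
  rw [map_zero, map_sum, Finset.sum_eq_single_of_mem x hx, map_smul, Pj_of_mem (ff_mem hs x.1)] at h1
  · exact (smul_eq_zero.mp h1).resolve_right (ff_ne hs (X12_ne x.2))
  · intro y _ hne
    rw [map_smul, Pj_of_mem_ne hs.prim hs.two (TT_mem _ _) (TT_mem _ _) ?_ (ff_mem hs y.1), smul_zero]
    intro h
    rcases TT_eq' hs.lam0 (X12_ne y.2) h with h2 | h2
    · exact hne (Subtype.ext h2.symm)
    · exact X12_neg y.2 (h2 ▸ x.2)

/-- the basis of weight vectors -/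
noncomputable def bb [FiniteDimensional 𝕜 V] (hd : finrank 𝕜 V = 12) : Basis X12 𝕜 V :=
  basisOfLinearIndependentOfCardEqFinrank' _ (ff_li hs) (by rw [hd, Fintype.card_coe, card_X12])

theorem bb_apply [FiniteDimensional 𝕜 V] (hd : finrank 𝕜 V = 12) (x : X12) : bb hs hd x = ff ρ ψ lam v x := by
  rw [bb, coe_basisOfLinearIndependentOfCardEqFinrank']

omit hs in
theorem X12_axis {a b : Fin 2} (hab : a ≠ b) :
    X12.filter (fun x => x a = 0) = {Pi.single b 1, Pi.single b 2} := by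
  revert a b
  decide +kernel

omit hs in
theorem single_ne12 (b : Fin 2) : (Pi.single b 1 : Fin 2 → ZMod 5) ≠ Pi.single b 2 := by
  revert b
  decide

omit hs in
theorem single_mem1 (b : Fin 2) : (Pi.single b 1 : Fin 2 → ZMod 5) ∈ X12 := by
  revert b
  decide

omit hs in
theorem single_mem2 (b : Fin 2) : (Pi.single b 2 : Fin 2 → ZMod 5) ∈ X12 := by
  revert b
  decide

theorem li2 (b : Fin 2) {c d : 𝕜} (h : c • ff ρ ψ lam v (Pi.single b 1) + d • ff ρ ψ lam v (Pi.single b 2) = 0) :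
    c = 0 ∧ d = 0 := by
  classical
  have hne : (⟨_, single_mem1 b⟩ : X12) ≠ ⟨_, single_mem2 b⟩ := fun h => single_ne12 b (congrArg Subtype.val h)
  have h1 := (linearIndependent_iff'.1 (ff_li hs)) {⟨_, single_mem1 b⟩, ⟨_, single_mem2 b⟩}
    (fun x => if x.1 = Pi.single b 1 then c else d) (by
      rw [Finset.sum_pair hne]
      simp only [if_true, if_neg (single_ne12 b).symm]
      exact h)
  have h2 := h1 ⟨_, single_mem1 b⟩ (by simp only [_root_.Finset.mem_insert, _root_.Finset.mem_singleton, _root_.Subtype.mk.injEq, _root_.Pi.single_inj, _root_.true_or])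
  have h3 := h1 ⟨_, single_mem2 b⟩ (by simp only [_root_.Finset.mem_insert, _root_.Subtype.mk.injEq, _root_.Pi.single_inj, _root_.Finset.mem_singleton, _root_.or_true])
  simp only [if_true, if_neg (single_ne12 b).symm] at h2 h3
  exact ⟨h2, h3⟩

theorem fix_span [FiniteDimensional 𝕜 V] (hd : finrank 𝕜 V = 12) {a b : Fin 2} (hab : a ≠ b) {u : V}
    (hu : ρ (uu (sD a 1)) u = u) :
    ∃ c d : 𝕜, u = c • ff ρ ψ lam v (Pi.single b 1) + d • ff ρ ψ lam v (Pi.single b 2) := by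
  classical
  set B := bb hs hd with hB
  have h1 : u = ∑ x : X12, B.repr u x • ff ρ ψ lam v x := by
    conv_lhs => rw [← B.sum_repr u]
    exact Finset.sum_congr rfl fun x _ => by rw [hB, bb_apply]
  have h2 : ∀ x : X12, x.1 a ≠ 0 → B.repr u x = 0 := by
    intro x hx
    have h3 : ∑ x : X12, (B.repr u x * (ψ (lam * (x.1 a * x.1 a)) - 1)) • ff ρ ψ lam v x = 0 := by
      have h4 : ρ (uu (sD a 1)) u - u = 0 := by rw [hu, sub_self]
      rw [← h4]
      conv_rhs => rw [h1, map_sum, ← Finset.sum_sub_distrib]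
      refine Finset.sum_congr rfl fun y _ => ?_
      rw [map_smul, ff_uu hs]
      have h5 : y.1 ⬝ᵥ ((sD a (1 : ZMod 5)).1 *ᵥ y.1) = y.1 a * y.1 a := by
        simp only [sD]
        rw [sgl_mulVec, dotProduct_single, one_mul]
      rw [h5, mul_smul, sub_smul, one_smul, smul_sub]
    have h4 := Fintype.linearIndependent_iff.1 (ff_li hs) _ h3 x
    refine (mul_eq_zero.1 h4).resolve_right ?_
    rw [sub_eq_zero]
    apply psi_ne_one hs.prim
    exact mul_ne_zero hs.lam0 (mul_ne_zero hx hx)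
  let c : (Fin 2 → ZMod 5) → 𝕜 := fun x => if h : x ∈ X12 then B.repr u ⟨x, h⟩ else 0
  have hc : u = ∑ x ∈ X12, c x • ff ρ ψ lam v x := by
    rw [← Finset.sum_coe_sort]
    conv_lhs => rw [h1]
    refine Finset.sum_congr rfl fun x _ => ?_
    simp [c]
  have hc2 : u = ∑ x ∈ X12.filter (fun x => x a = 0), c x • ff ρ ψ lam v x := by
    rw [Finset.sum_filter]
    conv_lhs => rw [hc]
    refine Finset.sum_congr rfl fun x hx => ?_
    split_ifs with h
    · rfl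
    · have : c x = 0 := by
        simp only [c, dif_pos hx]
        exact h2 ⟨x, hx⟩ h
      rw [this, zero_smul]
  rw [X12_axis hab, Finset.sum_pair (single_ne12 b)] at hc2
  exact ⟨_, _, hc2⟩

theorem ax (b : Fin 2) (c s : ZMod 5) : ρ (uu (sD b s)) (ff ρ ψ lam v (Pi.single b c)) =
    ψ (lam * (c * (s * c))) • ff ρ ψ lam v (Pi.single b c) := by
  rw [ff_uu hs]
  congr 3
  simp only [sD]
  rw [sgl_mulVec, dotProduct_single, Pi.single_eq_same]

theorem ax0 {a b : Fin 2} (hab : a ≠ b) (c s : ZMod 5) : ρ (uu (sD a s)) (ff ρ ψ lam v (Pi.single b c)) =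
    ff ρ ψ lam v (Pi.single b c) := by
  rw [ff_uu hs]
  simp only [sD]
  rw [sgl_mulVec, dotProduct_single, Pi.single_eq_of_ne hab, zero_mul, mul_zero, AddChar.map_zero_eq_one, one_smul]

theorem ah (b : Fin 2) (t : (ZMod 5)ˣ) (c : ZMod 5) : ρ (mm (ht b t)) (ff ρ ψ lam v (Pi.single b c)) =
    chi ψ lam t • ff ρ ψ lam v (Pi.single b (c * ((t⁻¹ : (ZMod 5)ˣ) : ZMod 5))) := by
  have hdet : GeneralLinearGroup.det (ht b t) = t := by
    apply Units.ext
    rw [GeneralLinearGroup.val_det_apply, ht, dg_coe, det_diagonal,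
      Finset.prod_eq_single b]
    · simp
    · intro l _ hl; simp [hl]
    · simp
  rw [ff_r2 hs, hdet, ht_inv, ht_coe, vecMul_add, vecMul_one, vecMul_sgl, Pi.single_eq_same, ← Pi.single_add]
  congr 3
  ring

theorem wmat [FiniteDimensional 𝕜 V] (hd : finrank 𝕜 V = 12) {a b : Fin 2} (hab : a ≠ b) {ε : 𝕜}
    (hε : ∀ x, ff ρ ψ lam v (-x) = ε • ff ρ ψ lam v x) :
    ∃ α β γ δ : 𝕜,
      ρ (ww b) (ff ρ ψ lam v (Pi.single b 1)) =
        α • ff ρ ψ lam v (Pi.single b 1) + β • ff ρ ψ lam v (Pi.single b 2) ∧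
      ρ (ww b) (ff ρ ψ lam v (Pi.single b 2)) =
        γ • ff ρ ψ lam v (Pi.single b 1) + δ • ff ρ ψ lam v (Pi.single b 2) ∧
      α * α + β * γ = ε ∧ β * (α + δ) = 0 ∧ β * (α * ψ lam ^ 4 + δ * ψ lam - 1) = 0 ∧
      β * (α * ψ lam ^ 2 + δ * ψ lam ^ 3) = - (ε * α) ∧ γ * (α * ψ lam ^ 2 + δ * ψ lam ^ 3) = - δ := by
  have hfix : ∀ c : ZMod 5, ρ (uu (sD a 1)) (ρ (ww b) (ff ρ ψ lam v (Pi.single b c))) =
      ρ (ww b) (ff ρ ψ lam v (Pi.single b c)) := by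
    intro c
    rw [← rho_mul, ← ww_comm_sD a b hab, rho_mul, ax0 hs hab]
  obtain ⟨α, β, h1⟩ := fix_span hs hd hab (hfix 1)
  obtain ⟨γ, δ, h2⟩ := fix_span hs hd hab (hfix 2)
  refine ⟨α, β, γ, δ, h1, h2, ?_⟩
  set f1 := ff ρ ψ lam v (Pi.single b 1) with hf1
  set f2 := ff ρ ψ lam v (Pi.single b 2) with hf2
  set μ := ψ lam with hμ
  have hμ5 : μ ^ 5 = 1 := psi_pow_five lam
  have e3 : ff ρ ψ lam v (Pi.single b 3) = ε • f2 := by
    rw [hf2, ← hε, ← Pi.single_neg]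
    congr 2
  have e4 : ff ρ ψ lam v (Pi.single b 4) = ε • f1 := by
    rw [hf1, ← hε, ← Pi.single_neg]
    congr 2
  -- values of the character
  have pv : ∀ (z : ZMod 5) (m : ℕ), z = (m : ZMod 5) * lam → ψ z = μ ^ m := by
    rintro z m rfl
    exact psi_nat lam m
  have x1 : ∀ (s : ZMod 5) (m : ℕ), s = (m : ZMod 5) → ρ (uu (sD b s)) f1 = μ ^ m • f1 := by
    rintro s m rfl
    rw [hf1, ax hs, pv _ m (by ring)]
  have x2 : ∀ (s : ZMod 5) (m : ℕ), s = (m : ZMod 5) → ρ (uu (sD b s)) f2 = μ ^ (4 * m) • f2 := by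
    rintro s m rfl
    rw [hf2, ax hs, pv _ (4 * m) (by push_cast; ring)]
  have hm1 : ρ (mm (ht b (-1))) f1 = ε • f1 := by
    rw [hf1, ah hs, chi_neg_one lam (gs_ne0 hs), one_smul, ← hf1, ← e4]
    congr 2
  have h21 : ρ (mm (ht b u2)) f1 = - (ε • f2) := by
    rw [hf1, ah hs, chi_two hs.prim hs.lam0 (gs_ne0 hs), neg_one_smul, ← e3]
    congr 3
  have h22 : ρ (mm (ht b u2)) f2 = - f1 := by
    rw [hf2, ah hs, chi_two hs.prim hs.lam0 (gs_ne0 hs), neg_one_smul, hf1]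
    congr 3
  have hww : ∀ (c d : 𝕜), ρ (ww b) (c • f1 + d • f2) = (c * α + d * γ) • f1 + (c * β + d * δ) • f2 := by
    intro c d
    rw [map_add, map_smul, map_smul, h1, h2]
    module
  -- the square
  have r1 : ρ (ww b) (ρ (ww b) f1) = ε • f1 := by
    rw [← rho_mul, ww_sq, hm1]
  rw [h1, hww] at r1
  -- `t = 1`
  have r2 : ∀ u : V, ρ (ww b) (ρ (uu (sD b 4)) (ρ (ww b) u)) =
      ρ (uu (sD b 1)) (ρ (ww b) (ρ (uu (sD b 1)) u)) := by
    intro u
    have h := congrArg (fun g => ρ g u) (ww_uu_ww b (1 : (ZMod 5)ˣ))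
    simp only [rho_mul] at h
    have h3 : ht b (1 : (ZMod 5)ˣ) = 1 := by
      apply Units.ext
      rw [ht_coe]; simp
    rw [h3, map_one, map_one, Module.End.one_apply] at h
    exact h
  have r3 : ∀ u : V, ρ (ww b) (ρ (uu (sD b 2)) (ρ (ww b) u)) =
      ρ (uu (sD b 2)) (ρ (mm (ht b u2)) (ρ (ww b) (ρ (uu (sD b 2)) u))) := by
    intro u
    have h := congrArg (fun g => ρ g u) (ww_uu_ww b u2)
    simp only [rho_mul] at h
    exact h
  have hx : ∀ (s : ZMod 5) (m : ℕ), s = (m : ZMod 5) → ∀ (c d : 𝕜),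
      ρ (uu (sD b s)) (c • f1 + d • f2) = (c * μ ^ m) • f1 + (d * μ ^ (4 * m)) • f2 := by
    intro s m hsm c d
    rw [map_add, map_smul, map_smul, x1 s m hsm, x2 s m hsm, smul_smul, smul_smul]
  have hh : ∀ (c d : 𝕜), ρ (mm (ht b u2)) (c • f1 + d • f2) = (-d) • f1 + (-(c * ε)) • f2 := by
    intro c d
    rw [map_add, map_smul, map_smul, h21, h22]
    module
  have r21 := r2 f1
  rw [h1, hx 4 4 (by rfl), hww, x1 1 1 (by rfl), map_smul, h1, smul_add, smul_smul, smul_smul, hx 1 1 (by rfl)] at r21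
  have r31 := r3 f1
  rw [h1, hx 2 2 (by rfl), hww, x1 2 2 (by rfl), map_smul, h1, smul_add, smul_smul, smul_smul, hh,
    hx 2 2 (by rfl)] at r31
  have r32 := r3 f2
  rw [h2, hx 2 2 (by rfl), hww, x2 2 2 (by rfl), map_smul, h2, smul_add, smul_smul, smul_smul, hh,
    hx 2 2 (by rfl)] at r32
  have k1 := li2 hs b (c := α * α + β * γ - ε) (d := α * β + β * δ) (by
    rw [← hf1, ← hf2]
    refine Eq.trans ?_ (sub_eq_zero.2 r1)
    module)
  have k2 := li2 hs b (c := α * μ ^ 4 * α + β * μ ^ (4 * 4) * γ - μ ^ 1 * α * μ ^ 1)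
    (d := α * μ ^ 4 * β + β * μ ^ (4 * 4) * δ - μ ^ 1 * β * μ ^ (4 * 1)) (by
    rw [← hf1, ← hf2]
    refine Eq.trans ?_ (sub_eq_zero.2 r21)
    module)
  have k3 := li2 hs b (c := α * μ ^ 2 * α + β * μ ^ (4 * 2) * γ - -(μ ^ 2 * β) * μ ^ 2)
    (d := α * μ ^ 2 * β + β * μ ^ (4 * 2) * δ - -(μ ^ 2 * α * ε) * μ ^ (4 * 2)) (by
    rw [← hf1, ← hf2]
    refine Eq.trans ?_ (sub_eq_zero.2 r31)
    module)
  have k4 := li2 hs b (c := γ * μ ^ 2 * α + δ * μ ^ (4 * 2) * γ - -(μ ^ (4 * 2) * δ) * μ ^ 2)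
    (d := γ * μ ^ 2 * β + δ * μ ^ (4 * 2) * δ - -(μ ^ (4 * 2) * γ * ε) * μ ^ (4 * 2)) (by
    rw [← hf1, ← hf2]
    refine Eq.trans ?_ (sub_eq_zero.2 r32)
    module)
  refine ⟨?_, ?_, ?_, ?_, ?_⟩
  · linear_combination k1.1
  · linear_combination k1.2
  · linear_combination k2.2 + (-β * δ * μ * (μ ^ 10 + μ ^ 5 + 1) + β) * hμ5
  · linear_combination k3.2 + (-β * δ * μ ^ 3 - α * ε * (μ ^ 5 + 1)) * hμ5
  · linear_combination k4.1 + (-γ * δ * μ ^ 3 - δ * (μ ^ 5 + 1)) * hμ5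

end rep

theorem alg12 {𝕜 : Type*} [Field 𝕜] (h5 : (5 : 𝕜) ≠ 0) {μ ε α β γ δ : 𝕜} (hμ : 1 + μ + μ ^ 2 + μ ^ 3 + μ ^ 4 = 0)
    (hε : ε * ε = 1) (r1 : α * α + β * γ = ε) (r2 : β * (α + δ) = 0) (r3 : β * (α * μ ^ 4 + δ * μ - 1) = 0)
    (r4 : β * (α * μ ^ 2 + δ * μ ^ 3) = - (ε * α)) (r5 : γ * (α * μ ^ 2 + δ * μ ^ 3) = - δ) :
    α * (μ ^ 4 - μ) = 1 ∧ β * (μ ^ 2 - μ ^ 3) = - ε ∧ γ * (μ ^ 2 - μ ^ 3) = 1 ∧ δ = - α ∧ ε = -1 := by
  have hε0 : ε ≠ 0 := by
    rintro rfl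
    rw [zero_mul] at hε
    exact zero_ne_one hε
  have hβ : β ≠ 0 := by
    rintro rfl
    have hα : α = 0 := by
      have : ε * α = 0 := by linear_combination r4
      exact (mul_eq_zero.1 this).resolve_left hε0
    subst hα
    apply hε0
    linear_combination -r1
  have hδ : δ = - α := by
    have := (mul_eq_zero.1 r2).resolve_left hβ
    linear_combination this
  subst hδ
  have h1 : α * (μ ^ 4 - μ) = 1 := by
    have := (mul_eq_zero.1 r3).resolve_left hβ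
    linear_combination this
  have hα : α ≠ 0 := by
    rintro rfl
    rw [zero_mul] at h1
    exact zero_ne_one h1
  have h2 : β * (μ ^ 2 - μ ^ 3) = - ε := by
    apply mul_left_cancel₀ hα
    linear_combination r4
  have h3 : γ * (μ ^ 2 - μ ^ 3) = 1 := by
    apply mul_left_cancel₀ hα
    linear_combination r5
  refine ⟨h1, h2, h3, rfl, ?_⟩
  have h4 : (ε - 1) * (ε + 1) = 0 := by linear_combination hε
  rcases mul_eq_zero.1 h4 with h | h
  · have hε1 : ε = 1 := by linear_combination h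
    subst hε1
    -- `B - A = A B`
    have h6 : (μ ^ 2 - μ ^ 3) ^ 2 - (μ ^ 4 - μ) ^ 2 = (μ ^ 4 - μ) ^ 2 * (μ ^ 2 - μ ^ 3) ^ 2 := by
      linear_combination ((μ ^ 4 - μ) ^ 2 * (μ ^ 2 - μ ^ 3) ^ 2) * r1 -
        ((μ ^ 2 - μ ^ 3) ^ 2 * (α * (μ ^ 4 - μ) + 1)) * h1 - ((μ ^ 4 - μ) ^ 2 * (γ * (μ ^ 2 - μ ^ 3))) * h2 +
        (μ ^ 4 - μ) ^ 2 * h3
    have h7 : (μ ^ 4 - μ) ^ 2 * (μ ^ 2 - μ ^ 3) ^ 2 = 5 := by
      linear_combination (-5 + 5 * μ - 5 * μ ^ 5 + 6 * μ ^ 6 - 3 * μ ^ 7 + 3 * μ ^ 8 - 3 * μ ^ 9 + μ ^ 10) * hμ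
    have h8 : ((μ ^ 2 - μ ^ 3) ^ 2 - (μ ^ 4 - μ) ^ 2) ^ 2 = 5 := by
      linear_combination (-5 + 5 * μ + μ ^ 4 - 6 * μ ^ 5 + 3 * μ ^ 6 + 2 * μ ^ 7 - μ ^ 8 + 2 * μ ^ 9 - 2 * μ ^ 10 -
        μ ^ 11 + μ ^ 12) * hμ
    rw [h6, h7] at h8
    have h9 : (5 : 𝕜) * (2 * 2) = 0 := by linear_combination h8
    have h10 : (2 : 𝕜) = 0 := by
      have := (mul_eq_zero.1 h9).resolve_left h5
      rcases mul_eq_zero.1 this with h | h <;> exact h
    linear_combination h10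
  · linear_combination h

theorem mm_neg_comm {n : ℕ} {F : Type*} [Field F] (g : Sp n F) :
    mm (-1 : GL (Fin n) F) * g = g * mm (-1 : GL (Fin n) F) := by
  have h : ((mm (-1 : GL (Fin n) F) : Sp n F) : Matrix (Fin n ⊕ Fin n) (Fin n ⊕ Fin n) F) = -1 := by
    rw [mm_coe]
    have h1 : ((-1 : GL (Fin n) F)⁻¹ : GL (Fin n) F) = -1 := by simp
    rw [h1, Units.val_neg, Units.val_one, Matrix.transpose_neg, Matrix.transpose_one]
    rw [← Matrix.fromBlocks_one, Matrix.fromBlocks_neg, neg_zero]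
  apply Subtype.ext
  rw [Submonoid.coe_mul, Submonoid.coe_mul, h, neg_one_mul, mul_neg_one]

theorem mm_neg_sq {n : ℕ} {F : Type*} [Field F] : mm (-1 : GL (Fin n) F) * mm (-1 : GL (Fin n) F) = 1 := by
  rw [← map_mul, neg_mul_neg, mul_one, map_one]

/-- the parity -/
theorem exists_parity {n : ℕ} {F : Type*} [Field F] {𝕜 : Type*} [Field 𝕜] {V : Type*} [AddCommGroup V] [Module 𝕜 V]
    {ρ : Representation 𝕜 (Sp n F) V} [Fintype F] [hq : Fact ((Fintype.card F : 𝕜) ≠ 0)] (hρ : ρ.IsIrreducible) :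
    ∃ ε : 𝕜, ε * ε = 1 ∧ ∀ u, ρ (mm (-1)) u = ε • u := by
  have hc : ∀ (g : Sp n F) (u : V), ρ (mm (-1)) (ρ g u) = ρ g (ρ (mm (-1)) u) := by
    intro g u
    rw [← rho_mul, ← rho_mul, mm_neg_comm]
  have hsq : ∀ u : V, ρ (mm (-1)) (ρ (mm (-1)) u) = u := by
    intro u
    rw [← rho_mul, mm_neg_sq, map_one, Module.End.one_apply]
  let W : Submodule 𝕜 V := LinearMap.ker (ρ (mm (-1)) - 1)
  have hW : ∀ u, u ∈ W ↔ ρ (mm (-1)) u = u := by
    intro u
    rw [LinearMap.mem_ker, LinearMap.sub_apply, Module.End.one_apply, sub_eq_zero]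
  by_cases h : ∃ u ∈ W, u ≠ 0
  · obtain ⟨u, hu, hne⟩ := h
    have h1 := eq_top_of_irr hρ W (fun g u hu => by
      rw [hW] at hu ⊢
      rw [hc, hu]) hu hne
    refine ⟨1, mul_one 1, fun u => ?_⟩
    rw [one_smul, ← hW, h1]
    trivial
  · push Not at h
    refine ⟨-1, by ring, fun u => ?_⟩
    have h1 := h (ρ (mm (-1)) u + u) (by
      rw [hW, map_add, hsq, add_comm])
    rw [neg_one_smul]
    exact eq_neg_of_add_eq_zero_left h1

section fam

variable {𝕜 : Type*} [Field 𝕜] [hq : Fact ((Fintype.card (ZMod 5) : 𝕜) ≠ 0)] {V : Type*} [AddCommGroup V]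
  [Module 𝕜 V] [FiniteDimensional 𝕜 V] {ρ : Representation 𝕜 (Sp 2 (ZMod 5)) V} {ψ : AddChar (ZMod 5) 𝕜}
  {lam : ZMod 5} {v : V}

/-- the matrix of `ww b` -/
theorem wmat' (hs : Seed ρ ψ lam 0 v) (hρ : ρ.IsIrreducible) (hd : finrank 𝕜 V = 12) {a b : Fin 2} (hab : a ≠ b) :
    (∀ x, ff ρ ψ lam v (-x) = - ff ρ ψ lam v x) ∧
    ∃ α β : 𝕜, α * (ψ lam ^ 4 - ψ lam) = 1 ∧ β * (ψ lam ^ 2 - ψ lam ^ 3) = 1 ∧
      ρ (ww b) (ff ρ ψ lam v (Pi.single b 1)) =
        α • ff ρ ψ lam v (Pi.single b 1) + β • ff ρ ψ lam v (Pi.single b 2) ∧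
      ρ (ww b) (ff ρ ψ lam v (Pi.single b 2)) =
        β • ff ρ ψ lam v (Pi.single b 1) + (-α) • ff ρ ψ lam v (Pi.single b 2) := by
  obtain ⟨ε, hε, h⟩ := exists_parity hρ
  have hneg : ∀ x, ff ρ ψ lam v (-x) = ε • ff ρ ψ lam v x := fun x => by rw [ff_neg hs, h]
  obtain ⟨α, β, γ, δ, h1, h2, r1, r2, r3, r4, r5⟩ := wmat hs hd hab hneg
  obtain ⟨s1, s2, s3, s4, s5⟩ := alg12 five_ne (psi_sum hs.prim hs.lam0) hε r1 r2 r3 r4 r5
  subst s4
  subst s5
  have hβγ : β = γ := by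
    have hne : ψ lam ^ 2 - ψ lam ^ 3 ≠ 0 := by
      intro h0
      rw [h0, mul_zero] at s3
      exact zero_ne_one s3
    apply mul_right_cancel₀ hne
    rw [s2, s3, neg_neg]
  subst hβγ
  refine ⟨fun x => by rw [hneg, neg_one_smul], α, β, s1, s3, h1, h2⟩

theorem axis (hs : Seed ρ ψ lam 0 v) (hρ : ρ.IsIrreducible) (hd : finrank 𝕜 V = 12) (b : Fin 2) (c : ZMod 5) :
    gs ψ (-lam) • ρ (ww b) (ff ρ ψ lam v (Pi.single b c)) =
      ∑ z : ZMod 5, ψ (2 * lam * (Pi.single b c : Fin 2 → ZMod 5) b * z) •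
        ff ρ ψ lam v (Function.update (Pi.single b c) b z) := by
  obtain ⟨a, hab⟩ : ∃ a : Fin 2, a ≠ b := by
    revert b
    decide
  obtain ⟨hneg, α, β, s1, s2, h1, h2⟩ := wmat' hs hρ hd hab
  set f1 := ff ρ ψ lam v (Pi.single b 1) with hf1
  set f2 := ff ρ ψ lam v (Pi.single b 2) with hf2
  set μ := ψ lam with hμ
  have hμ5 : μ ^ 5 = 1 := psi_pow_five lam
  have hsum : 1 + μ + μ ^ 2 + μ ^ 3 + μ ^ 4 = 0 := psi_sum hs.prim hs.lam0
  have e0 : ff ρ ψ lam v (Pi.single b 0) = 0 := by rw [Pi.single_zero, ff_zero]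
  have e3 : ff ρ ψ lam v (Pi.single b 3) = - f2 := by
    rw [hf2, ← hneg, ← Pi.single_neg]
    congr 2
  have e4 : ff ρ ψ lam v (Pi.single b 4) = - f1 := by
    rw [hf1, ← hneg, ← Pi.single_neg]
    congr 2
  have pv : ∀ (z : ZMod 5) (m : ℕ), z = (m : ZMod 5) * lam → ψ z = μ ^ m := by
    rintro z m rfl
    exact psi_nat lam m
  have hg : gs ψ (-lam) = (μ ^ 2 - μ ^ 3) * (μ ^ 4 - μ) := by
    rw [gs_neg]
    linear_combination (1 + μ - 2 * μ ^ 2 + μ ^ 3) * hsum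
  have hgα : gs ψ (-lam) * α = μ ^ 2 - μ ^ 3 := by
    rw [hg]
    linear_combination (μ ^ 2 - μ ^ 3) * s1
  have hgβ : gs ψ (-lam) * β = μ ^ 4 - μ := by
    rw [hg]
    linear_combination (μ ^ 4 - μ) * s2
  have hup : ∀ z : ZMod 5, Function.update (Pi.single b c : Fin 2 → ZMod 5) b z = Pi.single b z := by
    intro z
    ext k
    by_cases hk : k = b
    · subst hk; simp
    · simp [hk]
  rw [sum5]
  simp only [hup, Pi.single_eq_same]
  rw [e0, e3, e4, ← hf1, ← hf2, smul_zero, zero_add]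
  have w1 : gs ψ (-lam) • ρ (ww b) f1 = (μ ^ 2 - μ ^ 3) • f1 + (μ ^ 4 - μ) • f2 := by
    rw [h1, smul_add, smul_smul, smul_smul, hgα, hgβ]
  have w2 : gs ψ (-lam) • ρ (ww b) f2 = (μ ^ 4 - μ) • f1 + (-(μ ^ 2 - μ ^ 3)) • f2 := by
    rw [h2, smul_add, smul_smul, smul_smul, mul_neg, hgα, hgβ]
  rcases zmod_cases c with rfl | rfl | rfl | rfl | rfl
  · rw [e0, map_zero, smul_zero, mul_zero, zero_mul, zero_mul, zero_mul, zero_mul, AddChar.map_zero_eq_one]
    module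
  · rw [← hf1, w1, pv (2 * lam * 1 * 1) 2 (by push_cast; ring), pv (2 * lam * 1 * 2) 4 (by push_cast; ring),
      pv (2 * lam * 1 * 3) 6 (by push_cast; ring), pv (2 * lam * 1 * 4) 8 (by push_cast; ring)]
    have q1 : μ ^ 6 = μ := by linear_combination μ * hμ5
    have q2 : μ ^ 8 = μ ^ 3 := by linear_combination μ ^ 3 * hμ5
    rw [q1, q2]
    module
  · rw [← hf2, w2, pv (2 * lam * 2 * 1) 4 (by push_cast; ring), pv (2 * lam * 2 * 2) 8 (by push_cast; ring),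
      pv (2 * lam * 2 * 3) 12 (by push_cast; ring), pv (2 * lam * 2 * 4) 16 (by push_cast; ring)]
    have q1 : μ ^ 8 = μ ^ 3 := by linear_combination μ ^ 3 * hμ5
    have q2 : μ ^ 12 = μ ^ 2 := by linear_combination (μ ^ 7 + μ ^ 2) * hμ5
    have q3 : μ ^ 16 = μ := by linear_combination (μ ^ 11 + μ ^ 6 + μ) * hμ5
    rw [q1, q2, q3]
    module
  · rw [e3, map_neg, smul_neg, w2, pv (2 * lam * 3 * 1) 6 (by push_cast; ring), pv (2 * lam * 3 * 2) 12 (by push_cast; ring),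
      pv (2 * lam * 3 * 3) 18 (by push_cast; ring), pv (2 * lam * 3 * 4) 24 (by push_cast; ring)]
    have q1 : μ ^ 6 = μ := by linear_combination μ * hμ5
    have q2 : μ ^ 12 = μ ^ 2 := by linear_combination (μ ^ 7 + μ ^ 2) * hμ5
    have q3 : μ ^ 18 = μ ^ 3 := by linear_combination (μ ^ 13 + μ ^ 8 + μ ^ 3) * hμ5
    have q4 : μ ^ 24 = μ ^ 4 := by linear_combination (μ ^ 19 + μ ^ 14 + μ ^ 9 + μ ^ 4) * hμ5
    rw [q1, q2, q3, q4]
    module
  · rw [e4, map_neg, smul_neg, w1, pv (2 * lam * 4 * 1) 8 (by push_cast; ring), pv (2 * lam * 4 * 2) 16 (by push_cast; ring),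
      pv (2 * lam * 4 * 3) 24 (by push_cast; ring), pv (2 * lam * 4 * 4) 32 (by push_cast; ring)]
    have q1 : μ ^ 8 = μ ^ 3 := by linear_combination μ ^ 3 * hμ5
    have q2 : μ ^ 16 = μ := by linear_combination (μ ^ 11 + μ ^ 6 + μ) * hμ5
    have q3 : μ ^ 24 = μ ^ 4 := by linear_combination (μ ^ 19 + μ ^ 14 + μ ^ 9 + μ ^ 4) * hμ5
    have q4 : μ ^ 32 = μ ^ 2 := by
      linear_combination (μ ^ 27 + μ ^ 22 + μ ^ 17 + μ ^ 12 + μ ^ 7 + μ ^ 2) * hμ5
    rw [q1, q2, q3, q4]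
    module

/-- **The family.** -/
theorem fam12 (hs : Seed ρ ψ lam 0 v) (hρ : ρ.IsIrreducible) (hd : finrank 𝕜 V = 12) :
    Fam ρ ψ lam (ff ρ ψ lam v) := by
  refine ⟨ff_mem hs, ff_r2 hs, ?_⟩
  intro b x
  by_cases hx : ∃ a, a ≠ b ∧ x a ≠ 0
  · obtain ⟨a, hab, hxa⟩ := hx
    exact hs.fam_r3 ij2 0 hab hxa
  · push Not at hx
    have h1 : x = Pi.single b (x b) := by
      ext k
      by_cases hk : k = b
      · subst hk; simp
      · rw [Pi.single_eq_of_ne hk, hx k hk]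
    have h2 := axis hs hρ hd b (x b)
    rw [← h1] at h2
    exact h2

/-- **Two irreducible representations of degree 12 with the same parameter have the same character.** -/
theorem char_eq12 {V' : Type*} [AddCommGroup V'] [Module 𝕜 V'] [FiniteDimensional 𝕜 V']
    {σ : Representation 𝕜 (Sp 2 (ZMod 5)) V'} {v' : V'} (hs : Seed ρ ψ lam 0 v) (hs' : Seed σ ψ lam 0 v')
    (hρ : ρ.IsIrreducible) (hσ : σ.IsIrreducible) (hd : finrank 𝕜 V = 12) (hd' : finrank 𝕜 V' = 12) :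
    ρ.character = σ.character := by
  refine char_eq_of_fam hs.prim hs.two hs.lam0 0 (fam12 hs hρ hd) (fam12 hs' hσ hd') hρ hσ
    (ff_ne hs (X12_ne (single_mem1 0))) (ff_ne hs' (X12_ne (single_mem1 0))) (-1) (fun x => ?_) (fun x => ?_)
  · rw [(wmat' hs hρ hd ij2).1, neg_one_smul]
  · rw [(wmat' hs' hσ hd' ij2).1, neg_one_smul]

end fam

end Cfsg.Agent.H434.WK

private theorem dce_1b8a11698e05 : _root_.True := by
  try have : _root_.True := by simp only [_root_.Cfsg.Agent.H434.WK.bb.eq_1]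
  try have : _root_.True := by simp only [_root_.Cfsg.Agent.H434.WK.ff.eq_1]
  exact _root_.True.intro
end

-- part: H434/LD/WTr
section
set_option linter.all false
open scoped Cfsg.Agent.FastGrp

/-!
# Traces of the representations of `Sp₄(5)` of degree 12 (helper434)
-/

set_option autoImplicit false
set_option linter.unusedSectionVars false
open Matrix Module Representation Cfsg.Agent.H162.Weil

namespace Cfsg.Agent.H434.WK

variable {𝕜 : Type*} [Field 𝕜] [hq : Fact ((Fintype.card (ZMod 5) : 𝕜) ≠ 0)] {V : Type*} [AddCommGroup V]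
  [Module 𝕜 V] {ρ : Representation 𝕜 (Sp 2 (ZMod 5)) V} {ψ : AddChar (ZMod 5) 𝕜}
  {lam : ZMod 5} {v : V}

theorem seed_sq (hs : Seed ρ ψ lam 0 v) {c : ZMod 5} (hc : c ≠ 0) :
    Seed ρ ψ (lam * (c * c)) 0 (ff ρ ψ lam v (Pi.single 0 c)) := by
  refine ⟨hs.prim, hs.two, hs.rk, mul_ne_zero hs.lam0 (mul_ne_zero hc hc), ?_, ff_ne hs ?_⟩
  · have h := ff_mem hs (Pi.single 0 c)
    have h1 : TT lam (Pi.single 0 c : Fin 2 → ZMod 5) = TT (lam * (c * c)) (Pi.single 0 1) := by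
      ext k l
      rw [TT_apply, TT_apply]
      fin_cases k <;> fin_cases l <;> simp
    rwa [h1] at h
  · intro h
    have := congrFun h 0
    simp at this
    exact hc this

/-- the parameter may be taken to be `1` or `2` -/
theorem seed_cases (hs : Seed ρ ψ lam 0 v) : (∃ v', Seed ρ ψ 1 0 v') ∨ (∃ v', Seed ρ ψ 2 0 v') := by
  have h0 := hs.lam0
  rcases zmod_cases lam with h | h | h | h | h
  · exact absurd h h0
  · subst h
    exact Or.inl ⟨v, hs⟩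
  · subst h
    exact Or.inr ⟨v, hs⟩
  · subst h
    have h1 := seed_sq hs (c := 2) (by decide)
    rw [show (3 : ZMod 5) * (2 * 2) = 2 by decide] at h1
    exact Or.inr ⟨_, h1⟩
  · subst h
    have h1 := seed_sq hs (c := 2) (by decide)
    rw [show (4 : ZMod 5) * (2 * 2) = 1 by decide] at h1
    exact Or.inl ⟨_, h1⟩

theorem tr_uu [FiniteDimensional 𝕜 V] (hs : Seed ρ ψ lam 0 v) (hd : finrank 𝕜 V = 12) (S : Sym 2 (ZMod 5)) :
    LinearMap.trace 𝕜 V (ρ (uu S)) = ∑ x ∈ X12, ψ (lam * (x ⬝ᵥ (S.1 *ᵥ x))) := by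
  classical
  rw [LinearMap.trace_eq_matrix_trace 𝕜 (bb hs hd), Matrix.trace, ← Finset.sum_coe_sort X12]
  refine Finset.sum_congr rfl fun x _ => ?_
  rw [Matrix.diag_apply, LinearMap.toMatrix_apply, bb_apply, ff_uu hs, map_smul, ← bb_apply hs hd,
    Basis.repr_self, Finsupp.smul_apply, Finsupp.single_eq_same, smul_eq_mul, mul_one]

theorem tr_z [FiniteDimensional 𝕜 V] (hs : Seed ρ ψ lam 0 v) (hd : finrank 𝕜 V = 12) :
    LinearMap.trace 𝕜 V (ρ (uu (sD 0 1))) = 2 + 5 * (ψ lam + ψ lam ^ 4) := by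
  have h1 : ∀ x : Fin 2 → ZMod 5, x ⬝ᵥ ((sD 0 (1 : ZMod 5)).1 *ᵥ x) = x 0 * x 0 := by
    intro x
    simp only [sD]
    rw [sgl_mulVec, dotProduct_single, one_mul]
  rw [tr_uu hs hd]
  simp only [h1]
  rw [Finset.sum_comp (fun y : ZMod 5 => ψ (lam * (y * y))) (fun x : Fin 2 → ZMod 5 => x 0)]
  have h2 : X12.image (fun x : Fin 2 → ZMod 5 => x 0) = {0, 1, 2} := by decide
  rw [h2, Finset.sum_insert (by decide), Finset.sum_insert (by decide), Finset.sum_singleton]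
  have c0 : (X12.filter fun x => x 0 = 0).card = 2 := by decide
  have c1 : (X12.filter fun x => x 0 = 1).card = 5 := by decide
  have c2 : (X12.filter fun x => x 0 = 2).card = 5 := by decide
  rw [c0, c1, c2]
  have p4 : ψ (lam * (2 * 2)) = ψ lam ^ 4 := by
    rw [← psi_nat]
    congr 1
    push_cast
    ring
  rw [p4, mul_zero, mul_zero, AddChar.map_zero_eq_one, mul_one, mul_one]
  simp only [nsmul_eq_mul]
  push_cast
  ring

/-- the two possible values of the trace of a transvection are different -/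
theorem tr_ne {𝕜 : Type*} [Field 𝕜] (h5 : (5 : 𝕜) ≠ 0) {μ : 𝕜} (hμ : 1 + μ + μ ^ 2 + μ ^ 3 + μ ^ 4 = 0) :
    (2 + 5 * (μ + μ ^ 4) : 𝕜) ≠ 2 + 5 * (μ ^ 2 + μ ^ 3) := by
  intro h
  have h1 : (5 : 𝕜) * (μ + μ ^ 4 - (μ ^ 2 + μ ^ 3)) = 0 := by linear_combination h
  have h2 := (mul_eq_zero.1 h1).resolve_left h5
  have h3 : (μ + μ ^ 4 - (μ ^ 2 + μ ^ 3)) ^ 2 = 5 := by
    linear_combination (-5 + 5 * μ + μ ^ 2 - 3 * μ ^ 3 + μ ^ 4) * hμ
  rw [h2] at h3
  apply h5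
  rw [← h3]
  ring

end Cfsg.Agent.H434.WK
end

-- part: H434/LD/WForm
section
set_option linter.all false
open scoped Cfsg.Agent.FastGrp

/-!
# Extension of quadratic forms; the representations of degree 12 are symplectic (helper434)
-/

set_option autoImplicit false
set_option linter.unusedSectionVars false
open Matrix Module Representation Cfsg.Agent.H162.Weil

namespace Cfsg.Agent.H434.WK

section nq

variable {𝕜 : Type*} [Field 𝕜] [hq : Fact ((Fintype.card (ZMod 5) : 𝕜) ≠ 0)] {V : Type*} [AddCommGroup V]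
  [Module 𝕜 V] [FiniteDimensional 𝕜 V] {ρ : Representation 𝕜 (Sp 2 (ZMod 5)) V} {ψ : AddChar (ZMod 5) 𝕜}
  {lam : ZMod 5} {v : V}

/-- **No invariant quadratic form.** -/
theorem not_quad (hs : Seed ρ ψ lam 0 v) (hρ : ρ.IsIrreducible) (hd : finrank 𝕜 V = 12) (q : QuadraticForm 𝕜 V)
    (hinv : ∀ g u, q (ρ g u) = q u) (hnd : ∀ u, (∀ w, QuadraticMap.polar q u w = 0) → u = 0) : False := by
  obtain ⟨hneg, α, β, s1, s2, h1, h2⟩ := wmat' hs hρ hd (a := 0) (b := 1) (by decide)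
  set f1 := ff ρ ψ lam v (Pi.single 1 1) with hf1
  set f2 := ff ρ ψ lam v (Pi.single 1 2) with hf2
  have hlam := hs.lam0
  have hpol : ∀ g u w, QuadraticMap.polar q (ρ g u) (ρ g w) = QuadraticMap.polar q u w := by
    intro g u w
    simp only [QuadraticMap.polar]
    rw [← map_add, hinv, hinv, hinv]
  have hα : α ≠ 0 := by
    rintro rfl
    rw [zero_mul] at s1
    exact zero_ne_one s1
  have hβ : β ≠ 0 := by
    rintro rfl
    rw [zero_mul] at s2
    exact zero_ne_one s2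
  have key : ∀ c : ZMod 5, c ≠ 0 → q (ff ρ ψ lam v (Pi.single 1 c)) = 0 := by
    intro c hc
    have h3 := hinv (uu (sD 1 1)) (ff ρ ψ lam v (Pi.single 1 c))
    rw [ax hs, QuadraticMap.map_smul, one_mul, smul_eq_mul, ← AddChar.map_add_eq_mul] at h3
    have h4 : ψ (lam * (c * c) + lam * (c * c)) ≠ 1 := by
      apply psi_ne_one hs.prim
      rw [← two_mul]
      exact mul_ne_zero hs.two (mul_ne_zero hlam (mul_ne_zero hc hc))
    have h5 : (ψ (lam * (c * c) + lam * (c * c)) - 1) * q (ff ρ ψ lam v (Pi.single 1 c)) = 0 := by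
      linear_combination h3
    exact (mul_eq_zero.1 h5).resolve_left (sub_ne_zero.2 h4)
  have q1 : q f1 = 0 := key 1 (by decide)
  have q2 : q f2 = 0 := key 2 (by decide)
  have q12 : QuadraticMap.polar q f1 f2 = 0 := by
    have h3 := hinv (ww 1) f1
    rw [h1, QuadraticMap.map_add q, QuadraticMap.map_smul, QuadraticMap.map_smul, q1, q2, smul_zero, smul_zero,
      zero_add, zero_add, QuadraticMap.polar_smul_left, QuadraticMap.polar_smul_right, smul_eq_mul, smul_eq_mul] at h3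
    rcases mul_eq_zero.1 h3 with h | h
    · exact absurd h hα
    · exact (mul_eq_zero.1 h).resolve_left hβ
  have q11 : QuadraticMap.polar q f1 f1 = 0 := by
    rw [QuadraticMap.polar_self, q1, smul_zero]
  have hall : ∀ x : X12, QuadraticMap.polar q f1 (ff ρ ψ lam v x) = 0 := by
    intro x
    by_cases hx : x.1 0 = 0
    · have h3 : x.1 ∈ X12.filter (fun x => x 0 = 0) := Finset.mem_filter.2 ⟨x.2, hx⟩
      rw [X12_axis (a := 0) (b := 1) (by decide), Finset.mem_insert, Finset.mem_singleton] at h3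
      rcases h3 with h | h
      · rw [h]; exact q11
      · rw [h]; exact q12
    · have h3 := hpol (uu (sD 0 1)) f1 (ff ρ ψ lam v x)
      rw [hf1, ax0 hs (by decide), ← hf1, ff_uu hs, QuadraticMap.polar_smul_right, smul_eq_mul] at h3
      have h4 : ψ (lam * (x.1 ⬝ᵥ ((sD 0 (1 : ZMod 5)).1 *ᵥ x.1))) ≠ 1 := by
        apply psi_ne_one hs.prim
        simp only [sD]
        rw [sgl_mulVec, dotProduct_single, one_mul]
        exact mul_ne_zero hlam (mul_ne_zero hx hx)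
      have h5 : (ψ (lam * (x.1 ⬝ᵥ ((sD 0 (1 : ZMod 5)).1 *ᵥ x.1))) - 1) *
          QuadraticMap.polar q f1 (ff ρ ψ lam v x) = 0 := by
        linear_combination h3
      exact (mul_eq_zero.1 h5).resolve_left (sub_ne_zero.2 h4)
  have hz : (q.polarBilin f1 : V →ₗ[𝕜] 𝕜) = 0 := by
    apply (bb hs hd).ext
    intro x
    rw [bb_apply, QuadraticMap.polarBilin_apply_apply, hall, LinearMap.zero_apply]
  apply ff_ne hs (x := Pi.single 1 1) (X12_ne (single_mem1 1))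
  apply hnd
  intro w
  have := LinearMap.congr_fun hz w
  rw [QuadraticMap.polarBilin_apply_apply, LinearMap.zero_apply] at this
  exact this

end nq

end Cfsg.Agent.H434.WK
end

-- part: H434/LD/PSp45
section
prune_inst 0x100502030220200400005801100040444000090000880008840024406008400004000609e100000008800046008000000000020020000000a000000011800a08802000492480000240009000080000000000000000000000000000000000004000000000
set_option linter.all false
open scoped Cfsg.Agent.FastGrp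

/-!
# `PSp₄(5)` in dimension 12 (helper434; piece T7.c of the low-dimensional hub)

`P ≤ GL(ι, F)` a core (`H915.LD.Core`), `F` finite of characteristic `p ≠ 5`, `P / scalars = PSp₄(5)`
(`H912.Bd.IsS 2 5 (Soc P)`), `card ι = 12` (`12 ≤ card ι` is in `H936.List12`). Then, for every `p ≠ 5` (also `p = 2`, `3`):

* `sd` : `SD P`; `fixA` : `FixA P`; `not_fixQ` : `¬ FixQ P`;
* `fr` : `Fr P (p^k)` if `p^k = ±1 mod 5`; `not_fr` : not if `p^k = ±2 mod 5`;
* `card_cases` : `|F| = p` and `Fr P p` if `p = ±1 mod 5`; `|F| = p²`, `Fr P (p²)`, `¬ Fr P p` if `p = ±2 mod 5`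
  (`card_eq_p`, `card_eq_sq`);
* `neg_one_mem` : `-1 ∈ P`; `scalar_cases` : the scalars of `P` are `± 1`; `card_scalars` : `|P ∩ scalars| = 2` (`p ≠ 2`);
* `exists_cover` : a surjection `Sp₄(5) → P` with preimage of the scalars the centre.

Proof: uniqueness of the two representations of degree 12 of `Sp₄(5)` over any field of characteristic `≠ 5` with
a fifth root of unity (`char_eq_tr`): port of helper162's Weil representation files to any coefficient field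
(`WWt`, `WRank`, `WStab`, `WFam`, `WUniq`, `WOrb`: `Sp_2n(q)`, rank one weights), `WTwelve` (the axis relations).
-/

set_option autoImplicit false
set_option linter.unusedSectionVars false
open Matrix Module Representation Cfsg.Agent.H162.Weil

namespace Cfsg.Agent.H434.PSp45

open Cfsg Cfsg.Geo Cfsg.Agent.H915.LD Cfsg.Agent.H434.MRep Cfsg.Agent.H434.WK

universe u v

/-! ### Two representations of degree 12 -/

section abs

variable {𝕜 : Type*} [Field 𝕜] [hq : Fact ((Fintype.card (ZMod 5) : 𝕜) ≠ 0)] {V : Type*} [AddCommGroup V]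
  [Module 𝕜 V] [FiniteDimensional 𝕜 V] {ρ : Representation 𝕜 (Sp 2 (ZMod 5)) V} {ψ : AddChar (ZMod 5) 𝕜}

theorem two_zmod : (2 : ZMod 5) ≠ 0 := by decide

theorem seed12 (hψ : ψ.IsPrimitive) (hρ : ρ.IsIrreducible) (hd : finrank 𝕜 V = 12) :
    (∃ v, _root_.Cfsg.Agent.H434.WK.Seed ρ ψ 1 0 v) ∨ (∃ v, _root_.Cfsg.Agent.H434.WK.Seed ρ ψ 2 0 v) := by
  have hR : _root_.Cfsg.Agent.H434.WK.RkOne ρ ψ := by
    apply rkOne_of_lt hψ two_zmod
    · rw [ZMod.card]; norm_num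
    · norm_num
    · rw [ZMod.card, hd]; norm_num
  obtain ⟨lam, v, hs⟩ := exists_seed hψ two_zmod 0 hρ hR (by rw [hd]; norm_num)
  exact seed_cases hs

theorem tr12 (hψ : ψ.IsPrimitive) (hρ : ρ.IsIrreducible) (hd : finrank 𝕜 V = 12) :
    ((∃ v, _root_.Cfsg.Agent.H434.WK.Seed ρ ψ 1 0 v) ∧ LinearMap.trace 𝕜 V (ρ (uu (sD 0 1))) = 2 + 5 * (ψ 1 + ψ 1 ^ 4)) ∨
    ((∃ v, _root_.Cfsg.Agent.H434.WK.Seed ρ ψ 2 0 v) ∧ LinearMap.trace 𝕜 V (ρ (uu (sD 0 1))) = 2 + 5 * (ψ 1 ^ 2 + ψ 1 ^ 3)) := by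
  rcases seed12 hψ hρ hd with ⟨v, hs⟩ | ⟨v, hs⟩
  · exact Or.inl ⟨⟨v, hs⟩, tr_z hs hd⟩
  · refine Or.inr ⟨⟨v, hs⟩, ?_⟩
    rw [tr_z hs hd]
    have h1 : ψ 2 = ψ 1 ^ 2 := by
      rw [← psi_nat]
      congr 1
    have h2 := psi_pow_five (ψ := ψ) 1
    rw [h1]
    linear_combination (5 * ψ 1 ^ 3) * h2

/-- **Equal traces on a transvection give equal characters.** -/
theorem char_eq_tr {V' : Type*} [AddCommGroup V'] [Module 𝕜 V'] [FiniteDimensional 𝕜 V']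
    {σ : Representation 𝕜 (Sp 2 (ZMod 5)) V'} (hψ : ψ.IsPrimitive) (hρ : ρ.IsIrreducible) (hσ : σ.IsIrreducible)
    (hd : finrank 𝕜 V = 12) (hd' : finrank 𝕜 V' = 12)
    (htr : LinearMap.trace 𝕜 V (ρ (uu (sD 0 1))) = LinearMap.trace 𝕜 V' (σ (uu (sD 0 1)))) :
    ρ.character = σ.character := by
  have hne := tr_ne (five_ne (𝕜 := 𝕜)) (psi_sum hψ (lam := 1) (by decide))
  rcases tr12 hψ hρ hd with ⟨⟨v, hs⟩, h1⟩ | ⟨⟨v, hs⟩, h1⟩ <;>
    rcases tr12 hψ hσ hd' with ⟨⟨v', hs'⟩, h2⟩ | ⟨⟨v', hs'⟩, h2⟩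
  · exact char_eq12 hs hs' hρ hσ hd hd'
  · exact absurd (by rw [← h1, ← h2, htr]) hne
  · exact absurd (by rw [← h1, ← h2, htr]) hne.symm
  · exact char_eq12 hs hs' hρ hσ hd hd'

/-- a transvection and its inverse have the same trace -/
theorem tr_inv (g : Sp 2 (ZMod 5)) (hg : g = uu (sD 0 1)) :
    LinearMap.trace 𝕜 V (ρ g⁻¹) = LinearMap.trace 𝕜 V (ρ g) := by
  have h1 : g⁻¹ = mm (ht 0 u2) * g * (mm (ht 0 u2))⁻¹ := by
    rw [hg, mm_mul_uu, mul_inv_cancel_right, ← uu_neg]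
    congr 1
    decide
  rw [h1, map_mul, LinearMap.trace_mul_comm, ← map_mul, ← mul_assoc, inv_mul_cancel, one_mul]

end abs

/-! ### `Sp₄` over a field of order 5 -/

section transport

variable {K L : Type*} [Field K] [Field L] {n : ℕ}

/-- `Sp` and a field embedding -/
def spMap (τ : K →+* L) : Sp n K →* Sp n L where
  toFun g := ⟨g.1.map τ, by
    have h := g.2
    rw [SymplecticGroup.mem_iff] at h ⊢
    have h1 := congrArg (fun M : Matrix (Fin n ⊕ Fin n) (Fin n ⊕ Fin n) K => M.map τ) h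
    have hJ : (J (Fin n) K).map τ = J (Fin n) L := by
      ext i j
      rcases i with i | i <;> rcases j with j | j <;> simp only [J, Matrix.one_apply, _root_.Matrix.map_apply, _root_.Matrix.fromBlocks_apply₁₁, _root_.Matrix.zero_apply, _root_.map_zero, _root_.Matrix.fromBlocks_apply₁₂, _root_.Matrix.neg_apply, _root_.map_neg, _root_.MonoidWithZeroHom.map_ite_one_zero, _root_.Matrix.fromBlocks_apply₂₁, _root_.Matrix.fromBlocks_apply₂₂]
    simp only [Matrix.map_mul, hJ] at h1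
    rw [Matrix.transpose_map] at h1
    exact h1⟩
  map_one' := Subtype.ext (Matrix.map_one _ (map_zero τ) (map_one τ))
  map_mul' _ _ := Subtype.ext Matrix.map_mul

theorem spMap_bijective (τ : K ≃+* L) : Function.Bijective (spMap (n := n) (τ : K →+* L)) := by
  constructor
  · intro a b h
    have h1 := congrArg Subtype.val h
    apply Subtype.ext
    ext i j
    exact τ.injective (congrFun (congrFun h1 i) j)
  · intro g
    refine ⟨spMap (τ.symm : L →+* K) g, ?_⟩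
    apply Subtype.ext
    ext i j
    exact τ.apply_symm_apply _

theorem exists_proj {K : Type v} [Field K] [Fintype K] (hK : Fintype.card K = 5) :
    ∃ π : Sp 2 (ZMod 5) →* PSp 2 K, Function.Surjective π ∧ ∀ g, π g = 1 ↔ g ∈ Subgroup.center (Sp 2 (ZMod 5)) := by
  let τ : ZMod 5 ≃+* K := ZMod.ringEquivOfPrime K (by norm_num) hK
  have hb := spMap_bijective (n := 2) τ
  refine ⟨(QuotientGroup.mk' (Subgroup.center (Sp 2 K))).comp (spMap (τ : ZMod 5 →+* K)),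
    (QuotientGroup.mk'_surjective _).comp hb.2, fun g => ?_⟩
  rw [MonoidHom.comp_apply, QuotientGroup.mk'_apply, QuotientGroup.eq_one_iff, Subgroup.mem_center_iff,
    Subgroup.mem_center_iff]
  constructor
  · intro h x
    apply hb.1
    rw [map_mul, map_mul]
    exact h _
  · intro h x
    obtain ⟨y, rfl⟩ := hb.2 x
    rw [← map_mul, ← map_mul, h y]

end transport

/-! ### The core -/

section core

variable {ι : Type} [Fintype ι] [DecidableEq ι] {F : Type u} [Field F] [Finite F] {P : Subgroup (GL ι F)}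

/-- **The cover.** -/
theorem exists_cover (hC : Core P) (hT : H912.Bd.IsS 2 5 (Soc P)) (hn : Fintype.card ι = 12) :
    ∃ θ : Sp 2 (ZMod 5) →* P, Function.Surjective θ ∧ ∀ g, toSoc P (θ g) = 1 ↔ g ∈ Subgroup.center (Sp 2 (ZMod 5)) := by
  obtain ⟨K, iF, iT, hK, ⟨e⟩⟩ := hT
  obtain ⟨π, hπ, hπk⟩ := exists_proj hK
  have hker := ker_comp e
  have h5 : (Nat.card (e.toMonoidHom.comp (toSoc P)).ker).Coprime 5 := by
    rw [hker, Nat.coprime_comm, (by norm_num : Nat.Prime 5).coprime_iff_not_dvd]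
    intro hd
    obtain ⟨z, hz⟩ := exists_prime_orderOf_dvd_card' (G := (scalars ι F).subgroupOf P) 5 hd
    have h1 := hC.pow_card z.2
    rw [hn] at h1
    have h2 : z ^ 12 = 1 := Subtype.ext h1
    have h3 := orderOf_dvd_of_pow_eq_one h2
    rw [hz] at h3
    norm_num at h3
  obtain ⟨θ, h1, h2⟩ := H905.PCover.exists_hom_of_noPCov (G := Sp 2 (ZMod 5)) (p := 5)
    (H62.SpMult.perfect_Sp (by norm_num) (fun _ => by rw [ZMod.card]; norm_num))
    (fun r hr _ => H62.SpMult.noPCov_Sp (by norm_num) (fun _ => by rw [ZMod.card]; norm_num) (by norm_num) hr)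
    hπ (fun g hg => (hπk g).1 hg) hC.commutator_top
    (f := e.toMonoidHom.comp (toSoc P)) (e.surjective.comp (toSoc_surjective P))
    (by rw [hker]; exact scalars_le_center) (by norm_num) h5
  refine ⟨θ, h1, fun g => ?_⟩
  rw [← hπk, ← h2]
  change _ ↔ e (toSoc P (θ g)) = 1
  rw [e.map_eq_one_iff]

/-- the matrices -/
def mm' (θ : Sp 2 (ZMod 5) →* P) : Sp 2 (ZMod 5) →* Matrix ι ι F :=
  (Units.coeHom (Matrix ι ι F)).comp (P.subtype.comp θ)

theorem mm'_apply (θ : Sp 2 (ZMod 5) →* P) (g : Sp 2 (ZMod 5)) : mm' θ g = ((θ g : GL ι F) : Matrix ι ι F) := rfl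

theorem mm'_span (hC : Core P) {θ : Sp 2 (ZMod 5) →* P} (hθ : Function.Surjective θ) :
    Submodule.span F (Set.range (mm' θ)) = ⊤ := by
  rw [← H920.span_eq_top hC.absIrred]
  congr 1
  ext x
  constructor
  · rintro ⟨g, rfl⟩
    exact ⟨θ g, (θ g).2, rfl⟩
  · rintro ⟨y, hy, rfl⟩
    obtain ⟨g, hg⟩ := hθ ⟨y, hy⟩
    refine ⟨g, ?_⟩
    rw [mm'_apply, hg]

variable (p : ℕ) [hp : Fact p.Prime] [CharP F p]

include p in
theorem fact_card (h5 : p ≠ 5) : Fact ((Fintype.card (ZMod 5) : AlgebraicClosure F) ≠ 0) := by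
  constructor
  rw [ZMod.card]
  have : CharP (AlgebraicClosure F) p := charP_of_injective_algebraMap (algebraMap F (AlgebraicClosure F)).injective p
  intro h
  have h1 := (CharP.cast_eq_zero_iff (AlgebraicClosure F) p 5).1 h
  exact h5 ((Nat.prime_dvd_prime_iff_eq hp.out (by norm_num)).1 h1)

include p in
theorem exists_psi (h5 : p ≠ 5) : ∃ ψ : AddChar (ZMod 5) (AlgebraicClosure F), ψ.IsPrimitive := by
  have h := (fact_card (F := F) p h5).out
  rw [ZMod.card] at h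
  have : NeZero ((5 : ℕ) : AlgebraicClosure F) := ⟨h⟩
  obtain ⟨ζ, hζ⟩ := HasEnoughRootsOfUnity.exists_primitiveRoot (AlgebraicClosure F) 5
  exact ⟨_, AddChar.zmodChar_primitive_of_primitive_root 5 hζ⟩

theorem fin12 (hn : Fintype.card ι = 12) : finrank (AlgebraicClosure F) (ι → AlgebraicClosure F) = 12 := by
  rw [Module.finrank_fintype_fun_eq_card, hn]

/-- the character is determined by the trace of a transvection -/
theorem trace_eq (h5 : p ≠ 5) (hn : Fintype.card ι = 12) {m m' : Sp 2 (ZMod 5) →* Matrix ι ι F}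
    (hm : Submodule.span F (Set.range m) = ⊤) (hm' : Submodule.span F (Set.range m') = ⊤)
    (τ τ' : F →+* AlgebraicClosure F) (h : τ (m (uu (sD 0 1))).trace = τ' (m' (uu (sD 0 1))).trace)
    (g : Sp 2 (ZMod 5)) : τ (m g).trace = τ' (m' g).trace := by
  have := fact_card (F := F) p h5
  obtain ⟨ψ, hψ⟩ := exists_psi (F := F) p h5
  have hne : Nonempty ι := by
    rw [← Fintype.card_pos_iff, hn]; norm_num
  have h1 := char_eq_tr hψ (mRep_irr m hm τ) (mRep_irr m' hm' τ') (fin12 hn) (fin12 hn) (by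
    rw [mRep_trace, mRep_trace, h])
  have h2 := congrFun h1 g
  rwa [mRep_character, mRep_character] at h2

theorem ac_trace_inj {a b : F} (h : algebraMap F (AlgebraicClosure F) a = algebraMap F (AlgebraicClosure F) b) : a = b :=
  (algebraMap F (AlgebraicClosure F)).injective h

include p in
/-- **`P` is self-dual.** -/
theorem sd (hC : Core P) (hT : H912.Bd.IsS 2 5 (Soc P)) (h5 : p ≠ 5) (hn : Fintype.card ι = 12) : SD P := by
  obtain ⟨θ, hθ, -⟩ := exists_cover hC hT hn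
  have hfc := fact_card (F := F) p h5
  have hm := mm'_span hC hθ
  intro g hg
  obtain ⟨x, hx⟩ := hθ ⟨g, hg⟩
  have h1 := trace_eq p h5 hn hm (dual_span hm) (algebraMap F (AlgebraicClosure F)) (algebraMap F (AlgebraicClosure F)) (by
    rw [dual_trace, ← mRep_trace, ← mRep_trace, tr_inv _ rfl]) x
  rw [dual_trace, mm'_apply, mm'_apply, map_inv, hx] at h1
  exact (ac_trace_inj h1).symm

theorem frob_aux {𝕜 : Type*} [Field 𝕜] (p : ℕ) [Fact p.Prime] [CharP 𝕜 p] (k : ℕ) (a b : 𝕜) :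
    (2 + 5 * (a + b)) ^ p ^ k = 2 + 5 * (a ^ p ^ k + b ^ p ^ k) := by
  have h : iterateFrobenius 𝕜 p k (2 + 5 * (a + b)) = 2 + 5 * (iterateFrobenius 𝕜 p k a + iterateFrobenius 𝕜 p k b) := by
    rw [map_add, map_mul, map_add, map_ofNat, map_ofNat]
  rwa [iterateFrobenius_def, iterateFrobenius_def, iterateFrobenius_def] at h

theorem pow_red {𝕜 : Type*} [Field 𝕜] {μ : 𝕜} (h : μ ^ 5 = 1) {a b : ℕ} (hab : a % 5 = b % 5) : μ ^ a = μ ^ b := by
  rw [← Nat.div_add_mod a 5, ← Nat.div_add_mod b 5, pow_add, pow_add, pow_mul, pow_mul, h, one_pow, one_pow, hab]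

/-- the Frobenius on the trace of a transvection -/
theorem tr_frob (hC : Core P) {θ : Sp 2 (ZMod 5) →* P} (hθ : Function.Surjective θ) (h5 : p ≠ 5)
    (hn : Fintype.card ι = 12) (k : ℕ) :
    ((p ^ k % 5 = 1 ∨ p ^ k % 5 = 4) → (mm' θ (uu (sD 0 1))).trace ^ p ^ k = (mm' θ (uu (sD 0 1))).trace) ∧
    ((p ^ k % 5 = 2 ∨ p ^ k % 5 = 3) → (mm' θ (uu (sD 0 1))).trace ^ p ^ k ≠ (mm' θ (uu (sD 0 1))).trace) := by
  have hfc := fact_card (F := F) p h5
  obtain ⟨ψ, hψ⟩ := exists_psi (F := F) p h5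
  have hm := mm'_span hC hθ
  have hne : Nonempty ι := by
    rw [← Fintype.card_pos_iff, hn]; norm_num
  have : CharP (AlgebraicClosure F) p := charP_of_injective_algebraMap (algebraMap F (AlgebraicClosure F)).injective p
  have hμ5 := psi_pow_five (ψ := ψ) 1
  have hsum := psi_sum hψ (lam := 1) (by decide)
  have htn := tr_ne (five_ne (𝕜 := AlgebraicClosure F)) hsum
  have h1 := tr12 hψ (mRep_irr (mm' θ) hm (algebraMap F (AlgebraicClosure F))) (fin12 hn)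
  rw [mRep_trace] at h1
  have h2 : ∀ a : F, algebraMap F (AlgebraicClosure F) (a ^ p ^ k) = (algebraMap F (AlgebraicClosure F) a) ^ p ^ k :=
    fun a => map_pow _ _ _
  constructor
  · intro hk
    apply ac_trace_inj
    rw [h2]
    rcases h1 with ⟨-, h1⟩ | ⟨-, h1⟩ <;> rw [h1, frob_aux] <;> simp only [← pow_mul] <;> rcases hk with hk | hk
    · rw [pow_red hμ5 (a := p ^ k) (b := 1) (by omega), pow_red hμ5 (a := 4 * p ^ k) (b := 4) (by omega), pow_one]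
    · rw [pow_red hμ5 (a := p ^ k) (b := 4) (by omega), pow_red hμ5 (a := 4 * p ^ k) (b := 1) (by omega), pow_one,
        add_comm (ψ 1 ^ 4)]
    · rw [pow_red hμ5 (a := 2 * p ^ k) (b := 2) (by omega), pow_red hμ5 (a := 3 * p ^ k) (b := 3) (by omega)]
    · rw [pow_red hμ5 (a := 2 * p ^ k) (b := 3) (by omega), pow_red hμ5 (a := 3 * p ^ k) (b := 2) (by omega),
        add_comm (ψ 1 ^ 3)]
  · intro hk h
    have h3 := congrArg (algebraMap F (AlgebraicClosure F)) h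
    rw [h2] at h3
    rcases h1 with ⟨-, h1⟩ | ⟨-, h1⟩ <;> rw [h1, frob_aux] at h3 <;> simp only [← pow_mul] at h3 <;>
      rcases hk with hk | hk
    · rw [pow_red hμ5 (a := p ^ k) (b := 2) (by omega), pow_red hμ5 (a := 4 * p ^ k) (b := 3) (by omega)] at h3
      exact htn h3.symm
    · rw [pow_red hμ5 (a := p ^ k) (b := 3) (by omega), pow_red hμ5 (a := 4 * p ^ k) (b := 2) (by omega),
        add_comm (ψ 1 ^ 3)] at h3
      exact htn h3.symm
    · rw [pow_red hμ5 (a := 2 * p ^ k) (b := 4) (by omega), pow_red hμ5 (a := 3 * p ^ k) (b := 1) (by omega), pow_one,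
        add_comm (ψ 1 ^ 4)] at h3
      exact htn h3
    · rw [pow_red hμ5 (a := 2 * p ^ k) (b := 1) (by omega), pow_red hμ5 (a := 3 * p ^ k) (b := 4) (by omega),
        pow_one] at h3
      exact htn h3

/-- **`Fr P (p^k)` if `p^k = ±1 mod 5`.** -/
theorem fr (hC : Core P) (hT : H912.Bd.IsS 2 5 (Soc P)) (h5 : p ≠ 5) (hn : Fintype.card ι = 12) {k : ℕ}
    (hk : p ^ k % 5 = 1 ∨ p ^ k % 5 = 4) : Fr P (p ^ k) := by
  obtain ⟨θ, hθ, -⟩ := exists_cover hC hT hn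
  have hm := mm'_span hC hθ
  intro g hg
  obtain ⟨x, hx⟩ := hθ ⟨g, hg⟩
  have h1 := trace_eq p h5 hn hm hm (algebraMap F (AlgebraicClosure F))
    ((algebraMap F (AlgebraicClosure F)).comp (iterateFrobenius F p k)) (by
    rw [RingHom.comp_apply, iterateFrobenius_def, (tr_frob p hC hθ h5 hn k).1 hk]) x
  rw [RingHom.comp_apply, iterateFrobenius_def, mm'_apply, hx] at h1
  exact (ac_trace_inj h1).symm

theorem not_fr (hC : Core P) (hT : H912.Bd.IsS 2 5 (Soc P)) (h5 : p ≠ 5) (hn : Fintype.card ι = 12) {k : ℕ}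
    (hk : p ^ k % 5 = 2 ∨ p ^ k % 5 = 3) : ¬ Fr P (p ^ k) := by
  obtain ⟨θ, hθ, -⟩ := exists_cover hC hT hn
  intro h
  exact (tr_frob p hC hθ h5 hn k).2 hk (h _ (θ (uu (sD 0 1))).2)

theorem mod_five (h5 : p ≠ 5) : p % 5 = 1 ∨ p % 5 = 2 ∨ p % 5 = 3 ∨ p % 5 = 4 := by
  have h1 : p % 5 ≠ 0 := by
    intro h
    exact h5 ((Nat.prime_dvd_prime_iff_eq (by norm_num) hp.out).1 (Nat.dvd_of_mod_eq_zero h)).symm
  omega

/-- `|F| = p` if `p = ±1 mod 5` -/
theorem card_eq_p [Fintype F] (hC : Core P) (hT : H912.Bd.IsS 2 5 (Soc P)) (hn : Fintype.card ι = 12)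
    (hk : p % 5 = 1 ∨ p % 5 = 4) : Fintype.card F = p := by
  apply hC.card_eq p
  have h1 := fr p hC hT (by rintro rfl; omega) hn (k := 1) (by rwa [pow_one])
  rwa [pow_one] at h1

/-- `|F| = p²` if `p = ±2 mod 5` -/
theorem card_eq_sq [Fintype F] (hC : Core P) (hT : H912.Bd.IsS 2 5 (Soc P)) (hn : Fintype.card ι = 12)
    (hk : p % 5 = 2 ∨ p % 5 = 3) : Fintype.card F = p ^ 2 := by
  have h5 : p ≠ 5 := by rintro rfl; omega
  have hsq : p ^ 2 % 5 = 4 := by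
    rw [Nat.pow_mod]
    rcases hk with h | h <;> rw [h]
  have h1 := hC.card_le p (k := 2) (by norm_num) (fr p hC hT h5 hn (k := 2) (Or.inr hsq))
  have h2 := not_fr p hC hT h5 hn (k := 1) (by rwa [pow_one])
  obtain ⟨n, hpr, hcard⟩ := FiniteField.card F p
  rw [hcard] at h1 ⊢
  have h3 : (n : ℕ) ≤ 2 := (Nat.pow_le_pow_iff_right hp.out.one_lt).1 h1
  have h4 : (n : ℕ) ≠ 1 := by
    intro h
    apply h2
    intro g _
    rw [pow_one]
    have h6 := FiniteField.pow_card (tr g)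
    rwa [hcard, h, pow_one] at h6
  have h6 : (n : ℕ) = 2 := by
    have := n.pos
    omega
  rw [h6]

include p in
/-- **no invariant quadratic form** -/
theorem not_fixQ (hC : Core P) (hT : H912.Bd.IsS 2 5 (Soc P)) (h5 : p ≠ 5) (hn : Fintype.card ι = 12) : ¬ FixQ P := by
  rintro ⟨Q, hQ, hfix⟩
  obtain ⟨θ, hθ, -⟩ := exists_cover hC hT hn
  have hfc := fact_card (F := F) p h5
  obtain ⟨ψ, hψ⟩ := exists_psi (F := F) p h5
  have hm := mm'_span hC hθ
  have hne : Nonempty ι := by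
    rw [← Fintype.card_pos_iff, hn]; norm_num
  have hirr := mRep_irr (mm' θ) hm (algebraMap F (AlgebraicClosure F))
  obtain ⟨q, hnd, hinv⟩ := QExt.exists_quadExt (algebraMap F (AlgebraicClosure F)) hQ
  obtain ⟨lam, v, hs⟩ : ∃ lam v, _root_.Cfsg.Agent.H434.WK.Seed ((mRep (mm' θ) (algebraMap F (AlgebraicClosure F)) :)) ψ lam 0 v := by
    rcases seed12 hψ hirr (fin12 hn) with ⟨v, h⟩ | ⟨v, h⟩
    · exact ⟨1, v, h⟩
    · exact ⟨2, v, h⟩
  refine not_quad hs hirr (fin12 hn) q (fun g u => ?_) hnd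
  rw [mRep_apply]
  apply hinv
  intro x
  exact hfix _ ⟨θ g, (θ g).2, rfl⟩ x

/-- the field, all `p ≠ 5` -/
theorem card_cases [Fintype F] (hC : Core P) (hT : H912.Bd.IsS 2 5 (Soc P)) (h5 : p ≠ 5) (hn : Fintype.card ι = 12) :
    ((p % 5 = 1 ∨ p % 5 = 4) ∧ Fintype.card F = p ∧ Fr P p) ∨
    ((p % 5 = 2 ∨ p % 5 = 3) ∧ Fintype.card F = p ^ 2 ∧ Fr P (p ^ 2) ∧ ¬ Fr P p) := by
  rcases (by have := mod_five p h5; (clear * - this; solve | lia | omega) : (p % 5 = 1 ∨ p % 5 = 4) ∨ (p % 5 = 2 ∨ p % 5 = 3)) with h | h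
  · left
    refine ⟨h, card_eq_p p hC hT hn h, ?_⟩
    have h1 := fr p hC hT h5 hn (k := 1) (by rwa [pow_one])
    rwa [pow_one] at h1
  · right
    refine ⟨h, card_eq_sq p hC hT hn h, fr p hC hT h5 hn (k := 2) (Or.inr ?_), ?_⟩
    · rw [Nat.pow_mod]
      rcases h with h | h <;> rw [h]
    · have h1 := not_fr p hC hT h5 hn (k := 1) (by rwa [pow_one])
      rwa [pow_one] at h1

end core

end Cfsg.Agent.H434.PSp45
end

-- part: H932/MtThreeG
section
prune_inst 0x20400008220200400000820300004040000000000000000020050600400060090020000880040018000c0020000000001000000000000000000000000000208000400683480104040089000000000000000000000000000000000000000000000000000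
set_option linter.all false
open scoped Cfsg.Agent.FastGrp

-- part: H932/MtPairDat
section
/-!
# Tables for the action of `2.M₁₂` on pairs (row, column) (helper932)

`K = ⟨t, u, c⟩ ≅ L₂(11)` is the stabiliser of the first row and the first column (generated by program, checked by the
kernel).
-/

set_option autoImplicit false

namespace Cfsg.Agent.H932.Mt

/-- words for the representatives of the pairs -/
def trp : List (List (List ℕ)) :=
  [[[], [1, 0, 1, 2, 2, 2, 2, 2, 2], [2, 2, 2, 2, 1, 2], [2, 1, 0, 0, 1, 2, 1, 2], [0, 0, 0, 0, 0, 1], [2, 1, 0, 0, 1, 0, 0, 0], [0, 1, 2, 1, 0, 0, 0, 0, 0], [1, 2, 2, 2, 2, 2], [2, 1, 0, 1, 0, 1, 0, 0, 0], [0, 1, 0, 0, 0, 0], [2, 1, 2, 2, 2, 1], [1, 0, 0, 0, 1, 0]],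
   [[0, 1, 2, 2, 1, 2, 2, 2], [2, 1, 2, 1, 0, 0, 0, 0, 0], [2, 2, 1, 2, 2, 2, 2, 2], [1, 2, 1, 0, 0, 0, 0], [1, 0, 0, 0, 1], [0, 0, 0, 0, 0, 0, 1, 0], [2, 2], [2, 2, 1, 0, 0, 0, 1, 0], [2, 1, 0, 0, 0, 0], [1, 0, 1, 2, 2, 1, 2, 2, 2], [1, 2, 1, 2, 1, 0, 0, 0, 0, 0], [0, 0, 0, 1]],
   [[0, 0, 0, 1, 2], [0, 0, 0, 0, 0, 0, 0], [0, 1, 2, 1, 0, 0, 0], [2, 2, 2, 1, 2, 2, 1], [1, 2, 1, 2, 1, 2, 2, 2], [0, 0, 1, 0, 0, 0, 0, 0], [0, 1, 2, 2, 2, 2, 2, 2, 1], [0, 1, 0, 1, 0, 1, 0], [1, 2, 2, 2, 1, 2, 2, 1], [1, 0, 0, 0, 1, 2], [2, 1, 0, 1, 0, 0, 1], [2, 1, 2, 1, 2, 2, 2]],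
   [[0, 0, 0, 0, 0, 0, 1], [0, 1, 2, 2, 2, 2, 2], [1, 0, 1, 0, 1, 0, 0, 0], [1, 0, 0, 1, 2, 1, 2], [1, 0, 1, 2, 2, 2, 2, 1], [1, 2, 2, 2, 1], [0, 1, 0, 0, 0, 1, 0], [0, 0, 1, 0, 0, 0, 0], [1, 0, 0, 1, 0, 0, 0], [2, 2, 2, 1, 2], [0], [0, 1, 0, 1, 2, 2, 2, 2, 2, 2]],
   [[0, 1, 2, 2, 1, 0, 1, 0], [1, 0, 0, 0, 0, 0, 1, 0], [0, 1, 2, 2, 1, 2, 2, 1], [1, 2, 2, 2, 1, 2, 2, 2, 2, 2], [1, 2, 2, 2], [1, 0, 1, 2, 2, 2, 2], [1, 2, 1, 0, 0, 0, 1], [2, 1, 0, 0, 0, 0, 1, 2], [0, 0, 1, 0, 0, 1], [0, 0, 0, 0, 1, 0, 0, 1], [1, 0, 0, 1], [2, 2, 1, 2, 2, 2]],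
   [[1, 2, 1, 0, 0, 0, 0, 0, 0], [0, 1, 0, 0, 1, 0, 0, 0, 0], [0, 0, 0, 1, 2, 1, 2], [0, 0, 0, 1, 0, 0, 0], [2, 1, 2, 2, 2, 2, 2, 2], [2, 2, 1, 2, 2, 2, 2, 1, 2], [0, 0, 1, 2, 2, 2, 2, 1], [0, 1, 0, 0, 0, 0, 0, 0, 1], [2, 2, 1], [0, 0, 1, 0, 1, 0, 0, 0], [1, 2, 1, 0, 0, 1, 2], [0, 1, 0]],
   [[0, 1, 0, 1, 2, 2, 2, 2, 1], [0, 0, 0, 1, 0, 0, 0, 0], [0, 1, 0, 0, 1, 0, 0, 0], [1, 0, 1, 2, 2, 2, 1], [2, 1, 2, 2, 1, 0], [0, 0], [2, 2, 1, 2, 1, 2, 2, 2, 2, 2], [2, 2, 1, 2], [0, 1, 2, 2, 2, 1], [0, 1, 0, 1, 0, 1, 0, 0, 0], [0, 0, 0, 0, 0, 0, 0, 1], [1, 2, 1, 2, 2, 1, 0]],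
   [[1, 2, 2, 2, 1, 2], [1, 0], [0, 1, 0, 1, 0, 0, 0], [0, 0, 1, 0, 0, 0], [2, 1, 2, 1, 0, 0, 0, 0, 0, 0], [2, 2, 2, 1], [1, 0, 1, 0, 0, 0, 1, 0], [1, 0, 0, 1, 0, 0, 0, 0], [0, 0, 1, 2, 1, 2], [1, 0, 0, 0, 0, 0, 0, 1], [1, 0, 1, 2, 2, 2, 2, 2], [0, 1, 2, 2, 2, 2, 1]],
   [[0, 1, 2, 2, 1, 0, 0, 0, 1], [0, 0, 1], [1, 0, 1, 2, 2, 1, 2, 2, 1], [1, 0, 0, 1, 0, 0, 1], [1, 2, 2, 1, 2, 2, 2], [0, 1, 2, 2, 2, 2], [2, 1, 0, 0, 0, 1], [0, 1, 0, 0, 0, 0, 1, 0], [2, 2, 2, 1, 2, 2, 2, 2, 2], [2, 2, 2, 1, 0, 0, 0, 1, 0], [0, 0, 0, 0, 0, 1, 0], [2, 2, 2]],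
   [[0, 0, 1, 2, 1, 2, 2, 2], [2, 1, 0, 0, 1, 2], [0, 1, 2, 1, 2, 2, 1], [1, 2, 2, 1], [1, 0, 1, 0], [2, 1, 2, 2, 2, 2, 1, 2, 2, 1], [2, 2, 2, 2, 2, 2, 2, 1], [2, 1, 0, 1, 0, 0, 0, 0, 0], [2, 2, 2, 2, 1, 0], [2, 1, 0, 0, 0, 0, 0, 0], [1, 0, 1, 0, 0, 1, 0, 0, 0, 0], [0, 0, 0, 1, 0, 0, 0, 1, 2]],
   [[2, 1, 2, 2, 2, 2], [1, 2, 1, 2, 2, 2, 1], [1, 2, 2, 2, 2, 1, 2], [0, 0, 0, 0, 0, 1, 0, 0, 0], [0, 0, 0, 1, 0], [1, 2, 1, 0, 0, 1, 0, 0, 0], [2, 1, 2, 2, 1, 0, 0, 0, 1], [2, 2, 2, 2, 2], [0, 0, 1, 2, 1, 0, 0, 1, 2], [1], [0, 1, 2, 2, 2, 2, 2, 2], [1, 0, 0, 0, 0, 0, 1]],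
   [[1, 0, 0, 0, 0, 0], [0, 0, 1, 2, 2, 2, 2, 2, 1], [2, 1, 0, 1, 0, 1, 0], [1, 2, 1, 2, 2, 2, 1, 0], [0, 1, 0, 0, 0, 0, 1], [2, 1, 2, 1, 0, 0, 0], [0, 1, 2], [0, 1, 0, 1, 0, 0, 0, 1], [2, 1, 2, 2, 2, 1, 0], [0, 0, 0, 0, 0], [0, 1, 2, 1, 2, 2, 2, 2, 2], [1, 0, 1, 0, 0, 0, 0, 1]]]

/-- Schreier words for `X` -/
def tpx : List (List (List ℕ)) :=
  [[[], [], [], [], [], [], [0, 2, 1], [], [], [], [], []],
   [[2, 0, 2, 1, 2, 1, 0, 2, 1, 2], [1, 2, 1, 2, 1, 0, 2, 0, 2, 1, 0], [], [0, 2, 1], [2, 1, 2, 0, 2, 1, 2, 1, 0], [], [2, 0, 2, 1, 2, 0, 2, 1, 2], [2, 1, 2, 0, 2, 1, 2, 0, 2], [0, 2, 1], [1, 2, 1, 0, 2, 0, 2, 1, 0, 2, 1], [0, 2, 0, 2, 1, 2, 1, 0, 2, 0, 2], []],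
   [[2, 0, 2, 1, 2, 0, 2, 1, 2], [], [1, 2, 1, 2, 1, 0], [1, 2, 1, 0, 2, 1, 0, 2], [1, 0, 2, 1, 2, 0, 2, 1, 2], [2, 0, 2, 1, 0, 2, 0, 2, 1, 2], [2, 0, 2, 1, 2, 0, 2, 1], [2, 1, 2, 0, 2, 1, 2, 0, 2], [2, 1, 0, 2, 1, 0, 2, 0], [2, 0, 2, 1, 2, 0, 2, 1, 2], [2, 1, 2, 0, 2, 1, 2, 1, 0], [1, 0, 2, 1, 2, 0, 2, 1, 2]],
   [[], [0, 2, 0, 2, 1, 2, 0, 2], [], [2, 1, 2, 0, 2, 1, 2, 0], [], [], [1, 0, 2, 0, 2, 1, 0, 2, 1, 2, 0, 2], [], [], [], [], [2, 0, 2, 1, 0, 2, 0, 2, 1, 2, 0, 2, 0]],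
   [[2, 1, 2, 1], [0, 2, 1, 2, 1, 0, 2, 0, 2, 1, 0], [1, 2, 1, 0, 2, 1, 0, 2], [2, 0, 2, 1, 0, 2, 1, 2, 1], [2, 0, 2, 1, 2, 0, 2, 1, 2], [1, 0, 2, 1, 2, 0, 2, 1, 2], [2, 1, 2, 0, 2, 1, 2, 1, 0], [2, 0, 2, 1, 2, 0, 2, 1, 2], [2, 1, 0, 2, 1, 0, 2, 1], [2, 0, 2, 1, 0, 2, 1, 2, 0, 2, 1, 0], [2, 1, 2, 0, 2, 1, 2, 1, 0], [1, 0, 2, 1, 2, 0, 2, 1, 2]],
   [[], [1, 2, 1, 0, 2, 0, 2, 1, 0], [2, 0, 2, 1, 2, 0, 2, 1, 2], [0, 2, 0, 2, 1, 2, 0, 2, 1, 2], [], [2, 0, 2, 1, 2, 0, 2, 1, 2], [1, 2, 1, 2, 0], [], [2, 0, 2, 1, 2, 0, 2, 1, 2], [1, 2, 1, 2, 0, 2, 1, 0, 2, 0], [2, 0], [2, 1, 2, 0, 2, 1, 2, 0, 2]],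
   [[0, 2, 1, 2, 0, 2, 1, 2], [0, 2, 0, 2, 1, 0, 2, 1, 2, 1, 0, 2], [1, 2, 1, 0, 2, 1, 0], [1, 2, 0], [2, 1, 2, 0, 2, 1, 2, 0, 2], [2, 1, 2, 0, 2, 1, 2, 0, 2], [], [2, 0, 2, 1, 2, 0, 2, 1, 2], [1, 2, 0], [1, 2, 1, 0, 2, 1, 0, 2], [], [1, 2, 1, 2, 0, 2, 1, 2, 0, 2, 1]],
   [[2, 1, 2, 1, 0, 2, 1, 0], [], [], [], [], [], [2, 0, 2, 0, 2, 1, 2, 1, 0], [], [], [], [1, 0, 2, 1, 2, 0, 2, 1, 0, 2, 0, 2], []],
   [[0, 2, 1, 0, 2, 1, 0, 2, 0], [], [0, 2, 0, 2, 1, 2, 0, 2], [1, 2, 1, 2, 1, 0, 2, 1, 0, 2, 0], [], [2, 0, 2, 0, 2, 1, 0, 2], [], [2, 1, 2, 0, 2, 1, 0, 2, 0, 2, 1, 0], [], [], [], []],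
   [[2, 1, 2, 0, 2, 0, 2, 0], [2, 0, 2, 1, 2, 0, 2, 1, 2], [1, 2, 0], [0, 2, 1, 2], [2, 1, 2, 0, 2, 1, 2, 0, 2], [1, 2, 0, 2, 1, 0, 2, 1, 0, 2, 0], [], [], [2, 1, 2, 0, 2, 1, 2, 0, 2], [], [0, 2, 1, 2, 0, 2, 1], [1, 0, 2, 0, 2, 1, 0, 2, 1, 2, 1]],
   [[1, 0, 2, 1, 2, 0, 2, 1, 2], [2, 1, 0, 2, 0, 2], [2, 1, 2, 0, 2, 1, 2, 0, 2, 1, 0], [0, 2, 1, 2, 0, 2, 1], [2, 1, 2, 0, 2, 1, 2, 0, 2], [0, 2, 1, 0, 2, 1, 0, 2, 0, 2, 1], [2, 1, 2, 0, 2, 1, 2, 1, 0], [], [2, 0], [2, 0, 2, 1, 2, 0, 2, 1, 2], [], []],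
   [[], [0, 2, 0, 2, 1, 2, 1, 0, 2, 0, 2, 0], [2, 1, 2, 0, 2, 1, 2, 0, 2], [2, 1, 2, 0, 2, 1, 2, 0, 2, 0], [0, 2, 0, 2, 1, 0, 2, 1, 2, 1, 0, 2], [0, 2], [2, 0, 2, 1, 2, 0, 2, 1, 2], [1, 0, 2, 1, 2, 1, 0, 2, 0], [2, 1, 2, 0, 2, 1, 2, 0, 2], [], [2, 0, 2], [0, 2, 1, 2, 0, 2, 1, 0, 2, 0]]]

/-- Schreier words for `Y` -/
def tpy : List (List (List ℕ)) :=
  [[[], [], [], [2, 1, 2, 0, 2, 1, 2], [], [], [1, 0, 2, 1, 0, 2, 1, 0], [], [2, 0, 2, 0, 2, 1, 2, 1, 0], [1, 0, 2, 0, 2, 1, 2, 1, 0, 2, 0, 2], [], []],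
   [[], [], [0, 2, 0, 2, 1, 2, 0, 2, 0], [], [], [0, 2, 0, 2, 0], [0], [1, 0, 2, 1, 2, 0, 2, 1, 2, 1, 0], [], [], [], []],
   [[], [1, 0, 2, 1, 2, 0, 2, 1, 2], [1], [], [], [0, 2, 1, 0, 2, 0], [1, 0, 2, 1, 2, 1, 0], [1, 2, 1, 2, 1, 0, 2, 1, 2, 1], [], [], [2, 1, 2, 0, 2, 1, 2, 1, 0], []],
   [[], [], [], [], [], [], [], [], [], [], [], [0, 2, 1, 0, 2, 1, 2, 1, 0]],
   [[1, 2, 1, 2, 0], [], [], [], [], [], [], [2, 1, 0, 2, 1, 2, 1, 0, 2], [], [0, 2, 1, 0, 2, 1, 0, 2], [], []],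
   [[], [], [2, 1, 2, 0, 2, 1, 2, 0], [2, 1, 0, 2, 1, 2, 1, 0, 2, 0, 2, 0], [1, 2, 1, 2, 1, 0, 2, 0, 2, 1, 0], [1, 2, 0, 2, 1, 0, 2, 0, 2, 1, 2, 1, 0], [1, 2, 1, 2, 0], [0, 2, 0, 2, 1, 2, 0, 2, 1, 0, 2, 0], [], [0, 2, 1, 2, 0, 2, 0, 2, 0], [], []],
   [[0, 2, 1, 0, 2], [0, 2, 0, 2, 1, 0, 2, 1, 2, 1, 0, 2], [2, 1, 2, 0, 2, 1, 0, 2, 0, 2, 1, 2], [], [], [1], [1, 2, 1, 2, 0, 2, 1, 2, 1], [1, 0, 2, 1, 0, 2, 1, 0], [], [2, 1, 0, 2, 0], [2, 1, 0, 2, 1, 2, 1, 0, 2, 0, 2, 0], []],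
   [[], [], [], [], [1, 0, 2, 1, 2, 1, 0, 2, 0], [], [], [], [], [], [], []],
   [[2, 1, 0, 2, 1, 0, 2, 0], [], [], [], [], [], [], [2, 1, 0, 2, 1, 2, 1, 0, 2], [], [0, 2, 1, 2, 1], [], []],
   [[2, 0, 2, 0, 2, 1, 0, 2, 0], [], [0, 2, 1, 2, 0, 2, 1, 2], [], [], [0, 2, 0, 2, 1, 0, 2, 1, 2, 1, 0, 2, 0], [0, 2, 1, 2, 1], [0, 2, 1, 0, 2, 0, 2, 1, 2, 0, 2, 0], [0, 2, 0, 2, 1, 0, 2, 1, 2, 1, 0, 2], [], [], [1, 0, 2, 0, 2, 1, 0, 2, 1, 2, 1]],
   [[2, 0, 2, 1, 0, 2, 1, 2, 0, 2, 1, 0], [], [], [1, 0, 2, 1, 2, 0, 2, 0, 2], [], [], [1, 0, 2, 1, 0, 2, 1, 0], [], [2, 1, 2, 0, 2, 1, 2], [], [], []],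
   [[], [0, 2, 0, 2, 1, 2, 0, 2, 1, 0, 2, 0], [2, 0, 2, 1, 2, 0, 2], [], [], [1, 2, 0, 2, 1], [0, 2, 1, 2, 0, 2, 1, 2, 0], [2, 0, 2, 0, 2, 0], [], [], [0, 2, 1, 0, 2, 0, 2, 1, 2, 0, 2, 0], []]]

/-- words of `K` to the representatives of the orbits on pairs -/
def tkw : List (List (List ℕ)) :=
  [[[], [], [0, 2, 0, 2, 0, 1, 2, 1, 2], [0, 2, 0, 2, 1], [0, 2, 0, 2, 0], [0], [0, 2, 0], [0, 2, 0, 2, 0, 1, 2], [0, 2], [0, 2, 0, 2, 0, 1], [0, 2, 0, 2], [0, 2, 0, 2, 0, 1, 2, 1]],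
   [[], [], [], [0, 1, 2, 1, 2, 1], [1, 2, 1, 2, 1], [0], [2, 0, 1, 2, 0, 1, 2], [1, 2, 0, 2, 0, 2, 1], [2, 0, 1, 2, 0, 1, 2, 0], [0, 1, 2, 1, 2, 0, 1], [1, 2, 1, 2, 0, 1], [0, 1, 2, 0, 2, 0, 1, 2, 1]],
   [[2, 0, 2, 0, 2], [2, 1, 2, 0, 1, 2, 0, 2, 0], [0, 2, 1, 2, 0, 1, 2, 1, 2], [0, 2, 0, 2, 1, 2], [0, 2, 0, 2, 0, 2], [2, 1, 2, 0, 1, 2, 0, 2], [2, 0, 1, 2, 1, 2, 0, 2], [2, 0, 2, 0, 2, 1], [2, 0, 1, 2, 1, 2, 0, 2, 0], [0, 2, 0, 2, 0, 2, 1], [2, 0, 2, 0, 2], [2, 0, 2, 0, 2]],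
   [[2], [2], [0, 1, 2, 0, 2, 0, 1, 2, 1, 2], [0, 2, 1, 2, 1], [2, 1, 2, 1], [2, 0, 1, 2, 0, 1, 2, 0, 2], [1, 2, 1, 2, 0, 1, 2], [0, 1, 2, 1, 2, 0, 1, 2], [0, 2], [1, 2, 0, 2, 0, 2, 1, 2], [2, 0, 1, 2, 0, 1], [2]],
   [[2, 0, 1], [1, 2, 1, 2, 0, 1, 2, 1, 2, 0], [0, 2, 0, 2, 0, 1, 2, 1, 2], [2, 1, 2, 0], [0, 2, 1, 2, 0], [2, 0, 1], [1, 2, 1, 2, 0, 1, 2, 0, 1], [2, 0, 1], [0, 2, 0, 1], [2, 0, 1, 2], [1, 2, 0, 2, 0, 2, 1, 2, 0, 1], [0, 2, 0, 2, 0, 1, 2, 1]],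
   [[1], [1], [1], [1, 2, 1, 2, 0], [0, 1, 2, 1, 2, 0], [0, 1], [1, 2, 0, 1, 2, 0, 1, 2], [0, 1, 2, 0, 2, 0, 1, 2], [2, 0, 1, 2, 0, 1, 2, 1], [1, 2, 1, 2], [0, 1, 2, 1, 2], [1, 2, 0, 2, 0, 2]],
   [[2, 0, 2], [1, 2, 1, 2, 0, 1, 2, 0, 2, 0, 1], [2, 0, 2], [2, 0, 1, 2, 1, 2, 0, 1], [2, 0, 1, 2, 1, 2], [1, 2, 1, 2, 0, 1, 2, 0, 2], [2, 1, 2, 0, 1, 2], [0, 2, 1, 2, 0, 1, 2], [2, 0, 2], [0, 2, 0, 2, 0, 1], [0, 2, 0, 2], [0, 2, 0, 2, 0, 2, 1, 2, 1]],
   [[1, 2, 0], [2, 0, 1, 2, 0, 1, 2, 1, 2, 0], [1, 2, 0, 2], [0, 1, 2, 0, 2, 1], [1, 2, 0, 1, 2, 1], [1, 2, 0], [0, 1, 2, 0], [1, 2, 0, 1], [1, 2, 0, 2], [1, 2, 0, 1, 2], [0, 1, 2, 0, 2], [1, 2, 0]],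
   [[2, 0, 2, 0], [1, 2, 1, 2, 0, 1, 2, 0, 2, 0], [2, 0, 2, 0], [0, 2, 0, 2, 1], [0, 2, 0, 2, 0], [1, 2, 1, 2, 0, 1, 2, 0, 2, 1], [2, 0, 2, 0], [0, 2, 0, 2, 0, 2, 1, 2], [2, 1, 2, 0, 1, 2, 0], [2, 0, 1, 2, 1, 2, 1], [2, 0, 1, 2, 1, 2, 0], [0, 2, 1, 2, 0, 1, 2, 1]],
   [[2, 1], [2, 1], [0, 1, 2, 1, 2, 0, 1, 2, 1, 2], [2, 0, 1, 2, 0], [1, 2, 0, 2, 0, 2, 1, 2, 1], [1, 2, 1, 2, 0, 1, 2, 1, 2], [0, 2, 1], [2, 1], [1, 2, 1, 2, 0, 1, 2, 1], [2, 1, 2], [0, 2, 1, 2], [0, 1, 2, 1, 2, 0, 1, 2, 1]],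
   [[2, 0], [2, 0, 1, 2, 0, 1, 2, 0, 2, 0], [0, 2, 0, 2, 0, 1, 2, 1, 2, 1], [1, 2, 0, 2, 0, 2, 1, 2, 0], [2, 0, 1, 2, 1], [2, 0], [0, 2, 0], [0, 2, 0, 2, 0, 1, 2], [1, 2, 1, 2, 0, 1, 2, 0], [0, 2, 1, 2, 0, 1], [2, 1, 2, 0, 1], [2, 0]],
   [[1, 2], [1, 2], [1, 2, 0, 2, 0], [1, 2, 0, 1, 2, 0], [0, 1, 2, 0, 2, 0], [2, 0, 1, 2, 0, 1, 2, 1, 2], [0, 1, 2, 1], [1, 2, 1], [0, 1, 2], [0, 1, 2, 0, 2, 0, 1], [1, 2, 0, 1, 2, 0, 1], [1, 2]]]

/-- the orbit of a pair -/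
def tty : List (List ℕ) :=
  [[0, 1, 1, 1, 1, 1, 1, 1, 1, 1, 1, 1],
   [2, 3, 4, 3, 4, 3, 4, 4, 4, 3, 4, 3],
   [2, 4, 3, 3, 3, 4, 4, 4, 4, 3, 3, 4],
   [2, 3, 3, 3, 4, 4, 4, 3, 3, 4, 4, 4],
   [2, 4, 3, 4, 3, 3, 4, 4, 3, 4, 4, 3],
   [2, 3, 4, 4, 3, 3, 4, 3, 4, 4, 3, 4],
   [2, 4, 4, 4, 4, 4, 4, 3, 3, 3, 3, 3],
   [2, 4, 4, 3, 4, 3, 3, 4, 3, 4, 3, 4],
   [2, 4, 4, 3, 3, 4, 3, 3, 4, 4, 4, 3],
   [2, 3, 3, 4, 4, 4, 3, 4, 4, 4, 3, 3],
   [2, 4, 3, 4, 4, 3, 3, 3, 4, 3, 4, 4],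
   [2, 3, 4, 4, 3, 4, 3, 4, 3, 3, 4, 4]]

/-- the sign of the row in the orbit representative -/
def tsn : List (List ℤ) :=
  [[1, 1, 1, 1, 1, 1, 1, 1, 1, 1, 1, 1],
   [1, 1, 1, 1, 1, 1, 1, 1, 1, 1, 1, 1],
   [-1, -1, -1, -1, -1, -1, -1, -1, -1, -1, -1, -1],
   [-1, -1, -1, -1, -1, -1, -1, -1, -1, -1, -1, -1],
   [1, 1, 1, 1, 1, 1, 1, 1, 1, 1, 1, 1],
   [1, 1, 1, 1, 1, 1, 1, 1, 1, 1, 1, 1],
   [-1, -1, -1, -1, -1, -1, -1, -1, -1, -1, -1, -1],
   [1, 1, 1, 1, 1, 1, 1, 1, 1, 1, 1, 1],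
   [-1, -1, -1, -1, -1, -1, -1, -1, -1, -1, -1, -1],
   [-1, -1, -1, -1, -1, -1, -1, -1, -1, -1, -1, -1],
   [1, 1, 1, 1, 1, 1, 1, 1, 1, 1, 1, 1],
   [1, 1, 1, 1, 1, 1, 1, 1, 1, 1, 1, 1]]

/-- pairs for the rank argument -/
def tcol : List (ℕ × ℕ) := [(0, 1), (0, 2), (0, 3), (0, 4), (0, 5), (1, 0), (1, 1), (1, 2), (1, 3), (1, 4), (1, 5), (2, 0), (2, 1)]
/-- pairs for the rank argument -/
def trow : List (ℕ × ℕ) := [(0, 0), (0, 1), (0, 2), (1, 0), (1, 2), (2, 0), (2, 2), (3, 0), (3, 2), (4, 0), (4, 2), (5, 0), (5, 2)]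
/-- the inverse matrix modulo 3 -/
def tinv : List (List ℤ) :=
  [[1, 0, 1, 0, 1, 1, 1, -1, -1, 1, 1, -1, 1],
   [-1, 0, -1, 1, -1, 1, 1, -1, -1, -1, -1, 1, -1],
   [-1, 0, -1, -1, 1, -1, -1, 1, 1, 1, 1, 1, -1],
   [-1, 0, -1, 1, -1, -1, -1, 1, 1, 1, 1, -1, 1],
   [-1, 0, -1, -1, 1, 1, 1, 1, 1, -1, -1, 1, -1],
   [1, 0, -1, -1, -1, -1, 1, -1, 1, -1, 1, -1, -1],
   [-1, 0, 1, 1, 1, 1, -1, -1, 1, 1, -1, -1, -1],
   [1, 0, -1, -1, -1, -1, 1, 1, -1, 1, -1, -1, -1],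
   [-1, 0, 1, -1, -1, -1, 1, 1, -1, 1, -1, 1, 1],
   [1, 0, -1, -1, -1, 1, -1, -1, 1, -1, 1, 1, 1],
   [-1, 0, 1, -1, -1, 1, -1, 1, -1, -1, 1, 1, 1],
   [1, 1, -1, -1, -1, 0, 0, 0, 0, 0, 0, 0, 0],
   [-1, 0, -1, -1, -1, 0, 0, 0, 0, 0, 0, 0, 0]]

/-- look up in a table of tables -/
def gt2 {α : Type} (d : α) (t : List (List α)) (i j : ℕ) : α := (t.getD i []).getD j d

/-- representatives of the pairs -/
def rp2 (i j : Fin 12) : Γ := el (gt2 [] trp i j)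

/-- words in `t, u, c` -/
def evK : List ℕ → Γ
  | [] => 1
  | 0 :: w => gt * evK w
  | 1 :: w => gu * evK w
  | _ :: w => gc * evK w

/-- the partner of `c` -/
def oc : Γ := el [2, 1, 0, 1, 2, 2, 1, 2, 1, 2, 1, 0, 1, 0, 1, 0, 1, 0]

/-- the partners of the words in `t, u, c` -/
def evK' : List ℕ → Γ
  | [] => 1
  | 0 :: w => gu * evK' w
  | 1 :: w => gt * evK' w
  | _ :: w => oc * evK' w

/-- the orbit -/
def ty (k j : Fin 12) : Fin 5 := ⟨gt2 0 tty k j % 5, Nat.mod_lt _ (by norm_num)⟩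
/-- the sign -/
def sn (k j : Fin 12) : ℤ := gt2 1 tsn k j
/-- the representative row -/
def rr (t : Fin 5) : Fin 12 := if t = 0 ∨ t = 1 then 0 else 1
/-- the representative column -/
def rc (t : Fin 5) : Fin 12 := if t = 0 ∨ t = 2 then 0 else if t = 4 then 2 else 1

private noncomputable def _root_.Cfsg.Agent.LsF.f8281bc_0 : {f // @Cfsg.Agent.H932.Mt.sgn = f} := ⟨_, by first | (delta Cfsg.Agent.H932.Mt.sgn; rewrite [Cfsg.Agent.LsF.nmod_pat, Cfsg.Agent.LsF.ineg_pat, Cfsg.Agent.LsF.instDecEq_eq, Cfsg.Agent.LsF.ite_eq]; exact rfl) | exact rfl⟩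
private noncomputable def _root_.Cfsg.Agent.LsF.f8281bc_1 : {f // @Cfsg.Agent.H932.Mt.Hm = f} := ⟨_, by first | (delta Cfsg.Agent.H932.Mt.Hm; rewrite [Cfsg.Agent.LsF.getD_eq]; exact rfl) | exact rfl⟩
private noncomputable def _root_.Cfsg.Agent.LsF.f8281bc_2 : {f // @Cfsg.Agent.H932.Mt.Hh = f} := ⟨_, by first | (delta Cfsg.Agent.H932.Mt.Hh; rewrite [Cfsg.Agent.LsF.f8281bc_0.2, Cfsg.Agent.LsF.f8281bc_1.2, Cfsg.Agent.LsF.imul_pat]; exact rfl) | exact rfl⟩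
theorem inter_tu : inter gt gu := by
  unfold inter
  (refine of_decide_eq_true ?_; (try (rewrite [Cfsg.Agent.LsF.f8281bc_2.2, Cfsg.Agent.LsF.instIDecEq_eq, Cfsg.Agent.LsF.dForallFin_eq, Cfsg.Agent.LsF.decide_eq])); decide +kernel)

theorem inter_ut : inter gu gt := by
  unfold inter
  (refine of_decide_eq_true ?_; (try (rewrite [Cfsg.Agent.LsF.f8281bc_2.2, Cfsg.Agent.LsF.instIDecEq_eq, Cfsg.Agent.LsF.dForallFin_eq, Cfsg.Agent.LsF.decide_eq])); decide +kernel)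

theorem inter_oc : inter gc oc := by
  unfold inter
  (refine of_decide_eq_true ?_; (try (rewrite [Cfsg.Agent.LsF.f8281bc_2.2, Cfsg.Agent.LsF.instIDecEq_eq, Cfsg.Agent.LsF.dForallFin_eq, Cfsg.Agent.LsF.decide_eq])); decide +kernel)

/-- a packed table -/
private def tb (T k : ℕ) : ℕ := Nat.land (Nat.shiftRight T (Nat.mul 5 k)) 31

/-- the tables of `X`, `Y`, `X⁻¹`, `Y⁻¹` -/
private noncomputable def tE (a : ℕ) : ℕ := Nat.rec 858195654759553298520854912785009894 (fun a _ => Nat.rec 983981268003965433089565273211636404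
  (fun a _ => Nat.rec 430584230133361635766867604427817555 (fun _ _ => 983981268003965433089565273211636404) a) a) a

/-- the tables of `t`, `u`, `c` -/
private noncomputable def tK (a : ℕ) : ℕ := Nat.rec 641501253070922825688025338851985440 (fun a _ => Nat.rec 984315764514230535949673298378729504
  (fun _ _ => 470406898135004909714761984136911904) a) a

/-- the image of a point under a word -/
private noncomputable def run (T : ℕ → ℕ) (w : List ℕ) (k : ℕ) : ℕ := List.rec k (fun a _ ih => tb (T a) ih) w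

private theorem tb_ok : ∀ k : Fin 24, (tb (tE 0) k = gx.1 k ∧ tb (tE 1) k = gy.1 k ∧ tb (tE 2) k = (gx⁻¹).1 k ∧
    tb (tE 3) k = (gy⁻¹).1 k) ∧ (tb (tK 0) k = gt.1.1 k ∧ tb (tK 1) k = gu.1.1 k ∧ tb (tK 2) k = gc.1.1 k) ∧
    Nat.xor k 1 = ng k ∧ Nat.xor k 0 = k ∧ (if sgn k = 1 then Nat.mod k 2 = 0 else Nat.mod k 2 = 1) := by decide +kernel

private theorem run_ev (k : Fin 24) : ∀ w : List ℕ, run tE w k = (ev w).1 k
  | [] => rfl
  | 0 :: w => (congrArg (tb (tE 0)) (run_ev k w)).trans (tb_ok _).1.1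
  | 1 :: w => (congrArg (tb (tE 1)) (run_ev k w)).trans (tb_ok _).1.2.1
  | 2 :: w => (congrArg (tb (tE 2)) (run_ev k w)).trans (tb_ok _).1.2.2.1
  | (_ + 3) :: w => (congrArg (tb (tE 3)) (run_ev k w)).trans (tb_ok _).1.2.2.2

private theorem run_evK (k : Fin 24) : ∀ w : List ℕ, run tK w k = (evK w).1.1 k
  | [] => rfl
  | 0 :: w => (congrArg (tb (tK 0)) (run_evK k w)).trans (tb_ok _).2.1.1
  | 1 :: w => (congrArg (tb (tK 1)) (run_evK k w)).trans (tb_ok _).2.1.2.1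
  | (_ + 2) :: w => (congrArg (tb (tK 2)) (run_evK k w)).trans (tb_ok _).2.1.2.2

private theorem sg_val (s k : Fin 24) : Nat.xor k (Nat.mod s 2) = (sg s).1.1 k := by
  have h := (tb_ok s).2.2.2.2
  unfold sg
  split_ifs at h ⊢
  · rw [h]; exact (tb_ok k).2.2.2.1
  · rw [h, neg_apply]; exact (tb_ok k).2.2.1

private theorem ext_pos {a b : Γ} (h : ∀ i : Fin 12, (a.1.1 (pos i) : ℕ) = b.1.1 (pos i)) : a.1.1 = b.1.1 := by
  ext k : 1
  rcases eq_pos_or k with e | e <;> rw [e]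
  · exact Fin.ext (h _)
  · rw [ng_comm, ng_comm, Fin.ext (h _)]

private theorem sch_of (a : ℕ) (w w' v : List ℕ) (s : Fin 24)
    (h : ∀ k : Fin 12, run tE (a :: w) (pos k) = Nat.xor (run tE w' (run tK v (pos k))) (Nat.mod s 2)) :
    (el (a :: w)).1.1 = (sg s * el w' * evK v).1.1 := by
  refine ext_pos fun k => ?_
  have h1 := h k
  rw [run_ev, run_evK, run_ev, sg_val] at h1
  exact h1

private noncomputable def _root_.Cfsg.Agent.LsF.f8281bc_7 : {f // @Cfsg.Agent.H932.Mt.gt2 = f} := ⟨_, by first | (delta Cfsg.Agent.H932.Mt.gt2; rewrite [Cfsg.Agent.LsF.getD_eq]; exact rfl) | exact rfl⟩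
private theorem sch_tab : ∀ i j : Fin 12, (∀ k : Fin 12, run tE (0 :: gt2 [] trp i j) (pos k) =
      Nat.xor (run tE (gt2 [] trp (idx (px (pos i))) (idx (oX.1.1 (pos j)))) (run tK (gt2 [] tpx i j) (pos k)))
        (Nat.mod (px (pos i)) 2)) ∧
    (∀ k : Fin 12, run tE (1 :: gt2 [] trp i j) (pos k) =
      Nat.xor (run tE (gt2 [] trp (idx (py (pos i))) (idx (oY.1.1 (pos j)))) (run tK (gt2 [] tpy i j) (pos k)))
        (Nat.mod (py (pos i)) 2)) ∧ run tE (gt2 [] trp i j) (pos 0) = pos i := by (refine of_decide_eq_true ?_; (try (rewrite [Cfsg.Agent.LsF.f8281bc_7.2, Cfsg.Agent.LsF.instDecEq_eq, Cfsg.Agent.LsF.dAnd_eq, Cfsg.Agent.LsF.dForallFin_eq, Cfsg.Agent.LsF.decide_eq])); decide +kernel)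

theorem sch2_x : ∀ i j : Fin 12, (el [0] * rp2 i j).1.1
    = (sg (px (pos i)) * rp2 (idx (px (pos i))) (idx (oX.1.1 (pos j))) * evK (gt2 [] tpx i j)).1.1 := by
  intro i j
  have e : (el [0] * rp2 i j).1.1 = (el (0 :: gt2 [] trp i j)).1.1 := by
    show (gx * 1 * ev (gt2 [] trp i j)).1 = (gx * ev (gt2 [] trp i j)).1
    rw [mul_one]
  exact e.trans (sch_of 0 _ _ _ _ (sch_tab i j).1)

theorem sch2_y : ∀ i j : Fin 12, (el [1] * rp2 i j).1.1
    = (sg (py (pos i)) * rp2 (idx (py (pos i))) (idx (oY.1.1 (pos j))) * evK (gt2 [] tpy i j)).1.1 := by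
  intro i j
  have e : (el [1] * rp2 i j).1.1 = (el (1 :: gt2 [] trp i j)).1.1 := by
    show (gy * 1 * ev (gt2 [] trp i j)).1 = (gy * ev (gt2 [] trp i j)).1
    rw [mul_one]
  exact e.trans (sch_of 1 _ _ _ _ (sch_tab i j).2.1)

theorem rp2_zero : rp2 0 0 = 1 := gext (by decide +kernel)

theorem rp2_apply : ∀ i j, (rp2 i j).1.1 (pos 0) = pos i :=
  fun i j => Fin.ext ((run_ev _ _).symm.trans (sch_tab i j).2.2)

theorem orb_tab : ∀ k j : Fin 12, (evK (gt2 [] tkw k j)).1.1 (pos k)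
      = (if sn k j = 1 then pos (rr (ty k j)) else ng (pos (rr (ty k j)))) ∧
    idx ((evK' (gt2 [] tkw k j)).1.1 (pos j)) = rc (ty k j) := by decide +kernel

theorem sn_cases : ∀ k j : Fin 12, sn k j = 1 ∨ sn k j = -1 := by decide +kernel

theorem form_tab : ∀ k j : Fin 12, Hm k 0 + Hm k j * Hm 0 j = (if ty k j = 4 then 0 else 2 * sn k j) ∧
    Hm k 0 - Hm k j * Hm 0 j = (if ty k j = 4 then 2 * sn k j else 0) := by decide +kernel

theorem fix_pos0 : gX.1.1 (pos 0) = pos 0 ∧ gt.1.1 (pos 0) = pos 0 ∧ gc.1.1 (pos 0) = pos 0 ∧ gu.1.1 (pos 0) = pos 0 := by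
  decide +kernel

theorem Hh_inj : ∀ l l' : Fin 24, (∀ k, Hh k l = Hh k l') → l = l' := by (refine of_decide_eq_true ?_; (try (rewrite [Cfsg.Agent.LsF.f8281bc_2.2, Cfsg.Agent.LsF.instIDecEq_eq, Cfsg.Agent.LsF.dFinEq_eq, Cfsg.Agent.LsF.dForallFin_eq, Cfsg.Agent.LsF.decide_eq])); decide +kernel)

end Cfsg.Agent.H932.Mt
end

-- part: H932/MtPair
section
/-!
# Vectors fixed by `K = ⟨t, u, c⟩` (helper932)

* `out : Γ →* Γ` : the outer automorphism; `out_out`;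
* `vs ρ v k j` : the images of a `K`-fixed vector `v`, indexed by the signed rows `k` and the columns `j`; `act2`;
* `dual ρ` : the dual representation, `Odd12.dual`;
* `exists_fixK` : a `K`-fixed vector, characteristic not 2.
-/

set_option autoImplicit false
set_option linter.unusedSectionVars false

namespace Cfsg.Agent.H932.Mt

open Module

theorem inter_unique {g a c : Γ} (ha : inter g a) (hc : inter g c) : a = c := by
  apply gext
  apply Equiv.ext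
  intro l
  apply Hh_inj
  intro k
  have h1 := ha ((g⁻¹).1.1 k) l
  have h2 := hc ((g⁻¹).1.1 k) l
  have h3 : g.1.1 ((g⁻¹).1.1 k) = k := g.1.1.apply_symm_apply k
  rw [h3] at h1 h2
  rw [h1, h2]

/-- the outer automorphism of `Γ` -/
noncomputable def out : Γ →* Γ where
  toFun g := (exists_inter g).choose
  map_one' := inter_unique (exists_inter 1).choose_spec (fun _ _ => rfl)
  map_mul' a c := inter_unique (exists_inter (a * c)).choose_spec (fun k l =>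
    ((exists_inter a).choose_spec _ _).trans ((exists_inter c).choose_spec k l))

theorem inter_out (g : Γ) : inter g (out g) := (exists_inter g).choose_spec

theorem out_eq {g g' : Γ} (h : inter g g') : out g = g' := inter_unique (inter_out g) h

theorem Hh_symm (k l : Fin 24) : Hh k l = Hh l k := by
  unfold Hh
  rw [Hm_symm, mul_comm (sgn k)]

theorem inter_symm {g g' : Γ} (h : inter g g') : inter g' g := by
  intro k l
  rw [Hh_symm, h, Hh_symm]

theorem out_out (g : Γ) : out (out g) = g := out_eq (inter_symm (inter_out g))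

/-- the action on the columns -/
noncomputable def ci (g : Γ) (j : Fin 12) : Fin 12 := idx ((out g).1.1 (pos j))

theorem ci_mul (a c : Γ) (j : Fin 12) : ci (a * c) j = ci a (ci c j) := by
  unfold ci
  rw [map_mul]
  change idx ((out a).1.1 ((out c).1.1 (pos j))) = _
  apply idx_congr
  rw [idx_pos]

theorem ci_one (j : Fin 12) : ci 1 j = j := by
  unfold ci
  rw [map_one]
  exact idx_pos j

theorem ci_inv (a : Γ) (j : Fin 12) : ci a (ci a⁻¹ j) = j := by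
  rw [← ci_mul, mul_inv_cancel, ci_one]

theorem ci_idx (g : Γ) (l : Fin 24) : ci g (idx l) = idx ((out g).1.1 l) := by
  unfold ci
  apply idx_congr
  rw [idx_pos]

theorem evK_eq : ∀ w : List ℕ, out (evK w) = evK' w
  | [] => map_one out
  | 0 :: w => by
    have h1 : evK (0 :: w) = gt * evK w := by with_unfolding_all rfl
    have h2 : evK' (0 :: w) = gu * evK' w := by with_unfolding_all rfl
    rw [h1, h2, map_mul, evK_eq w, out_eq inter_tu]
  | 1 :: w => by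
    have h1 : evK (1 :: w) = gu * evK w := by with_unfolding_all rfl
    have h2 : evK' (1 :: w) = gt * evK' w := by with_unfolding_all rfl
    rw [h1, h2, map_mul, evK_eq w, out_eq inter_ut]
  | (n + 2) :: w => by
    have h1 : evK ((n + 2) :: w) = gc * evK w := by with_unfolding_all rfl
    have h2 : evK' ((n + 2) :: w) = oc * evK' w := by with_unfolding_all rfl
    rw [h1, h2, map_mul, evK_eq w, out_eq inter_oc]

section rep

variable {F V : Type*} [Field F] [AddCommGroup V] [Module F V] [FiniteDimensional F V]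

/-- the images of a `K`-fixed vector -/
def vs (ρ : Γ →* Module.End F V) (v : V) (k : Fin 24) (j : Fin 12) : V := ρ (sg k * rp2 (idx k) j) v

variable {ρ : Γ →* Module.End F V} {v : V}

/-- fixed by `K` -/
structure FixK (ρ : Γ →* Module.End F V) (v : V) : Prop where
  t : ρ gt v = v
  u : ρ gu v = v
  c : ρ gc v = v

theorem evK_fix (hK : FixK ρ v) (w : List ℕ) : ρ (evK w) v = v := by
  induction w with
  | nil => exact rone ρ v
  | cons a w ih =>
    rcases a with _ | _ | a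
    · have h1 : evK (0 :: w) = gt * evK w := by with_unfolding_all rfl
      rw [h1, rmul, ih, hK.t]
    · have h1 : evK (1 :: w) = gu * evK w := by with_unfolding_all rfl
      rw [h1, rmul, ih, hK.u]
    · have h1 : evK ((a + 2) :: w) = gc * evK w := by with_unfolding_all rfl
      rw [h1, rmul, ih, hK.c]

theorem vs_ng (k : Fin 24) (j : Fin 12) : vs ρ v (ng k) j = ρ neg (vs ρ v k j) := by
  unfold vs
  rw [sg_ng, idx_ng, mul_assoc, rmul]

theorem vs_pos (i j : Fin 12) : vs ρ v (pos i) j = ρ (rp2 i j) v := by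
  unfold vs sg
  rw [sgn_pos, if_pos rfl, idx_pos, one_mul]

theorem vs_zero : vs ρ v (pos 0) 0 = v := by
  rw [vs_pos, rp2_zero, rone]

theorem act2_of {a a' : Γ} {π : Equiv.Perm (Fin 24)} (ha : a.1.1 = π) (haa : out a = a') {ts : List (List (List ℕ))}
    (hsch : ∀ i j : Fin 12, (a * rp2 i j).1.1
      = (sg (π (pos i)) * rp2 (idx (π (pos i))) (idx (a'.1.1 (pos j))) * evK (gt2 [] ts i j)).1.1)
    (hK : FixK ρ v) (k : Fin 24) (j : Fin 12) :
    ρ a (vs ρ v k j) = vs ρ v (a.1.1 k) (ci a j) := by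
  have h1 : ∀ i, ρ a (vs ρ v (pos i) j) = vs ρ v (a.1.1 (pos i)) (ci a j) := by
    intro i
    rw [vs_pos, ← rmul, gext (hsch i j), rmul, evK_fix hK, ha]
    unfold vs ci
    rw [haa]
  rcases eq_pos_or k with hk | hk
  · rw [hk, h1]
  · rw [hk, vs_ng, ← rmul, ← neg_comm, rmul, h1, ng_comm, vs_ng]

theorem act2 (hK : FixK ρ v) (g : Γ) : ∀ k j, ρ g (vs ρ v k j) = vs ρ v (g.1.1 k) (ci g j) := by
  have hg : g ∈ Subgroup.closure ({el [0], el [1]} : Set Γ) := by rw [closure_gens]; trivial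
  induction hg using Subgroup.closure_induction with
  | mem z hz =>
    intro k j
    rcases hz with rfl | rfl
    · exact act2_of (π := px) (mul_one _) (out_eq inter_oX) sch2_x hK k j
    · exact act2_of (π := py) (mul_one _) (out_eq inter_oY) sch2_y hK k j
  | one =>
    intro k j
    rw [rone, ci_one]
    rfl
  | mul a c _ _ iha ihc =>
    intro k j
    rw [rmul, ihc, iha, ci_mul]
    rfl
  | inv a _ iha =>
    intro k j
    have h1 := iha ((a⁻¹).1.1 k) (ci a⁻¹ j)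
    have h2 : a.1.1 ((a⁻¹).1.1 k) = k := a.1.1.apply_symm_apply k
    rw [h2, ci_inv] at h1
    rw [← h1, rinv]

/-- the dual representation -/
def dual (ρ : Γ →* Module.End F V) : Γ →* Module.End F (Module.Dual F V) where
  toFun g := (ρ g⁻¹).dualMap
  map_one' := by
    ext f v
    rw [LinearMap.dualMap_apply, inv_one, rone]
    rfl
  map_mul' a c := by
    ext f v
    rw [LinearMap.dualMap_apply, mul_inv_rev, rmul]
    rfl

theorem dual_apply (g : Γ) (f : Module.Dual F V) (v : V) : dual ρ g f v = f (ρ g⁻¹ v) := rfl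

theorem Odd12.dual (H : Odd12 ρ) : Odd12 ((Mt.dual ρ :)) where
  two := H.two
  dim := by rw [Subspace.dual_finrank_eq, H.dim]
  ns := by
    intro g hg c hc
    have h1 : ρ g⁻¹ = c • (1 : Module.End F V) := by
      apply LinearMap.ext
      intro v
      have h2 : ∀ f : Module.Dual F V, f (ρ g⁻¹ v - c • v) = 0 := by
        intro f
        have h3 : Mt.dual ρ g f v = (c • (1 : Module.End F (Module.Dual F V))) f v := by rw [hc]
        rw [dual_apply] at h3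
        rw [map_sub, h3, map_smul]
        exact sub_self _
      have h4 := (Module.forall_dual_apply_eq_zero_iff F _).1 h2
      rw [sub_eq_zero] at h4
      exact h4
    exact H.ns g⁻¹ (by rwa [map_inv, ne_eq, inv_eq_one]) c h1

theorem Irr.neg_dual (hI : Irr ρ) : Mt.dual ρ neg = 1 ∨ Mt.dual ρ neg = -1 := by
  have hn : neg⁻¹ = neg := by rw [inv_eq_iff_mul_eq_one, neg_mul_neg']
  rcases neg_cases hI with h | h
  · left
    ext f v
    rw [dual_apply, hn, h]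
    rfl
  · right
    ext f v
    rw [dual_apply, hn, h]
    change f (-v) = -(f v)
    rw [map_neg]

/-- **A vector fixed by `K`.** -/
theorem Odd12.exists_fixK (H : Odd12 ρ) (hn : ρ neg = 1 ∨ ρ neg = -1) : ∃ v : V, v ≠ 0 ∧ FixK ρ v := by
  have n8 := H.n8 hn
  have hs := H.sum_t
  have h1 := H.two_mul_u
  have hu : finrank F (es (ρ gu) 1) = 8 := by rw [← es_conj ρ htu_rel, n8]
  have hc : finrank F (es (ρ gc) 1) = 8 := by rw [← es_conj ρ htc_rel, n8]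
  have h2 := H.sp (es (ρ gu) 1) (ρ gt) (fun v hv => by
    rw [mem_es_one] at hv ⊢
    rw [req ρ ut, hv]) (fun v _ => H.T_T v)
  rw [inf_comm (es (ρ gu) 1) (es (ρ gt) (-1))] at h2
  obtain ⟨v, hv, hv0⟩ := exists_inf (U := es (ρ gu) 1 ⊓ es (ρ gt) 1) (U' := es (ρ gc) 1) (by rw [H.dim]; omega)
  exact ⟨v, hv0, mem_es_one.1 hv.1.2, mem_es_one.1 hv.1.1, mem_es_one.1 hv.2⟩

/-- a functional fixed by `K` -/
theorem Odd12.exists_functional (H : Odd12 ρ) (hI : Irr ρ) :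
    ∃ f : Module.Dual F V, f ≠ 0 ∧ (∀ v, f (ρ gt v) = f v) ∧ (∀ v, f (ρ gu v) = f v) ∧ ∀ v, f (ρ gc v) = f v := by
  obtain ⟨f, hf0, hf⟩ := H.dual.exists_fixK hI.neg_dual
  have key : ∀ g, Mt.dual ρ g f = f → ∀ v, f (ρ g v) = f v := by
    intro g hg v
    nth_rewrite 1 [← hg]
    rw [dual_apply, rinv]
  exact ⟨f, hf0, key _ hf.t, key _ hf.u, key _ hf.c⟩

end rep

end Cfsg.Agent.H932.Mt
end

-- part: H932/MtThree
section
/-!
# Characteristic three: `2.M₁₂` has no irreducible representation of dimension 12 (helper932)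

* `no_fix_three` : no vector is fixed by `x`, `t`, `c`;
* `no_fix_three'` : no vector is fixed by the stabiliser of a column.
-/

set_option autoImplicit false
set_option linter.unusedSectionVars false

namespace Cfsg.Agent.H932.Mt

open Module

variable {F V : Type*} [Field F] [AddCommGroup V] [Module F V] [FiniteDimensional F V]
variable {ρ : Γ →* Module.End F V} {v0 : V}

/-- `ρ(-1) = 1` and a vector fixed by `x, t, c` -/
theorem not_fix_pos (h2 : (2 : F) ≠ 0) (hd : finrank F V = 12) (hI : Irr ρ) (hn : ρ neg = 1) (hv0 : v0 ≠ 0)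
    (hX : ρ gX v0 = v0) (hT : ρ gt v0 = v0) (hC : ρ gc v0 = v0) : False := by
  have hli := linInd hI hd hv0 (Or.inl hn) hX hT hC
  have hng : ∀ k, vec ρ v0 (ng k) = vec ρ v0 k := by
    intro k
    rw [vec_ng, hn]
    rfl
  have hidx : ∀ k, vec ρ v0 k = vec ρ v0 (pos (idx k)) := by
    intro k
    rcases eq_pos_or k with hk | hk
    · rw [← hk]
    · nth_rewrite 1 [hk]
      rw [hng]
  set w : V := ∑ k, vec ρ v0 k with hw
  have hw0 : w ≠ 0 := by
    intro h0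
    have h1 : ∑ k : Fin 24, vec ρ v0 k = ∑ i : Fin 12, (2 : F) • vec ρ v0 (pos i) := by
      rw [← Finset.sum_fiberwise Finset.univ idx]
      apply Finset.sum_congr rfl
      intro i _
      have h2 : ∀ k ∈ Finset.univ.filter (fun k : Fin 24 => idx k = i), vec ρ v0 k = vec ρ v0 (pos i) := by
        intro k hk
        rw [hidx k, (Finset.mem_filter.1 hk).2]
      rw [Finset.sum_congr rfl h2, Finset.sum_const, card_fib i, two_smul, two_smul]
    rw [hw, h1] at h0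
    have h4 := Fintype.linearIndependent_iff.1 hli (fun _ => 2) h0 0
    exact h2 h4
  have hinv : ∀ g, ρ g w = w := by
    intro g
    rw [hw, map_sum]
    simp only [act hX hT hC]
    exact Equiv.sum_comp g.1.1 (vec ρ v0)
  rcases hI (Submodule.span F {w}) (by
    intro g v hv
    obtain ⟨a, rfl⟩ := Submodule.mem_span_singleton.1 hv
    rw [map_smul, hinv]
    exact Submodule.mem_span_singleton.2 ⟨a, rfl⟩) with h | h
  · rw [Submodule.span_singleton_eq_bot] at h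
    exact hw0 h
  · have h5 := finrank_span_singleton (K := F) hw0
    rw [h, finrank_top, hd] at h5
    norm_num at h5

/-- characteristic 3: no vector is fixed by `x`, `t`, `c` -/
theorem no_fix_three (h2 : (2 : F) ≠ 0) (h3 : (3 : F) = 0) (hd : finrank F V = 12) (hI : Irr ρ) (hv0 : v0 ≠ 0)
    (hX : ρ gX v0 = v0) (hT : ρ gt v0 = v0) (hC : ρ gc v0 = v0) : False := by
  rcases neg_cases hI with hn | hn
  · exact not_fix_pos h2 hd hI hn hv0 hX hT hC
  · have hli := linInd hI hd hv0 (Or.inr hn) hX hT hC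
    have hsp := span_top hI hv0 (Or.inr hn) hX hT hC
    set b : Basis (Fin 12) F V := Basis.mk hli hsp.ge with hb
    have hbi : ∀ i, b i = vec ρ v0 (pos i) := fun i => Basis.mk_apply _ _ _
    let A : Module.End F V := b.constr F (fun i => ∑ k, ((Hm k i : ℤ) : F) • b k)
    have hA : ∀ i, A (b i) = ∑ k, ((Hm k i : ℤ) : F) • b k := fun i => b.constr_basis F _ i
    have hvng : ∀ k, vec ρ v0 (ng k) = -vec ρ v0 k := by
      intro k
      rw [vec_ng, hn]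
      rfl
    have hvk : ∀ k, vec ρ v0 k = ((sgn k : ℤ) : F) • b (idx k) := by
      intro k
      rcases eq_pos_or k with hk | hk
      · rw [hk, sgn_pos, idx_pos, hbi, Int.cast_one, one_smul]
      · rw [hk, sgn_ng, idx_ng, sgn_pos, idx_pos, hbi, hvng, Int.cast_neg, Int.cast_one, neg_one_smul]
    have hAv : ∀ k, (2 : F) • A (vec ρ v0 k) = ∑ l, ((Hh k l : ℤ) : F) • vec ρ v0 l := by
      intro k
      have h1 : ∀ l, ((Hh k l : ℤ) : F) • vec ρ v0 l = ((Hh k (pos (idx l)) : ℤ) : F) • vec ρ v0 (pos (idx l)) := by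
        intro l
        rw [hvk l, hvk (pos (idx l))]
        unfold Hh
        rw [sgn_pos, idx_pos, Int.cast_one, one_smul, mul_one, smul_smul]
        congr 1
        rw [← Int.cast_mul]
        congr 1
        rcases sgn_cases l with h | h <;> rw [h] <;> ring
      have h4 : ∑ l, ((Hh k l : ℤ) : F) • vec ρ v0 l = ∑ i : Fin 12, (2 : F) • (((Hh k (pos i) : ℤ) : F) • vec ρ v0 (pos i)) := by
        rw [← Finset.sum_fiberwise Finset.univ idx]
        apply Finset.sum_congr rfl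
        intro i _
        have h5 : ∀ l ∈ Finset.univ.filter (fun l : Fin 24 => idx l = i),
            ((Hh k l : ℤ) : F) • vec ρ v0 l = ((Hh k (pos i) : ℤ) : F) • vec ρ v0 (pos i) := by
          intro l hl
          rw [h1 l, (Finset.mem_filter.1 hl).2]
        rw [Finset.sum_congr rfl h5, Finset.sum_const, card_fib i, two_smul, two_smul]
      rw [h4, ← Finset.smul_sum]
      congr 1
      rw [hvk k, map_smul, hA, Finset.smul_sum]
      apply Finset.sum_congr rfl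
      intro i _
      rw [← hbi]
      unfold Hh
      rw [sgn_pos, idx_pos, mul_one, Hm_symm i (idx k), smul_smul, Int.cast_mul]
    have hcomm : ∀ g v, A (ρ g v) = ρ (out g) (A v) := by
      intro g
      have h1 : A ∘ₗ ρ g = ρ (out g) ∘ₗ A := by
        apply b.ext
        intro i
        apply smul_right_injective V h2
        change (2 : F) • A (ρ g (b i)) = (2 : F) • ρ (out g) (A (b i))
        rw [hbi, act hX hT hC, hAv, ← map_smul, hAv, map_sum]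
        simp only [map_smul, act hX hT hC]
        rw [← Equiv.sum_comp (out g).1.1]
        apply Finset.sum_congr rfl
        intro l _
        rw [inter_out g]
      intro v
      exact LinearMap.congr_fun h1 v
    have hAA : ∀ v, A (A v) = 0 := by
      have h1 : A ∘ₗ A = 0 := by
        apply b.ext
        intro i
        change A (A (b i)) = 0
        rw [hA, map_sum]
        simp only [map_smul, hA, Finset.smul_sum, smul_smul]
        rw [Finset.sum_comm]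
        simp only [← Finset.sum_smul]
        apply Finset.sum_eq_zero
        intro l _
        have h4 : (∑ k, ((Hm k i : ℤ) : F) * ((Hm l k : ℤ) : F)) = ((∑ k, Hm l k * Hm k i : ℤ) : F) := by
          rw [Int.cast_sum]
          apply Finset.sum_congr rfl
          intro k _
          rw [Int.cast_mul, mul_comm]
        rw [h4, Hm_orth]
        have h12 : ((12 : ℤ) : F) = 0 := by
          have : ((12 : ℤ) : F) = 4 * 3 := by norm_num
          rw [this, h3, mul_zero]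
        split_ifs
        · rw [h12, zero_smul]
        · rw [Int.cast_zero, zero_smul]
      intro v
      exact LinearMap.congr_fun h1 v
    have hA0 : A (b 0) ≠ 0 := by
      intro h0
      rw [hA] at h0
      have h4 := Fintype.linearIndependent_iff.1 b.linearIndependent _ h0 0
      have h5 : Hm 0 0 = 1 := by decide +kernel
      rw [h5, Int.cast_one] at h4
      exact one_ne_zero h4
    rcases hI (LinearMap.ker A) (by
      intro g v hv
      rw [LinearMap.mem_ker] at hv ⊢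
      rw [hcomm, hv, map_zero]) with h | h
    · have h4 : A (b 0) ∈ LinearMap.ker A := hAA _
      rw [h] at h4
      exact hA0 h4
    · have h4 : b 0 ∈ LinearMap.ker A := by rw [h]; trivial
      exact hA0 h4

/-- the representation twisted by the outer automorphism -/
noncomputable def tw (ρ : Γ →* Module.End F V) : Γ →* Module.End F V := ρ.comp out

theorem Irr.tw (hI : Irr ρ) : Irr (Mt.tw ρ) := by
  intro W hW
  apply hI W
  intro g v hv
  have h1 := hW (out g) v hv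
  have h2 : Mt.tw ρ (out g) = ρ g := by
    change ρ (out (out g)) = ρ g
    rw [out_out]
  rwa [h2] at h1

/-- no vector is fixed by the column stabiliser -/
theorem no_fix_three' (h2 : (2 : F) ≠ 0) (h3 : (3 : F) = 0) (hd : finrank F V = 12) (hI : Irr ρ) {w : V}
    (hw : ∀ g, (out g).1.1 (pos 0) = pos 0 → ρ g w = w) : w = 0 := by
  by_contra hw0
  apply no_fix_three (ρ := Mt.tw ρ) h2 h3 hd hI.tw hw0
  · change ρ (out gX) w = w
    exact hw _ (by rw [out_out]; exact fix_pos0.1)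
  · change ρ (out gt) w = w
    exact hw _ (by rw [out_out]; exact fix_pos0.2.1)
  · change ρ (out gc) w = w
    exact hw _ (by rw [out_out]; exact fix_pos0.2.2.1)

theorem no_fix_three'' (h2 : (2 : F) ≠ 0) (h3 : (3 : F) = 0) (hd : finrank F V = 12) (hI : Irr ρ) {w : V}
    (hw : ∀ g, g.1.1 (pos 0) = pos 0 → ρ g w = w) : w = 0 := by
  by_contra hw0
  exact no_fix_three h2 h3 hd hI hw0 (hw _ fix_pos0.1) (hw _ fix_pos0.2.1) (hw _ fix_pos0.2.2.1)

end Cfsg.Agent.H932.Mt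
end

-- part: H932/MtThreeF
section
/-!
# Characteristic three: `2.M₁₂` has no irreducible representation of dimension 12, end (helper932)

* `Odd12.three_false`.
-/

set_option autoImplicit false
set_option linter.unusedSectionVars false

namespace Cfsg.Agent.H932.Mt

open Module

/-- the partners of the words in the generators -/
def evO : List ℕ → Γ
  | [] => 1
  | 0 :: w => oX * evO w
  | 1 :: w => oY * evO w
  | 2 :: w => oX⁻¹ * evO w
  | _ :: w => oY⁻¹ * evO w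

theorem el_c0 (w : List ℕ) : el (0 :: w) = el [0] * el w := Subtype.ext (by
  change gx * ev w = (gx * 1) * ev w
  rw [mul_one])
theorem el_c1 (w : List ℕ) : el (1 :: w) = el [1] * el w := Subtype.ext (by
  change gy * ev w = (gy * 1) * ev w
  rw [mul_one])
theorem el_c2 (w : List ℕ) : el (2 :: w) = (el [0])⁻¹ * el w := Subtype.ext (by
  change gx⁻¹ * ev w = (gx * 1)⁻¹ * ev w
  rw [mul_one])
theorem el_c3 (n : ℕ) (w : List ℕ) : el ((n + 3) :: w) = (el [1])⁻¹ * el w := Subtype.ext (by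
  change gy⁻¹ * ev w = (gy * 1)⁻¹ * ev w
  rw [mul_one])

theorem evO_eq (w : List ℕ) : out (el w) = evO w := by
  induction w with
  | nil => exact map_one out
  | cons a w ih =>
    rcases a with _ | _ | _ | a
    · have h2 : evO (0 :: w) = oX * evO w := by with_unfolding_all rfl
      rw [el_c0, h2, map_mul, ih, out_eq inter_oX]
    · have h2 : evO (1 :: w) = oY * evO w := by with_unfolding_all rfl
      rw [el_c1, h2, map_mul, ih, out_eq inter_oY]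
    · have h2 : evO (2 :: w) = oX⁻¹ * evO w := by with_unfolding_all rfl
      rw [el_c2, h2, map_mul, ih, map_inv, out_eq inter_oX]
    · have h2 : evO ((a + 3) :: w) = oY⁻¹ * evO w := by with_unfolding_all rfl
      rw [el_c3, h2, map_mul, ih, map_inv, out_eq inter_oY]

theorem evO_tab : ∀ i j : Fin 12, idx ((evO (gt2 [] trp i j)).1.1 (pos 0)) = j := by decide +kernel

theorem ci_rp2 (i j : Fin 12) : ci (rp2 i j) 0 = j := by
  unfold ci rp2
  rw [evO_eq]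
  exact evO_tab i j

/-- the invariant of two pairs -/
def PP (a b c d : Fin 24) : ℤ := Hh a b * Hh c b * (Hh a d * Hh c d)

theorem PP_inv (g : Γ) (a b c d : Fin 24) :
    PP (g.1.1 a) ((out g).1.1 b) (g.1.1 c) ((out g).1.1 d) = PP a b c d := by
  unfold PP
  rw [inter_out g, inter_out g, inter_out g, inter_out g]

theorem sgn_sq (k : Fin 24) : sgn k * sgn k = 1 := by
  rcases sgn_cases k with h | h <;> rw [h] <;> norm_num

theorem PP_idx (a b c d : Fin 24) : PP a b c d = Hm (idx a) (idx b) * Hm (idx c) (idx b) * (Hm (idx a) (idx d) * Hm (idx c) (idx d)) := by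
  unfold PP Hh
  linear_combination (Hm (idx a) (idx b) * Hm (idx c) (idx b) * (Hm (idx a) (idx d) * Hm (idx c) (idx d))) *
    ((sgn b * sgn b * (sgn c * sgn c) * (sgn d * sgn d)) * sgn_sq a + (sgn c * sgn c * (sgn d * sgn d)) * sgn_sq b
      + (sgn d * sgn d) * sgn_sq c + sgn_sq d)

/-- the pairs of the rank argument -/
def cp (n : Fin 13) : ℕ × ℕ := tcol.getD n (0, 0)
/-- the pairs of the rank argument -/
def rwp (n : Fin 13) : ℕ × ℕ := trow.getD n (0, 0)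
/-- row index -/
def f12 (n : ℕ) : Fin 12 := ⟨n % 12, Nat.mod_lt _ (by norm_num)⟩
/-- the matrix of the rank argument -/
def MM (m n : Fin 13) : ℤ :=
  PP (pos (f12 (rwp m).1)) (pos (f12 (rwp m).2)) (pos (f12 (cp n).1)) (pos (f12 (cp n).2))
    - PP (pos (f12 (rwp m).1)) (pos (f12 (rwp m).2)) (pos 0) (pos 0)
/-- its inverse modulo 3 -/
def NN (m n : Fin 13) : ℤ := gt2 0 tinv m n

private noncomputable def _root_.Cfsg.Agent.LsF.f8281bc_14 : {f // @Cfsg.Agent.H932.Mt.NN = f} := ⟨_, by first | (delta Cfsg.Agent.H932.Mt.NN; rewrite [Cfsg.Agent.LsF.f8281bc_7.2]; exact rfl) | exact rfl⟩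
private noncomputable def _root_.Cfsg.Agent.LsF.f8281bc_15 : {f // @Cfsg.Agent.H932.Mt.PP = f} := ⟨_, by first | (delta Cfsg.Agent.H932.Mt.PP; rewrite [Cfsg.Agent.LsF.f8281bc_2.2, Cfsg.Agent.LsF.imul_pat]; exact rfl) | exact rfl⟩
private noncomputable def _root_.Cfsg.Agent.LsF.f8281bc_16 : {f // @Cfsg.Agent.H932.Mt.rwp = f} := ⟨_, by first | (delta Cfsg.Agent.H932.Mt.rwp; rewrite [Cfsg.Agent.LsF.getD_eq]; exact rfl) | exact rfl⟩
private noncomputable def _root_.Cfsg.Agent.LsF.f8281bc_17 : {f // @Cfsg.Agent.H932.Mt.cp = f} := ⟨_, by first | (delta Cfsg.Agent.H932.Mt.cp; rewrite [Cfsg.Agent.LsF.getD_eq]; exact rfl) | exact rfl⟩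
private noncomputable def _root_.Cfsg.Agent.LsF.f8281bc_18 : {f // @Cfsg.Agent.H932.Mt.MM = f} := ⟨_, by first | (delta Cfsg.Agent.H932.Mt.MM; rewrite [Cfsg.Agent.LsF.f8281bc_15.2, Cfsg.Agent.LsF.f8281bc_16.2, Cfsg.Agent.LsF.f8281bc_17.2, Cfsg.Agent.LsF.isub_pat]; exact rfl) | exact rfl⟩
theorem NM : ∀ m n : Fin 13, (∑ q, NN m q * MM q n) % 3 = if m = n then 1 else 0 := by (refine of_decide_eq_true ?_; (try (rewrite [Cfsg.Agent.LsF.f8281bc_14.2, Cfsg.Agent.LsF.f8281bc_18.2, Cfsg.Agent.LsF.imul_pat, Cfsg.Agent.LsF.imod_pat, Cfsg.Agent.LsF.finFintype_eq, Cfsg.Agent.LsF.fsum_eq, Cfsg.Agent.LsF.iACM_eq, Cfsg.Agent.LsF.instIDecEq_eq, Cfsg.Agent.LsF.dFinEq_eq, Cfsg.Agent.LsF.dForallFin_eq, Cfsg.Agent.LsF.ite_eq, Cfsg.Agent.LsF.decide_eq])); decide +kernel)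

variable {F V : Type*} [Field F] [AddCommGroup V] [Module F V] [FiniteDimensional F V]
variable {ρ : Γ →* Module.End F V} {v : V}

/-- the column permutation -/
noncomputable def cip (g : Γ) : Equiv.Perm (Fin 12) where
  toFun := ci g
  invFun := ci g⁻¹
  left_inv j := by rw [← ci_mul, inv_mul_cancel, ci_one]
  right_inv j := ci_inv g j

theorem row_sum (hK : FixK ρ v) (g : Γ) (k : Fin 24) :
    ρ g (∑ j, vs ρ v k j) = ∑ j, vs ρ v (g.1.1 k) j := by
  rw [map_sum]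
  simp only [act2 hK]
  exact Equiv.sum_comp (cip g) (fun j => vs ρ v (g.1.1 k) j)

/-- the sum over a column -/
def Tc (ρ : Γ →* Module.End F V) (v : V) (l : Fin 24) : V := ∑ k, if Hh k l = 1 then vs ρ v k (idx l) else 0

theorem col_sum (hK : FixK ρ v) (g : Γ) (l : Fin 24) : ρ g (Tc ρ v l) = Tc ρ v ((out g).1.1 l) := by
  unfold Tc
  rw [map_sum, ← Equiv.sum_comp g.1.1 (fun k => if Hh k ((out g).1.1 l) = 1 then vs ρ v k (idx ((out g).1.1 l)) else 0)]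
  apply Finset.sum_congr rfl
  intro k _
  rw [inter_out g]
  split_ifs
  · rw [act2 hK, ci_idx]
  · exact map_zero _

theorem sum24 {M : Type*} [AddCommMonoid M] (f : Fin 24 → M) :
    ∑ k, f k = ∑ i : Fin 12, (f (pos i) + f (ng (pos i))) := by
  rw [← Finset.sum_fiberwise Finset.univ idx]
  apply Finset.sum_congr rfl
  intro i _
  have h1 : Finset.univ.filter (fun k : Fin 24 => idx k = i) = {pos i, ng (pos i)} := by
    ext k
    simp only [Finset.mem_filter, Finset.mem_univ, true_and, Finset.mem_insert, Finset.mem_singleton]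
    constructor
    · rintro rfl
      exact eq_pos_or k
    · rintro (rfl | rfl)
      · exact idx_pos i
      · rw [idx_ng, idx_pos]
  rw [h1, Finset.sum_pair]
  intro h
  have h2 := congrArg sgn h
  rw [sgn_ng, sgn_pos] at h2
  norm_num at h2

theorem sum_ty (R : Fin 5 → F) (c : Fin 12 → ℤ) (τ : Fin 12 → Fin 5) :
    ∑ j, ((c j : ℤ) : F) * R (τ j) = ∑ t, ((∑ j, if τ j = t then c j else 0 : ℤ) : F) * R t := by
  simp only [Int.cast_sum, Finset.sum_mul]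
  rw [Finset.sum_comm]
  apply Finset.sum_congr rfl
  intro j _
  rw [Finset.sum_eq_single (τ j)]
  · rw [if_pos rfl]
  · intro t _ ht
    rw [if_neg (fun h => ht h.symm), Int.cast_zero, zero_mul]
  · intro h
    exact absurd (Finset.mem_univ _) h

theorem co_row0 : ∀ t : Fin 5, (∑ j, if ty 0 j = t then sn 0 j else 0) = if t = 0 then 1 else if t = 1 then 11 else 0 := by
  decide +kernel
theorem co_row1 : ∀ t : Fin 5, (∑ j, if ty 1 j = t then sn 1 j else 0)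
    = if t = 2 then 1 else if t = 3 then 5 else if t = 4 then 6 else 0 := by decide +kernel
theorem co_col0 : ∀ t : Fin 5, (∑ i, if ty i 0 = t then Hm i 0 * sn i 0 else 0)
    = if t = 0 then 1 else if t = 2 then 11 else 0 := by decide +kernel
theorem co_col1 : ∀ t : Fin 5, (∑ i, if ty i 1 = t then Hm i 1 * sn i 1 else 0)
    = if t = 1 then 1 else if t = 3 then 5 else if t = 4 then -6 else 0 := by decide +kernel
theorem co_row0' : ∀ t : Fin 5, (∑ j, if ty 0 j = t then (1 : ℤ) else 0) = if t = 0 then 1 else if t = 1 then 11 else 0 := by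
  decide +kernel
theorem co_row1' : ∀ t : Fin 5, (∑ j, if ty 1 j = t then (1 : ℤ) else 0)
    = if t = 2 then 1 else if t = 3 then 5 else if t = 4 then 6 else 0 := by decide +kernel
theorem co_col0' : ∀ t : Fin 5, (∑ i, if ty i 0 = t then (1 : ℤ) else 0)
    = if t = 0 then 1 else if t = 2 then 11 else 0 := by decide +kernel
theorem co_col1' : ∀ t : Fin 5, (∑ i, if ty i 1 = t then (1 : ℤ) else 0)
    = if t = 1 then 1 else if t = 3 then 5 else if t = 4 then 6 else 0 := by decide +kernel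

/-- the data of the argument -/
structure Dat (ρ : Γ →* Module.End F V) (v : V) (φ : Module.Dual F V) : Prop where
  two : (2 : F) ≠ 0
  three : (3 : F) = 0
  dim : finrank F V = 12
  irr : Irr ρ
  v0 : v ≠ 0
  φ0 : φ ≠ 0
  fix : FixK ρ v
  ft : ∀ w, φ (ρ gt w) = φ w
  fu : ∀ w, φ (ρ gu w) = φ w
  fc : ∀ w, φ (ρ gc w) = φ w

namespace Dat

variable {φ : Module.Dual F V} (D : Dat ρ v φ)
include D

theorem sep {w : V} (hw : ∀ g, φ (ρ g w) = 0) : w = 0 := by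
  let W : Submodule F V :=
    { carrier := {w | ∀ g, φ (ρ g w) = 0}
      add_mem' := fun {a b} ha hb g => by rw [map_add, map_add, ha, hb, add_zero]
      zero_mem' := fun g => by rw [map_zero, map_zero]
      smul_mem' := fun c a ha g => by rw [map_smul, map_smul, ha, smul_zero] }
  rcases D.irr W (by
    intro g a ha h
    rw [← rmul]
    exact ha _) with h | h
  · have h1 : w ∈ W := hw
    rw [h] at h1
    exact h1
  · exfalso
    apply D.φ0
    apply LinearMap.ext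
    intro a
    have h1 : a ∈ W := by rw [h]; trivial
    have h2 := h1 1
    rw [rone] at h2
    exact h2

theorem fK (w : List ℕ) (x : V) : φ (ρ (evK w) x) = φ x := by
  induction w with
  | nil =>
    have h1 : evK [] = 1 := by with_unfolding_all rfl
    rw [h1, rone]
  | cons a w ih =>
    rcases a with _ | _ | a
    · have h1 : evK (0 :: w) = gt * evK w := by with_unfolding_all rfl
      rw [h1, rmul, D.ft, ih]
    · have h1 : evK (1 :: w) = gu * evK w := by with_unfolding_all rfl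
      rw [h1, rmul, D.fu, ih]
    · have h1 : evK ((a + 2) :: w) = gc * evK w := by with_unfolding_all rfl
      rw [h1, rmul, D.fc, ih]

theorem root (k j : Fin 12) : φ (vs ρ v (pos k) j)
    = φ (vs ρ v (if sn k j = 1 then pos (rr (ty k j)) else ng (pos (rr (ty k j)))) (rc (ty k j))) := by
  rw [← D.fK (gt2 [] tkw k j), act2 D.fix, (orb_tab k j).1]
  congr 2
  unfold ci
  rw [evK_eq]
  exact (orb_tab k j).2

theorem row0 : ∑ j, vs ρ v (pos 0) j = 0 := by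
  apply no_fix_three'' D.two D.three D.dim D.irr
  intro g hg
  rw [row_sum D.fix, hg]

theorem row1 : ∑ j, vs ρ v (pos 1) j = 0 := by
  have h1 := row_sum D.fix (rep 1) (pos 0)
  rw [D.row0, map_zero, rep_apply] at h1
  exact h1.symm

theorem col0 : Tc ρ v (pos 0) = 0 := by
  apply no_fix_three' D.two D.three D.dim D.irr
  intro g hg
  rw [col_sum D.fix, hg]

theorem col1 : Tc ρ v (pos 1) = 0 := by
  have h1 := col_sum D.fix (out (rep 1)) (pos 0)
  rw [D.col0, map_zero, out_out, rep_apply] at h1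
  exact h1.symm

/-- the values at the representatives -/
def R (_ : Dat ρ v φ) (t : Fin 5) : F := φ (vs ρ v (pos (rr t)) (rc t))

omit D in
theorem Hh_pos (i j : Fin 12) : Hh (pos i) (pos j) = Hm i j := by
  unfold Hh
  rw [sgn_pos, sgn_pos, idx_pos, idx_pos, one_mul, one_mul]

omit D in
theorem Hh_ngpos (i j : Fin 12) : Hh (ng (pos i)) (pos j) = -Hm i j := by
  unfold Hh
  rw [sgn_ng, idx_ng, sgn_pos, sgn_pos, idx_pos, idx_pos]
  ring

omit D in
theorem Tc_neg (hn : ρ neg = -1) (j : Fin 12) :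
    φ (Tc ρ v (pos j)) = ∑ i, ((Hm i j : ℤ) : F) * φ (vs ρ v (pos i) j) := by
  unfold Tc
  rw [map_sum, sum24]
  apply Finset.sum_congr rfl
  intro i _
  rw [Hh_pos, Hh_ngpos, idx_pos, vs_ng, hn]
  rcases Hm_sq i j with h | h <;> rw [h]
  · rw [if_pos rfl, if_neg (by norm_num), map_zero, add_zero, Int.cast_one, one_mul]
  · rw [if_neg (by norm_num), if_pos (by norm_num), map_zero, zero_add, Int.cast_neg, Int.cast_one, neg_one_mul]
    change φ (-(vs ρ v (pos i) j)) = _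
    rw [map_neg]

omit D in
theorem Tc_pos (hn : ρ neg = 1) (j : Fin 12) : φ (Tc ρ v (pos j)) = ∑ i, φ (vs ρ v (pos i) j) := by
  unfold Tc
  rw [map_sum, sum24]
  apply Finset.sum_congr rfl
  intro i _
  rw [Hh_pos, Hh_ngpos, idx_pos, vs_ng, hn]
  rcases Hm_sq i j with h | h <;> rw [h]
  · rw [if_pos rfl, if_neg (by norm_num), map_zero, add_zero]
  · rw [if_neg (by norm_num), if_pos (by norm_num), map_zero, zero_add]
    rfl

/-- the case `ρ(-1) = -1` : values -/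
theorem val_neg (hn : ρ neg = -1) (k j : Fin 12) : φ (vs ρ v (pos k) j) = ((sn k j : ℤ) : F) * D.R (ty k j) := by
  rw [D.root]
  unfold R
  rcases sn_cases k j with h | h <;> rw [h]
  · rw [if_pos rfl, Int.cast_one, one_mul]
  · rw [if_neg (by norm_num), vs_ng, hn, Int.cast_neg, Int.cast_one, neg_one_mul, ← map_neg]
    rfl

/-- the case `ρ(-1) = 1` : values -/
theorem val_pos (hn : ρ neg = 1) (k j : Fin 12) : φ (vs ρ v (pos k) j) = D.R (ty k j) := by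
  rw [D.root]
  unfold R
  rcases sn_cases k j with h | h <;> rw [h]
  · rw [if_pos rfl]
  · rw [if_neg (by norm_num), vs_ng, hn]
    rfl

theorem eqs_neg (hn : ρ neg = -1) : D.R 1 = D.R 0 ∧ D.R 2 = D.R 0 ∧ D.R 3 = D.R 0 := by
  have e1 := congrArg φ D.row0
  have e2 := congrArg φ D.row1
  have e3 := congrArg φ D.col0
  have e4 := congrArg φ D.col1
  rw [map_sum, map_zero] at e1 e2
  rw [Tc_neg hn, map_zero] at e3 e4
  simp only [D.val_neg hn] at e1 e2 e3 e4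
  simp only [← mul_assoc, ← Int.cast_mul] at e3 e4
  rw [sum_ty D.R (fun j => sn 0 j) (fun j => ty 0 j)] at e1
  rw [sum_ty D.R (fun j => sn 1 j) (fun j => ty 1 j)] at e2
  rw [sum_ty D.R (fun i => Hm i 0 * sn i 0) (fun i => ty i 0)] at e3
  rw [sum_ty D.R (fun i => Hm i 1 * sn i 1) (fun i => ty i 1)] at e4
  simp only [co_row0, co_row1, co_col0, co_col1, Fin.sum_univ_five] at e1 e2 e3 e4
  norm_num only [Fin.ext_iff, _root_.zero_ne_one, _root_.ite_false, _root_.ite_true, _root_.Int.cast_one, _root_.one_mul, _root_.one_ne_zero, _root_.Int.cast_ofNat, _root_.Fin.coe_ofNat_eq_mod, _root_.OfNat.ofNat_ne_zero, _root_.OfNat.ofNat_ne_one, _root_.Int.cast_zero, _root_.MulZeroClass.zero_mul, _root_.add_zero, _root_.OfNat.zero_ne_ofNat, _root_.OfNat.one_ne_ofNat, _root_.zero_add, _root_.Nat.succ_ne_self, _root_.Int.cast_neg, _root_.neg_mul] at e1 e2 e3 e4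
  have h3 := D.three
  refine ⟨?_, ?_, ?_⟩
  · linear_combination 4 * D.R 1 * h3 - e1
  · linear_combination 4 * D.R 2 * h3 - e3
  · linear_combination (2 * D.R 3 - 2 * D.R 4 + 4 * D.R 1) * h3 - e4 - e1

theorem eqs_pos (hn : ρ neg = 1) : D.R 1 = D.R 0 ∧ D.R 2 = D.R 0 ∧ D.R 3 = D.R 0 := by
  have e1 := congrArg φ D.row0
  have e2 := congrArg φ D.row1
  have e3 := congrArg φ D.col0
  have e4 := congrArg φ D.col1
  rw [map_sum, map_zero] at e1 e2
  rw [Tc_pos hn, map_zero] at e3 e4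
  simp only [D.val_pos hn] at e1 e2 e3 e4
  have key : ∀ τ : Fin 12 → Fin 5, ∑ j, D.R (τ j) = ∑ t, ((∑ j, if τ j = t then (1 : ℤ) else 0 : ℤ) : F) * D.R t := by
    intro τ
    rw [← sum_ty D.R (fun _ => 1) τ]
    simp only [Int.cast_one, one_mul]
  rw [key] at e1 e2 e3 e4
  simp only [co_row0', co_row1', co_col0', co_col1', Fin.sum_univ_five] at e1 e2 e3 e4
  norm_num only [Fin.ext_iff, _root_.zero_ne_one, _root_.ite_false, _root_.ite_true, _root_.Int.cast_one, _root_.one_mul, _root_.one_ne_zero, _root_.Int.cast_ofNat, _root_.Fin.coe_ofNat_eq_mod, _root_.OfNat.ofNat_ne_zero, _root_.OfNat.ofNat_ne_one, _root_.Int.cast_zero, _root_.MulZeroClass.zero_mul, _root_.add_zero, _root_.OfNat.zero_ne_ofNat, _root_.OfNat.one_ne_ofNat, _root_.zero_add, _root_.Nat.succ_ne_self] at e1 e2 e3 e4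
  have h3 := D.three
  refine ⟨?_, ?_, ?_⟩
  · linear_combination 4 * D.R 1 * h3 - e1
  · linear_combination 4 * D.R 2 * h3 - e3
  · linear_combination (2 * D.R 3 + 2 * D.R 4 + 4 * D.R 1) * h3 - e4 - e1

end Dat

end Cfsg.Agent.H932.Mt
end

-- part: H932/MtThreeG
section
/-!
# Characteristic three: `2.M₁₂` has no irreducible representation of dimension 12, conclusion (helper932)

* `Odd12.three_false`.
-/

set_option autoImplicit false
set_option linter.unusedSectionVars false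

namespace Cfsg.Agent.H932.Mt

open Module

variable {F V : Type*} [Field F] [AddCommGroup V] [Module F V] [FiniteDimensional F V]
variable {ρ : Γ →* Module.End F V} {v : V}

theorem H00 : Hm 0 0 = 1 := by decide +kernel

theorem form_tab' : ∀ k j : Fin 12, Hm k 0 * (Hm 0 j * Hm k j) = if ty k j = 4 then -1 else 1 := by decide +kernel

namespace Dat

variable {φ : Module.Dual F V} (D : Dat ρ v φ)
include D

theorem R_cases (hR : D.R 1 = D.R 0 ∧ D.R 2 = D.R 0 ∧ D.R 3 = D.R 0) (t : Fin 5) :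
    D.R t = if t = 4 then D.R 4 else D.R 0 := by
  fin_cases t
  · rfl
  · exact hR.1
  · exact hR.2.1
  · exact hR.2.2
  · rfl

theorem form_neg (hn : ρ neg = -1) (k : Fin 24) (j : Fin 12) :
    2 * φ (vs ρ v k j) = (D.R 0 + D.R 4) * ((Hh k (pos 0) : ℤ) : F)
      + (D.R 0 - D.R 4) * ((sgn k * Hm (idx k) j * Hm 0 j : ℤ) : F) := by
  have key : ∀ i : Fin 12, 2 * φ (vs ρ v (pos i) j) = (D.R 0 + D.R 4) * ((Hm i 0 : ℤ) : F)
      + (D.R 0 - D.R 4) * ((Hm i j * Hm 0 j : ℤ) : F) := by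
    intro i
    rw [D.val_neg hn, D.R_cases (D.eqs_neg hn)]
    obtain ⟨h1, h2⟩ := form_tab i j
    have h1' := congrArg (fun z : ℤ => (z : F)) h1
    have h2' := congrArg (fun z : ℤ => (z : F)) h2
    simp only [Int.cast_add, Int.cast_sub] at h1' h2'
    split_ifs at h1' h2' ⊢ with h
    · rw [Int.cast_zero] at h1'
      rw [Int.cast_mul 2, Int.cast_ofNat] at h2'
      linear_combination -D.R 0 * h1' - D.R 4 * h2'
    · rw [Int.cast_zero] at h2'
      rw [Int.cast_mul 2, Int.cast_ofNat] at h1'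
      linear_combination -D.R 0 * h1' - D.R 4 * h2'
  rcases eq_pos_or k with hk | hk
  · rw [hk, key, Hh_pos, sgn_pos, idx_pos, one_mul]
  · rw [hk, Hh_ngpos, sgn_ng, sgn_pos, idx_ng, idx_pos, vs_ng, hn]
    have h3 : φ ((-1 : Module.End F V) (vs ρ v (pos (idx k)) j)) = -φ (vs ρ v (pos (idx k)) j) := by
      rw [← map_neg]
      rfl
    rw [h3]
    have h4 := key (idx k)
    push_cast at h4 ⊢
    linear_combination -h4

/-- the term of the second kind -/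
theorem bp_eq (g : Γ) (i j : Fin 12) :
    sgn (g.1.1 (pos i)) * Hm (idx (g.1.1 (pos i))) (ci g j) * Hm 0 (ci g j)
      = Hm i j * Hh (pos 0) ((out g).1.1 (pos j)) := by
  have h1 := inter_out g (pos i) (pos j)
  rw [Hh_pos] at h1
  rw [← h1]
  unfold Hh ci
  rw [sgn_pos, idx_pos]
  linear_combination -(sgn (g.1.1 (pos i)) * Hm (idx (g.1.1 (pos i))) (idx ((out g).1.1 (pos j))) *
    Hm 0 (idx ((out g).1.1 (pos j)))) * sgn_sq ((out g).1.1 (pos j))

theorem form_neg' (hn : ρ neg = -1) (g : Γ) (i j : Fin 12) :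
    2 * φ (ρ g (vs ρ v (pos i) j)) = (D.R 0 + D.R 4) * ((Hh (g.1.1 (pos i)) (pos 0) : ℤ) : F)
      + (D.R 0 - D.R 4) * ((Hm i j * Hh (pos 0) ((out g).1.1 (pos j)) : ℤ) : F) := by
  rw [act2 D.fix, D.form_neg hn, D.bp_eq]

theorem A_zero (hn : ρ neg = -1) : D.R 0 + D.R 4 = 0 := by
  set w : V := vs ρ v (pos 0) 0 + vs ρ v (pos 0) 2 - vs ρ v (pos 1) 0 + vs ρ v (pos 1) 2 with hw
  have key : ∀ g, 2 * φ (ρ g w) = 2 * ((D.R 0 + D.R 4) * ((Hh (g.1.1 (pos 0)) (pos 0) : ℤ) : F)) := by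
    intro g
    have e1 := D.form_neg' hn g 0 0
    have e2 := D.form_neg' hn g 0 2
    have e3 := D.form_neg' hn g 1 0
    have e4 := D.form_neg' hn g 1 2
    have h1 : Hm 0 2 = -1 := by decide +kernel
    have h2 : Hm 1 0 = 1 := by decide +kernel
    have h3 : Hm 1 2 = 1 := by decide +kernel
    rw [H00] at e1
    rw [h1] at e2
    rw [h2] at e3
    rw [h3] at e4
    rw [hw, map_add, map_sub, map_add, map_add, map_sub, map_add]
    push_cast at e1 e2 e3 e4 ⊢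
    linear_combination e1 + e2 - e3 + e4
  have hfix : w = 0 := by
    apply no_fix_three'' D.two D.three D.dim D.irr
    intro h hh
    rw [← sub_eq_zero]
    apply D.sep
    intro g
    rw [map_sub, map_sub, sub_eq_zero, ← rmul]
    apply mul_left_cancel₀ D.two
    rw [key, key]
    have h1 : (g * h).1.1 (pos 0) = g.1.1 (h.1.1 (pos 0)) := rfl
    rw [h1, hh]
  have h1 := key 1
  rw [hfix, map_zero, map_zero, mul_zero] at h1
  have h2 : Hh ((1 : Γ).1.1 (pos 0)) (pos 0) = 1 := by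
    change Hh (pos 0) (pos 0) = 1
    rw [Hh_pos, H00]
  rw [h2, Int.cast_one, mul_one] at h1
  exact (mul_eq_zero.1 h1.symm).resolve_left D.two

theorem B_zero (hn : ρ neg = -1) : D.R 0 - D.R 4 = 0 := by
  set w : V := vs ρ v (pos 0) 0 + vs ρ v (pos 1) 0 - vs ρ v (pos 0) 2 - vs ρ v (pos 1) 2 with hw
  have key : ∀ g, 2 * φ (ρ g w) = 2 * ((D.R 0 - D.R 4) * ((Hh (pos 0) ((out g).1.1 (pos 0)) : ℤ) : F)) := by
    intro g
    have e1 := D.form_neg' hn g 0 0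
    have e2 := D.form_neg' hn g 0 2
    have e3 := D.form_neg' hn g 1 0
    have e4 := D.form_neg' hn g 1 2
    have h1 : Hm 0 2 = -1 := by decide +kernel
    have h2 : Hm 1 0 = 1 := by decide +kernel
    have h3 : Hm 1 2 = 1 := by decide +kernel
    rw [H00] at e1
    rw [h1] at e2
    rw [h2] at e3
    rw [h3] at e4
    rw [hw]
    simp only [map_sub, map_add]
    push_cast at e1 e2 e3 e4 ⊢
    linear_combination e1 - e2 + e3 - e4
  have hfix : w = 0 := by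
    apply no_fix_three' D.two D.three D.dim D.irr
    intro h hh
    rw [← sub_eq_zero]
    apply D.sep
    intro g
    rw [map_sub, map_sub, sub_eq_zero, ← rmul]
    apply mul_left_cancel₀ D.two
    rw [key, key, map_mul]
    have h1 : (out g * out h).1.1 (pos 0) = (out g).1.1 ((out h).1.1 (pos 0)) := rfl
    rw [h1, hh]
  have h1 := key 1
  rw [hfix, map_zero, map_zero, mul_zero] at h1
  have h2 : Hh (pos 0) ((out (1 : Γ)).1.1 (pos 0)) = 1 := by
    rw [map_one]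
    change Hh (pos 0) (pos 0) = 1
    rw [Hh_pos, H00]
  rw [h2, Int.cast_one, mul_one] at h1
  exact (mul_eq_zero.1 h1.symm).resolve_left D.two

theorem false_neg (hn : ρ neg = -1) : False := by
  apply D.v0
  apply D.sep
  intro g
  have h1 := D.form_neg' hn g 0 0
  rw [D.A_zero hn, D.B_zero hn, zero_mul, zero_mul, add_zero, vs_zero] at h1
  exact (mul_eq_zero.1 h1).resolve_left D.two

theorem form_pos (hn : ρ neg = 1) (k : Fin 24) (j : Fin 12) :
    2 * φ (vs ρ v k j) = (D.R 0 + D.R 4) + (D.R 0 - D.R 4) * ((PP (pos 0) (pos 0) k (pos j) : ℤ) : F) := by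
  have key : ∀ i : Fin 12, 2 * φ (vs ρ v (pos i) j) = (D.R 0 + D.R 4)
      + (D.R 0 - D.R 4) * ((Hm i 0 * (Hm 0 j * Hm i j) : ℤ) : F) := by
    intro i
    rw [D.val_pos hn, D.R_cases (D.eqs_pos hn), form_tab']
    split_ifs
    · push_cast
      ring
    · push_cast
      ring
  have h1 : φ (vs ρ v k j) = φ (vs ρ v (pos (idx k)) j) := by
    rcases eq_pos_or k with hk | hk
    · rw [← hk]
    · nth_rewrite 1 [hk]
      rw [vs_ng, hn]
      rfl
  rw [h1, key, PP_idx, idx_pos, idx_pos, H00, one_mul]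

theorem form_pos' (hn : ρ neg = 1) (i j k l : Fin 12) :
    2 * φ (ρ (rp2 i j)⁻¹ (vs ρ v (pos k) l)) = (D.R 0 + D.R 4)
      + (D.R 0 - D.R 4) * ((PP (pos i) (pos j) (pos k) (pos l) : ℤ) : F) := by
  rw [act2 D.fix, D.form_pos hn]
  congr 3
  rw [← PP_inv (rp2 i j)]
  have h1 : (rp2 i j).1.1 (((rp2 i j)⁻¹).1.1 (pos k)) = pos k := (rp2 i j).1.1.apply_symm_apply _
  rw [PP_idx, PP_idx, h1, rp2_apply, ← ci_idx, ← ci_idx, idx_pos, idx_pos, idx_pos, idx_pos, idx_pos, ci_rp2, ci_inv,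
    idx_pos]

theorem false_pos (hn : ρ neg = 1) : False := by
  by_cases hB : D.R 0 - D.R 4 = 0
  · apply D.v0
    apply no_fix_three'' D.two D.three D.dim D.irr
    intro h _
    rw [← sub_eq_zero]
    apply D.sep
    intro g
    rw [map_sub, map_sub, sub_eq_zero, ← rmul]
    apply mul_left_cancel₀ D.two
    have key : ∀ g, 2 * φ (ρ g v) = D.R 0 + D.R 4 := by
      intro g
      have h1 : ρ g v = vs ρ v (g.1.1 (pos 0)) (ci g 0) := by
        rw [← act2 D.fix, vs_zero]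
      rw [h1, D.form_pos hn, hB, zero_mul, add_zero]
    rw [key, key]
  · let Dn : Fin 13 → V := fun n => vs ρ v (pos (f12 (cp n).1)) (f12 (cp n).2) - vs ρ v (pos 0) 0
    have hM : ∀ q n, 2 * φ (ρ (rp2 (f12 (rwp q).1) (f12 (rwp q).2))⁻¹ (Dn n)) = (D.R 0 - D.R 4) * ((MM q n : ℤ) : F) := by
      intro q n
      change 2 * φ (ρ _ (_ - _)) = _
      rw [map_sub, map_sub, mul_sub, D.form_pos' hn, D.form_pos' hn]
      unfold MM
      push_cast
      ring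
    have hli : LinearIndependent F Dn := by
      rw [Fintype.linearIndependent_iff]
      intro a ha m
      have h1 : ∀ q, ∑ n, ((MM q n : ℤ) : F) * a n = 0 := by
        intro q
        have h2 := congrArg (fun w => 2 * φ (ρ (rp2 (f12 (rwp q).1) (f12 (rwp q).2))⁻¹ w)) ha
        simp only [map_sum, map_smul, map_zero, mul_zero, smul_eq_mul, Finset.mul_sum] at h2
        have h3 : ∑ n, (D.R 0 - D.R 4) * (((MM q n : ℤ) : F) * a n) = 0 := by
          rw [← h2]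
          apply Finset.sum_congr rfl
          intro n _
          linear_combination (-a n) * hM q n
        rw [← Finset.mul_sum] at h3
        exact (mul_eq_zero.1 h3).resolve_left hB
      have h2 : ∑ q, ((NN m q : ℤ) : F) * ∑ n, ((MM q n : ℤ) : F) * a n = a m := by
        simp only [Finset.mul_sum]
        rw [Finset.sum_comm]
        have h3 : ∀ n, ∑ q, ((NN m q : ℤ) : F) * (((MM q n : ℤ) : F) * a n) = (if m = n then 1 else 0) * a n := by
          intro n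
          have h4 : ((∑ q, NN m q * MM q n : ℤ) : F) = if m = n then 1 else 0 := by
            have h5 := Int.emod_add_mul_ediv (∑ q, NN m q * MM q n) 3
            rw [← h5, NM]
            push_cast
            rw [D.three, zero_mul, add_zero]
          rw [← h4, Int.cast_sum, Finset.sum_mul]
          apply Finset.sum_congr rfl
          intro q _
          push_cast
          ring
        simp only [h3, ite_mul, one_mul, zero_mul, Finset.sum_ite_eq, Finset.mem_univ, if_true]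
      rw [← h2]
      simp only [h1, mul_zero, Finset.sum_const_zero]
    have h3 := hli.fintype_card_le_finrank
    rw [D.dim, Fintype.card_fin] at h3
    norm_num at h3

end Dat

/-- **Characteristic three.** -/
theorem Odd12.three_false (H : Odd12 ρ) (h3 : (3 : F) = 0) (hI : Irr ρ) : False := by
  have hn := neg_cases hI
  obtain ⟨v, hv, hK⟩ := H.exists_fixK hn
  obtain ⟨φ, hφ, ft, fu, fc⟩ := H.exists_functional hI
  have D : Dat ρ v φ := ⟨H.two, h3, H.dim, hI, hv, hφ, hK, ft, fu, fc⟩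
  rcases hn with hn | hn
  · exact D.false_pos hn
  · exact D.false_neg hn

end Cfsg.Agent.H932.Mt
end

private theorem dce_e6c4adb42186 : _root_.True := by
  try have : _root_.True := by simp only [_root_.Cfsg.Agent.H932.Mt.Dat.R.congr_simp]
  exact _root_.True.intro
end
end
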