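import Cfsg.Agent.H162.WeilGen
import Mathlib
import Cfsg.Prelude.Def_GeometricClasses
import Cfsg.Agent.H921.M22.Final_m3
import Cfsg.Agent.FastGrp
import Cfsg.Agent.Prune
set_option linter.all false

section
prune_inst 0x7fffa9fbfbfc69dfdfff7e7fa696effdffba3fffe6fffdcbffe061ff2bdf7b82cdc16b858bea13fc1ff7e21410f87b53ffffeeffe86fd87ffffd1ff41ffbffcfedf63508519c88b40fb80ff703f0778e7f3fffffffffffffffffffffffffffbeffbfffffffff

-- part: H434/LD/WWt
section
prune_inst 0x54000403962020008180096910000045800010000034000c8800800000100226947a60112802000809a98504808000001100120026800000e000c0000010100188802002140010042008e000080000000000000000000000000000000000004000000000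
set_option linter.all false
open scoped Cfsg.Agent.FastGrp

/-!
# Weights of the Siegel unipotent radical over any field of coprime characteristic

Port of helper162's `WeilWt` (there over `ℂ`) by helper434.
-/

set_option autoImplicit false
set_option linter.unusedSectionVars false
set_option linter.unusedSimpArgs false
open Matrix Cfsg.Agent.H162.Weil

namespace Cfsg.Agent.H434.WK

variable {F : Type*} [Field F] {n : ℕ} {𝕜 : Type*} [Field 𝕜]

/-- The pairing of matrices `∑ T_kl S_kl`. -/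
def pr (T S : Matrix (Fin n) (Fin n) F) : F := ∑ k, ∑ l, T k l * S k l

theorem pr_eq_trace (T S : Matrix (Fin n) (Fin n) F) : pr T S = trace (T * Sᵀ) := by
  simp only [pr, trace, Matrix.mul_apply, _root_.Matrix.diag_apply, _root_.Matrix.transpose_apply]

theorem pr_add_left (T T' S : Matrix (Fin n) (Fin n) F) : pr (T + T') S = pr T S + pr T' S := by
  simp only [pr_eq_trace, Matrix.add_mul, trace_add]

theorem pr_add_right (T S S' : Matrix (Fin n) (Fin n) F) : pr T (S + S') = pr T S + pr T S' := by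
  simp only [pr_eq_trace, Matrix.mul_add, trace_add, transpose_add]

theorem pr_neg_left (T S : Matrix (Fin n) (Fin n) F) : pr (-T) S = - pr T S := by
  simp only [pr_eq_trace, _root_.neg_mul, _root_.Matrix.trace_neg]

theorem pr_zero_right (T : Matrix (Fin n) (Fin n) F) : pr T 0 = 0 := by
  simp only [pr_eq_trace, _root_.Matrix.transpose_zero, _root_.MulZeroClass.mul_zero, _root_.Matrix.trace_zero]

theorem pr_zero_left (T : Matrix (Fin n) (Fin n) F) : pr 0 T = 0 := by
  simp only [pr_eq_trace, _root_.MulZeroClass.zero_mul, _root_.Matrix.trace_zero]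

theorem pr_smul_left (c : F) (T S : Matrix (Fin n) (Fin n) F) : pr (c • T) S = c * pr T S := by
  simp only [pr_eq_trace, _root_.Algebra.smul_mul_assoc, _root_.Matrix.trace_smul, _root_.smul_eq_mul]

theorem pr_comm (T S : Matrix (Fin n) (Fin n) F) : pr T S = pr S T := by
  simp only [pr, mul_comm]

theorem pr_conj (B T S : Matrix (Fin n) (Fin n) F) : pr (B * T * Bᵀ) S = pr T (Bᵀ * S * B) := by
  rw [pr_eq_trace, pr_eq_trace, Matrix.mul_assoc, Matrix.mul_assoc, trace_mul_comm]
  congr 1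
  simp only [transpose_mul, transpose_transpose, Matrix.mul_assoc]

theorem pr_sE (T : Matrix (Fin n) (Fin n) F) (i j : Fin n) (s : F) :
    pr T (sE i j s).1 = s * (T i j + T j i) := by
  simp only [sE]
  rw [pr_add_right]
  have h : ∀ a b : Fin n, pr T (single a b s) = s * T a b := by
    intro a b
    simp only [pr]
    rw [Finset.sum_eq_single a, Finset.sum_eq_single b]
    · simp [mul_comm]
    · intro l _ hl; simp [Matrix.single_apply, hl.symm]
    · simp only [_root_.Finset.mem_univ, _root_.not_true_eq_false, _root_.Matrix.single_apply_same, _root_.mul_eq_zero, _root_.IsEmpty.forall_iff]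
    · intro l _ hl; simp [Matrix.single_apply, hl.symm]
    · simp
  rw [h, h]; ring

theorem pr_sD (T : Matrix (Fin n) (Fin n) F) (i : Fin n) (s : F) :
    pr T (sD i s).1 = s * T i i := by
  simp only [sD]
  simp only [pr]
  rw [Finset.sum_eq_single i, Finset.sum_eq_single i]
  · simp [mul_comm]
  · intro l _ hl; simp [Matrix.single_apply, hl.symm]
  · simp only [_root_.Finset.mem_univ, _root_.not_true_eq_false, _root_.Matrix.single_apply_same, _root_.mul_eq_zero, _root_.IsEmpty.forall_iff]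
  · intro l _ hl; simp [Matrix.single_apply, hl.symm]
  · simp

theorem pr_vec (lam : F) (x : Fin n → F) (S : Matrix (Fin n) (Fin n) F) :
    pr (lam • vecMulVec x x) S = lam * (x ⬝ᵥ (S *ᵥ x)) := by
  rw [pr_smul_left]
  congr 1
  simp only [pr, vecMulVec_apply, dotProduct, mulVec, Finset.mul_sum]
  refine Finset.sum_congr rfl fun k _ => Finset.sum_congr rfl fun l _ => ?_
  ring

/-- A primitive additive character takes a non-trivial value on a line. -/
theorem exists_ne_one {ψ : AddChar F 𝕜} (hψ : ψ.IsPrimitive) {a : F} (ha : a ≠ 0) :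
    ∃ s, ψ (s * a) ≠ 1 := by
  by_contra h
  push Not at h
  apply hψ ha
  ext s
  rw [AddChar.mulShift_apply, mul_comm, h]
  simp

theorem pr_nondeg {ψ : AddChar F 𝕜} (hψ : ψ.IsPrimitive) (h2 : (2 : F) ≠ 0)
    {T : Matrix (Fin n) (Fin n) F} (hT : T ∈ _root_.Cfsg.Agent.H162.Weil.Sym n F) (h : ∀ S : Sym n F, ψ (pr T S.1) = 1) :
    T = 0 := by
  ext i j
  by_contra hij
  have hs : T j i = T i j := Sym.apply ⟨T, hT⟩ j i
  have : (2 : F) * T i j ≠ 0 := mul_ne_zero h2 hij
  obtain ⟨s, hs'⟩ := exists_ne_one hψ this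
  apply hs'
  have := h (sE i j s)
  rw [pr_sE, hs, ← two_mul] at this
  exact this

section rep

variable [Fintype F] [hq : Fact ((Fintype.card F : 𝕜) ≠ 0)] {V : Type*} [AddCommGroup V] [Module 𝕜 V] (ρ : Representation 𝕜 (Sp n F) V)
  (ψ : AddChar F 𝕜)

/-- Weight space for the weight `S ↦ ψ (pr T S)`. -/
def Wt (T : Matrix (Fin n) (Fin n) F) : Submodule 𝕜 V where
  carrier := {v | ∀ S : Sym n F, ρ (uu S) v = ψ (pr T S.1) • v}
  add_mem' {a b} ha hb S := by rw [map_add, ha S, hb S, smul_add]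
  zero_mem' S := by simp
  smul_mem' c v hv S := by rw [map_smul, hv S, smul_comm]

variable {ρ ψ}

variable (ρ ψ)

/-- Projection onto the weight space. -/
noncomputable def Pj (T : Matrix (Fin n) (Fin n) F) : V →ₗ[𝕜] V :=
  (Nat.card (Sym n F) : 𝕜)⁻¹ • ∑ S : Sym n F, ψ (-(pr T S.1)) • ρ (uu S)

variable {ρ ψ}

theorem Pj_apply (T : Matrix (Fin n) (Fin n) F) (v : V) :
    Pj ρ ψ T v = (Nat.card (Sym n F) : 𝕜)⁻¹ • ∑ S : Sym n F, ψ (-(pr T S.1)) • ρ (uu S) v := by
  simp only [Pj, LinearMap.sum_apply, _root_.Nat.card_eq_fintype_card, _root_.LinearMap.smul_apply]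

theorem Pj_mem (T : Matrix (Fin n) (Fin n) F) (v : V) : Pj ρ ψ T v ∈ Wt ρ ψ T := by
  intro S
  rw [Pj_apply, map_smul, map_sum, smul_comm]
  congr 1
  rw [Finset.smul_sum]
  refine Fintype.sum_equiv (Equiv.addLeft S) _ _ fun S' => ?_
  rw [map_smul, Equiv.coe_addLeft, uu_add, map_mul, Module.End.mul_apply, smul_smul]
  congr 1
  rw [← AddChar.map_add_eq_mul]
  congr 1
  rw [AddSubgroup.coe_add, pr_add_right]
  ring

theorem card_Sym_ne : (Nat.card (Sym n F) : 𝕜) ≠ 0 := by
  intro h
  obtain ⟨r, hr⟩ := CharP.exists 𝕜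
  rcases CharP.char_is_prime_or_zero 𝕜 r with hp | h0
  · have := Fact.mk hp
    have h1 : r ∣ Nat.card (Sym n F) := (CharP.cast_eq_zero_iff 𝕜 r _).1 h
    obtain ⟨S, hS⟩ := exists_prime_addOrderOf_dvd_card' (G := Sym n F) r h1
    have h2 : S ≠ 0 := by
      intro h0
      rw [h0, addOrderOf_zero] at hS
      exact hp.one_lt.ne hS
    have h3 : r • S = 0 := by rw [← hS]; exact addOrderOf_nsmul_eq_zero S
    have h4 : (r : F) = 0 := by
      by_contra hr0
      apply h2
      apply Subtype.ext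
      ext i j
      have h5 := congrFun (congrFun (congrArg Subtype.val h3) i) j
      rw [AddSubgroup.coe_nsmul, Matrix.smul_apply, nsmul_eq_mul] at h5
      exact (mul_eq_zero.1 h5).resolve_left hr0
    obtain ⟨s, hs⟩ := CharP.exists F
    have hsp : s.Prime := CharP.char_is_prime F s
    have h5 : s ∣ r := (CharP.cast_eq_zero_iff F s r).1 h4
    have h6 : s = r := (Nat.prime_dvd_prime_iff_eq hsp hp).1 h5
    have h7 : s ∣ Fintype.card F := by
      have := Fact.mk hsp
      obtain ⟨k, -, hk⟩ := FiniteField.card F s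
      rw [hk]
      exact dvd_pow_self s k.ne_zero
    apply hq.out
    rw [CharP.cast_eq_zero_iff 𝕜 r, ← h6]
    exact h7
  · have : CharZero 𝕜 := by
      rw [h0] at hr
      exact CharP.charP_to_charZero 𝕜
    rw [Nat.cast_eq_zero] at h
    exact Nat.card_pos.ne' h

theorem Pj_of_mem {T : Matrix (Fin n) (Fin n) F} {v : V} (hv : v ∈ Wt ρ ψ T) :
    Pj ρ ψ T v = v := by
  rw [Pj_apply]
  have : ∀ S : Sym n F, ψ (-(pr T S.1)) • ρ (uu S) v = v := by
    intro S
    rw [hv S, smul_smul, ← AddChar.map_add_eq_mul, neg_add_cancel, AddChar.map_zero_eq_one,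
      one_smul]
  simp only [this, Finset.sum_const, Finset.card_univ, ← Nat.card_eq_fintype_card]
  rw [← Nat.cast_smul_eq_nsmul 𝕜, smul_smul, inv_mul_cancel₀ card_Sym_ne, one_smul]

/-- The character of `Sym` attached to `T`. -/
def chT (ψ : AddChar F 𝕜) (T : Matrix (Fin n) (Fin n) F) : AddChar (Sym n F) 𝕜 where
  toFun S := ψ (pr T S.1)
  map_zero_eq_one' := by
    rw [ZeroMemClass.coe_zero, pr_zero_right, AddChar.map_zero_eq_one]
  map_add_eq_mul' S S' := by
    rw [AddSubgroup.coe_add, pr_add_right, AddChar.map_add_eq_mul]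

theorem chT_apply (T : Matrix (Fin n) (Fin n) F) (S : Sym n F) : chT ψ T S = ψ (pr T S.1) := rfl

theorem sum_chT (hψ : ψ.IsPrimitive) (h2 : (2 : F) ≠ 0) {T : Matrix (Fin n) (Fin n) F}
    (hT : T ∈ _root_.Cfsg.Agent.H162.Weil.Sym n F) (hT0 : T ≠ 0) : ∑ S : Sym n F, ψ (pr T S.1) = 0 := by
  have h : chT ψ T ≠ 1 := by
    intro h
    apply hT0
    refine pr_nondeg hψ h2 hT fun S => ?_
    rw [← chT_apply, h]; simp
  exact AddChar.sum_eq_zero_of_ne_one h

theorem Pj_of_mem_ne (hψ : ψ.IsPrimitive) (h2 : (2 : F) ≠ 0) {T T' : Matrix (Fin n) (Fin n) F}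
    (hT : T ∈ _root_.Cfsg.Agent.H162.Weil.Sym n F) (hT' : T' ∈ _root_.Cfsg.Agent.H162.Weil.Sym n F) (hne : T ≠ T') {v : V} (hv : v ∈ Wt ρ ψ T') :
    Pj ρ ψ T v = 0 := by
  rw [Pj_apply]
  have : ∀ S : Sym n F, ψ (-(pr T S.1)) • ρ (uu S) v = ψ (pr (T' - T) S.1) • v := by
    intro S
    rw [hv S, smul_smul, ← AddChar.map_add_eq_mul, sub_eq_add_neg, pr_add_left, pr_neg_left,
      add_comm]
  simp only [this]
  rw [← Finset.sum_smul, sum_chT hψ h2 (sub_mem hT' hT) (sub_ne_zero.mpr hne.symm), zero_smul,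
    smul_zero]

theorem sum_Pj (hψ : ψ.IsPrimitive) (h2 : (2 : F) ≠ 0) (v : V) :
    ∑ T : Sym n F, Pj ρ ψ T.1 v = v := by
  classical
  simp only [Pj_apply]
  rw [← Finset.smul_sum, Finset.sum_comm]
  have : ∀ S : Sym n F, ∑ T : Sym n F, ψ (-(pr T.1 S.1)) • ρ (uu S) v =
      if S = 0 then (Nat.card (Sym n F) : 𝕜) • v else 0 := by
    intro S
    rw [← Finset.sum_smul]
    split_ifs with hS
    · subst hS
      rw [uu_zero, map_one, Module.End.one_apply]
      congr 1
      simp only [pr_zero_right, _root_.ZeroMemClass.coe_zero, _root_.neg_zero, _root_.AddChar.map_zero_eq_one, _root_.Finset.sum_const, _root_.Finset.card_univ, _root_.nsmul_eq_mul, _root_.mul_one, _root_.Nat.card_eq_fintype_card]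
    · have h1 : ∑ T : Sym n F, ψ (-(pr T.1 S.1)) = 0 := by
        have := sum_chT (n := n) hψ h2 (T := -S.1) (neg_mem S.2) (by
          intro h
          apply hS
          apply Subtype.ext
          rw [← neg_neg S.1, h, neg_zero]
          rfl)
        rw [← this]
        refine Finset.sum_congr rfl fun T _ => ?_
        rw [pr_neg_left, pr_comm]
      rw [h1, zero_smul]
  rw [Finset.sum_congr rfl fun S _ => this S]
  rw [Finset.sum_ite_eq' Finset.univ (0 : Sym n F), if_pos (Finset.mem_univ _), smul_smul,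
    inv_mul_cancel₀ card_Sym_ne, one_smul]

theorem rho_uu_Pj (T : Matrix (Fin n) (Fin n) F) (S : Sym n F) (v : V) :
    ρ (uu S) (Pj ρ ψ T v) = Pj ρ ψ T (ρ (uu S) v) := by
  rw [Pj_apply, Pj_apply, map_smul, map_sum]
  congr 1
  refine Finset.sum_congr rfl fun S' _ => ?_
  rw [map_smul, ← Module.End.mul_apply, ← Module.End.mul_apply, ← map_mul, ← map_mul, ← uu_add,
    ← uu_add, add_comm]

/-- The action of `GL` on weights. -/
def actT (h : GL (Fin n) F) (T : Matrix (Fin n) (Fin n) F) : Matrix (Fin n) (Fin n) F :=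
  ((h⁻¹ : GL (Fin n) F) : Matrix (Fin n) (Fin n) F)ᵀ * T *
    ((h⁻¹ : GL (Fin n) F) : Matrix (Fin n) (Fin n) F)

theorem uu_mul_mm (h : GL (Fin n) F) (S : Sym n F) :
    uu S * mm h = mm h * uu (cong ((h⁻¹ : GL (Fin n) F) : Matrix (Fin n) (Fin n) F) S) := by
  rw [mm_mul_uu]
  congr 2
  apply Subtype.ext
  simp only [cong]
  rw [← Matrix.mul_assoc, ← Matrix.mul_assoc, ← Units.val_mul, mul_inv_cancel, Units.val_one,
    Matrix.one_mul, Matrix.mul_assoc, ← transpose_mul, ← Units.val_mul, mul_inv_cancel]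
  simp

theorem pr_actT (h : GL (Fin n) F) (T : Matrix (Fin n) (Fin n) F) (S : Sym n F) :
    pr (actT h T) S.1 = pr T (cong ((h⁻¹ : GL (Fin n) F) : Matrix (Fin n) (Fin n) F) S).1 := by
  simp only [actT, cong]
  have := pr_conj (((h⁻¹ : GL (Fin n) F) : Matrix (Fin n) (Fin n) F)ᵀ) T S.1
  rw [transpose_transpose] at this
  exact this

theorem mm_mem_Wt (h : GL (Fin n) F) {T : Matrix (Fin n) (Fin n) F} {v : V}
    (hv : v ∈ Wt ρ ψ T) : ρ (mm h) v ∈ Wt ρ ψ (actT h T) := by
  intro S
  rw [← Module.End.mul_apply, ← map_mul, uu_mul_mm, map_mul, Module.End.mul_apply, hv, map_smul,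
    pr_actT]

theorem cong_inv (h : GL (Fin n) F) (S : Sym n F) :
    cong ((h⁻¹ : GL (Fin n) F) : Matrix (Fin n) (Fin n) F)
      (cong (h : Matrix (Fin n) (Fin n) F) S) = S := by
  apply Subtype.ext
  simp only [cong]
  rw [← Matrix.mul_assoc, ← Matrix.mul_assoc, ← Units.val_mul, inv_mul_cancel, Units.val_one,
    Matrix.one_mul, Matrix.mul_assoc, ← transpose_mul, ← Units.val_mul, inv_mul_cancel]
  simp

theorem cong_inv' (h : GL (Fin n) F) (S : Sym n F) :
    cong (h : Matrix (Fin n) (Fin n) F)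
      (cong ((h⁻¹ : GL (Fin n) F) : Matrix (Fin n) (Fin n) F) S) = S := by
  have := cong_inv h⁻¹ S
  rwa [inv_inv] at this

theorem mm_Pj (h : GL (Fin n) F) (T : Matrix (Fin n) (Fin n) F) (v : V) :
    ρ (mm h) (Pj ρ ψ T v) = Pj ρ ψ (actT h T) (ρ (mm h) v) := by
  rw [Pj_apply, Pj_apply, map_smul, map_sum]
  congr 1
  refine Fintype.sum_equiv ⟨fun S => cong (h : Matrix (Fin n) (Fin n) F) S,
    fun S => cong ((h⁻¹ : GL (Fin n) F) : Matrix (Fin n) (Fin n) F) S, cong_inv h, cong_inv' h⟩
    _ _ fun S => ?_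
  rw [map_smul, Equiv.coe_fn_mk, pr_actT, cong_inv, ← Module.End.mul_apply, ← Module.End.mul_apply,
    ← map_mul, ← map_mul, mm_mul_uu]

end rep

end Cfsg.Agent.H434.WK

private theorem dce_b157a2b47930 : _root_.True := by
  try have : _root_.True := by simp only [_root_.Cfsg.Agent.H434.WK.actT.eq_1]
  try have : _root_.True := by simp only [_root_.Cfsg.Agent.H434.WK.pr.eq_1]
  try have : _root_.True := by simp only [_root_.Cfsg.Agent.H434.WK.Pj.eq_1]
  exact _root_.True.intro
end

-- part: H434/LD/WRank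
section
prune_inst 0x5404040316200000818059681000000180001000003000000800000004080206945a64116002400808a0c506808000001100120026800000e000c00000100001880000021400000420086000080000000000000000000000000000000000004000000000
set_option linter.all false
open scoped Cfsg.Agent.FastGrp

/-!
# Representations of rank at most one (helper162; port to any coefficient field, helper434)
-/

set_option autoImplicit false
set_option linter.unusedSectionVars false
set_option linter.unusedSimpArgs false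
open Matrix Cfsg.Agent.H162.Weil

namespace Cfsg.Agent.H434.WK

variable {F : Type*} [Field F] {n : ℕ} [Fintype F] {𝕜 : Type*} [Field 𝕜] [hq : Fact ((Fintype.card F : 𝕜) ≠ 0)] {V : Type*} [AddCommGroup V] [Module 𝕜 V]
  {ρ : Representation 𝕜 (Sp n F) V} {ψ : AddChar F 𝕜}

/-- Every weight has rank at most one. -/
def RkOne (ρ : Representation 𝕜 (Sp n F) V) (ψ : AddChar F 𝕜) : Prop :=
  ∀ T ∈ Sym n F, ∀ v ∈ Wt ρ ψ T, v ≠ 0 → ∀ i j k l, T i j * T k l = T i l * T k j

/-- The rank one weight. -/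
def TT (lam : F) (x : Fin n → F) : Matrix (Fin n) (Fin n) F := lam • vecMulVec x x

theorem TT_mem (lam : F) (x : Fin n → F) : TT lam x ∈ Sym n F := by
  rw [mem_Sym, TT, transpose_smul, transpose_vecMulVec]

theorem TT_apply (lam : F) (x : Fin n → F) (i j : Fin n) : TT lam x i j = lam * (x i * x j) := by
  simp [TT, vecMulVec_apply]

theorem pr_TT (lam : F) (x : Fin n → F) (S : Matrix (Fin n) (Fin n) F) :
    pr (TT lam x) S = lam * (x ⬝ᵥ (S *ᵥ x)) := pr_vec lam x S

theorem actT_TT (h : GL (Fin n) F) (lam : F) (x : Fin n → F) :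
    actT h (TT lam x) = TT lam (x ᵥ* ((h⁻¹ : GL (Fin n) F) : Matrix (Fin n) (Fin n) F)) := by
  rw [actT, TT, TT, Matrix.mul_smul, Matrix.smul_mul]
  congr 1
  rw [mul_vecMulVec, vecMulVec_mul, mulVec_transpose]

theorem mm_mem_TT (h : GL (Fin n) F) {lam : F} {x : Fin n → F} {v : V}
    (hv : v ∈ Wt ρ ψ (TT lam x)) :
    ρ (mm h) v ∈ Wt ρ ψ (TT lam (x ᵥ* ((h⁻¹ : GL (Fin n) F) : Matrix (Fin n) (Fin n) F))) := by
  rw [← actT_TT]; exact mm_mem_Wt h hv

theorem rho_mul (g h : Sp n F) (v : V) : ρ (g * h) v = ρ g (ρ h v) := by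
  rw [map_mul, Module.End.mul_apply]

theorem rho_inj (g : Sp n F) {v w : V} (h : ρ g v = ρ g w) : v = w := by
  have := congrArg (ρ g⁻¹) h
  rwa [← rho_mul, ← rho_mul, inv_mul_cancel, map_one] at this

/-- (F1) -/
theorem fix_of_fix (hψ : ψ.IsPrimitive) (h2 : (2 : F) ≠ 0) (hR : RkOne ρ ψ) (i : Fin n) {v : V}
    (hv : ∀ s, ρ (uu (sD i s)) v = v) (S : Sym n F)
    (hS : ∀ k l, k ≠ i → l ≠ i → S.1 k l = 0) : ρ (uu S) v = v := by
  have key : ∀ T : Sym n F, ρ (uu S) (Pj ρ ψ T.1 v) = Pj ρ ψ T.1 v := by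
    intro T
    by_cases h0 : Pj ρ ψ T.1 v = 0
    · rw [h0, map_zero]
    have hT := Pj_mem (ρ := ρ) (ψ := ψ) T.1 v
    have h1 : T.1 i i = 0 := by
      by_contra hne
      obtain ⟨s, hs⟩ := exists_ne_one hψ hne
      apply hs
      have h3 := hT (sD i s)
      rw [rho_uu_Pj, hv, pr_sD] at h3
      have h4 : (ψ (s * T.1 i i) - 1) • Pj ρ ψ T.1 v = 0 := by
        rw [sub_smul, one_smul, ← h3, sub_self]
      rcases smul_eq_zero.mp h4 with h5 | h5
      · exact sub_eq_zero.mp h5
      · exact absurd h5 h0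
    have h6 : ∀ k, T.1 i k = 0 := by
      intro k
      have := hR T.1 T.2 _ hT h0 i i k k
      rw [h1, zero_mul, Sym.apply T k i] at this
      exact mul_self_eq_zero.mp this.symm
    rw [hT S]
    have h7 : pr T.1 S.1 = 0 := by
      simp only [pr]
      refine Finset.sum_eq_zero fun k _ => Finset.sum_eq_zero fun l _ => ?_
      by_cases hk : k = i
      · rw [hk, h6, zero_mul]
      · by_cases hl : l = i
        · rw [hl, Sym.apply T, h6, zero_mul]
        · rw [hS k l hk hl, mul_zero]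
    rw [h7, AddChar.map_zero_eq_one, one_smul]
  conv_lhs => rw [← sum_Pj (ρ := ρ) hψ h2 v, map_sum]
  conv_rhs => rw [← sum_Pj (ρ := ρ) hψ h2 v]
  exact Finset.sum_congr rfl fun T _ => key T

theorem sE_zero_of_ne (i j : Fin n) (b : F) (k l : Fin n) (h1 : ¬ (k = i ∧ l = j))
    (h2 : ¬ (k = j ∧ l = i)) : (sE i j b).1 k l = 0 := by
  simp only [sE, Matrix.add_apply, Matrix.single_apply]
  rw [if_neg, if_neg, add_zero]
  · rintro ⟨rfl, rfl⟩; exact h2 ⟨rfl, rfl⟩
  · rintro ⟨rfl, rfl⟩; exact h1 ⟨rfl, rfl⟩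

theorem sD_zero_of_ne (i : Fin n) (b : F) (k l : Fin n) (h1 : ¬ (k = i ∧ l = i)) :
    (sD i b).1 k l = 0 := by
  simp only [sD, Matrix.single_apply]
  rw [if_neg]
  rintro ⟨rfl, rfl⟩; exact h1 ⟨rfl, rfl⟩

theorem ww_comm_sD (i j : Fin n) (hij : i ≠ j) (s : F) :
    ww j * uu (sD i s) = uu (sD i s) * ww j := by
  apply ww_comm_uu
  intro k
  apply sD_zero_of_ne
  rintro ⟨h, -⟩
  exact hij h.symm

/-- (F1') -/
theorem fix_tv (hψ : ψ.IsPrimitive) (h2 : (2 : F) ≠ 0) (hR : RkOne ρ ψ) (i j : Fin n)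
    (hij : i ≠ j) {v : V} (hv : ∀ s, ρ (uu (sD i s)) v = v) (b : F) :
    ρ (mm (tv i j hij b)) v = v := by
  have h1 : ρ (uu (sE i j b)) (ρ (ww j)⁻¹ v) = ρ (ww j)⁻¹ v := by
    apply fix_of_fix hψ h2 hR i
    · intro s
      have : uu (sD i s) * (ww j)⁻¹ = (ww j)⁻¹ * uu (sD i s) := by
        rw [eq_inv_mul_iff_mul_eq, ← mul_assoc, ww_comm_sD i j hij, mul_inv_cancel_right]
      rw [← rho_mul, this, rho_mul, hv]
    · intro k l hk hl
      apply sE_zero_of_ne
      · rintro ⟨rfl, rfl⟩; exact hk rfl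
      · rintro ⟨rfl, rfl⟩; exact hl rfl
  have h3 : mm (tv i j hij b) = ww j * uu (sE i j b) * (ww j)⁻¹ := by
    rw [ww_mul_uu i j hij, mul_inv_cancel_right]
  rw [h3, rho_mul, rho_mul, h1, ← rho_mul, mul_inv_cancel, map_one, Module.End.one_apply]

/-- `uu S` acts trivially on `Wt (TT lam e_i)` when `S i i = 0`. -/
theorem uu_TT_single {lam : F} {i : Fin n} {v : V} (hv : v ∈ Wt ρ ψ (TT lam (Pi.single i 1)))
    (S : Sym n F) : ρ (uu S) v = ψ (lam * S.1 i i) • v := by
  rw [hv S, pr_TT]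
  simp

section F2

variable (hψ : ψ.IsPrimitive) (h2 : (2 : F) ≠ 0) (hR : RkOne ρ ψ) {i j : Fin n} (hij : i ≠ j)
  {lam : F} (hlam : lam ≠ 0)

/-- the vector `e_i + y e_j`. -/
def ev (i j : Fin n) (y : F) : Fin n → F := Pi.single i 1 + Pi.single j y

theorem ev_zero (i j : Fin n) : (ev i j (0 : F)) = Pi.single i 1 := by simp [ev]

include hij in
theorem ev_vecMul (y y' : F) :
    ev i j y' ᵥ* (((tv i j hij (-y))⁻¹ : GL (Fin n) F) : Matrix (Fin n) (Fin n) F) =
      ev i j (y + y') := by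
  rw [tv_inv_coe, vecMul_add, vecMul_one, vecMul_sgl, neg_neg, ev, ev]
  simp only [Pi.add_apply, Pi.single_eq_same, Pi.single_eq_of_ne hij, add_zero, one_mul]
  rw [add_assoc, ← Pi.single_add, add_comm y']

include hij hlam in
theorem TT_ev_inj : Function.Injective (fun y => TT lam (ev i j y)) := by
  intro y y' h
  have := congrFun (congrFun h i) j
  simp only [TT_apply, ev, Pi.add_apply, Pi.single_eq_same, Pi.single_eq_of_ne hij,
    Pi.single_eq_of_ne hij.symm, add_zero, zero_add, one_mul] at this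
  exact mul_left_cancel₀ hlam this

/-- The operators `N(y)`. -/
noncomputable def Ny (ρ : Representation 𝕜 (Sp n F) V) (i j : Fin n) (hij : i ≠ j) (y : F) :
    V →ₗ[𝕜] V := ρ (mm (tv i j hij (-y)))

theorem Ny_mem {y y' : F} {v : V} (hv : v ∈ Wt ρ ψ (TT lam (ev i j y'))) :
    Ny ρ i j hij y v ∈ Wt ρ ψ (TT lam (ev i j (y + y'))) := by
  have := mm_mem_TT (tv i j hij (-y)) hv
  rwa [ev_vecMul] at this

theorem Ny_Pj (y y' : F) (v : V) :
    Ny ρ i j hij y (Pj ρ ψ (TT lam (ev i j y')) v) =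
      Pj ρ ψ (TT lam (ev i j (y + y'))) (Ny ρ i j hij y v) := by
  rw [Ny, mm_Pj, actT_TT, ev_vecMul]

/-- The operator `K`. -/
noncomputable def Kop (ρ : Representation 𝕜 (Sp n F) V) (ψ : AddChar F 𝕜) (i j : Fin n) (lam : F)
    (v : V) : V := Pj ρ ψ (TT lam (ev i j 0)) (ρ (ww j) v)

include hψ h2 hR hij hlam in
theorem ww_decomp {v : V} (hv : v ∈ Wt ρ ψ (TT lam (Pi.single i 1))) :
    ∑ y : F, Pj ρ ψ (TT lam (ev i j y)) (ρ (ww j) v) = ρ (ww j) v := by
  classical
  conv_rhs => rw [← sum_Pj (ρ := ρ) hψ h2 (ρ (ww j) v)]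
  refine Fintype.sum_of_injective (fun y => (⟨TT lam (ev i j y), TT_mem _ _⟩ : Sym n F))
    (fun y y' h => TT_ev_inj hij hlam (congrArg Subtype.val h)) _ _ ?_ (fun y => rfl)
  intro T hT
  by_contra h0
  apply hT
  have hTm := Pj_mem (ρ := ρ) (ψ := ψ) T.1 (ρ (ww j) v)
  -- action of `uu S` commuting with `ww j`
  have h1 : ∀ S : Sym n F, (∀ k, S.1 j k = 0) → ψ (pr T.1 S.1) = ψ (lam * S.1 i i) := by
    intro S hS
    have h3 := hTm S
    rw [rho_uu_Pj, ← rho_mul, ← ww_comm_uu j S hS, rho_mul, uu_TT_single hv, map_smul,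
      map_smul] at h3
    have h4 : (ψ (lam * S.1 i i) - ψ (pr T.1 S.1)) • Pj ρ ψ T.1 (ρ (ww j) v) = 0 := by
      rw [sub_smul, h3, sub_self]
    rcases smul_eq_zero.mp h4 with h5 | h5
    · exact (sub_eq_zero.mp h5).symm
    · exact absurd h5 h0
  have hii : T.1 i i = lam := by
    by_contra hne
    obtain ⟨s, hs⟩ := exists_ne_one hψ (sub_ne_zero.mpr hne)
    apply hs
    have := h1 (sD i s) (fun k => sD_zero_of_ne _ _ _ _ (fun h => hij h.1.symm))
    rw [pr_sD] at this
    rw [mul_sub, sub_eq_add_neg, AddChar.map_add_eq_mul, this, ← AddChar.map_add_eq_mul]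
    simp only [sD, single_apply_same]
    rw [mul_comm lam, add_neg_cancel, AddChar.map_zero_eq_one]
  have hik : ∀ k, k ≠ i → k ≠ j → T.1 i k = 0 := by
    intro k hki hkj
    by_contra hne
    obtain ⟨s, hs⟩ := exists_ne_one hψ (mul_ne_zero h2 hne)
    apply hs
    have := h1 (sE i k s) (fun l => sE_zero_of_ne _ _ _ _ _ (fun h => hij h.1.symm)
      (fun h => hkj h.1.symm))
    rw [pr_sE, Sym.apply T k i, ← two_mul] at this
    rw [this, sE_zero_of_ne _ _ _ _ _ (fun h => hki h.2.symm) (fun h => hki h.1.symm), mul_zero,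
      AddChar.map_zero_eq_one]
  refine ⟨lam⁻¹ * T.1 i j, ?_⟩
  apply Subtype.ext
  ext k l
  have hrk := hR T.1 T.2 _ hTm h0
  -- T k l = T i k T i l / lam
  have hkl : T.1 k l = lam⁻¹ * (T.1 i k * T.1 i l) := by
    have := hrk i i k l
    rw [hii] at this
    rw [Sym.apply T i k, mul_comm (T.1 k i), ← this, inv_mul_cancel_left₀ hlam]
  show TT lam (ev i j (lam⁻¹ * T.1 i j)) k l = T.1 k l
  have hev : ∀ k, lam * (ev i j (lam⁻¹ * T.1 i j)) k = T.1 i k := by
    intro k
    by_cases hki : k = i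
    · subst hki
      simp [ev, hii, hij]
    · by_cases hkj : k = j
      · subst hkj
        simp [ev, hki, hlam]
      · rw [hik k hki hkj]
        simp [ev, hki, hkj]
  rw [TT_apply, hkl, ← hev k, ← hev l]
  field_simp

include hij in
theorem Ny_ww {v : V} (hv : v ∈ Wt ρ ψ (TT lam (Pi.single i 1))) (a : F) :
    Ny ρ i j hij a (ρ (ww j) v) = ρ (ww j) v := by
  rw [Ny, ← rho_mul, ← ww_mul_uu i j hij, rho_mul, uu_TT_single hv, 
    sE_zero_of_ne _ _ _ _ _ (fun h => hij h.2) (fun h => hij h.1), mul_zero,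
      AddChar.map_zero_eq_one, one_smul]

include hψ h2 hR hij hlam in
theorem ww_eq_sum {v : V} (hv : v ∈ Wt ρ ψ (TT lam (Pi.single i 1))) :
    ρ (ww j) v = ∑ y : F, Ny ρ i j hij y (Kop ρ ψ i j lam v) := by
  rw [← ww_decomp hψ h2 hR hij hlam hv]
  refine Finset.sum_congr rfl fun y _ => ?_
  rw [Kop, Ny_Pj, Ny_ww hij hv, add_zero]

theorem Kop_mem (v : V) : Kop ρ ψ i j lam v ∈ Wt ρ ψ (TT lam (Pi.single i 1)) := by
  rw [← ev_zero i j]
  exact Pj_mem _ _

include hψ h2 hR hij hlam in
theorem ww_Ny {v : V} (hv : v ∈ Wt ρ ψ (TT lam (Pi.single i 1))) (a : F) :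
    ρ (ww j) (Ny ρ i j hij a v) =
      ∑ y : F, ψ (2 * lam * a * y) • Ny ρ i j hij y (Kop ρ ψ i j lam v) := by
  rw [Ny, ← rho_mul, ww_mul_mm, rho_mul, ww_eq_sum hψ h2 hR hij hlam hv, map_sum, neg_neg]
  refine Finset.sum_congr rfl fun y _ => ?_
  have h := Ny_mem hij (y := y) (y' := 0) (v := Kop ρ ψ i j lam v) (by
    rw [ev_zero]; exact Kop_mem v)
  rw [add_zero] at h
  rw [h (sE i j a)]
  congr 2
  rw [pr_sE, TT_apply, TT_apply]
  simp only [ev, Pi.add_apply, Pi.single_eq_same, Pi.single_eq_of_ne hij,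
    Pi.single_eq_of_ne hij.symm, add_zero, zero_add, one_mul, mul_one]
  ring

/-- The quadratic Gauss sum. -/
noncomputable def gs (ψ : AddChar F 𝕜) (a : F) : 𝕜 := ∑ y : F, ψ (a * y ^ 2)

include hψ h2 hR hij hlam in
theorem key_ht {v : V} (hv : v ∈ Wt ρ ψ (TT lam (Pi.single i 1))) (t : Fˣ) :
    gs ψ (-((t⁻¹ : Fˣ) : F) * lam) • Kop ρ ψ i j lam (Kop ρ ψ i j lam v) =
      ρ (mm (ht j t)) (Kop ρ ψ i j lam v) := by
  classical
  have hK := Kop_mem (ρ := ρ) (ψ := ψ) (i := i) (j := j) (lam := lam) v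
  have hN : ∀ y, Ny ρ i j hij y (Kop ρ ψ i j lam v) ∈ Wt ρ ψ (TT lam (ev i j y)) := by
    intro y
    have h := Ny_mem hij (y := y) (y' := 0) (v := Kop ρ ψ i j lam v) (by
      rw [ev_zero]; exact Kop_mem v)
    rwa [add_zero] at h
  have hE : ∀ y y' : F, ∀ u : V, u ∈ Wt ρ ψ (TT lam (ev i j y')) →
      Pj ρ ψ (TT lam (ev i j y)) u = if y' = y then u else 0 := by
    intro y y' u hu
    split_ifs with h
    · subst h; exact Pj_of_mem hu
    · exact Pj_of_mem_ne hψ h2 (TT_mem _ _) (TT_mem _ _)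
        (fun h' => h (TT_ev_inj hij hlam h').symm) hu
  have hrel := congrArg (fun g => Pj ρ ψ (TT lam (ev i j 0)) (ρ g v)) (ww_uu_ww j t)
  simp only [rho_mul] at hrel
  -- left side
  have hL : Pj ρ ψ (TT lam (ev i j 0))
      (ρ (ww j) (ρ (uu (sD j (-((t⁻¹ : Fˣ) : F)))) (ρ (ww j) v))) =
      gs ψ (-((t⁻¹ : Fˣ) : F) * lam) • Kop ρ ψ i j lam (Kop ρ ψ i j lam v) := by
    rw [ww_eq_sum hψ h2 hR hij hlam hv, map_sum, map_sum, map_sum, gs, Finset.sum_smul]
    refine Finset.sum_congr rfl fun y _ => ?_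
    rw [hN y, map_smul, map_smul, ww_Ny hψ h2 hR hij hlam hK, map_sum]
    rw [Finset.sum_eq_single 0]
    · rw [mul_zero, AddChar.map_zero_eq_one, one_smul]
      have h0 : Ny ρ i j hij 0 (Kop ρ ψ i j lam (Kop ρ ψ i j lam v)) =
          Kop ρ ψ i j lam (Kop ρ ψ i j lam v) := by
        rw [Ny, neg_zero]
        have : tv i j hij (0 : F) = 1 := by
          apply Units.ext
          rw [tv_coe]; simp
        rw [this, map_one, map_one, Module.End.one_apply]
      rw [h0, hE 0 0 _ (by rw [ev_zero]; exact Kop_mem _), if_pos rfl]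
      congr 2
      rw [pr_sD, TT_apply]
      simp only [ev, Pi.add_apply, Pi.single_eq_same, Pi.single_eq_of_ne hij.symm, zero_add]
      ring
    · intro y' _ hy'
      have h := Ny_mem hij (y := y') (y' := 0) (v := Kop ρ ψ i j lam (Kop ρ ψ i j lam v)) (by
        rw [ev_zero]; exact Kop_mem _)
      rw [add_zero] at h
      rw [map_smul, hE 0 y' _ h, if_neg hy', smul_zero]
    · simp
  have hR' : Pj ρ ψ (TT lam (ev i j 0))
      (ρ (uu (sD j (t : F))) (ρ (mm (ht j t)) (ρ (ww j) (ρ (uu (sD j (t : F))) v)))) =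
      ρ (mm (ht j t)) (Kop ρ ψ i j lam v) := by
    rw [uu_TT_single hv, sD_zero_of_ne _ _ _ _ (fun h => hij h.1), mul_zero,
      AddChar.map_zero_eq_one, one_smul, ww_eq_sum hψ h2 hR hij hlam hv, map_sum, map_sum,
      map_sum]
    have hm : ∀ y, ρ (mm (ht j t)) (Ny ρ i j hij y (Kop ρ ψ i j lam v)) ∈
        Wt ρ ψ (TT lam (ev i j (y * ((t⁻¹ : Fˣ) : F)))) := by
      intro y
      have := mm_mem_TT (ht j t) (hN y)
      rw [ht_inv, ht_coe, vecMul_add, vecMul_one, vecMul_sgl] at this
      have he : ev i j y + Pi.single j (ev i j y j * (((t⁻¹ : Fˣ) : F) - 1)) =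
          ev i j (y * ((t⁻¹ : Fˣ) : F)) := by
        simp only [ev]
        rw [add_assoc, ← Pi.single_add]
        congr 2
        simp only [Pi.add_apply, Pi.single_eq_same, Pi.single_eq_of_ne hij.symm, zero_add]
        ring
      rwa [he] at this
    rw [Finset.sum_eq_single 0]
    · have h0 : Ny ρ i j hij 0 (Kop ρ ψ i j lam v) = Kop ρ ψ i j lam v := by
        rw [Ny, neg_zero]
        have : tv i j hij (0 : F) = 1 := by
          apply Units.ext
          rw [tv_coe]; simp
        rw [this, map_one, map_one, Module.End.one_apply]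
      have h3 := hm 0
      rw [h0, zero_mul] at h3
      rw [h0, h3, map_smul, hE 0 0 _ h3, if_pos rfl, pr_sD, TT_apply]
      simp only [ev, Pi.add_apply, Pi.single_eq_same, Pi.single_eq_of_ne hij.symm, zero_add]
      rw [mul_zero, mul_zero, mul_zero, AddChar.map_zero_eq_one, one_smul]
    · intro y _ hy
      rw [hm y, map_smul, hE 0 _ _ (hm y), if_neg, smul_zero]
      exact mul_ne_zero hy (Units.ne_zero _)
    · simp
  rw [← hL, ← hR', hrel]

include hψ h2 hR hij hlam in
theorem gs_Kop {v : V} (hv : v ∈ Wt ρ ψ (TT lam (Pi.single i 1))) :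
    gs ψ (-lam) • Kop ρ ψ i j lam v = v := by
  have h1 := key_ht hψ h2 hR hij hlam hv 1
  have h3 : ht j (1 : Fˣ) = 1 := by
    apply Units.ext
    rw [ht_coe]; simp
  rw [h3, map_one, map_one, Module.End.one_apply, inv_one, Units.val_one, neg_one_mul] at h1
  have hlin : ∀ u w : V, Kop ρ ψ i j lam (u - w) = Kop ρ ψ i j lam u - Kop ρ ψ i j lam w := by
    intro u w; simp [Kop]
  have hsm : ∀ (c : 𝕜) (u : V), Kop ρ ψ i j lam (c • u) = c • Kop ρ ψ i j lam u := by
    intro c u; simp [Kop]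
  set u := gs ψ (-lam) • Kop ρ ψ i j lam v - v with hu
  have hu0 : Kop ρ ψ i j lam u = 0 := by
    rw [hu, hlin, hsm, h1, sub_self]
  have hum : u ∈ Wt ρ ψ (TT lam (Pi.single i 1)) :=
    Submodule.sub_mem _ (Submodule.smul_mem _ _ (Kop_mem v)) hv
  have := ww_eq_sum hψ h2 hR hij hlam hum
  simp only [hu0, map_zero, Finset.sum_const_zero] at this
  have h5 : u = 0 := by
    apply rho_inj (ρ := ρ) (ww j)
    rw [this, map_zero]
  exact sub_eq_zero.mp h5

include hψ h2 hR hij hlam in
/-- (F2) -/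
theorem gs_ww {v : V} (hv : v ∈ Wt ρ ψ (TT lam (Pi.single i 1))) (a : F) :
    gs ψ (-lam) • ρ (ww j) (Ny ρ i j hij a v) =
      ∑ y : F, ψ (2 * lam * a * y) • Ny ρ i j hij y v := by
  rw [ww_Ny hψ h2 hR hij hlam hv, Finset.smul_sum]
  refine Finset.sum_congr rfl fun y _ => ?_
  rw [smul_comm, ← map_smul, gs_Kop hψ h2 hR hij hlam hv]

include hψ h2 hR hij hlam in
/-- (F3) -/
theorem gs_ht {v : V} (hv : v ∈ Wt ρ ψ (TT lam (Pi.single i 1))) (t : Fˣ) :
    gs ψ (-lam) • ρ (mm (ht j t)) v = gs ψ (-((t⁻¹ : Fˣ) : F) * lam) • v := by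
  have h1 := key_ht hψ h2 hR hij hlam hv t
  have hsm : ∀ (c : 𝕜) (u : V), Kop ρ ψ i j lam (c • u) = c • Kop ρ ψ i j lam u := by
    intro c u; simp [Kop]
  have h3 : (gs ψ (-lam) * gs ψ (-lam)) • gs ψ (-((t⁻¹ : Fˣ) : F) * lam) •
      Kop ρ ψ i j lam (Kop ρ ψ i j lam v) =
      (gs ψ (-lam) * gs ψ (-lam)) • ρ (mm (ht j t)) (Kop ρ ψ i j lam v) :=
    congrArg (fun w => (gs ψ (-lam) * gs ψ (-lam)) • w) h1
  rw [mul_smul, mul_smul, smul_comm (gs ψ (-lam)) (gs ψ (-((t⁻¹ : Fˣ) : F) * lam)), ← hsm,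
    gs_Kop hψ h2 hR hij hlam hv, smul_comm (gs ψ (-lam)) (gs ψ (-((t⁻¹ : Fˣ) : F) * lam)),
    gs_Kop hψ h2 hR hij hlam hv, ← map_smul (ρ (mm (ht j t))), gs_Kop hψ h2 hR hij hlam hv] at h3
  exact h3.symm

end F2

end Cfsg.Agent.H434.WK

private theorem dce_ae2811c40e7f : _root_.True := by
  try have : _root_.True := by simp only [_root_.Cfsg.Agent.H434.WK.gs.eq_1]
  try have : _root_.True := by simp only [_root_.Cfsg.Agent.H434.WK.ev.eq_1]
  try have : _root_.True := by simp only [_root_.Cfsg.Agent.H434.WK.TT.eq_1]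
  try have : _root_.True := by simp only [_root_.Cfsg.Agent.H434.WK.Ny.congr_simp]
  try have : _root_.True := by simp only [_root_.Cfsg.Agent.H434.WK.Kop.eq_1]
  try have : _root_.True := by simp only [_root_.Cfsg.Agent.H434.WK.Ny.eq_1]
  exact _root_.True.intro
end

-- part: H434/LD/WStab
section
prune_inst 0x5404040386202000818009601002004100000900003400048800000004182226945264116002000809a0c506808000001100120026800000e000c0000030000088800002100000002008e000080000000000000000000000000000000000004000000000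
set_option linter.all false
open scoped Cfsg.Agent.FastGrp

/-!
# The stabiliser of a coordinate functional in `GL` (helper162; port to any coefficient field, helper434)
-/

set_option autoImplicit false
set_option linter.unusedSectionVars false
set_option linter.unusedSimpArgs false
open Matrix Cfsg.Agent.H162.Weil

namespace Cfsg.Agent.H434.WK

variable {F : Type*} [Field F] {n : ℕ}

/-- Embedding of matrices on the complement of `i`. -/
def emb (i : Fin n) (A : Matrix {k : Fin n // k ≠ i} {k : Fin n // k ≠ i} F) :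
    Matrix (Fin n) (Fin n) F :=
  fun a b => if ha : a = i then (if b = i then 1 else 0) else
    if hb : b = i then 0 else A ⟨a, ha⟩ ⟨b, hb⟩

theorem emb_ii (i : Fin n) (A : Matrix {k : Fin n // k ≠ i} {k : Fin n // k ≠ i} F) :
    emb i A i i = 1 := by simp [emb]

theorem emb_ib (i : Fin n) (A : Matrix {k : Fin n // k ≠ i} {k : Fin n // k ≠ i} F) {b : Fin n}
    (hb : b ≠ i) : emb i A i b = 0 := by simp [emb, hb]

theorem emb_ai (i : Fin n) (A : Matrix {k : Fin n // k ≠ i} {k : Fin n // k ≠ i} F) {a : Fin n}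
    (ha : a ≠ i) : emb i A a i = 0 := by simp [emb, ha]

theorem emb_ab (i : Fin n) (A : Matrix {k : Fin n // k ≠ i} {k : Fin n // k ≠ i} F) {a b : Fin n}
    (ha : a ≠ i) (hb : b ≠ i) : emb i A a b = A ⟨a, ha⟩ ⟨b, hb⟩ := by simp [emb, ha, hb]

theorem emb_mul (i : Fin n) (A B : Matrix {k : Fin n // k ≠ i} {k : Fin n // k ≠ i} F) :
    emb i (A * B) = emb i A * emb i B := by
  ext a b
  rw [Matrix.mul_apply, Fintype.sum_eq_add_sum_subtype_ne _ i]
  by_cases ha : a = i
  · subst ha
    rw [emb_ii, one_mul]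
    have : ∑ k : {k : Fin n // k ≠ a}, emb a A a k.1 * emb a B k.1 b = 0 :=
      Finset.sum_eq_zero fun k _ => by rw [emb_ib a A k.2, zero_mul]
    rw [this, add_zero]
    by_cases hb : b = a
    · subst hb; rw [emb_ii, emb_ii]
    · rw [emb_ib _ _ hb, emb_ib _ _ hb]
  · rw [emb_ai _ _ ha, zero_mul, zero_add]
    by_cases hb : b = i
    · subst hb
      rw [emb_ai _ _ ha]
      symm
      exact Finset.sum_eq_zero fun k _ => by rw [emb_ai _ B k.2, mul_zero]
    · rw [emb_ab _ _ ha hb, Matrix.mul_apply]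
      exact Finset.sum_congr rfl fun k _ => by rw [emb_ab _ _ ha k.2, emb_ab _ _ k.2 hb]

theorem emb_one (i : Fin n) : emb i (1 : Matrix {k : Fin n // k ≠ i} {k : Fin n // k ≠ i} F) = 1 := by
  ext a b
  by_cases ha : a = i
  · subst ha
    by_cases hb : b = a
    · subst hb; simp [emb_ii]
    · rw [emb_ib _ _ hb, one_apply_ne (Ne.symm hb)]
  · by_cases hb : b = i
    · subst hb
      rw [emb_ai _ _ ha, one_apply_ne ha]
    · rw [emb_ab _ _ ha hb, Matrix.one_apply, Matrix.one_apply]
      simp only [Subtype.mk.injEq]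

/-- `emb` on units. -/
def embU (i : Fin n) (A : GL {k : Fin n // k ≠ i} F) : GL (Fin n) F :=
  ⟨emb i A.1, emb i A.2, by rw [← emb_mul, A.3, emb_one], by rw [← emb_mul, A.4, emb_one]⟩

/-- The unipotent column elements. -/
def colU (i : Fin n) (c : Fin n → F) : GL (Fin n) F :=
  rk (Function.update c i 0) (Pi.single i 1) (by simp only [_root_.single_dotProduct, _root_.Function.update_self, _root_.MulZeroClass.mul_zero, _root_.add_zero, _root_.ne_eq, _root_.one_ne_zero, _root_.not_false_eq_true])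

theorem colU_coe (i : Fin n) (c : Fin n → F) :
    ((colU i c : GL (Fin n) F) : Matrix (Fin n) (Fin n) F) =
      1 + vecMulVec (Function.update c i 0) (Pi.single i 1) := rfl

theorem colU_add (i : Fin n) (c d : Fin n → F) :
    colU i (c + d) = colU i c * colU i d := by
  apply Units.ext
  rw [Units.val_mul, colU_coe, colU_coe, colU_coe, Matrix.mul_add, Matrix.mul_one,
    Matrix.add_mul, Matrix.one_mul, vecMulVec_mul_vecMulVec]
  have : Function.update (c + d) i 0 = Function.update c i 0 + Function.update d i 0 := by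
    ext k
    by_cases hk : k = i
    · subst hk; simp
    · simp [hk]
  rw [this, add_vecMulVec]
  ext a b
  simp only [Matrix.add_apply, vecMulVec_apply, _root_.single_dotProduct, _root_.Function.update_self, _root_.MulZeroClass.mul_zero, _root_.zero_smul, _root_.Matrix.vecMulVec_zero, _root_.add_zero]
  ring

variable [Fintype F] {𝕜 : Type*} [Field 𝕜] [hq : Fact ((Fintype.card F : 𝕜) ≠ 0)] {V : Type*} [AddCommGroup V] [Module 𝕜 V]
  {ρ : Representation 𝕜 (Sp n F) V} {ψ : AddChar F 𝕜}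

/-- The (quadratic) character of `Fˣ`. -/
noncomputable def chi (ψ : AddChar F 𝕜) (lam : F) (t : Fˣ) : 𝕜 :=
  (gs ψ (-lam))⁻¹ * gs ψ (-((t⁻¹ : Fˣ) : F) * lam)

theorem chi_one {lam : F} (hg : gs ψ (-lam) ≠ 0) : chi ψ lam (1 : Fˣ) = 1 := by
  rw [chi, inv_one, Units.val_one, neg_one_mul, inv_mul_cancel₀ hg]

/-- A seed: a non-zero vector of weight `lam E_ii`, with the standing hypotheses. -/
structure Seed (ρ : Representation 𝕜 (Sp n F) V) (ψ : AddChar F 𝕜) (lam : F) (i : Fin n) (v : V) :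
    Prop where
  prim : ψ.IsPrimitive
  two : (2 : F) ≠ 0
  rk : RkOne ρ ψ
  lam0 : lam ≠ 0
  mem : v ∈ Wt ρ ψ (TT lam (Pi.single i 1))
  ne : v ≠ 0

namespace Seed

variable {lam : F} {i : Fin n} {v : V} (hs : Seed ρ ψ lam i v)

include hs

theorem gs_ne (j : Fin n) (hij : i ≠ j) : gs ψ (-lam) ≠ 0 := by
  intro h
  have := gs_Kop hs.prim hs.two hs.rk hij hs.lam0 hs.mem
  rw [h, zero_smul] at this
  exact hs.ne this.symm

theorem ht_apply {j : Fin n} (hij : i ≠ j) (t : Fˣ) :
    ρ (mm (ht j t)) v = chi ψ lam t • v := by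
  rw [chi, mul_smul, ← gs_ht hs.prim hs.two hs.rk hij hs.lam0 hs.mem t, smul_smul,
    inv_mul_cancel₀ (hs.gs_ne j hij), one_smul]

theorem chi_mul {j : Fin n} (hij : i ≠ j) (s t : Fˣ) :
    chi ψ lam (s * t) = chi ψ lam s * chi ψ lam t := by
  have h1 := hs.ht_apply hij (s * t)
  have h3 : (ht j (s * t) : GL (Fin n) F) = ht j s * ht j t := by
    rw [ht, ht, ht, ← dg_mul, ← Pi.mulSingle_mul]
  rw [h3, map_mul, rho_mul, hs.ht_apply hij, map_smul, hs.ht_apply hij, smul_smul] at h1
  have h4 : (chi ψ lam t * chi ψ lam s - chi ψ lam (s * t)) • v = 0 := by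
    rw [sub_smul, h1, sub_self]
  rcases smul_eq_zero.mp h4 with h5 | h5
  · rw [← sub_eq_zero.mp h5, mul_comm]
  · exact absurd h5 hs.ne

theorem tv_apply {a b : Fin n} (hab : a ≠ b) (hai : a ≠ i) (s : F) :
    ρ (mm (tv a b hab s)) v = v := by
  apply fix_tv hs.prim hs.two hs.rk a b hab
  intro t
  rw [uu_TT_single hs.mem, sD_zero_of_ne _ _ _ _ (fun h => hai h.1.symm), mul_zero,
    AddChar.map_zero_eq_one, one_smul]

theorem dg_apply {j : Fin n} (hij : i ≠ j) (d : Fin n → Fˣ) (hd : d i = 1) :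
    ρ (mm (dg d)) v = chi ψ lam (∏ k, d k) • v := by
  let M : Submonoid (Fin n → Fˣ) :=
    { carrier := {d | ρ (mm (dg d)) v = chi ψ lam (∏ k, d k) • v}
      one_mem' := by
        have : (dg (1 : Fin n → Fˣ) : GL (Fin n) F) = 1 := by
          apply Units.ext
          rw [dg_coe]
          simp
        show ρ (mm (dg 1)) v = _
        rw [this, map_one, map_one]
        simp only [chi_one (hs.gs_ne j hij), _root_.Module.End.one_apply, _root_.Pi.one_apply, _root_.Finset.prod_const_one, _root_.one_smul]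
      mul_mem' := by
        intro a b ha hb
        simp only [Set.mem_ofPred_eq] at ha hb ⊢
        rw [dg_mul, map_mul, rho_mul, hb, map_smul, ha, smul_smul]
        simp only [Pi.mul_apply, Finset.prod_mul_distrib]
        rw [hs.chi_mul hij, mul_comm] }
  have hmem : ∀ k, Pi.mulSingle k (d k) ∈ M := by
    intro k
    by_cases hk : k = i
    · subst hk
      rw [hd, Pi.mulSingle_one]
      exact M.one_mem
    · show ρ (mm (dg (Pi.mulSingle k (d k)))) v = _
      have := hs.ht_apply (Ne.symm hk) (d k)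
      rw [ht] at this
      rw [this]
      congr 2
      rw [Finset.prod_eq_single k]
      · simp
      · intro l _ hl
        simp [hl]
      · simp only [_root_.Finset.mem_univ, _root_.not_true_eq_false, _root_.Pi.mulSingle_eq_same, _root_.IsEmpty.forall_iff]
  have := Submonoid.prod_mem M (t := Finset.univ) (f := fun k => Pi.mulSingle k (d k))
    (fun k _ => hmem k)
  rw [Finset.univ_prod_mulSingle] at this
  exact this

theorem embU_apply {j : Fin n} (hij : i ≠ j) (A : GL {k : Fin n // k ≠ i} F) :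
    ρ (mm (embU i A)) v = chi ψ lam (GeneralLinearGroup.det (embU i A)) • v := by
  suffices h : ∀ M : Matrix {k : Fin n // k ≠ i} {k : Fin n // k ≠ i} F, det M ≠ 0 →
      ∀ A : GL {k : Fin n // k ≠ i} F, A.1 = M →
      ρ (mm (embU i A)) v = chi ψ lam (GeneralLinearGroup.det (embU i A)) • v by
    refine h A.1 ?_ A rfl
    have := (GeneralLinearGroup.det A).ne_zero
    rwa [GeneralLinearGroup.val_det_apply] at this
  intro M hM
  refine diagonal_transvection_induction_of_det_ne_zero (P := fun M =>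
    ∀ A : GL {k : Fin n // k ≠ i} F, A.1 = M →
      ρ (mm (embU i A)) v = chi ψ lam (GeneralLinearGroup.det (embU i A)) • v) M hM ?_ ?_ ?_
  · intro D hD A hA
    have hD' : ∀ k, D k ≠ 0 := by
      intro k hk
      apply hD
      rw [det_diagonal]
      exact Finset.prod_eq_zero (Finset.mem_univ k) hk
    let d : Fin n → Fˣ := fun k => if hk : k = i then 1 else Units.mk0 (D ⟨k, hk⟩) (hD' _)
    have h1 : embU i A = dg d := by
      apply Units.ext
      rw [dg_coe]
      show emb i A.1 = _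
      rw [hA]
      ext a b
      by_cases ha : a = i
      · subst ha
        by_cases hb : b = a
        · subst hb; simp [emb_ii, d]
        · rw [emb_ib _ _ hb, diagonal_apply_ne _ (Ne.symm hb)]
      · by_cases hb : b = i
        · subst hb
          rw [emb_ai _ _ ha, diagonal_apply_ne _ ha]
        · rw [emb_ab _ _ ha hb]
          by_cases hab : a = b
          · subst hab
            simp [d, ha]
          · rw [diagonal_apply_ne _ hab, diagonal_apply_ne]
            intro h
            exact hab (congrArg Subtype.val h)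
    rw [h1, hs.dg_apply hij d (by simp [d])]
    congr 2
    apply Units.ext
    rw [GeneralLinearGroup.val_det_apply, dg_coe, det_diagonal]
    simp only [_root_.Units.coe_prod]
  · intro t A hA
    have hab : (t.i : Fin n) ≠ (t.j : Fin n) := fun h => t.hij (Subtype.ext h)
    have h1 : embU i A = tv (t.i : Fin n) (t.j : Fin n) hab t.c := by
      apply Units.ext
      rw [tv_coe]
      show emb i A.1 = _
      rw [hA]
      ext a b
      rw [Matrix.add_apply]
      by_cases ha : a = i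
      · subst ha
        rw [single_apply_of_row_ne t.i.2, add_zero]
        by_cases hb : b = a
        · subst hb; simp [emb_ii]
        · rw [emb_ib _ _ hb, one_apply_ne (Ne.symm hb)]
      · by_cases hb : b = i
        · subst hb
          rw [emb_ai _ _ ha, single_apply_of_col_ne _ _ t.j.2, add_zero, one_apply_ne ha]
        · rw [emb_ab _ _ ha hb, TransvectionStruct.toMatrix, transvection, Matrix.add_apply,
            Matrix.one_apply, Matrix.one_apply, Matrix.single_apply, Matrix.single_apply]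
          simp only [Subtype.mk.injEq, Subtype.ext_iff]
    rw [h1, hs.tv_apply hab t.i.2]
    have : GeneralLinearGroup.det (tv (t.i : Fin n) (t.j : Fin n) hab t.c) = 1 := by
      apply Units.ext
      rw [GeneralLinearGroup.val_det_apply, tv_coe]
      exact det_transvection_of_ne _ _ hab _
    rw [this, chi_one (hs.gs_ne j hij), one_smul]
  · intro A B hA hB ihA ihB C hC
    let A' : GL {k : Fin n // k ≠ i} F := GeneralLinearGroup.mkOfDetNeZero A hA
    let B' : GL {k : Fin n // k ≠ i} F := GeneralLinearGroup.mkOfDetNeZero B hB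
    have h1 : embU i C = embU i A' * embU i B' := by
      apply Units.ext
      rw [Units.val_mul]
      show emb i C.1 = emb i A * emb i B
      rw [hC, emb_mul]
    rw [h1, map_mul, rho_mul, ihB B' rfl, map_smul, ihA A' rfl, map_mul, hs.chi_mul hij,
      smul_smul, mul_comm]

theorem colU_apply {j : Fin n} (hij : i ≠ j) (c : Fin n → F) :
    ρ (mm (colU i c)) v = v ∧ GeneralLinearGroup.det (colU i c) = 1 := by
  let M : AddSubmonoid (Fin n → F) :=
    { carrier := {c | ρ (mm (colU i c)) v = v ∧ GeneralLinearGroup.det (colU i c) = 1}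
      zero_mem' := by
        have : (colU i (0 : Fin n → F)) = 1 := by
          apply Units.ext
          rw [colU_coe]
          simp
        show ρ (mm (colU i 0)) v = v ∧ GeneralLinearGroup.det (colU i 0) = 1
        rw [this, map_one, map_one, map_one]
        exact ⟨rfl, rfl⟩
      add_mem' := by
        intro a b ha hb
        simp only [Set.mem_ofPred_eq] at ha hb ⊢
        rw [colU_add, map_mul, rho_mul, hb.1, ha.1, map_mul, hb.2, ha.2, one_mul]
        exact ⟨rfl, rfl⟩ }
  have hmem : ∀ k, (Pi.single k (c k) : Fin n → F) ∈ M := by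
    intro k
    by_cases hk : k = i
    · subst hk
      have : colU k (Pi.single k (c k)) = colU k 0 := by
        apply Units.ext
        rw [colU_coe, colU_coe]
        congr 2
        ext l
        by_cases hl : l = k
        · subst hl; simp
        · simp [hl]
      show ρ (mm (colU k (Pi.single k (c k)))) v = v ∧ _
      rw [this]
      exact M.zero_mem
    · have : colU i (Pi.single k (c k)) = tv k i hk (c k) := by
        apply Units.ext
        rw [colU_coe, tv_coe]
        congr 1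
        have h1 : Function.update (Pi.single k (c k) : Fin n → F) i 0 = Pi.single k (c k) := by
          ext l
          by_cases hl : l = i
          · subst hl; simp [Ne.symm hk]
          · simp [hl]
        rw [h1]
        ext a b
        rw [vecMulVec_apply, Matrix.single_apply, Pi.single_apply, Pi.single_apply]
        by_cases h1 : k = a
        · subst h1
          by_cases h2 : i = b
          · subst h2; simp
          · simp [h2, Ne.symm h2]
        · simp [h1, Ne.symm h1]
      show ρ (mm (colU i (Pi.single k (c k)))) v = v ∧ _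
      rw [this, hs.tv_apply hk hk]
      refine ⟨rfl, ?_⟩
      apply Units.ext
      rw [GeneralLinearGroup.val_det_apply, tv_coe]
      exact det_transvection_of_ne _ _ hk _
  have := AddSubmonoid.sum_mem M (t := Finset.univ) (f := fun k => (Pi.single k (c k) : Fin n → F))
    (fun k _ => hmem k)
  rw [Finset.univ_sum_single] at this
  exact this

/-- (F4) The stabiliser of `e_i` acts on the seed by `chi (det h)`. -/
theorem stab_apply {j : Fin n} (hij : i ≠ j) (h : GL (Fin n) F)
    (hh : (Pi.single i 1 : Fin n → F) ᵥ* (h : Matrix (Fin n) (Fin n) F) = Pi.single i 1) :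
    ρ (mm h) v = chi ψ lam (GeneralLinearGroup.det h) • v := by
  have hrow : ∀ g : GL (Fin n) F,
      (Pi.single i 1 : Fin n → F) ᵥ* (g : Matrix (Fin n) (Fin n) F) = Pi.single i 1 →
      ∀ b, (g : Matrix (Fin n) (Fin n) F) i b = if b = i then 1 else 0 := by
    intro g hg b
    have := congrFun hg b
    rw [single_one_vecMul] at this
    rw [row_apply] at this
    rw [this, Pi.single_apply]
  have hh' := vecMul_inv hh
  have h1 := hrow h hh
  have h2 := hrow h⁻¹ hh'
  let A : GL {k : Fin n // k ≠ i} F :=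
    ⟨Matrix.of fun a b => (h : Matrix (Fin n) (Fin n) F) a.1 b.1,
     Matrix.of fun a b => ((h⁻¹ : GL (Fin n) F) : Matrix (Fin n) (Fin n) F) a.1 b.1, by
      ext a b
      have h3 : ((h : Matrix (Fin n) (Fin n) F) *
        ((h⁻¹ : GL (Fin n) F) : Matrix (Fin n) (Fin n) F)) a.1 b.1 =
          (1 : Matrix (Fin n) (Fin n) F) a.1 b.1 := by
        rw [← Units.val_mul, mul_inv_cancel]; rfl
      rw [Matrix.mul_apply, Fintype.sum_eq_add_sum_subtype_ne _ i, h2 b.1, if_neg b.2, mul_zero,
        zero_add] at h3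
      rw [Matrix.mul_apply]
      simp only [Matrix.of_apply]
      rw [h3, Matrix.one_apply, Matrix.one_apply]
      simp only [Subtype.ext_iff], by
      ext a b
      have h3 : (((h⁻¹ : GL (Fin n) F) : Matrix (Fin n) (Fin n) F) *
        (h : Matrix (Fin n) (Fin n) F)) a.1 b.1 =
          (1 : Matrix (Fin n) (Fin n) F) a.1 b.1 := by
        rw [← Units.val_mul, inv_mul_cancel]; rfl
      rw [Matrix.mul_apply, Fintype.sum_eq_add_sum_subtype_ne _ i, h1 b.1, if_neg b.2, mul_zero,
        zero_add] at h3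
      rw [Matrix.mul_apply]
      simp only [Matrix.of_apply]
      rw [h3, Matrix.one_apply, Matrix.one_apply]
      simp only [Subtype.ext_iff]⟩
  let c : Fin n → F := fun a => (h : Matrix (Fin n) (Fin n) F) a i
  have hfac : h = colU i c * embU i A := by
    apply Units.ext
    rw [Units.val_mul, colU_coe]
    show (h : Matrix (Fin n) (Fin n) F) = _ * emb i A.1
    rw [Matrix.add_mul, Matrix.one_mul, vecMulVec_mul]
    have h3 : (Pi.single i 1 : Fin n → F) ᵥ* emb i A.1 = Pi.single i 1 := by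
      rw [single_one_vecMul]
      ext b
      rw [row_apply]
      by_cases hb : b = i
      · subst hb; simp [emb_ii]
      · rw [emb_ib _ _ hb]; simp [hb]
    rw [h3]
    ext a b
    rw [Matrix.add_apply, vecMulVec_apply]
    by_cases ha : a = i
    · subst ha
      rw [h1 b]
      by_cases hb : b = a
      · subst hb; simp [emb_ii]
      · rw [emb_ib _ _ hb]; simp [hb]
    · by_cases hb : b = i
      · subst hb
        rw [emb_ai _ _ ha]
        simp [ha, c]
      · rw [emb_ab _ _ ha hb]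
        simp [hb, A]
  rw [hfac, map_mul, rho_mul, hs.embU_apply hij, map_smul, (hs.colU_apply hij c).1, map_mul,
    (hs.colU_apply hij c).2, one_mul]

end Seed

end Cfsg.Agent.H434.WK

private theorem dce_d73a0fc6bc9b : _root_.True := by
  try have : _root_.True := by simp only [_root_.Cfsg.Agent.H434.WK.emb.eq_1]
  try have : _root_.True := by simp only [_root_.Cfsg.Agent.H434.WK.chi.eq_1]
  exact _root_.True.intro
end

-- part: H434/LD/WFam
section
prune_inst 0x1400040306202000818059681000004180001000003000009800800004082206945a6401600200080881c506808000001100120026800000e000c0000000000188800002140010046008e000080000000000000000000000000000000000004000000000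
set_option linter.all false
open scoped Cfsg.Agent.FastGrp

/-!
# The family of weight vectors (helper162; port to any coefficient field, helper434)
-/

set_option autoImplicit false
set_option linter.unusedSectionVars false
set_option linter.unusedSimpArgs false
open Matrix Cfsg.Agent.H162.Weil

namespace Cfsg.Agent.H434.WK

variable {F : Type*} [Field F] {n : ℕ} [Fintype F] {𝕜 : Type*} [Field 𝕜] [hq : Fact ((Fintype.card F : 𝕜) ≠ 0)]

theorem gs_mul_gs_neg {ψ : AddChar F 𝕜} (hψ : ψ.IsPrimitive) (h2 : (2 : F) ≠ 0) {a : F}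
    (ha : a ≠ 0) : gs ψ a * gs ψ (-a) = Fintype.card F := by
  classical
  rw [gs, gs, Finset.sum_mul_sum]
  have h1 : ∀ x : F, ∑ y : F, ψ (a * x ^ 2) * ψ (-a * y ^ 2) =
      ∑ d : F, ψ (-a * d ^ 2) * ψ (x * (-2 * a * d)) := by
    intro x
    refine Fintype.sum_equiv (Equiv.subRight x) _ _ fun y => ?_
    rw [← AddChar.map_add_eq_mul, ← AddChar.map_add_eq_mul, Equiv.subRight_apply]
    congr 1
    ring
  rw [Finset.sum_congr rfl fun x _ => h1 x, Finset.sum_comm]
  have h3 : ∀ d : F, ∑ x : F, ψ (-a * d ^ 2) * ψ (x * (-2 * a * d)) =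
      if d = 0 then (Fintype.card F : 𝕜) else 0 := by
    intro d
    rw [← Finset.mul_sum, AddChar.sum_mulShift _ hψ]
    by_cases hd : d = 0
    · subst hd
      simp [AddChar.map_zero_eq_one]
    · rw [if_neg, if_neg hd, Nat.cast_zero, mul_zero]
      exact mul_ne_zero (mul_ne_zero (neg_ne_zero.mpr h2) ha) hd
  rw [Finset.sum_congr rfl fun d _ => h3 d]
  simp

theorem gs_ne_zero {ψ : AddChar F 𝕜} (hψ : ψ.IsPrimitive) (h2 : (2 : F) ≠ 0) {a : F}
    (ha : a ≠ 0) : gs ψ a ≠ 0 := by
  intro h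
  have := gs_mul_gs_neg hψ h2 ha
  rw [h, zero_mul] at this
  exact hq.out this.symm

variable {V : Type*} [AddCommGroup V] [Module 𝕜 V]
  {ρ : Representation 𝕜 (Sp n F) V} {ψ : AddChar F 𝕜}

/-- The family of weight vectors attached to a seed. -/
structure Fam (ρ : Representation 𝕜 (Sp n F) V) (ψ : AddChar F 𝕜) (lam : F)
    (f : (Fin n → F) → V) : Prop where
  r1 : ∀ x, f x ∈ Wt ρ ψ (TT lam x)
  r2 : ∀ (h : GL (Fin n) F) (x : Fin n → F), ρ (mm h) (f x) =
    chi ψ lam (GeneralLinearGroup.det h) • f (x ᵥ* ((h⁻¹ : GL (Fin n) F) : Matrix (Fin n) (Fin n) F))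
  r3 : ∀ (j : Fin n) (x : Fin n → F), gs ψ (-lam) • ρ (ww j) (f x) =
    ∑ z : F, ψ (2 * lam * x j * z) • f (Function.update x j z)

namespace Seed

variable {lam : F} {i : Fin n} {v : V} (hs : Seed ρ ψ lam i v)

open Classical in
/-- the family -/
noncomputable def _root_.Cfsg.Agent.H434.WK.famF (ρ : Representation 𝕜 (Sp n F) V)
    (ψ : AddChar F 𝕜) (lam : F) (i : Fin n) (v v0 : V) (x : Fin n → F) : V :=
  if hx : x = 0 then v0 else
    (chi ψ lam (GeneralLinearGroup.det (exists_vecMul_eq_single x hx i).choose))⁻¹ •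
      ρ (mm (exists_vecMul_eq_single x hx i).choose) v

include hs

theorem chi_ne_zero {j : Fin n} (hij : i ≠ j) (t : Fˣ) : chi ψ lam t ≠ 0 := by
  intro h
  have := hs.chi_mul hij t t⁻¹
  rw [h, zero_mul, mul_inv_cancel, chi_one (hs.gs_ne j hij)] at this
  exact one_ne_zero this

theorem fam_eq {j : Fin n} (hij : i ≠ j) (v0 : V) {x : Fin n → F} (hx : x ≠ 0) (h : GL (Fin n) F)
    (hh : x ᵥ* (h : Matrix (Fin n) (Fin n) F) = Pi.single i 1) :
    ρ (mm h) v = chi ψ lam (GeneralLinearGroup.det h) • famF ρ ψ lam i v v0 x := by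
  rw [famF, dif_neg hx]
  set k := (exists_vecMul_eq_single x hx i).choose with hk
  have hk' : x ᵥ* (k : Matrix (Fin n) (Fin n) F) = Pi.single i 1 :=
    (exists_vecMul_eq_single x hx i).choose_spec
  have h1 : h = k * (k⁻¹ * h) := by rw [mul_inv_cancel_left]
  have h3 := hs.stab_apply hij (k⁻¹ * h) (by
    rw [Units.val_mul, ← vecMul_vecMul, vecMul_inv hk', hh])
  conv_lhs => rw [h1]
  rw [map_mul, rho_mul, h3, map_smul, smul_smul]
  congr 1
  rw [eq_mul_inv_iff_mul_eq₀ (hs.chi_ne_zero hij _), ← hs.chi_mul hij, map_mul, map_inv]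
  congr 1
  rw [mul_comm, mul_inv_cancel_left]

theorem fam_mem {j : Fin n} (hij : i ≠ j) (v0 : V) {x : Fin n → F} (hx : x ≠ 0) :
    famF ρ ψ lam i v v0 x ∈ Wt ρ ψ (TT lam x) := by
  obtain ⟨h, hh⟩ := exists_vecMul_eq_single x hx i
  have h1 := hs.fam_eq hij v0 hx h hh
  have h3 := mm_mem_TT h hs.mem
  rw [vecMul_inv hh, h1] at h3
  exact (Submodule.smul_mem_iff _ (hs.chi_ne_zero hij _)).mp h3

theorem fam_r2 {j : Fin n} (hij : i ≠ j) (v0 : V) {x : Fin n → F} (hx : x ≠ 0)
    (g : GL (Fin n) F) : ρ (mm g) (famF ρ ψ lam i v v0 x) =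
    chi ψ lam (GeneralLinearGroup.det g) •
      famF ρ ψ lam i v v0 (x ᵥ* ((g⁻¹ : GL (Fin n) F) : Matrix (Fin n) (Fin n) F)) := by
  obtain ⟨h, hh⟩ := exists_vecMul_eq_single x hx i
  have h1 := hs.fam_eq hij v0 hx h hh
  have hx' : x ᵥ* ((g⁻¹ : GL (Fin n) F) : Matrix (Fin n) (Fin n) F) ≠ 0 := by
    intro h0
    apply hx
    have := congrArg (fun y => y ᵥ* (g : Matrix (Fin n) (Fin n) F)) h0
    simp only [vecMul_vecMul, zero_vecMul] at this
    rwa [← Units.val_mul, inv_mul_cancel, Units.val_one, vecMul_one] at this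
  have h3 := hs.fam_eq hij v0 hx' (g * h) (by
    rw [vecMul_vecMul, ← Units.val_mul, inv_mul_cancel_left, hh])
  rw [map_mul, rho_mul, h1, map_smul, map_mul, hs.chi_mul hij, mul_comm, mul_smul] at h3
  exact smul_right_injective V (hs.chi_ne_zero hij _) h3

theorem det_tv (a b : Fin n) (hab : a ≠ b) (s : F) : GeneralLinearGroup.det (tv a b hab s) = 1 := by
  apply Units.ext
  rw [GeneralLinearGroup.val_det_apply, tv_coe]
  exact det_transvection_of_ne _ _ hab _

omit hs in
theorem single_ne (a : Fin n) (c : F) (hc : c ≠ 0) : (Pi.single a c : Fin n → F) ≠ 0 := by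
  intro h
  have := congrFun h a
  simp at this
  exact hc this

/-- `R3` away from the axis. -/
theorem fam_r3 {j : Fin n} (hij : i ≠ j) (v0 : V) {a b : Fin n} (hab : a ≠ b) {x : Fin n → F}
    (hx : x a ≠ 0) : gs ψ (-lam) • ρ (ww b) (famF ρ ψ lam i v v0 x) =
      ∑ z : F, ψ (2 * lam * x b * z) • famF ρ ψ lam i v v0 (Function.update x b z) := by
  set f := famF ρ ψ lam i v v0 with hf
  -- f (e_a + z e_b)
  have hev0 : ∀ z : F, ev a b z ≠ 0 := by
    intro z h
    have := congrFun h a
    simp [ev, Pi.single_eq_of_ne hab] at this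
  have hs0 : (Pi.single a 1 : Fin n → F) ≠ 0 := single_ne a 1 one_ne_zero
  have hN : ∀ z : F, Ny ρ a b hab z (f (Pi.single a 1)) = f (ev a b z) := by
    intro z
    rw [Ny, hf, hs.fam_r2 hij v0 hs0, hs.det_tv, chi_one (hs.gs_ne j hij), one_smul]
    congr 1
    have := ev_vecMul hab z 0
    rw [ev_zero, add_zero] at this
    exact this
  have hfa : f (Pi.single a 1) ∈ Wt ρ ψ (TT lam (Pi.single a 1)) := hs.fam_mem hij v0 hs0
  have h1 := gs_ww hs.prim hs.two hs.rk hab hs.lam0 hfa (x b)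
  simp only [hN] at h1
  -- the group element
  let x' : Fin n → F := Function.update x b 0
  have hx'a : x' a = x a := by simp [x', hab]
  let g : GL (Fin n) F := Cfsg.Agent.H162.Weil.rk (Pi.single a 1) (x' - Pi.single a 1) (by
    rw [dotProduct_single_one, Pi.sub_apply, hx'a]; simpa using hx)
  have hg : ∀ z : F, ev a b z ᵥ* (g : Matrix (Fin n) (Fin n) F) = Function.update x b z := by
    intro z
    rw [rk_coe, vecMul_add, vecMul_one, vecMul_vecMulVec]
    have h3 : ev a b z ⬝ᵥ Pi.single a 1 = 1 := by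
      rw [dotProduct_single_one, ev, Pi.add_apply, Pi.single_eq_same, Pi.single_eq_of_ne hab,
        add_zero]
    rw [h3, one_smul, ev]
    ext k
    by_cases hk : k = b
    · subst hk
      simp [x', hab.symm]
    · simp [x', hk]
  have hgw : mm g⁻¹ * ww b = ww b * mm g⁻¹ := by
    have h4 : mm g * ww b = ww b * mm g := by
      apply mm_comm_ww
      · rw [rk_coe, Matrix.add_mul, Matrix.one_mul, vecMulVec_mul]
        have : (x' - Pi.single a 1) ᵥ* single b b (1 : F) = 0 := by
          rw [vecMul_sgl, Pi.sub_apply, Pi.single_eq_of_ne hab.symm]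
          simp [x']
        rw [this, vecMulVec_zero, add_zero]
      · rw [rk_coe, Matrix.mul_add, Matrix.mul_one, mul_vecMulVec, sgl_mulVec,
          Pi.single_eq_of_ne hab.symm, mul_zero, Pi.single_zero, zero_vecMulVec, add_zero]
    rw [map_inv, inv_mul_eq_iff_eq_mul, ← mul_assoc, h4, mul_assoc, mul_inv_cancel, mul_one]
  have hR : ∀ z : F, ρ (mm g⁻¹) (f (ev a b z)) =
      chi ψ lam (GeneralLinearGroup.det g⁻¹) • f (Function.update x b z) := by
    intro z
    rw [hf, hs.fam_r2 hij v0 (hev0 z), inv_inv, hg]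
  have h5 := congrArg (ρ (mm g⁻¹)) h1
  rw [map_smul, ← rho_mul, hgw, rho_mul, hR, map_smul, map_sum] at h5
  have h6 : ∀ z : F, ρ (mm g⁻¹) (ψ (2 * lam * x b * z) • f (ev a b z)) =
      chi ψ lam (GeneralLinearGroup.det g⁻¹) • (ψ (2 * lam * x b * z) •
        f (Function.update x b z)) := by
    intro z
    rw [map_smul, hR, smul_comm]
  rw [Finset.sum_congr rfl fun z _ => h6 z, ← Finset.smul_sum, smul_comm,
    Function.update_eq_self] at h5
  exact smul_right_injective V (hs.chi_ne_zero hij _) h5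

end Seed

end Cfsg.Agent.H434.WK

private theorem dce_48f72ec51e39 : _root_.True := by
  try have : _root_.True := by simp only [_root_.Cfsg.Agent.H434.WK.famF.eq_1]
  exact _root_.True.intro
end

-- part: H434/LD/WUniq
section
set_option linter.all false
open scoped Cfsg.Agent.FastGrp

/-!
# Uniqueness of irreducible representations of rank one (helper162; port to any coefficient field, helper434)
-/

set_option autoImplicit false
set_option linter.unusedSectionVars false
set_option linter.unusedSimpArgs false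
open Matrix Representation Cfsg.Agent.H162.Weil

namespace Cfsg.Agent.H434.WK

variable {F : Type*} [Field F] {n : ℕ} [Fintype F] {𝕜 : Type*} [Field 𝕜] [hq : Fact ((Fintype.card F : 𝕜) ≠ 0)]

instance instFiniteSp : Finite (Sp n F) := Subtype.finite

theorem gen_induct (j : Fin n) (P : Sp n F → Prop) (h1 : P 1)
    (hmul : ∀ g h, P g → P h → P (g * h)) (hu : ∀ S : Sym n F, P (uu S))
    (hm : ∀ h : GL (Fin n) F, P (mm h)) (hw : P (ww j)) (g : Sp n F) : P g := by
  let K : Subgroup (Sp n F) :=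
    { carrier := {g | P g}
      one_mem' := h1
      mul_mem' := fun {a b} ha hb => hmul a b ha hb
      inv_mem' := by
        intro a ha
        have hpow : ∀ k : ℕ, P (a ^ k) := by
          intro k
          induction k with
          | zero => simpa using h1
          | succ k ih => rw [pow_succ]; exact hmul _ _ ih ha
        have : a⁻¹ = a ^ (Nat.card (Sp n F) - 1) := by
          rw [inv_eq_iff_mul_eq_one, ← pow_succ', Nat.sub_add_cancel Nat.card_pos, pow_card_eq_one']
        show P a⁻¹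
        rw [this]
        exact hpow _ }
  have hK : K = ⊤ := gen_top j K hu hm hw
  have : g ∈ K := by rw [hK]; exact Subgroup.mem_top g
  exact this

variable {V : Type*} [AddCommGroup V] [Module 𝕜 V] {V' : Type*} [AddCommGroup V'] [Module 𝕜 V']
  {ρ : Representation 𝕜 (Sp n F) V} {σ : Representation 𝕜 (Sp n F) V'} {ψ : AddChar F 𝕜}

/-- Irreducibility: an invariant submodule with a nonzero vector is everything. -/
theorem eq_top_of_irr {G : Type*} [Group G] {V : Type*} [AddCommGroup V] [Module 𝕜 V]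
    {ρ : Representation 𝕜 G V} (h : ρ.IsIrreducible) (U : Submodule 𝕜 V)
    (hU : ∀ g, ∀ u ∈ U, ρ g u ∈ U) {v : V} (hv : v ∈ U) (hne : v ≠ 0) : U = ⊤ := by
  let W : Subrepresentation ρ := ⟨U, fun g u hu => hU g u hu⟩
  rcases h.eq_bot_or_eq_top W with h1 | h1
  · exfalso
    apply hne
    have : U = ⊥ := congrArg Subrepresentation.toSubmodule h1
    rw [this] at hv
    exact (Submodule.mem_bot 𝕜).mp hv
  · exact congrArg Subrepresentation.toSubmodule h1

theorem fam_inv_gen {f : (Fin n → F) → V} {f' : (Fin n → F) → V'} (g : Sp n F)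
    (hg : ∀ x, (ρ g (f x), σ g (f' x)) ∈ Submodule.span 𝕜 (Set.range fun x => (f x, f' x)))
    (u : V × V') (hu : u ∈ Submodule.span 𝕜 (Set.range fun x => (f x, f' x))) :
    (ρ g u.1, σ g u.2) ∈ Submodule.span 𝕜 (Set.range fun x => (f x, f' x)) := by
  have h : Submodule.span 𝕜 (Set.range fun x => (f x, f' x)) ≤
      (Submodule.span 𝕜 (Set.range fun x => (f x, f' x))).comap
        (LinearMap.prodMap (ρ g) (σ g)) := by
    rw [Submodule.span_le]
    rintro _ ⟨x, rfl⟩
    exact hg x
  exact h hu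

theorem fam_inv {lam : F} {f : (Fin n → F) → V} {f' : (Fin n → F) → V'}
    (hψ : ψ.IsPrimitive) (h2 : (2 : F) ≠ 0) (hlam : lam ≠ 0) (j : Fin n)
    (hf : Fam ρ ψ lam f) (hf' : Fam σ ψ lam f') (g : Sp n F) (u : V × V')
    (hu : u ∈ Submodule.span 𝕜 (Set.range fun x => (f x, f' x))) :
    (ρ g u.1, σ g u.2) ∈ Submodule.span 𝕜 (Set.range fun x => (f x, f' x)) := by
  revert u
  refine gen_induct j (P := fun g => ∀ u ∈ Submodule.span 𝕜 (Set.range fun x => (f x, f' x)),
    (ρ g u.1, σ g u.2) ∈ Submodule.span 𝕜 (Set.range fun x => (f x, f' x))) ?_ ?_ ?_ ?_ ?_ g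
  · intro u hu; simpa using hu
  · intro g h hg hh u hu
    have := hg _ (hh u hu)
    simpa [rho_mul] using this
  · intro S
    refine fam_inv_gen _ fun x => ?_
    rw [hf.r1 x S, hf'.r1 x S, ← Prod.smul_mk]
    exact Submodule.smul_mem _ _ (Submodule.subset_span (Set.mem_range_self x))
  · intro S
    refine fam_inv_gen _ fun x => ?_
    rw [hf.r2 S x, hf'.r2 S x, ← Prod.smul_mk]
    exact Submodule.smul_mem _ _ (Submodule.subset_span (Set.mem_range_self _))
  · refine fam_inv_gen _ fun x => ?_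
    have hg := gs_ne_zero hψ h2 (neg_ne_zero.mpr hlam)
    have h3 := hf.r3 j x
    have h3' := hf'.r3 j x
    rw [← eq_inv_smul_iff₀ hg] at h3 h3'
    rw [h3, h3']
    have : ((gs ψ (-lam))⁻¹ • ∑ z : F, ψ (2 * lam * x j * z) • f (Function.update x j z),
      (gs ψ (-lam))⁻¹ • ∑ z : F, ψ (2 * lam * x j * z) • f' (Function.update x j z)) =
      (gs ψ (-lam))⁻¹ • ∑ z : F, ψ (2 * lam * x j * z) •
        (f (Function.update x j z), f' (Function.update x j z)) := by
      apply Prod.ext
      · simp [Prod.fst_sum]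
      · simp [Prod.snd_sum]
    rw [this]
    exact Submodule.smul_mem _ _ (Submodule.sum_mem _ fun z _ =>
      Submodule.smul_mem _ _ (Submodule.subset_span ⟨_, rfl⟩))

theorem TT_single_eq {lam : F} (hlam : lam ≠ 0) {i : Fin n} {x : Fin n → F}
    (h : TT lam x = TT lam (Pi.single i 1)) : x = Pi.single i 1 ∨ x = - Pi.single i 1 := by
  have h1 : ∀ k l, x k * x l = (Pi.single i 1 : Fin n → F) k * (Pi.single i 1 : Fin n → F) l := by
    intro k l
    have := congrFun (congrFun h k) l
    rw [TT_apply, TT_apply] at this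
    exact mul_left_cancel₀ hlam this
  have h3 : ∀ k, k ≠ i → x k = 0 := by
    intro k hk
    have := h1 k k
    rw [Pi.single_eq_of_ne hk, mul_zero] at this
    exact mul_self_eq_zero.mp this
  have h4 : x i * x i = 1 := by
    have := h1 i i
    simpa using this
  rcases mul_self_eq_one_iff.mp h4 with h5 | h5
  · left
    ext k
    by_cases hk : k = i
    · subst hk; simpa using h5
    · rw [h3 k hk]; simp [hk]
  · right
    ext k
    by_cases hk : k = i
    · subst hk; simpa using h5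
    · rw [h3 k hk]; simp [hk]

theorem uniq_aux {lam : F} {f : (Fin n → F) → V} {f' : (Fin n → F) → V'}
    (hψ : ψ.IsPrimitive) (h2 : (2 : F) ≠ 0) (hlam : lam ≠ 0) (i : Fin n)
    (hf : Fam ρ ψ lam f) (hf' : Fam σ ψ lam f') (hσ : σ.IsIrreducible)
    (h0 : f (Pi.single i 1) ≠ 0) (h0' : f' (Pi.single i 1) ≠ 0) (ε : 𝕜)
    (he : ∀ x, f (-x) = ε • f x) (he' : ∀ x, f' (-x) = ε • f' x) (w : V')
    (hw : ((0 : V), w) ∈ Submodule.span 𝕜 (Set.range fun x => (f x, f' x))) : w = 0 := by
  by_contra hne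
  set U := Submodule.span 𝕜 (Set.range fun x => (f x, f' x)) with hU
  let K : Submodule 𝕜 V' := U.comap (LinearMap.inr 𝕜 V V')
  have hK : K = ⊤ := by
    apply eq_top_of_irr hσ K (v := w) _ _ hne
    · intro g u hu
      have h3 := fam_inv hψ h2 hlam i hf hf' g (0, u) hu
      rw [map_zero] at h3
      exact h3
    · exact hw
  have h3 : f' (Pi.single i 1) ∈ K := by rw [hK]; trivial
  have h4 : ((0 : V), f' (Pi.single i 1)) ∈ U := h3
  have h5 : ∀ u ∈ U, ∃ c : 𝕜, Pj ρ ψ (TT lam (Pi.single i 1)) u.1 = c • f (Pi.single i 1) ∧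
      Pj σ ψ (TT lam (Pi.single i 1)) u.2 = c • f' (Pi.single i 1) := by
    intro u hu
    induction hu using Submodule.span_induction with
    | zero => exact ⟨0, by simp, by simp⟩
    | add x y _ _ hx hy =>
      obtain ⟨c, h1, h2⟩ := hx
      obtain ⟨d, h3, h4⟩ := hy
      refine ⟨c + d, ?_, ?_⟩
      · rw [Prod.fst_add, map_add, h1, h3, add_smul]
      · rw [Prod.snd_add, map_add, h2, h4, add_smul]
    | smul a x _ hx =>
      obtain ⟨c, h1, h2⟩ := hx
      refine ⟨a * c, ?_, ?_⟩
      · rw [Prod.smul_fst, map_smul, h1, smul_smul]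
      · rw [Prod.smul_snd, map_smul, h2, smul_smul]
    | mem x hx =>
      obtain ⟨x, rfl⟩ := hx
      dsimp only
      by_cases hx : TT lam x = TT lam (Pi.single i 1)
      · have h6 := hf.r1 x
        have h7 := hf'.r1 x
        rw [hx] at h6 h7
        rw [Pj_of_mem h6, Pj_of_mem h7]
        rcases TT_single_eq hlam hx with rfl | rfl
        · exact ⟨1, by simp, by simp⟩
        · exact ⟨ε, he _, he' _⟩
      · refine ⟨0, ?_, ?_⟩
        · rw [Pj_of_mem_ne hψ h2 (TT_mem _ _) (TT_mem _ _) (Ne.symm hx) (hf.r1 x), zero_smul]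
        · rw [Pj_of_mem_ne hψ h2 (TT_mem _ _) (TT_mem _ _) (Ne.symm hx) (hf'.r1 x), zero_smul]
  obtain ⟨c, h6, h7⟩ := h5 _ h4
  rw [map_zero] at h6
  have hc : c = 0 := by
    rcases smul_eq_zero.mp h6.symm with h8 | h8
    · exact h8
    · exact absurd h8 h0
  rw [hc, zero_smul] at h7
  apply h0'
  rw [← Pj_of_mem (hf'.r1 (Pi.single i 1))]
  exact h7

/-- **Uniqueness**: two irreducible representations with families of the same parity have equal
characters. -/
theorem char_eq_of_fam {lam : F} {f : (Fin n → F) → V} {f' : (Fin n → F) → V'}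
    (hψ : ψ.IsPrimitive) (h2 : (2 : F) ≠ 0) (hlam : lam ≠ 0) (i : Fin n)
    (hf : Fam ρ ψ lam f) (hf' : Fam σ ψ lam f') (hρ : ρ.IsIrreducible) (hσ : σ.IsIrreducible)
    (h0 : f (Pi.single i 1) ≠ 0) (h0' : f' (Pi.single i 1) ≠ 0) (ε : 𝕜)
    (he : ∀ x, f (-x) = ε • f x) (he' : ∀ x, f' (-x) = ε • f' x) :
    ρ.character = σ.character := by
  set U := Submodule.span 𝕜 (Set.range fun x => (f x, f' x)) with hU
  have hUswap : ∀ v w, (v, w) ∈ U ↔ (w, v) ∈ Submodule.span 𝕜 (Set.range fun x => (f' x, f x)) := by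
    intro v w
    have h3 : Submodule.span 𝕜 (Set.range fun x => (f' x, f x)) =
        U.map (LinearEquiv.prodComm 𝕜 V V').toLinearMap := by
      rw [hU, Submodule.map_span, ← Set.range_comp]
      rfl
    rw [h3]
    constructor
    · intro h; exact ⟨(v, w), h, rfl⟩
    · rintro ⟨⟨a, b⟩, hab, h⟩
      simp only [LinearEquiv.coe_coe, LinearEquiv.prodComm_apply, Prod.swap_prod_mk,
        Prod.mk.injEq] at h
      obtain ⟨rfl, rfl⟩ := h
      exact hab
  have hk1 : ∀ w : V', ((0 : V), w) ∈ U → w = 0 :=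
    uniq_aux hψ h2 hlam i hf hf' hσ h0 h0' ε he he'
  have hk2 : ∀ v : V, (v, (0 : V')) ∈ U → v = 0 := by
    intro v hv
    exact uniq_aux hψ h2 hlam i hf' hf hρ h0' h0 ε he' he v ((hUswap v 0).mp hv)
  let p1 : U →ₗ[𝕜] V := (LinearMap.fst 𝕜 V V').comp U.subtype
  let p2 : U →ₗ[𝕜] V' := (LinearMap.snd 𝕜 V V').comp U.subtype
  have hp1i : Function.Injective p1 := by
    rw [← LinearMap.ker_eq_bot, LinearMap.ker_eq_bot']
    rintro ⟨⟨a, b⟩, hab⟩ h
    have ha : a = 0 := h
    subst ha
    have := hk1 b hab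
    subst this
    rfl
  have hp2i : Function.Injective p2 := by
    rw [← LinearMap.ker_eq_bot, LinearMap.ker_eq_bot']
    rintro ⟨⟨a, b⟩, hab⟩ h
    have ha : b = 0 := h
    subst ha
    have := hk2 a hab
    subst this
    rfl
  have hmem : ∀ x, (f x, f' x) ∈ U := fun x => Submodule.subset_span ⟨x, rfl⟩
  have hp1s : Function.Surjective p1 := by
    rw [← LinearMap.range_eq_top]
    apply eq_top_of_irr hρ _ (v := f (Pi.single i 1)) _
      (LinearMap.mem_range.mpr ⟨⟨_, hmem (Pi.single i 1)⟩, rfl⟩) h0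
    rintro g _ ⟨u, rfl⟩
    exact ⟨⟨_, fam_inv hψ h2 hlam i hf hf' g u.1 u.2⟩, rfl⟩
  have hp2s : Function.Surjective p2 := by
    rw [← LinearMap.range_eq_top]
    apply eq_top_of_irr hσ _ (v := f' (Pi.single i 1)) _
      (LinearMap.mem_range.mpr ⟨⟨_, hmem (Pi.single i 1)⟩, rfl⟩) h0'
    rintro g _ ⟨u, rfl⟩
    exact ⟨⟨_, fam_inv hψ h2 hlam i hf hf' g u.1 u.2⟩, rfl⟩
  let e1 := LinearEquiv.ofBijective p1 ⟨hp1i, hp1s⟩
  let e2 := LinearEquiv.ofBijective p2 ⟨hp2i, hp2s⟩
  have hcomm : ∀ g, (e1.symm.trans e2).toLinearMap ∘ₗ ρ g = σ g ∘ₗ (e1.symm.trans e2).toLinearMap := by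
    intro g
    ext v
    obtain ⟨u, rfl⟩ := e1.surjective v
    have h3 : ρ g (e1 u) = e1 ⟨_, fam_inv hψ h2 hlam i hf hf' g u.1 u.2⟩ := rfl
    simp only [LinearMap.comp_apply, LinearEquiv.coe_coe, LinearEquiv.trans_apply]
    rw [h3, LinearEquiv.symm_apply_apply, LinearEquiv.symm_apply_apply]
    rfl
  exact char_iso (Representation.Equiv.mk (e1.symm.trans e2) hcomm)

end Cfsg.Agent.H434.WK
end

-- part: H434/LD/MRep
section
set_option linter.all false
open scoped Cfsg.Agent.FastGrp

/-!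
# Absolutely irreducible matrix representations over a larger field (helper434)

`m : G →* Matrix ι ι F` spanning the matrix algebra and `τ : F →+* 𝕜`: `mRep m τ` on `ι → 𝕜` is irreducible
(`mRep_irr`), with traces `τ (tr (m g))` (`mRep_trace`); `dual m` : inverse transpose, also spanning.
-/

set_option autoImplicit false
set_option linter.unusedSectionVars false
open Matrix

namespace Cfsg.Agent.H434.MRep

variable {G : Type*} [Group G] {ι : Type*} [Fintype ι] [DecidableEq ι] {F : Type*} [Field F] {𝕜 : Type*} [Field 𝕜]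

/-- the representation of `G` on `ι → 𝕜` -/
def mRep (m : G →* Matrix ι ι F) (τ : F →+* 𝕜) : Representation 𝕜 G (ι → 𝕜) where
  toFun g := Matrix.toLin' ((m g).map τ)
  map_one' := by
    rw [map_one, Matrix.map_one _ (map_zero _) (map_one _), Matrix.toLin'_one]
    rfl
  map_mul' a b := by
    rw [map_mul, Matrix.map_mul, Matrix.toLin'_mul]
    rfl

theorem mRep_apply (m : G →* Matrix ι ι F) (τ : F →+* 𝕜) (g : G) (v : ι → 𝕜) :
    mRep m τ g v = ((m g).map τ) *ᵥ v := by
  change Matrix.toLin' _ v = _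
  rw [Matrix.toLin'_apply]

theorem mRep_trace (m : G →* Matrix ι ι F) (τ : F →+* 𝕜) (g : G) :
    LinearMap.trace 𝕜 (ι → 𝕜) (mRep m τ g) = τ (m g).trace := by
  change LinearMap.trace _ _ (Matrix.toLin' _) = _
  rw [Matrix.trace_toLin'_eq]
  simp [Matrix.trace, map_sum]

theorem mRep_character (m : G →* Matrix ι ι F) (τ : F →+* 𝕜) (g : G) :
    (mRep m τ).character g = τ (m g).trace := mRep_trace m τ g

theorem mRep_irr [Nonempty ι] (m : G →* Matrix ι ι F) (hm : Submodule.span F (Set.range m) = ⊤) (τ : F →+* 𝕜) :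
    (mRep m τ).IsIrreducible := by
  have key : ∀ W : Submodule 𝕜 (ι → 𝕜), (∀ g, ∀ w ∈ W, mRep m τ g w ∈ W) → W = ⊥ ∨ W = ⊤ := by
    intro W hW
    have hall : ∀ M : Matrix ι ι F, ∀ w ∈ W, (M.map τ) *ᵥ w ∈ W := by
      intro M
      have hM : M ∈ Submodule.span F (Set.range m) := by rw [hm]; trivial
      induction hM using Submodule.span_induction with
      | mem x hx =>
        intro w hw
        obtain ⟨g, rfl⟩ := hx
        rw [← mRep_apply]
        exact hW g w hw
      | zero =>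
        intro w _
        rw [Matrix.map_zero _ (map_zero _), Matrix.zero_mulVec]
        exact W.zero_mem
      | add x y _ _ hx hy =>
        intro w hw
        rw [Matrix.map_add _ (map_add _), Matrix.add_mulVec]
        exact W.add_mem (hx w hw) (hy w hw)
      | smul c x _ hx =>
        intro w hw
        have h1 : (c • x).map τ = (τ c) • x.map τ := by
          ext i j
          simp
        rw [h1, Matrix.smul_mulVec]
        exact W.smul_mem _ (hx w hw)
    rw [or_iff_not_imp_left]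
    intro hne
    obtain ⟨w, hw, hw0⟩ := (Submodule.ne_bot_iff _).1 hne
    obtain ⟨j, hj⟩ := Function.ne_iff.1 hw0
    rw [Pi.zero_apply] at hj
    rw [eq_top_iff]
    intro v _
    have h1 : ∀ i, (Pi.single i 1 : ι → 𝕜) ∈ W := by
      intro i
      have h2 := hall (Matrix.single i j (1 : F)) w hw
      have h3 : ((Matrix.single i j (1 : F)).map τ) *ᵥ w = w j • (Pi.single i 1 : ι → 𝕜) := by
        rw [Matrix.map_single, map_one]
        funext k
        rw [Matrix.mulVec, dotProduct, Finset.sum_eq_single j]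
        · by_cases hk : k = i
          · subst hk; simp
          · simp [Matrix.single_apply_of_row_ne (Ne.symm hk), hk]
        · intro l _ hl
          simp [Matrix.single_apply_of_col_ne _ _ (Ne.symm hl)]
        · intro h; exact absurd (Finset.mem_univ _) h
      rw [h3] at h2
      have h4 := W.smul_mem (w j)⁻¹ h2
      rwa [smul_smul, inv_mul_cancel₀ hj, one_smul] at h4
    have h5 : v = ∑ i, v i • (Pi.single i 1 : ι → 𝕜) := by
      ext k
      simp [Finset.sum_apply, Pi.single_apply]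
    rw [h5]
    exact W.sum_mem fun i _ => W.smul_mem _ (h1 i)
  have hnt : Nontrivial (Subrepresentation (mRep m τ)) := by
    refine ⟨⊥, ⊤, fun h => ?_⟩
    have h1 : (⊥ : Submodule 𝕜 (ι → 𝕜)) = ⊤ := congrArg Subrepresentation.toSubmodule h
    exact bot_ne_top h1
  refine @IsSimpleOrder.mk _ _ _ hnt ?_
  intro W
  rcases key W.toSubmodule (fun g w hw => W.apply_mem_toSubmodule g hw) with h | h
  · left
    exact Subrepresentation.toSubmodule_injective h
  · right
    exact Subrepresentation.toSubmodule_injective h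

/-- the dual matrix representation -/
def dual (m : G →* Matrix ι ι F) : G →* Matrix ι ι F where
  toFun g := (m g⁻¹)ᵀ
  map_one' := by rw [inv_one, map_one, Matrix.transpose_one]
  map_mul' a b := by rw [_root_.mul_inv_rev, map_mul, Matrix.transpose_mul]

theorem dual_trace (m : G →* Matrix ι ι F) (g : G) : (dual m g).trace = (m g⁻¹).trace := Matrix.trace_transpose _

theorem dual_span {m : G →* Matrix ι ι F} (hm : Submodule.span F (Set.range m) = ⊤) :
    Submodule.span F (Set.range (dual m)) = ⊤ := by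
  have h1 : Set.range (dual m) = (Matrix.transposeLinearEquiv ι ι F F) '' Set.range m := by
    ext x
    constructor
    · rintro ⟨g, rfl⟩
      exact ⟨m g⁻¹, ⟨g⁻¹, rfl⟩, rfl⟩
    · rintro ⟨_, ⟨g, rfl⟩, rfl⟩
      refine ⟨g⁻¹, ?_⟩
      change (m g⁻¹⁻¹)ᵀ = _
      rw [inv_inv]
      rfl
  rw [h1]
  have h2 := Submodule.map_span ((Matrix.transposeLinearEquiv ι ι F F).toLinearMap) (Set.range m)
  rw [LinearEquiv.coe_toLinearMap] at h2
  rw [← h2, hm, Submodule.map_top, LinearMap.range_eq_top]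
  exact (Matrix.transposeLinearEquiv ι ι F F).surjective

end Cfsg.Agent.H434.MRep
end

-- part: H434/LD/QExt
section
set_option linter.all false
open scoped Cfsg.Agent.FastGrp

/-!
# Extension of quadratic forms along a field embedding, in every characteristic (helper434)

`exists_quadExt` : a non-degenerate quadratic form `Q` on `ι → F` and `τ : F →+* 𝕜` give a non-degenerate quadratic form
on `ι → 𝕜`, fixed by `M.map τ` for every matrix `M` fixing `Q`.
-/

set_option autoImplicit false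
set_option linter.unusedSectionVars false
open Matrix Cfsg Cfsg.Geo

namespace Cfsg.Agent.H434.QExt

variable {ι : Type} [Fintype ι] [DecidableEq ι]

theorem dot_sum {R : Type*} [CommRing R] (A : Matrix ι ι R) (x : ι → R) :
    x ⬝ᵥ (A *ᵥ x) = ∑ p : ι × ι, x p.1 * A p.1 p.2 * x p.2 := by
  rw [Fintype.sum_prod_type]
  simp only [dotProduct, mulVec, Finset.mul_sum, mul_assoc]

theorem alt_zero {R : Type*} [CommRing R] (A : Matrix ι ι R) (h1 : ∀ i, A i i = 0) (h2 : ∀ i j, A i j + A j i = 0)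
    (x : ι → R) : x ⬝ᵥ (A *ᵥ x) = 0 := by
  rw [dot_sum]
  refine Finset.sum_involution (fun p _ => (p.2, p.1)) ?_ ?_ ?_ ?_
  · rintro ⟨i, j⟩ _
    linear_combination (x i * x j) * h2 i j
  · rintro ⟨i, j⟩ _ hne heq
    have hij : j = i := congrArg Prod.fst heq
    subst hij
    apply hne
    simp [h1]
  · rintro p _
    exact Finset.mem_univ _
  · rintro p _
    rfl

theorem zero_alt {R : Type*} [CommRing R] (A : Matrix ι ι R) (h : ∀ x, x ⬝ᵥ (A *ᵥ x) = 0) :
    (∀ i, A i i = 0) ∧ ∀ i j, A i j + A j i = 0 := by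
  have h1 : ∀ i, A i i = 0 := by
    intro i
    have := h (Pi.single i 1)
    simpa using this
  refine ⟨h1, fun i j => ?_⟩
  have h2 := h (Pi.single i 1 + Pi.single j 1)
  rw [mulVec_add, dotProduct_add, add_dotProduct, add_dotProduct] at h2
  simp only [mulVec_single_one, single_one_dotProduct, col_apply] at h2
  rw [h1, h1] at h2
  linear_combination h2

theorem conj_dot {R : Type*} [CommRing R] (T M : Matrix ι ι R) (x : ι → R) :
    x ⬝ᵥ ((Mᵀ * T * M) *ᵥ x) = (M *ᵥ x) ⬝ᵥ (T *ᵥ (M *ᵥ x)) := by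
  rw [← mulVec_mulVec, ← mulVec_mulVec, mulVec_transpose, dotProduct_comm, ← dotProduct_mulVec, dotProduct_comm]

variable {F : Type*} [Field F]

theorem exists_mat {Q : (ι → F) → F} (hQ : IsNondegenerateQuadraticForm Q) :
    ∃ T : Matrix ι ι F, ∀ x, Q x = x ⬝ᵥ (T *ᵥ x) := by
  let q : QuadraticForm F (ι → F) := QuadraticMap.ofPolar Q
    (fun a x => by rw [hQ.smul, pow_two, smul_eq_mul])
    (fun x x' y => hQ.polar_bilinear.add_left x x' y)
    (fun a x y => by rw [hQ.polar_bilinear.smul_left, smul_eq_mul])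
  obtain ⟨B, hB⟩ := LinearMap.BilinMap.toQuadraticMap_surjective (R := F) (N := F) (M := ι → F) q
  refine ⟨LinearMap.toMatrix₂' F B, fun x => ?_⟩
  have h1 : Q x = q x := rfl
  rw [h1, ← hB, LinearMap.BilinMap.toQuadraticMap_apply]
  have h2 : B = Matrix.toLinearMap₂' F (LinearMap.toMatrix₂' F B) := by simp
  conv_lhs => rw [h2]
  rw [Matrix.toLinearMap₂'_apply']

theorem exists_quadExt {𝕜 : Type*} [Field 𝕜] (τ : F →+* 𝕜) {Q : (ι → F) → F} (hQ : IsNondegenerateQuadraticForm Q) :
    ∃ q : QuadraticForm 𝕜 (ι → 𝕜), (∀ u, (∀ w, QuadraticMap.polar q u w = 0) → u = 0) ∧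
      ∀ M : Matrix ι ι F, (∀ x, Q (M *ᵥ x) = Q x) → ∀ u, q (M.map τ *ᵥ u) = q u := by
  obtain ⟨T, hT⟩ := exists_mat hQ
  let q : QuadraticForm 𝕜 (ι → 𝕜) := LinearMap.BilinMap.toQuadraticMap (Matrix.toLinearMap₂' 𝕜 (T.map τ))
  have hq : ∀ u, q u = u ⬝ᵥ (T.map τ *ᵥ u) := by
    intro u
    change (Matrix.toLinearMap₂' 𝕜 (T.map τ)) u u = _
    rw [Matrix.toLinearMap₂'_apply']
  refine ⟨q, ?_, ?_⟩
  · have hpol : ∀ x y, QuadraticMap.polar Q x y = x ⬝ᵥ ((T + Tᵀ) *ᵥ y) := by
      intro x y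
      rw [QuadraticMap.polar, hT, hT, hT, mulVec_add, dotProduct_add, add_dotProduct, add_dotProduct, add_mulVec,
        dotProduct_add, mulVec_transpose, dotProduct_comm x (y ᵥ* T), ← dotProduct_mulVec]
      ring
    have hdet : (T + Tᵀ).det ≠ 0 := by
      intro h0
      obtain ⟨x, hx, hx0⟩ := Matrix.exists_mulVec_eq_zero_iff.2 h0
      obtain ⟨⟨y, hy⟩, -⟩ := hQ.nondegenerate x hx
      apply hy
      rw [hpol, hx0, dotProduct_zero]
    have hpol' : ∀ x y, QuadraticMap.polar q x y = x ⬝ᵥ ((T + Tᵀ).map τ *ᵥ y) := by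
      intro x y
      have hm : (T + Tᵀ).map τ = T.map τ + (T.map τ)ᵀ := by
        rw [Matrix.map_add _ (map_add τ), Matrix.transpose_map]
      rw [QuadraticMap.polar, hq, hq, hq, hm, mulVec_add, dotProduct_add, add_dotProduct, add_dotProduct, add_mulVec,
        dotProduct_add, mulVec_transpose, dotProduct_comm x (y ᵥ* _), ← dotProduct_mulVec]
      ring
    intro u hu
    by_contra hne
    have h1 : u ᵥ* (T + Tᵀ).map τ = 0 := by
      apply dotProduct_eq_zero
      intro w
      rw [← dotProduct_mulVec, ← hpol']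
      exact hu w
    have h2 : ((T + Tᵀ).map τ).det = 0 := Matrix.exists_vecMul_eq_zero_iff.1 ⟨u, hne, h1⟩
    have h3 : ((T + Tᵀ).map τ).det = τ (T + Tᵀ).det := by
      rw [← RingHom.mapMatrix_apply, ← RingHom.map_det]
    rw [h3, map_eq_zero] at h2
    exact hdet h2
  · intro M hM u
    have h1 := zero_alt (Mᵀ * T * M - T) (by
      intro x
      rw [sub_mulVec, dotProduct_sub, ← hT, conj_dot, ← hT, hM, sub_self])
    have h2 := alt_zero ((Mᵀ * T * M - T).map τ) (fun i => by rw [map_apply, h1.1, map_zero])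
      (fun i j => by rw [map_apply, map_apply, ← map_add, h1.2, map_zero]) u
    have hm : (Mᵀ * T * M - T).map τ = (M.map τ)ᵀ * T.map τ * M.map τ - T.map τ := by
      rw [Matrix.map_sub _ (map_sub τ), Matrix.map_mul, Matrix.map_mul, Matrix.transpose_map]
    rw [hm, sub_mulVec, dotProduct_sub, conj_dot] at h2
    rw [hq, hq]
    exact sub_eq_zero.1 h2

end Cfsg.Agent.H434.QExt
end

-- part: H906/T12Main
section
prune_inst 0x404040392200000000001480000000580000000000000000a00902004100204942a0400a8024000080000028000000001000000040000004000000000301001000000401000200480080000000000000000000000000000000000000000000000000000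
set_option linter.all false
open scoped Cfsg.Agent.FastGrp

-- part: H906/T12F4
section
/-!
# A concrete field with four elements
-/

set_option autoImplicit false

namespace Cfsg.Agent.H906.T12

/-- the field with four elements: `0, 1, w, w²` -/
inductive F4 : Type
  | o : F4
  | i : F4
  | w : F4
  | u : F4
  deriving DecidableEq

namespace F4

instance : Fintype F4 := ⟨{o, i, w, u}, by intro x; cases x <;> decide⟩

def add : F4 → F4 → F4
  | o, x => x
  | x, o => x
  | i, i => o
  | i, w => u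
  | i, u => w
  | w, i => u
  | w, w => o
  | w, u => i
  | u, i => w
  | u, w => i
  | u, u => o

def mul : F4 → F4 → F4
  | o, _ => o
  | _, o => o
  | i, x => x
  | x, i => x
  | w, w => u
  | w, u => i
  | u, w => i
  | u, u => w

def inv : F4 → F4
  | o => o
  | i => i
  | w => u
  | u => w

instance : Zero F4 := ⟨o⟩
instance : One F4 := ⟨i⟩
instance : Add F4 := ⟨add⟩
instance : Mul F4 := ⟨mul⟩
instance : Neg F4 := ⟨fun x => x⟩
instance : Sub F4 := ⟨add⟩
instance : Inv F4 := ⟨inv⟩

instance : CommRing F4 where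
  add_assoc := by decide +kernel
  zero_add := by decide
  add_zero := by decide
  add_comm := by decide
  mul_assoc := by decide
  one_mul := by decide
  mul_one := by decide
  mul_comm := by decide
  left_distrib := by decide
  right_distrib := by decide +kernel
  zero_mul := by decide
  mul_zero := by decide
  neg_add_cancel := by decide
  sub_eq_add_neg := by decide
  nsmul := nsmulRec
  zsmul := zsmulRec

instance : Field F4 where
  exists_pair_ne := ⟨0, 1, by decide⟩
  mul_inv_cancel := by decide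
  inv_zero := by decide
  nnqsmul := _
  nnqsmul_def := fun _ _ => rfl
  qsmul := _
  qsmul_def := fun _ _ => rfl

/-- the sign `(-1)^Tr` -/
def sg : F4 → ℤ
  | o => 1
  | i => 1
  | w => -1
  | u => -1

lemma sum_four {M : Type*} [AddCommMonoid M] (f : F4 → M) : ∑ x, f x = f 0 + f 1 + f w + f u := by
  have : (Finset.univ : Finset F4) = {0, 1, w, u} := by decide
  rw [this, Finset.sum_insert (by decide), Finset.sum_insert (by decide), Finset.sum_insert (by decide),
    Finset.sum_singleton]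
  abel

end F4

abbrev M3 : Type := Matrix (Fin 3) (Fin 3) F4

open F4

/-- unipotent matrices -/
def mU (a b c : F4) : M3 := !![1, a, c; 0, 1, b; 0, 0, 1]
def mr : M3 := !![0, 1, 0; 1, 0, 0; 0, 0, 1]
def mt : M3 := !![1, 0, 0; 0, 0, 1; 0, 1, 0]
def my : M3 := !![1, 0, 0; 0, w, 0; 0, 0, u]

private lemma m3_ext {a b c d e f g h k a' b' c' d' e' f' g' h' k' : F4}
    (H : (a = a' ∧ b = b' ∧ c = c') ∧ (d = d' ∧ e = e' ∧ f = f') ∧ g = g' ∧ h = h' ∧ k = k') :
    (!![a, b, c; d, e, f; g, h, k] : M3) = !![a', b', c'; d', e', f'; g', h', k'] := by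
  obtain ⟨⟨rfl, rfl, rfl⟩, ⟨rfl, rfl, rfl⟩, rfl, rfl, rfl⟩ := H
  rfl

end Cfsg.Agent.H906.T12
end

-- part: H906/T12Pr
section
/-!
# Projective representations of `SL_3(4)`
-/

set_option autoImplicit false

namespace Cfsg.Agent.H906.T12

open F4

variable {Ω V : Type*} [Field Ω] [AddCommGroup V] [Module Ω V]

/-- projective representations: `R g x` says that `g` is a lift of `x` -/
structure PR (R : Module.End Ω V → M3 → Prop) : Prop where
  mul : ∀ {g g' x x'}, R g x → R g' x' → R (g * g') (x * x')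
  ex : ∀ x : M3, x.det = 1 → ∃ g, R g x
  smul : ∀ {g x} {c : Ω}, c ≠ 0 → R g x → R (c • g) x
  smulM : ∀ {g x} {s : F4}, s ≠ 0 → R g x → R g (s • x)
  eq : ∀ {g g' x}, R g x → R g' x → ∃ c : Ω, c ≠ 0 ∧ g = c • g'
  one : R 1 1
  det : ∀ {g x}, R g x → x.det = 1
  faith : ∀ {x}, R 1 x → ∃ s : F4, x = s • (1 : M3)
  irr : ∀ W : Submodule Ω V, (∀ g x, R g x → ∀ v ∈ W, g v ∈ W) → W = ⊥ ∨ W = ⊤

variable {R : Module.End Ω V → M3 → Prop} (hR : PR R)

include hR

lemma PR.rel {g g' : Module.End Ω V} {x x' : M3} (h : R g x) (h' : R g' x') {s : F4} (hs : s ≠ 0) (hx : x = s • x') :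
    ∃ c : Ω, c ≠ 0 ∧ g = c • g' := by
  subst hx
  exact hR.eq h (hR.smulM hs h')

lemma PR.rel1 {g g' : Module.End Ω V} {x x' : M3} (h : R g x) (h' : R g' x') (hx : x = x') :
    ∃ c : Ω, c ≠ 0 ∧ g = c • g' := by
  subst hx
  exact hR.eq h h'

lemma PR.inv {g : Module.End Ω V} {x : M3} (h : R g x) :
    ∃ g' x', R g' x' ∧ x * x' = 1 ∧ x' * x = 1 ∧ g * g' = 1 ∧ g' * g = 1 := by
  have h1 : x * x.adjugate = 1 := by rw [Matrix.mul_adjugate, hR.det h, one_smul]
  have h2 : x.adjugate * x = 1 := by rw [Matrix.adjugate_mul, hR.det h, one_smul]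
  have h3 : x.adjugate.det = 1 := by
    have := congrArg Matrix.det h1
    rwa [Matrix.det_mul, hR.det h, one_mul, Matrix.det_one] at this
  obtain ⟨k, hk⟩ := hR.ex x.adjugate h3
  obtain ⟨c, hc, e1⟩ := hR.rel1 (hR.mul h hk) hR.one h1
  obtain ⟨c', hc', e2⟩ := hR.rel1 (hR.mul hk h) hR.one h2
  have e3 : g * (c⁻¹ • k) = 1 := by rw [mul_smul_comm, e1, smul_smul, inv_mul_cancel₀ hc, one_smul]
  have e4 : (c'⁻¹ • k) * g = 1 := by rw [smul_mul_assoc, e2, smul_smul, inv_mul_cancel₀ hc', one_smul]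
  have e5 : c'⁻¹ • k = c⁻¹ • k := by
    calc c'⁻¹ • k = (c'⁻¹ • k) * (g * (c⁻¹ • k)) := by rw [e3, mul_one]
      _ = c⁻¹ • k := by rw [← mul_assoc, e4, one_mul]
  exact ⟨c⁻¹ • k, x.adjugate, hR.smul (inv_ne_zero hc) hk, h1, h2, e3, by rw [← e5, e4]⟩

lemma PR.ne_zero [Nontrivial V] {g : Module.End Ω V} {x : M3} (h : R g x) : g ≠ 0 := by
  obtain ⟨g', x', -, -, -, h1, -⟩ := hR.inv h
  rintro rfl
  rw [zero_mul] at h1
  exact zero_ne_one h1

lemma PR.cancel [Nontrivial V] {g : Module.End Ω V} {x : M3} (h : R g x) {a b : Ω} (hab : a • g = b • g) : a = b := by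
  have h1 : (a - b) • g = 0 := by rw [sub_smul, hab, sub_self]
  rcases smul_eq_zero.1 h1 with h2 | h2
  · exact sub_eq_zero.1 h2
  · exact absurd h2 (hR.ne_zero h)

lemma PR.sqrt [IsAlgClosed Ω] {x : M3} (hd : x.det = 1) {s : F4} (hs : s ≠ 0) (hx : x * x = s • (1 : M3)) :
    ∃ g, R g x ∧ g * g = 1 := by
  obtain ⟨g, hg⟩ := hR.ex x hd
  obtain ⟨c, hc, e1⟩ := hR.rel (hR.mul hg hg) hR.one hs hx
  obtain ⟨d, hd⟩ := IsAlgClosed.exists_pow_nat_eq c⁻¹ (n := 2) (by norm_num)
  have hd0 : d ≠ 0 := by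
    rintro rfl
    rw [zero_pow (by norm_num)] at hd
    exact inv_ne_zero hc hd.symm
  refine ⟨d • g, hR.smul hd0 hg, ?_⟩
  rw [smul_mul_smul_comm, e1, smul_smul, ← pow_two, hd, inv_mul_cancel₀ hc, one_smul]

lemma PR.cbrt [IsAlgClosed Ω] {x : M3} (hd : x.det = 1) {s : F4} (hs : s ≠ 0) (hx : x * x * x = s • (1 : M3)) :
    ∃ g, R g x ∧ g * g * g = 1 := by
  obtain ⟨g, hg⟩ := hR.ex x hd
  obtain ⟨c, hc, e1⟩ := hR.rel (hR.mul (hR.mul hg hg) hg) hR.one hs hx
  obtain ⟨d, hd⟩ := IsAlgClosed.exists_pow_nat_eq c⁻¹ (n := 3) (by norm_num)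
  have hd0 : d ≠ 0 := by
    rintro rfl
    rw [zero_pow (by norm_num)] at hd
    exact inv_ne_zero hc hd.symm
  refine ⟨d • g, hR.smul hd0 hg, ?_⟩
  rw [smul_mul_smul_comm, smul_mul_smul_comm, e1, smul_smul, ← pow_two, ← pow_succ, hd, inv_mul_cancel₀ hc, one_smul]

/-- lifts of commuting elements commute up to sign -/
lemma PR.sign [Nontrivial V] {g g' : Module.End Ω V} {x x' : M3} (h : R g x) (h' : R g' x') (hx : x * x' = x' * x)
    (hg : g * g = 1) : ∃ s : Ω, (s = 1 ∨ s = -1) ∧ g * g' = s • (g' * g) := by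
  obtain ⟨c, hc, e1⟩ := hR.rel1 (hR.mul h h') (hR.mul h' h) hx
  refine ⟨c, ?_, e1⟩
  have e2 : g' = (c * c) • g' := by
    calc g' = g * (g * g') := by rw [← mul_assoc, hg, one_mul]
      _ = (c * c) • g' := by
        rw [e1, mul_smul_comm, ← mul_assoc, e1, smul_mul_assoc, smul_smul, mul_assoc, hg, mul_one]
  have e3 : c * c = 1 := hR.cancel h' (by rw [one_smul]; exact e2.symm)
  exact mul_self_eq_one_iff.1 e3

lemma PR.cube_one [Nontrivial V] {g k : Module.End Ω V} {c : Ω} (hg : g * g = 1) (hk : k * k * k = 1)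
    (h : g * k = c • (k * k * g)) : c ^ 3 = 1 := by
  have e1 : g * k * g = c • (k * k) := by rw [h, smul_mul_assoc, mul_assoc, hg, mul_one]
  have e2 : (g * k * g) * (g * k * g) * (g * k * g) = 1 := by
    calc (g * k * g) * (g * k * g) * (g * k * g) = g * k * (g * g) * k * (g * g) * k * g := by noncomm_ring
      _ = g * (k * k * k) * g := by rw [hg]; noncomm_ring
      _ = 1 := by rw [hk, mul_one, hg]
  rw [e1, smul_mul_smul_comm, smul_mul_smul_comm] at e2
  have e3 : k * k * (k * k) * (k * k) = 1 := by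
    calc k * k * (k * k) * (k * k) = (k * k * k) * (k * k * k) := by noncomm_ring
      _ = 1 := by rw [hk, one_mul]
  rw [e3] at e2
  exact hR.cancel hR.one (by rw [one_smul, pow_succ, pow_two]; exact e2)

end Cfsg.Agent.H906.T12
end

-- part: H906/T12Tw
section
/-!
# Twisting by automorphisms
-/

set_option autoImplicit false

namespace Cfsg.Agent.H906.T12

open F4

/-- the antidiagonal matrix -/
def mJ : M3 := !![0, 0, 1; 0, 1, 0; 1, 0, 0]

lemma mJ_sq : mJ * mJ = 1 := by decide

/-- the graph automorphism -/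
def gam (x : M3) : M3 := mJ * x.adjugate.transpose * mJ

lemma gam_mul (x y : M3) : gam (x * y) = gam x * gam y := by
  unfold gam
  rw [Matrix.adjugate_mul_distrib, Matrix.transpose_mul]
  calc mJ * (x.adjugate.transpose * y.adjugate.transpose) * mJ
      = mJ * x.adjugate.transpose * 1 * y.adjugate.transpose * mJ := by rw [mul_one]; simp only [mul_assoc]
    _ = _ := by rw [← mJ_sq]; simp only [mul_assoc]

lemma gam_gam {x : M3} (hx : x.det = 1) : gam (gam x) = x := by
  have hJ : mJ.adjugate = mJ := by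
    rw [Matrix.adjugate_fin_three]
    decide
  have hJt : mJ.transpose = mJ := by decide
  unfold gam
  rw [Matrix.adjugate_mul_distrib, Matrix.adjugate_mul_distrib, hJ, Matrix.adjugate_transpose,
    Matrix.adjugate_adjugate _ (by decide), Matrix.det_transpose, hx, one_pow, one_smul, Matrix.transpose_mul,
    Matrix.transpose_mul, hJt, Matrix.transpose_transpose]
  calc mJ * (mJ * x * mJ) * mJ = (mJ * mJ) * x * (mJ * mJ) := by simp only [mul_assoc]
    _ = x := by rw [mJ_sq, one_mul, mul_one]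

lemma gam_det {x : M3} (hx : x.det = 1) : (gam x).det = 1 := by
  have hJ : mJ.det = 1 := by
    rw [Matrix.det_fin_three]
    decide
  unfold gam
  rw [Matrix.det_mul, Matrix.det_mul, Matrix.det_transpose, Matrix.det_adjugate, hx, hJ, one_pow, one_mul, one_mul]

lemma gam_smul (s : F4) (x : M3) : gam (s • x) = (s * s) • gam x := by
  unfold gam
  rw [Matrix.adjugate_smul]
  have : s ^ (Fintype.card (Fin 3) - 1) = s * s := by
    rw [Fintype.card_fin, pow_two]
  rw [this, Matrix.transpose_smul, mul_smul_comm, smul_mul_assoc]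

lemma gam_one : gam 1 = 1 := by
  unfold gam
  rw [Matrix.adjugate_one, Matrix.transpose_one, mul_one, mJ_sq]

lemma gam_explicit (x y : M3) (hx : mJ * !![x 1 1 * x 2 2 - x 1 2 * x 2 1, -(x 0 1 * x 2 2) + x 0 2 * x 2 1,
      x 0 1 * x 1 2 - x 0 2 * x 1 1; -(x 1 0 * x 2 2) + x 1 2 * x 2 0, x 0 0 * x 2 2 - x 0 2 * x 2 0,
      -(x 0 0 * x 1 2) + x 0 2 * x 1 0; x 1 0 * x 2 1 - x 1 1 * x 2 0, -(x 0 0 * x 2 1) + x 0 1 * x 2 0,
      x 0 0 * x 1 1 - x 0 1 * x 1 0].transpose * mJ = y) : gam x = y := by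
  unfold gam
  rw [Matrix.adjugate_fin_three]
  exact hx

lemma gam_U (a b c : F4) : gam (mU a b c) = mU b a (a * b + c) := by
  have ht : ∀ a b c d e f g h k : F4, Matrix.transpose (!![a, b, c; d, e, f; g, h, k] : M3) =
      !![a, d, g; b, e, h; c, f, k] := by
    intro a b c d e f g h k
    ext i j
    match i, j with
    | 0, 0 | 0, 1 | 0, 2 | 1, 0 | 1, 1 | 1, 2 | 2, 0 | 2, 1 | 2, 2 => rfl
  delta gam mJ mU
  rw [Matrix.adjugate_fin_three_of, ht]
  rw [Matrix.mul_fin_three, Matrix.mul_fin_three]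
  refine m3_ext ?_
  revert a b c
  decide +kernel

lemma gam_r : gam mr = mt := by
  apply gam_explicit
  decide +kernel

lemma gam_t : gam mt = mr := by
  apply gam_explicit
  decide +kernel

lemma gam_y : gam my = w • my := by
  apply gam_explicit
  decide +kernel

/-- the diagonal automorphism -/
def mD : M3 := !![1, 0, 0; 0, 1, 0; 0, 0, w]
def mD' : M3 := !![1, 0, 0; 0, 1, 0; 0, 0, u]
def del (x : M3) : M3 := mD * x * mD'

lemma mD'_mul : mD' * mD = 1 := by decide
lemma mD_mul : mD * mD' = 1 := by decide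

lemma del_mul (x y : M3) : del (x * y) = del x * del y := by
  unfold del
  calc mD * (x * y) * mD' = mD * x * 1 * y * mD' := by rw [mul_one]; simp only [mul_assoc]
    _ = _ := by rw [← mD'_mul]; simp only [mul_assoc]

lemma del_det {x : M3} (hx : x.det = 1) : (del x).det = 1 := by
  have h1 : mD.det * mD'.det = 1 := by rw [← Matrix.det_mul, mD_mul, Matrix.det_one]
  unfold del
  rw [Matrix.det_mul, Matrix.det_mul, hx, mul_one, h1]

lemma del_smul (s : F4) (x : M3) : del (s • x) = s • del x := by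
  unfold del
  rw [mul_smul_comm, smul_mul_assoc]

lemma del_one : del 1 = 1 := by
  unfold del
  rw [mul_one, mD_mul]

lemma del_del (x : M3) : del (del (del x)) = x := by
  have h1 : mD * mD * mD = 1 := by decide
  have h2 : mD' * mD' * mD' = 1 := by decide
  unfold del
  calc mD * (mD * (mD * x * mD') * mD') * mD' = (mD * mD * mD) * x * (mD' * mD' * mD') := by simp only [mul_assoc]
    _ = x := by rw [h1, h2, one_mul, mul_one]

lemma del_U (a b c : F4) : del (mU a b c) = mU a (u * b) (u * c) := by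
  delta del mD mD' mU
  rw [Matrix.mul_fin_three, Matrix.mul_fin_three]
  refine m3_ext ?_
  revert a b c
  decide +kernel

lemma del_r : del mr = mr := by decide
lemma del_y : del my = my := by decide
lemma del_t : del mt = mt * my := by decide +kernel

variable {Ω V : Type*} [Field Ω] [AddCommGroup V] [Module Ω V]
variable {R : Module.End Ω V → M3 → Prop} (hR : PR R)

include hR

lemma PR.gam : PR (fun g x => R g (gam x)) where
  mul := fun h h' => by rw [gam_mul]; exact hR.mul h h'
  ex := fun x hx => hR.ex _ (gam_det hx)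
  smul := fun hc h => hR.smul hc h
  smulM := fun {g x s} hs h => by
    rw [gam_smul]
    exact hR.smulM (mul_ne_zero hs hs) h
  eq := fun h h' => hR.eq h h'
  one := by rw [gam_one]; exact hR.one
  det := fun {g x} h => by
    have h1 := hR.det h
    unfold T12.gam at h1
    have hJ : mJ.det = 1 := by
      rw [Matrix.det_fin_three]
      decide
    rw [Matrix.det_mul, Matrix.det_mul, Matrix.det_transpose, Matrix.det_adjugate, hJ, one_mul, mul_one] at h1
    have h2 : ∀ a : F4, a ^ 2 = 1 → a = 1 := by decide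
    exact h2 _ h1
  faith := fun {x} h => by
    obtain ⟨s, hs⟩ := hR.faith h
    have h1 := hR.det h
    have hdx : x.det = 1 := by
      unfold T12.gam at h1
      have hJ : mJ.det = 1 := by
        rw [Matrix.det_fin_three]
        decide
      rw [Matrix.det_mul, Matrix.det_mul, Matrix.det_transpose, Matrix.det_adjugate, hJ, one_mul, mul_one] at h1
      have h2 : ∀ a : F4, a ^ 2 = 1 → a = 1 := by decide
      exact h2 _ h1
    refine ⟨s * s, ?_⟩
    have h3 := congrArg T12.gam hs
    rw [gam_gam hdx, gam_smul, gam_one] at h3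
    exact h3
  irr := fun W hW => hR.irr W fun g x hg => hW g (T12.gam x) (by rw [gam_gam (hR.det hg)]; exact hg)

lemma PR.del : PR (fun g x => R g (del x)) where
  mul := fun h h' => by rw [del_mul]; exact hR.mul h h'
  ex := fun x hx => hR.ex _ (del_det hx)
  smul := fun hc h => hR.smul hc h
  smulM := fun {g x s} hs h => by
    rw [del_smul]
    exact hR.smulM hs h
  eq := fun h h' => hR.eq h h'
  one := by rw [del_one]; exact hR.one
  det := fun {g x} h => by
    rw [← del_del x]
    exact del_det (del_det (hR.det h))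
  faith := fun {x} h => by
    obtain ⟨s, hs⟩ := hR.faith h
    refine ⟨s, ?_⟩
    have h3 : T12.del (T12.del (T12.del x)) = T12.del (T12.del (s • (1 : M3))) := by rw [hs]
    rw [del_del, del_smul, del_smul, del_one, del_one] at h3
    exact h3
  irr := fun W hW => hR.irr W fun g x hg => hW g (T12.del (T12.del x)) (by rw [del_del]; exact hg)

end Cfsg.Agent.H906.T12
end

-- part: H906/T12Sys
section
/-!
# Systems of lifts
-/

set_option autoImplicit false

namespace Cfsg.Agent.H906.T12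

open F4

variable {Ω V : Type*} [Field Ω] [AddCommGroup V] [Module Ω V]

/-- normalised lifts for one parabolic subgroup -/
structure Half (R : Module.End Ω V → M3 → Prop) (A B C : F4 → Module.End Ω V) (r y : Module.End Ω V) (z : Ω) :
    Prop where
  RA : ∀ b, R (A b) (mU 0 b 0)
  RB : ∀ a, R (B a) (mU a 0 0)
  RC : ∀ c, R (C c) (mU 0 0 c)
  Rr : R r mr
  Ry : R y my
  A0 : ∀ v, A 0 v = v
  B0 : ∀ v, B 0 v = v
  C0 : ∀ v, C 0 v = v
  AA : ∀ b b' v, A b (A b' v) = A (b + b') v
  BB : ∀ b b' v, B b (B b' v) = B (b + b') v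
  CC : ∀ b b' v, C b (C b' v) = C (b + b') v
  yA : ∀ b v, y (A b v) = A (u * b) (y v)
  yB : ∀ b v, y (B b v) = B (u * b) (y v)
  yC : ∀ b v, y (C b v) = C (w * b) (y v)
  y3 : ∀ v, y (y (y v)) = v
  r2 : ∀ v, r (r v) = v
  rA : ∀ b v, r (A b v) = C b (r v)
  rC : ∀ b v, r (C b v) = A b (r v)
  ry : ∀ v, r (y v) = z • y (y (r v))
  z3 : z ^ 3 = 1

lemma klein {M : Type*} [Monoid M] {a b c : M} (ha : a * a = 1) (hb : b * b = 1) (hc : c * c = 1) (hab : a * b = b * a)
    (habc : a * b * c = 1) : a * b = c ∧ b * a = c ∧ a * c = b ∧ c * a = b ∧ b * c = a ∧ c * b = a := by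
  have h1 : a * b = c := by
    calc a * b = (a * b * c) * c := by rw [mul_assoc (a * b), hc, mul_one]
      _ = c := by rw [habc, one_mul]
  have h2 : b * a = c := by rw [← hab, h1]
  refine ⟨h1, h2, ?_, ?_, ?_, ?_⟩
  · rw [← h1, ← mul_assoc, ha, one_mul]
  · rw [← h2, mul_assoc, ha, mul_one]
  · rw [← h2, ← mul_assoc, hb, one_mul]
  · rw [← h1, mul_assoc, hb, mul_one]

variable {R : Module.End Ω V → M3 → Prop} (hR : PR R)

include hR

/-- the normalised lifts of the root group of `A` -/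
theorem PR.exists_A [IsAlgClosed Ω] [Nontrivial V] {r y : Module.End Ω V} (Rr : R r mr) (Ry : R y my)
    (r2 : r * r = 1) (y3 : y * y * y = 1) :
    ∃ A : F4 → Module.End Ω V, (∀ b, R (A b) (mU 0 b 0)) ∧ A 0 = 1 ∧ (∀ b b', A b * A b' = A (b + b')) ∧
      ∀ b, y * A b = A (u * b) * y := by
  have hdU : ∀ a b c : F4, (mU a b c).det = 1 := by
    intro a b c
    rw [Matrix.det_fin_three]
    revert a b c
    decide +kernel
  obtain ⟨a1, Ra1, ha1⟩ := hR.sqrt (hdU 0 1 0) (s := 1) (by decide) (by decide)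
  have y3' : y * (y * y) = 1 := by rw [← mul_assoc, y3]
  obtain ⟨aw, haw⟩ : ∃ aw, aw = y * y * a1 * y := ⟨_, rfl⟩
  obtain ⟨au, hau⟩ : ∃ au, au = y * a1 * (y * y) := ⟨_, rfl⟩
  have Raw : R aw (mU 0 w 0) := by
    have h1 := hR.mul (hR.mul (hR.mul Ry Ry) Ra1) Ry
    have h2 : my * my * mU 0 1 0 * my = mU 0 w 0 := by decide +kernel
    rw [h2] at h1
    rw [haw]; exact h1
  have Rau : R au (mU 0 u 0) := by
    have h1 := hR.mul (hR.mul Ry Ra1) (hR.mul Ry Ry)
    have h2 : my * mU 0 1 0 * (my * my) = mU 0 u 0 := by decide +kernel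
    rw [h2] at h1
    rw [hau]; exact h1
  have aw2 : aw * aw = 1 := by
    calc aw * aw = y * y * a1 * (y * y * y) * a1 * y := by rw [haw]; simp only [mul_assoc]
      _ = y * y * (a1 * a1) * y := by rw [y3, mul_one]; simp only [mul_assoc]
      _ = 1 := by rw [ha1, mul_one, y3]
  have au2 : au * au = 1 := by
    calc au * au = y * a1 * (y * y * y) * a1 * (y * y) := by rw [hau]; simp only [mul_assoc]
      _ = y * (a1 * a1) * (y * y) := by rw [y3, mul_one]; simp only [mul_assoc]
      _ = 1 := by rw [ha1, mul_one, y3']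
  have ya1 : y * a1 = au * y := by
    rw [hau]
    calc y * a1 = y * a1 * (y * y * y) := by rw [y3, mul_one]
      _ = _ := by simp only [mul_assoc]
  have yaw : y * aw = a1 * y := by
    rw [haw]
    calc y * (y * y * a1 * y) = (y * y * y) * a1 * y := by simp only [mul_assoc]
      _ = _ := by rw [y3, one_mul]
  have yau : y * au = aw * y := by
    rw [hau, haw]
    calc y * (y * a1 * (y * y)) = y * y * a1 * y * y := by simp only [mul_assoc]
      _ = _ := rfl
  obtain ⟨c1, hc1⟩ : ∃ c, c = r * a1 * r := ⟨_, rfl⟩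
  obtain ⟨cw, hcw⟩ : ∃ c, c = r * aw * r := ⟨_, rfl⟩
  have Rc1 : R c1 (mU 0 0 1) := by
    have h1 := hR.mul (hR.mul Rr Ra1) Rr
    have h2 : mr * mU 0 1 0 * mr = mU 0 0 1 := by decide
    rw [h2] at h1
    rw [hc1]; exact h1
  have Rcw : R cw (mU 0 0 w) := by
    have h1 := hR.mul (hR.mul Rr Raw) Rr
    have h2 : mr * mU 0 w 0 * mr = mU 0 0 w := by decide
    rw [h2] at h1
    rw [hcw]; exact h1
  obtain ⟨b1, Rb1⟩ := hR.ex _ (hdU 1 0 0)
  obtain ⟨s, hs, e1⟩ := hR.sign Ra1 Raw (by decide) ha1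
  have hc1s : c1 * c1 = 1 := by
    calc c1 * c1 = r * a1 * (r * r) * a1 * r := by rw [hc1]; simp only [mul_assoc]
      _ = r * (a1 * a1) * r := by rw [r2, mul_one]; simp only [mul_assoc]
      _ = 1 := by rw [ha1, mul_one, r2]
  obtain ⟨σ, hσ, e3⟩ := hR.sign Rc1 Raw (by decide) hc1s
  obtain ⟨k1, hk1, e5⟩ := hR.rel1 (hR.mul Rb1 Ra1) (hR.mul (hR.mul Ra1 Rc1) Rb1) (by decide +kernel)
  obtain ⟨k2, hk2, e6⟩ := hR.rel1 (hR.mul Rb1 Raw) (hR.mul (hR.mul Raw Rcw) Rb1) (by decide +kernel)
  have e2 : c1 * cw = s • (cw * c1) := by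
    calc c1 * cw = r * a1 * (r * r) * aw * r := by rw [hc1, hcw]; simp only [mul_assoc]
      _ = r * (a1 * aw) * r := by rw [r2, mul_one]; simp only [mul_assoc]
      _ = s • (r * aw * (1 * a1) * r) := by
        rw [e1, mul_smul_comm, smul_mul_assoc, one_mul]; simp only [mul_assoc]
      _ = _ := by rw [← r2, hc1, hcw]; simp only [mul_assoc]
  have e4 : a1 * cw = σ • (cw * a1) := by
    have f1 : r * c1 = a1 * r := by rw [hc1, ← mul_assoc, ← mul_assoc, r2, one_mul]
    have f2 : c1 * r = r * a1 := by rw [hc1, mul_assoc, r2, mul_one]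
    calc a1 * cw = a1 * r * aw * r := by rw [hcw]; simp only [mul_assoc]
      _ = r * (c1 * aw) * r := by rw [← f1]; simp only [mul_assoc]
      _ = σ • (r * aw * (c1 * r)) := by rw [e3, mul_smul_comm, smul_mul_assoc]; simp only [mul_assoc]
      _ = _ := by rw [f2, hcw]; simp only [mul_assoc]
  have hs2 : s * s = 1 := by rcases hs with h | h <;> rw [h] <;> ring
  have hσ2 : σ * σ = 1 := by rcases hσ with h | h <;> rw [h] <;> ring
  have hs1 : s = 1 := by
    have h1 : b1 * (a1 * aw) = b1 * (s • (aw * a1)) := by rw [e1]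
    have v1 : ∀ v, a1 (aw v) = s • aw (a1 v) := fun v => LinearMap.congr_fun e1 v
    have v2 : ∀ v, c1 (cw v) = s • cw (c1 v) := fun v => LinearMap.congr_fun e2 v
    have v3 : ∀ v, c1 (aw v) = σ • aw (c1 v) := fun v => LinearMap.congr_fun e3 v
    have v4 : ∀ v, a1 (cw v) = σ • cw (a1 v) := fun v => LinearMap.congr_fun e4 v
    have v5 : ∀ v, b1 (a1 v) = k1 • a1 (c1 (b1 v)) := fun v => LinearMap.congr_fun e5 v
    have v6 : ∀ v, b1 (aw v) = k2 • aw (cw (b1 v)) := fun v => LinearMap.congr_fun e6 v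
    have h2 : (k1 * k2) • (aw * cw * a1 * c1 * b1) = (s * k1 * k2) • (aw * cw * a1 * c1 * b1) := by
      ext v
      have h3 := LinearMap.congr_fun h1 v
      simp only [Module.End.mul_apply, LinearMap.smul_apply, v6, v5, map_smul, smul_smul] at h3 ⊢
      simp only [v4, v3, v2, v1, map_smul, smul_smul] at h3
      have e7 : k1 * k2 * (σ * s * (s * σ)) = k1 * k2 := by
        calc k1 * k2 * (σ * s * (s * σ)) = k1 * k2 * (s * s) * (σ * σ) := by ring
          _ = k1 * k2 := by rw [hs2, hσ2]; ring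
      have e8 : s * (k2 * k1) = s * k1 * k2 := by ring
      rw [e7, e8] at h3
      exact h3
    have h3 := hR.cancel (hR.mul (hR.mul (hR.mul (hR.mul Raw Rcw) Ra1) Rc1) Rb1) h2
    have h4 : k1 * k2 ≠ 0 := mul_ne_zero hk1 hk2
    have h5 : (s - 1) * (k1 * k2) = 0 := by linear_combination -h3
    exact sub_eq_zero.1 ((mul_eq_zero.1 h5).resolve_right h4)
  have c1w : a1 * aw = aw * a1 := by rw [e1, hs1, one_smul]
  have inj : ∀ p q : Module.End Ω V, y * p = y * q → p = q := by
    intro p q h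
    calc p = y * y * (y * p) := by rw [← mul_assoc, y3, one_mul]
      _ = q := by rw [h, ← mul_assoc, y3, one_mul]
  have c1u : au * a1 = a1 * au := by
    have h1 : au * y * aw = a1 * au * y := by
      calc au * y * aw = y * a1 * aw := by rw [ya1]
        _ = y * aw * a1 := by rw [mul_assoc, c1w, mul_assoc]
        _ = a1 * (y * a1) := by rw [yaw, mul_assoc]
        _ = _ := by rw [ya1, mul_assoc]
    rw [mul_assoc, yaw, ← mul_assoc] at h1
    calc au * a1 = au * a1 * y * (y * y) := by rw [mul_assoc _ y, y3', mul_one]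
      _ = a1 * au := by rw [h1, mul_assoc _ y, y3', mul_one]
  have Rp := hR.mul (hR.mul Ra1 Raw) Rau
  obtain ⟨π, hπ, hp⟩ := hR.rel1 Rp hR.one (by decide)
  have hcom : a1 * aw * au = au * (a1 * aw) := by
    have h1 : a1 * aw = π • au := by
      calc a1 * aw = (a1 * aw * au) * au := by rw [mul_assoc (a1 * aw), au2, mul_one]
        _ = π • au := by rw [hp, smul_mul_assoc, one_mul]
    rw [h1, smul_mul_assoc, mul_smul_comm]
  have hπ2 : π * π = 1 := by
    have h1 : (a1 * aw * au) * (a1 * aw * au) = 1 := by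
      calc (a1 * aw * au) * (a1 * aw * au) = (a1 * aw * au) * (au * (a1 * aw)) := by rw [hcom, ← hcom]
        _ = a1 * aw * (au * au) * (aw * a1) := by rw [c1w]; simp only [mul_assoc]
        _ = a1 * (aw * aw) * a1 := by rw [au2, mul_one]; simp only [mul_assoc]
        _ = 1 := by rw [aw2, mul_one, ha1]
    rw [hp, smul_mul_smul_comm, one_mul] at h1
    exact hR.cancel hR.one (by rw [h1, one_smul])
  have hA1 : (π • a1) * (π • a1) = 1 := by rw [smul_mul_smul_comm, hπ2, ha1, one_smul]
  have hAw : (π • aw) * (π • aw) = 1 := by rw [smul_mul_smul_comm, hπ2, aw2, one_smul]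
  have hAu : (π • au) * (π • au) = 1 := by rw [smul_mul_smul_comm, hπ2, au2, one_smul]
  have hA1w : (π • a1) * (π • aw) = (π • aw) * (π • a1) := by rw [smul_mul_smul_comm, smul_mul_smul_comm, c1w]
  have hA1wu : (π • a1) * (π • aw) * (π • au) = 1 := by
    rw [smul_mul_smul_comm, smul_mul_smul_comm, hp, smul_smul, hπ2, one_mul, hπ2, one_smul]
  obtain ⟨k1, k2, k3, k4, k5, k6⟩ := klein hA1 hAw hAu hA1w hA1wu
  refine ⟨fun b => match b with | .o => 1 | .i => π • a1 | .w => π • aw | .u => π • au, ?_, rfl, ?_, ?_⟩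
  · intro b
    cases b
    · have h1 : mU 0 o 0 = (1 : M3) := by decide
      change R 1 (mU 0 o 0)
      rw [h1]
      exact hR.one
    · exact hR.smul hπ Ra1
    · exact hR.smul hπ Raw
    · exact hR.smul hπ Rau
  · intro b b'
    cases b <;> cases b'
    · exact one_mul _
    · exact one_mul _
    · exact one_mul _
    · exact one_mul _
    · exact mul_one _
    · exact hA1
    · exact k1
    · exact k3
    · exact mul_one _
    · exact k2
    · exact hAw
    · exact k5
    · exact mul_one _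
    · exact k4
    · exact k6
    · exact hAu
  · intro b
    cases b
    · exact (mul_one _).trans (one_mul _).symm
    · change y * (π • a1) = (π • au) * y
      rw [mul_smul_comm, smul_mul_assoc, ya1]
    · change y * (π • aw) = (π • a1) * y
      rw [mul_smul_comm, smul_mul_assoc, yaw]
    · change y * (π • au) = (π • aw) * y
      rw [mul_smul_comm, smul_mul_assoc, yau]

/-- the two halves -/
theorem PR.exists_sys [IsAlgClosed Ω] [Nontrivial V] :
    ∃ (A B C : F4 → Module.End Ω V) (r t y : Module.End Ω V) (z : Ω), Half R A B C r y 1 ∧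
      Half (fun g x => R g (T12.gam x)) B A C t y z := by
  have hdr : mr.det = 1 := by rw [Matrix.det_fin_three]; decide
  have hdt : mt.det = 1 := by rw [Matrix.det_fin_three]; decide
  have hdy : my.det = 1 := by rw [Matrix.det_fin_three]; decide
  obtain ⟨r, Rr, r2⟩ := hR.sqrt hdr (s := 1) (by decide) (by decide)
  obtain ⟨t, Rt, t2⟩ := hR.sqrt hdt (s := 1) (by decide) (by decide)
  obtain ⟨y0, Ry0, y03⟩ := hR.cbrt hdy (s := 1) (by decide) (by decide)
  obtain ⟨κ, hκ0, hκ⟩ := hR.rel (hR.mul Rr Ry0) (hR.mul (hR.mul Ry0 Ry0) Rr) (s := w) (by decide) (by decide +kernel)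
  have hκ3 := hR.cube_one r2 y03 hκ
  obtain ⟨y, hy⟩ : ∃ y, y = κ • y0 := ⟨_, rfl⟩
  have Ry : R y my := by rw [hy]; exact hR.smul hκ0 Ry0
  have y3 : y * y * y = 1 := by
    rw [hy, smul_mul_smul_comm, smul_mul_smul_comm, y03, ← pow_two, ← pow_succ, hκ3, one_smul]
  have hry : r * y = y * y * r := by
    rw [hy, mul_smul_comm, hκ, smul_mul_smul_comm, smul_mul_assoc, smul_smul]
  obtain ⟨z, hz0, hz⟩ := hR.rel1 (hR.mul Rt Ry) (hR.mul (hR.mul Ry Ry) Rt) (by decide +kernel)
  have hz3 := hR.cube_one t2 y3 hz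
  obtain ⟨A, RA, A0, AA, yA⟩ := hR.exists_A Rr Ry r2 y3
  have y3' : y * (y * y) = 1 := by rw [← mul_assoc, y3]
  have yr : y * r = r * (y * y) := by
    calc y * r = y * r * (y * y * y) := by rw [y3, mul_one]
      _ = y * (r * y) * (y * y) := by simp only [mul_assoc]
      _ = (y * y * y) * r * (y * y) := by rw [hry]; simp only [mul_assoc]
      _ = _ := by rw [y3, one_mul]
  have yt : y * t = z • (t * (y * y)) := by
    calc y * t = y * t * (y * y * y) := by rw [y3, mul_one]
      _ = y * (t * y) * (y * y) := by simp only [mul_assoc]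
      _ = z • ((y * y * y) * t * (y * y)) := by
        rw [hz, mul_smul_comm, smul_mul_assoc]; simp only [mul_assoc]
      _ = _ := by rw [y3, one_mul]
  have yyr : y * y * r = r * y := hry.symm
  have yyt : z • (y * y * t) = t * y := hz.symm
  obtain ⟨C, hC⟩ : ∃ C : F4 → Module.End Ω V, C = fun c => r * A c * r := ⟨_, rfl⟩
  have hCc : ∀ c, C c = r * A c * r := fun c => by rw [hC]
  have RC : ∀ c, R (C c) (mU 0 0 c) := by
    intro c
    have h1 := hR.mul (hR.mul Rr (RA c)) Rr
    have h2 : mr * mU 0 c 0 * mr = mU 0 0 c := by clear h1; revert c; decide +kernel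
    rw [h2] at h1
    rw [hCc]
    exact h1
  have CC : ∀ c c', C c * C c' = C (c + c') := by
    intro c c'
    rw [hCc, hCc, hCc, ← AA]
    calc r * A c * r * (r * A c' * r) = r * A c * (r * r) * A c' * r := by simp only [mul_assoc]
      _ = _ := by rw [r2, mul_one]; simp only [mul_assoc]
  have C0 : C 0 = 1 := by rw [hCc, A0, mul_one, r2]
  have rA : ∀ b, r * A b = C b * r := by
    intro b
    rw [hCc, mul_assoc, r2, mul_one]
  have rC : ∀ b, r * C b = A b * r := by
    intro b
    rw [hCc, ← mul_assoc, ← mul_assoc, r2, one_mul]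
  have yyA : ∀ b, y * y * A b = A (w * b) * (y * y) := by
    intro b
    rw [mul_assoc, yA, ← mul_assoc, yA, mul_assoc]
    congr 2
    revert b
    decide
  have yC : ∀ c, y * C c = C (w * c) * y := by
    intro c
    rw [hCc, hCc]
    calc y * (r * A c * r) = (y * r) * A c * r := by simp only [mul_assoc]
      _ = r * (y * y * A c) * r := by rw [yr]; simp only [mul_assoc]
      _ = r * A (w * c) * (y * y * r) := by rw [yyA]; simp only [mul_assoc]
      _ = _ := by rw [yyr]; simp only [mul_assoc]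
  have yyC : ∀ b, y * y * C b = C (u * b) * (y * y) := by
    intro b
    rw [mul_assoc, yC, ← mul_assoc, yC, mul_assoc]
    congr 2
    revert b
    decide
  obtain ⟨B, hB⟩ : ∃ B : F4 → Module.End Ω V, B = fun c => t * C c * t := ⟨_, rfl⟩
  have hBc : ∀ c, B c = t * C c * t := fun c => by rw [hB]
  have RB : ∀ c, R (B c) (mU c 0 0) := by
    intro c
    have h1 := hR.mul (hR.mul Rt (RC c)) Rt
    have h2 : mt * mU 0 0 c * mt = mU c 0 0 := by clear h1; revert c; decide +kernel
    rw [h2] at h1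
    rw [hBc]
    exact h1
  have BB : ∀ c c', B c * B c' = B (c + c') := by
    intro c c'
    rw [hBc, hBc, hBc, ← CC]
    calc t * C c * t * (t * C c' * t) = t * C c * (t * t) * C c' * t := by simp only [mul_assoc]
      _ = _ := by rw [t2, mul_one]; simp only [mul_assoc]
  have B0 : B 0 = 1 := by rw [hBc, C0, mul_one, t2]
  have tC : ∀ b, t * C b = B b * t := by
    intro b
    rw [hBc, mul_assoc, t2, mul_one]
  have tB : ∀ b, t * B b = C b * t := by
    intro b
    rw [hBc, ← mul_assoc, ← mul_assoc, t2, one_mul]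
  have yB : ∀ c, y * B c = B (u * c) * y := by
    intro c
    rw [hBc, hBc]
    calc y * (t * C c * t) = (y * t) * C c * t := by simp only [mul_assoc]
      _ = z • (t * (y * y * C c) * t) := by rw [yt, smul_mul_assoc, smul_mul_assoc]; simp only [mul_assoc]
      _ = t * C (u * c) * (z • (y * y * t)) := by rw [yyC, mul_smul_comm]; simp only [mul_assoc]
      _ = _ := by rw [yyt]; simp only [mul_assoc]
  have vec : ∀ {f g : Module.End Ω V}, f = g → ∀ v, f v = g v := fun h v => by rw [h]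
  have r1 : mr = T12.gam mt := gam_t.symm
  refine ⟨A, B, C, r, t, y, z, ?_, ?_⟩
  · exact
      { RA := RA, RB := RB, RC := RC, Rr := Rr, Ry := Ry
        A0 := vec A0, B0 := vec B0, C0 := vec C0
        AA := fun b b' v => vec (AA b b') v
        BB := fun b b' v => vec (BB b b') v
        CC := fun b b' v => vec (CC b b') v
        yA := fun b v => vec (yA b) v
        yB := fun b v => vec (yB b) v
        yC := fun b v => vec (yC b) v
        y3 := vec y3
        r2 := vec r2
        rA := fun b v => vec (rA b) v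
        rC := fun b v => vec (rC b) v
        ry := fun v => by rw [one_smul]; exact vec hry v
        z3 := one_pow 3 }
  · exact
      { RA := fun b => by
          rw [gam_U, zero_mul, add_zero]
          exact RB b
        RB := fun b => by
          rw [gam_U, mul_zero, add_zero]
          exact RA b
        RC := fun b => by
          rw [gam_U, zero_mul, zero_add]
          exact RC b
        Rr := by
          rw [gam_r]
          exact Rt
        Ry := by
          rw [gam_y]
          exact hR.smulM (by decide) Ry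
        A0 := vec B0, B0 := vec A0, C0 := vec C0
        AA := fun b b' v => vec (BB b b') v
        BB := fun b b' v => vec (AA b b') v
        CC := fun b b' v => vec (CC b b') v
        yA := fun b v => vec (yB b) v
        yB := fun b v => vec (yA b) v
        yC := fun b v => vec (yC b) v
        y3 := vec y3
        r2 := vec t2
        rA := fun b v => vec (tB b) v
        rC := fun b v => vec (tC b) v
        ry := vec hz
        z3 := hz3 }

omit hR in
/-- shifting by the diagonal automorphism -/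
theorem shift (hR : PR R) {A B C : F4 → Module.End Ω V} {r t y : Module.End Ω V} {z : Ω} (h1 : Half R A B C r y 1)
    (h2 : Half (fun g x => R g (T12.gam x)) B A C t y z) :
    Half (fun g x => R g (T12.del x)) (fun b => A (u * b)) B (fun c => C (u * c)) r y 1 ∧
      Half (fun g x => R g (T12.del (T12.gam x))) B (fun b => A (u * b)) (fun c => C (u * c)) (z • (t * y)) y z := by
  have hz0 : z ≠ 0 := by
    rintro rfl
    have := h2.z3
    rw [zero_pow (by norm_num)] at this
    exact zero_ne_one this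
  have Rt : R t mt := by rw [← gam_r]; exact h2.Rr
  have z3 : z * z * z = 1 := by rw [← h2.z3]; ring
  constructor
  · exact
      { RA := fun b => by
          rw [del_U, mul_zero]
          exact h1.RA _
        RB := fun b => by
          rw [del_U, mul_zero]
          exact h1.RB _
        RC := fun b => by
          rw [del_U, mul_zero]
          exact h1.RC _
        Rr := by
          rw [del_r]
          exact h1.Rr
        Ry := by
          rw [del_y]
          exact h1.Ry
        A0 := fun v => by rw [mul_zero]; exact h1.A0 v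
        B0 := h1.B0
        C0 := fun v => by rw [mul_zero]; exact h1.C0 v
        AA := fun b b' v => by rw [h1.AA, ← mul_add]
        BB := h1.BB
        CC := fun b b' v => by rw [h1.CC, ← mul_add]
        yA := fun b v => by rw [h1.yA, mul_left_comm]
        yB := h1.yB
        yC := fun b v => by rw [h1.yC, mul_left_comm]
        y3 := h1.y3
        r2 := h1.r2
        rA := fun b v => h1.rA _ v
        rC := fun b v => h1.rC _ v
        ry := h1.ry
        z3 := one_pow 3 }
  · exact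
      { RA := fun b => by
          rw [gam_U, zero_mul, add_zero, del_U, mul_zero]
          exact h1.RB _
        RB := fun b => by
          rw [gam_U, mul_zero, add_zero, del_U, mul_zero]
          exact h1.RA _
        RC := fun b => by
          rw [gam_U, zero_mul, zero_add, del_U, mul_zero]
          exact h1.RC _
        Rr := by
          rw [gam_r, del_t]
          exact hR.smul hz0 (hR.mul Rt h1.Ry)
        Ry := by
          rw [gam_y, del_smul, del_y]
          exact hR.smulM (by decide) h1.Ry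
        A0 := h1.B0
        B0 := fun v => by rw [mul_zero]; exact h1.A0 v
        C0 := fun v => by rw [mul_zero]; exact h1.C0 v
        AA := h1.BB
        BB := fun b b' v => by rw [h1.AA, ← mul_add]
        CC := fun b b' v => by rw [h1.CC, ← mul_add]
        yA := h1.yB
        yB := fun b v => by rw [h1.yA, mul_left_comm]
        yC := fun b v => by rw [h1.yC, mul_left_comm]
        y3 := h1.y3
        r2 := fun v => by
          simp only [LinearMap.smul_apply, Module.End.mul_apply, map_smul, h2.ry, h2.y3, h2.r2, smul_smul, z3, one_smul]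
        rA := fun b v => by
          simp only [LinearMap.smul_apply, Module.End.mul_apply, map_smul, h1.yB, h2.rA]
        rC := fun b v => by
          have e1 : w * (u * b) = b := by rw [← mul_assoc, show w * u = (1 : F4) from rfl, one_mul]
          simp only [LinearMap.smul_apply, Module.End.mul_apply, map_smul, h1.yC, h2.rC, e1]
        ry := fun v => by
          simp only [LinearMap.smul_apply, Module.End.mul_apply, map_smul, h2.ry]
        z3 := h2.z3 }

end Cfsg.Agent.H906.T12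
end

-- part: H906/T12Gen
section
/-!
# Generation and dimensions
-/

set_option autoImplicit false

namespace Cfsg.Agent.H906.T12

open F4

open Cfsg.Agent.LieClassical in
theorem gen_M3 (S : M3 → Prop) (hmul : ∀ x y, S x → S y → S (x * y)) (hU : ∀ b, S (mU 0 b 0)) (hr : S mr)
    (ht : S mt) (x : M3) (hx : x.det = 1) : S x := by
  have h12 := hU
  have h02 : ∀ b, S (mU 0 0 b) := by
    intro b
    have h1 : mr * mU 0 b 0 * mr = mU 0 0 b := by revert b; decide +kernel
    rw [← h1]
    exact hmul _ _ (hmul _ _ hr (hU b)) hr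
  have h01 : ∀ b, S (mU b 0 0) := by
    intro b
    have h1 : mt * mU 0 0 b * mt = mU b 0 0 := by revert b; decide +kernel
    rw [← h1]
    exact hmul _ _ (hmul _ _ ht (h02 b)) ht
  have h21 : ∀ b, S (mt * mU 0 b 0 * mt) := fun b => hmul _ _ (hmul _ _ ht (hU b)) ht
  have h10 : ∀ b, S (mr * mU b 0 0 * mr) := fun b => hmul _ _ (hmul _ _ hr (h01 b)) hr
  have h20 : ∀ b, S (mr * (mt * mU 0 b 0 * mt) * mr) := fun b => hmul _ _ (hmul _ _ hr (h21 b)) hr
  have e01 : ∀ c : F4, Matrix.transvection (0 : Fin 3) 1 c = mU c 0 0 := by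
    intro c
    ext i j
    (revert i j; simp only [Matrix.transvection, mU, Matrix.single, _root_.Fin.forall_fin_succ, Fin.isValue, _root_.Matrix.add_apply, _root_.Matrix.of_apply, _root_.Matrix.cons_val', _root_.Matrix.cons_val_fin_one, _root_.one_ne_zero, _root_.and_false, ↓reduceIte, _root_.add_zero, _root_.Matrix.cons_val_zero, _root_.Matrix.cons_val_succ, _root_.Fin.succ_zero_eq_one, _root_.and_true, _root_.Fin.succ_one_eq_two, Fin.reduceEq, _root_.IsEmpty.forall_iff, _root_.Matrix.one_apply_eq, Nat.reduceAdd, _root_.ne_eq, _root_.zero_ne_one, _root_.not_false_eq_true, _root_.Matrix.one_apply_ne, _root_.zero_add, _root_.and_self, _root_.Fin.succ_ne_zero, _root_.true_and])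
  have e02 : ∀ c : F4, Matrix.transvection (0 : Fin 3) 2 c = mU 0 0 c := by
    intro c
    ext i j
    (revert i j; simp only [Matrix.transvection, mU, Matrix.single, _root_.Fin.forall_fin_succ, Fin.isValue, _root_.Matrix.add_apply, _root_.Matrix.of_apply, _root_.Matrix.cons_val', _root_.Matrix.cons_val_fin_one, Fin.reduceEq, _root_.and_false, ↓reduceIte, _root_.add_zero, _root_.Matrix.cons_val_zero, _root_.Matrix.cons_val_succ, _root_.Fin.succ_zero_eq_one, _root_.Fin.succ_one_eq_two, _root_.and_true, _root_.IsEmpty.forall_iff, _root_.Matrix.one_apply_eq, Nat.reduceAdd, _root_.ne_eq, _root_.zero_ne_one, _root_.not_false_eq_true, _root_.Matrix.one_apply_ne, _root_.zero_add, _root_.and_self, _root_.Fin.succ_ne_zero, _root_.true_and])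
  have e12 : ∀ c : F4, Matrix.transvection (1 : Fin 3) 2 c = mU 0 c 0 := by
    intro c
    ext i j
    (revert i j; simp only [Matrix.transvection, mU, Matrix.single, _root_.Fin.forall_fin_succ, Fin.isValue, _root_.Matrix.add_apply, _root_.Matrix.of_apply, _root_.Matrix.cons_val', _root_.Matrix.cons_val_fin_one, Fin.reduceEq, _root_.and_false, ↓reduceIte, _root_.add_zero, _root_.Matrix.cons_val_zero, _root_.Matrix.cons_val_succ, _root_.Fin.succ_zero_eq_one, _root_.Fin.succ_one_eq_two, _root_.and_true, _root_.IsEmpty.forall_iff, _root_.Matrix.one_apply_eq, Nat.reduceAdd, _root_.ne_eq, _root_.zero_ne_one, _root_.not_false_eq_true, _root_.Matrix.one_apply_ne, _root_.one_ne_zero, _root_.and_self, _root_.Fin.succ_ne_zero, _root_.zero_add, _root_.true_and])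
  have e10 : ∀ c : F4, Matrix.transvection (1 : Fin 3) 0 c = mr * mU c 0 0 * mr := by
    intro c
    have h1 : mr * mU c 0 0 * mr = !![1, 0, 0; c, 1, 0; 0, 0, 1] := by revert c; decide +kernel
    rw [h1]
    ext i j
    (revert i j; simp only [Matrix.transvection, Matrix.single, _root_.Fin.forall_fin_succ, Fin.isValue, _root_.Matrix.add_apply, _root_.Matrix.of_apply, _root_.Matrix.cons_val', _root_.Matrix.cons_val_fin_one, _root_.and_true, _root_.Matrix.cons_val_zero, _root_.Matrix.cons_val_succ, _root_.Fin.succ_zero_eq_one, _root_.zero_ne_one, _root_.and_false, ↓reduceIte, _root_.add_zero, _root_.Fin.succ_one_eq_two, Fin.reduceEq, _root_.IsEmpty.forall_iff, _root_.Matrix.one_apply_eq, _root_.one_ne_zero, Nat.reduceAdd, _root_.ne_eq, _root_.not_false_eq_true, _root_.Matrix.one_apply_ne, _root_.and_self, _root_.Fin.succ_ne_zero, _root_.zero_add, _root_.ite_eq_right_iff])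
  have e21 : ∀ c : F4, Matrix.transvection (2 : Fin 3) 1 c = mt * mU 0 c 0 * mt := by
    intro c
    have h1 : mt * mU 0 c 0 * mt = !![1, 0, 0; 0, 1, 0; 0, c, 1] := by revert c; decide +kernel
    rw [h1]
    ext i j
    (revert i j; simp only [Matrix.transvection, Matrix.single, _root_.Fin.forall_fin_succ, Fin.isValue, _root_.Matrix.add_apply, _root_.Matrix.of_apply, _root_.Matrix.cons_val', _root_.Matrix.cons_val_fin_one, _root_.one_ne_zero, _root_.and_false, ↓reduceIte, _root_.add_zero, _root_.Matrix.cons_val_zero, _root_.Matrix.cons_val_succ, _root_.Fin.succ_zero_eq_one, _root_.and_true, _root_.Fin.succ_one_eq_two, Fin.reduceEq, _root_.IsEmpty.forall_iff, _root_.Matrix.one_apply_eq, Nat.reduceAdd, _root_.ne_eq, _root_.zero_ne_one, _root_.not_false_eq_true, _root_.Matrix.one_apply_ne, _root_.and_self, _root_.Fin.succ_ne_zero, _root_.true_and, _root_.zero_add])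
  have e20 : ∀ c : F4, Matrix.transvection (2 : Fin 3) 0 c = mr * (mt * mU 0 c 0 * mt) * mr := by
    intro c
    have h1 : mr * (mt * mU 0 c 0 * mt) * mr = !![1, 0, 0; 0, 1, 0; c, 0, 1] := by revert c; decide +kernel
    rw [h1]
    ext i j
    (revert i j; simp only [Matrix.transvection, Matrix.single, _root_.Fin.forall_fin_succ, Fin.isValue, _root_.Matrix.add_apply, _root_.Matrix.of_apply, _root_.Matrix.cons_val', _root_.Matrix.cons_val_fin_one, _root_.and_true, _root_.Matrix.cons_val_zero, _root_.Matrix.cons_val_succ, _root_.Fin.succ_zero_eq_one, _root_.zero_ne_one, _root_.and_false, ↓reduceIte, _root_.add_zero, _root_.Fin.succ_one_eq_two, Fin.reduceEq, _root_.IsEmpty.forall_iff, _root_.Matrix.one_apply_eq, Nat.reduceAdd, _root_.ne_eq, _root_.not_false_eq_true, _root_.Matrix.one_apply_ne, _root_.and_self, _root_.Fin.succ_ne_zero, _root_.zero_add, _root_.ite_eq_left_iff, _root_.not_true_eq_false])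
  have key : ∀ X : Matrix.SpecialLinearGroup (Fin 3) F4, S X.1 := by
    intro X
    refine SLGen.transvection_induction (fun X => S X.1) ?_ ?_ X
    · intro i j hij c
      change S (Matrix.transvection i j c)
      fin_cases i <;> fin_cases j
      · exact absurd rfl hij
      · change S (Matrix.transvection (0 : Fin 3) 1 c)
        rw [e01]; exact h01 c
      · change S (Matrix.transvection (0 : Fin 3) 2 c)
        rw [e02]; exact h02 c
      · change S (Matrix.transvection (1 : Fin 3) 0 c)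
        rw [e10]; exact h10 c
      · exact absurd rfl hij
      · change S (Matrix.transvection (1 : Fin 3) 2 c)
        rw [e12]; exact h12 c
      · change S (Matrix.transvection (2 : Fin 3) 0 c)
        rw [e20]; exact h20 c
      · change S (Matrix.transvection (2 : Fin 3) 1 c)
        rw [e21]; exact h21 c
      · exact absurd rfl hij
    · intro X Y h1 h2
      exact hmul _ _ h1 h2
  exact key ⟨x, hx⟩

variable {Ω V : Type*} [Field Ω] [AddCommGroup V] [Module Ω V]
variable {R : Module.End Ω V → M3 → Prop} (hR : PR R)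

include hR in
/-- irreducibility in terms of generators -/
theorem PR.irr_gen {A : F4 → Module.End Ω V} {r t : Module.End Ω V} (RA : ∀ b, R (A b) (mU 0 b 0)) (Rr : R r mr)
    (Rt : R t mt) (W : Submodule Ω V) (hA : ∀ b, ∀ v ∈ W, A b v ∈ W) (hr : ∀ v ∈ W, r v ∈ W)
    (ht : ∀ v ∈ W, t v ∈ W) : W = ⊥ ∨ W = ⊤ := by
  apply hR.irr
  intro g x hg
  have h1 : ∃ g', R g' x ∧ ∀ v ∈ W, g' v ∈ W := by
    refine gen_M3 (fun x => ∃ g', R g' x ∧ ∀ v ∈ W, g' v ∈ W) ?_ ?_ ?_ ?_ x (hR.det hg)
    · rintro x y ⟨g, hg, h⟩ ⟨g', hg', h'⟩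
      exact ⟨g * g', hR.mul hg hg', fun v hv => h _ (h' v hv)⟩
    · exact fun b => ⟨A b, RA b, hA b⟩
    · exact ⟨r, Rr, hr⟩
    · exact ⟨t, Rt, ht⟩
  obtain ⟨g', hg', h⟩ := h1
  obtain ⟨c, -, rfl⟩ := hR.eq hg hg'
  intro v hv
  exact W.smul_mem c (h v hv)

end Cfsg.Agent.H906.T12
end

-- part: H906/T12Dim
section
/-!
# Weight spaces of a Klein four group
-/

set_option autoImplicit false

namespace Cfsg.Agent.H906.T12

open F4

variable {Ω V : Type*} [Field Ω] [AddCommGroup V] [Module Ω V]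

/-- the additive character -/
def ch {Ω : Type*} [Field Ω] (x : F4) : Ω := ((sg x : ℤ) : Ω)

lemma ch_zero : (ch 0 : Ω) = 1 := by
  change ((1 : ℤ) : Ω) = 1
  simp

lemma ch_one : (ch 1 : Ω) = 1 := by
  change ((1 : ℤ) : Ω) = 1
  simp

lemma ch_w : (ch w : Ω) = -1 := by
  change ((-1 : ℤ) : Ω) = -1
  simp

lemma ch_u : (ch u : Ω) = -1 := by
  change ((-1 : ℤ) : Ω) = -1
  simp

lemma sg_add (x y : F4) : sg (x + y) = sg x * sg y := by revert x y; decide

lemma ch_add (x y : F4) : (ch (x + y) : Ω) = ch x * ch y := by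
  unfold ch
  rw [sg_add, Int.cast_mul]

lemma ch_mul_self (x : F4) : (ch x : Ω) * ch x = 1 := by
  rw [← ch_add, show x + x = 0 by revert x; decide, ch_zero]

lemma ch_congr {x y : F4} (h : sg x = sg y) : (ch x : Ω) = ch y := by
  unfold ch
  rw [h]

lemma csum (x : F4) : ∑ c, (ch (x * c) : Ω) = if x = 0 then 4 else 0 := by
  rw [sum_four]
  cases x
  · change ch 0 + ch 0 + ch 0 + ch 0 = (4 : Ω)
    rw [ch_zero]; norm_num
  · change ch 0 + ch 1 + ch w + ch u = (0 : Ω)
    rw [ch_zero, ch_one, ch_w, ch_u]; norm_num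
  · change ch 0 + ch w + ch u + ch 1 = (0 : Ω)
    rw [ch_zero, ch_one, ch_w, ch_u]; norm_num
  · change ch 0 + ch u + ch 1 + ch w = (0 : Ω)
    rw [ch_zero, ch_one, ch_w, ch_u]; norm_num

/-- the weight spaces -/
def wt (C : F4 → Module.End Ω V) (γ : F4) : Submodule Ω V where
  carrier := {v | ∀ c, C c v = (ch (γ * c) : Ω) • v}
  add_mem' := fun {a b} ha hb c => by rw [map_add, ha c, hb c, smul_add]
  zero_mem' := fun c => by rw [map_zero, smul_zero]
  smul_mem' := fun k v hv c => by rw [map_smul, hv c, smul_comm]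

variable {C : F4 → Module.End Ω V} (h2 : (2 : Ω) ≠ 0) (C0 : ∀ v, C 0 v = v) (CC : ∀ b b' v, C b (C b' v) = C (b + b') v)

/-- the projections -/
noncomputable def pr (C : F4 → Module.End Ω V) (γ : F4) : Module.End Ω V := (4 : Ω)⁻¹ • ∑ c, (ch (γ * c) : Ω) • C c

lemma pr_apply (γ : F4) (v : V) : pr C γ v = (4 : Ω)⁻¹ • ∑ c, (ch (γ * c) : Ω) • C c v := by
  unfold pr
  rw [LinearMap.smul_apply, LinearMap.sum_apply]
  rfl

include CC in
lemma pr_mem (γ : F4) (v : V) : pr C γ v ∈ wt C γ := by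
  intro d
  rw [pr_apply, map_smul, map_sum, smul_comm]
  congr 1
  rw [Finset.smul_sum]
  have h1 : ∀ c, C d ((ch (γ * c) : Ω) • C c v) = (ch (γ * d) : Ω) • (ch (γ * (d + c)) : Ω) • C (d + c) v := by
    intro c
    rw [map_smul, CC, smul_smul]
    congr 1
    rw [mul_add, ch_add, ← mul_assoc, ch_mul_self, one_mul]
  rw [Finset.sum_congr rfl fun c _ => h1 c]
  exact Fintype.sum_equiv (Equiv.addLeft d) _ _ fun c => rfl

include h2

lemma four_ne : (4 : Ω) ≠ 0 := by
  have : (4 : Ω) = 2 * 2 := by norm_num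
  rw [this]
  exact mul_ne_zero h2 h2

include C0 in
lemma sum_pr (v : V) : ∑ γ, pr C γ v = v := by
  simp only [pr_apply]
  rw [← Finset.smul_sum, Finset.sum_comm]
  have h1 : ∀ c, ∑ γ, (ch (γ * c) : Ω) • C c v = (if c = 0 then (4 : Ω) else 0) • C c v := by
    intro c
    rw [← Finset.sum_smul, ← csum c]
    congr 1
    exact Finset.sum_congr rfl fun x _ => by rw [mul_comm]
  rw [Finset.sum_congr rfl fun c _ => h1 c]
  simp only [ite_smul, zero_smul, Finset.sum_ite_eq', Finset.mem_univ, if_true]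
  rw [C0, smul_smul, inv_mul_cancel₀ (four_ne h2), one_smul]

omit h2 in
lemma pr_of_wt (h2 : (2 : Ω) ≠ 0) {γ δ : F4} {v : V} (hv : v ∈ wt C δ) : pr C γ v = if γ = δ then v else 0 := by
  rw [pr_apply]
  have h1 : ∀ c, (ch (γ * c) : Ω) • C c v = (ch ((γ + δ) * c) : Ω) • v := by
    intro c
    rw [hv c, smul_smul, add_mul, ch_add]
  rw [Finset.sum_congr rfl fun c _ => h1 c, ← Finset.sum_smul, csum]
  by_cases h : γ = δ
  · have h3 : γ + δ = 0 := (show ∀ a b : F4, a = b → a + b = 0 by decide) _ _ h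
    rw [if_pos h3, if_pos h, smul_smul, inv_mul_cancel₀ (four_ne h2), one_smul]
  · have h3 : γ + δ ≠ 0 := (show ∀ a b : F4, a ≠ b → a + b ≠ 0 by decide) _ _ h
    rw [if_neg h3, if_neg h, zero_smul, smul_zero]

include C0 CC

/-- dimensions of the weight spaces -/
theorem finrank_wt [FiniteDimensional Ω V] (U : Submodule Ω V) (hU : ∀ c, ∀ v ∈ U, C c v ∈ U) :
    Module.finrank Ω U = ∑ γ, Module.finrank Ω ↥(U ⊓ wt C γ) := by
  let Φ : (∀ γ : F4, ↥(U ⊓ wt C γ)) →ₗ[Ω] U :=
    { toFun := fun f => ⟨∑ γ, (f γ : V), U.sum_mem fun γ _ => (f γ).2.1⟩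
      map_add' := fun f g => Subtype.ext (by
        change ∑ γ, ((f γ : V) + (g γ : V)) = _
        rw [Finset.sum_add_distrib]; rfl)
      map_smul' := fun c f => Subtype.ext (by
        change ∑ γ, c • (f γ : V) = _
        rw [← Finset.smul_sum]; rfl) }
  have hprU : ∀ γ, ∀ v ∈ U, pr C γ v ∈ U := by
    intro γ v hv
    rw [pr_apply]
    exact U.smul_mem _ (U.sum_mem fun c _ => U.smul_mem _ (hU c v hv))
  have hinj : Function.Injective Φ := by
    rw [← LinearMap.ker_eq_bot, LinearMap.ker_eq_bot']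
    intro f hf
    have h1 : ∑ γ, (f γ : V) = 0 := congrArg Subtype.val hf
    funext δ
    apply Subtype.ext
    have h3 := congrArg (pr C δ) h1
    rw [map_sum, map_zero] at h3
    have h4 : ∀ γ, pr C δ (f γ : V) = if δ = γ then (f γ : V) else 0 := fun γ => pr_of_wt h2 (f γ).2.2
    rw [Finset.sum_congr rfl fun γ _ => h4 γ, Finset.sum_ite_eq, if_pos (Finset.mem_univ _)] at h3
    exact h3
  have hsurj : Function.Surjective Φ := by
    intro v
    refine ⟨fun γ => ⟨pr C γ v, hprU γ v v.2, pr_mem CC γ v⟩, ?_⟩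
    exact Subtype.ext (sum_pr h2 C0 (v : V))
  rw [← (LinearEquiv.ofBijective Φ ⟨hinj, hsurj⟩).finrank_eq, Module.finrank_pi_fintype]

omit C0 CC h2 in
/-- equal dimensions -/
lemma finrank_le_of_map [FiniteDimensional Ω V] {g : Module.End Ω V} (hg : ∀ v, g v = 0 → v = 0) {U U' : Submodule Ω V}
    (h : ∀ v ∈ U, g v ∈ U') : Module.finrank Ω U ≤ Module.finrank Ω U' := by
  apply LinearMap.finrank_le_finrank_of_injective (f := g.restrict (p := U) (q := U') h)
  rw [← LinearMap.ker_eq_bot, LinearMap.ker_eq_bot']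
  intro v hv
  apply Subtype.ext
  exact hg v (congrArg Subtype.val hv)

end Cfsg.Agent.H906.T12
end

-- part: H906/T12Pair
section
/-!
# Commutators of the root groups
-/

set_option autoImplicit false

namespace Cfsg.Agent.H906.T12

open F4

variable {Ω V : Type*} [Field Ω] [AddCommGroup V] [Module Ω V]

/-- commutators -/
structure Pairing (A B C : F4 → Module.End Ω V) (s : F4 → Ω) (ζ : F4 → F4 → Ω) : Prop where
  s1 : ∀ x, s x = 1 ∨ s x = -1
  sadd : ∀ x x', s (x + x') = s x * s x'
  CA : ∀ c b v, C c (A b v) = s (c * b) • A b (C c v)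
  CB : ∀ c a v, C c (B a v) = s (c * a * (c * a)) • B a (C c v)
  BA : ∀ a b v, B a (A b v) = ζ a b • A b (C (a * b) (B a v))
  zinv : ∀ a b, ζ (u * a) (u * b) = ζ a b
  zadd : ∀ a b b', ζ a (b + b') = ζ a b * ζ a b' * s (a * b * b')
  zsq : ∀ a b, ζ a b * ζ a b * s (a * b * b) = 1

variable {R : Module.End Ω V → M3 → Prop}

lemma PR.cancelv (hR : PR R) [Nontrivial V] {g : Module.End Ω V} {x : M3} (h : R g x) {a b : Ω}
    (hab : ∀ v, a • g v = b • g v) : a = b :=
  hR.cancel h (LinearMap.ext hab)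

theorem Half.exists_pairing (hR : PR R) [Nontrivial V] {A B C : F4 → Module.End Ω V} {r y : Module.End Ω V} {z : Ω}
    (H : Half R A B C r y z) : ∃ (s : F4 → Ω) (ζ : F4 → F4 → Ω), Pairing A B C s ζ := by
  have self : ∀ c : F4, c + c = 0 := by decide
  have hCC : ∀ c, C c * C c = 1 := by
    intro c
    ext v
    change C c (C c v) = v
    rw [H.CC, self, H.C0]
  have hσ : ∀ c b, ∃ s : Ω, (s = 1 ∨ s = -1) ∧ C c * A b = s • (A b * C c) := fun c b =>
    hR.sign (H.RC c) (H.RA b) (by revert c b; decide +kernel) (hCC c)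
  have hτ : ∀ c b, ∃ s : Ω, (s = 1 ∨ s = -1) ∧ C c * B b = s • (B b * C c) := fun c b =>
    hR.sign (H.RC c) (H.RB b) (by revert c b; decide +kernel) (hCC c)
  have hζ : ∀ a b, ∃ c : Ω, c ≠ 0 ∧ B a * A b = c • (A b * C (a * b) * B a) := fun a b =>
    hR.rel1 (hR.mul (H.RB a) (H.RA b)) (hR.mul (hR.mul (H.RA b) (H.RC (a * b))) (H.RB a)) (by revert a b; decide +kernel)
  choose σ σ1 σ2 using hσ
  choose τ τ1 τ2 using hτ
  choose ζ ζ0 ζ2 using hζ
  have σv : ∀ c b v, C c (A b v) = σ c b • A b (C c v) := fun c b v => LinearMap.congr_fun (σ2 c b) v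
  have τv : ∀ c b v, C c (B b v) = τ c b • B b (C c v) := fun c b v => LinearMap.congr_fun (τ2 c b) v
  have ζv : ∀ a b v, B a (A b v) = ζ a b • A b (C (a * b) (B a v)) := fun c b v => LinearMap.congr_fun (ζ2 c b) v
  have σadd : ∀ c b b', σ c (b + b') = σ c b * σ c b' := by
    intro c b b'
    apply hR.cancelv (hR.mul (H.RA (b + b')) (H.RC c))
    intro v
    change σ c (b + b') • A (b + b') (C c v) = (σ c b * σ c b') • A (b + b') (C c v)
    rw [← σv, ← H.AA, σv, σv, map_smul, smul_smul, H.AA]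
  have σadd' : ∀ c c' b, σ (c + c') b = σ c b * σ c' b := by
    intro c c' b
    apply hR.cancelv (hR.mul (H.RA b) (H.RC (c + c')))
    intro v
    change σ (c + c') b • A b (C (c + c') v) = (σ c b * σ c' b) • A b (C (c + c') v)
    rw [← σv, ← H.CC, σv, map_smul, σv, smul_smul, H.CC, mul_comm]
  have σinv : ∀ c b, σ (w * c) (u * b) = σ c b := by
    intro c b
    apply hR.cancelv (hR.mul (hR.mul (H.RA (u * b)) (H.RC (w * c))) H.Ry)
    intro v
    change σ (w * c) (u * b) • A (u * b) (C (w * c) (y v)) = σ c b • A (u * b) (C (w * c) (y v))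
    have h1 : y (C c (A b v)) = C (w * c) (A (u * b) (y v)) := by rw [H.yC, H.yA]
    have h2 : y (C c (A b v)) = σ c b • A (u * b) (C (w * c) (y v)) := by rw [σv, map_smul, H.yA, H.yC]
    rw [← σv, ← h1, h2]
  have h0 : ∀ c, σ c 0 = 1 := by
    intro c
    have h1 := σadd c 0 0
    rw [add_zero] at h1
    rcases σ1 c 0 with h | h
    · exact h
    · rw [h] at h1 ⊢
      linear_combination h1
  have h0' : ∀ c, σ 0 c = 1 := by
    intro c
    have h1 := σadd' 0 0 c
    rw [add_zero] at h1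
    rcases σ1 0 c with h | h
    · exact h
    · rw [h] at h1 ⊢
      linear_combination h1
  have σs : ∀ c b, σ c b = σ (c * b) 1 := by
    intro c b
    cases b
    · change σ c 0 = σ (c * 0) 1
      rw [mul_zero, h0, h0']
    · change σ c 1 = σ (c * 1) 1
      rw [mul_one]
    · rw [← σinv c w]
      have e1 : w * c = c * w := mul_comm _ _
      rw [e1]; rfl
    · rw [← σinv c u, ← σinv (w * c) (u * u)]
      have e1 : w * (w * c) = c * u := by revert c; decide
      rw [e1]; rfl
  -- additivity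
  have zinv : ∀ a b, ζ (u * a) (u * b) = ζ a b := by
    intro a b
    have e1 : u * a * (u * b) = w * (a * b) := by revert a b; decide
    apply hR.cancelv (hR.mul (hR.mul (hR.mul (H.RA (u * b)) (H.RC (w * (a * b)))) (H.RB (u * a))) H.Ry)
    intro v
    change ζ (u * a) (u * b) • A (u * b) (C (w * (a * b)) (B (u * a) (y v))) =
      ζ a b • A (u * b) (C (w * (a * b)) (B (u * a) (y v)))
    have h1 : y (B a (A b v)) = B (u * a) (A (u * b) (y v)) := by rw [H.yB, H.yA]
    have h2 : y (B a (A b v)) = ζ a b • A (u * b) (C (w * (a * b)) (B (u * a) (y v))) := by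
      rw [ζv, map_smul, H.yA, H.yC, H.yB]
    rw [← h2, h1, ζv, e1]
  have zadd : ∀ a b b', ζ a (b + b') = ζ a b * ζ a b' * σ (a * b * b') 1 := by
    intro a b b'
    apply hR.cancelv (hR.mul (hR.mul (H.RA (b + b')) (H.RC (a * (b + b')))) (H.RB a))
    intro v
    change ζ a (b + b') • A (b + b') (C (a * (b + b')) (B a v)) =
      (ζ a b * ζ a b' * σ (a * b * b') 1) • A (b + b') (C (a * (b + b')) (B a v))
    rw [← ζv, ← H.AA, ζv, ζv, map_smul, map_smul, σv, map_smul, smul_smul, smul_smul, H.AA, H.CC, mul_add, ← σs,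
      mul_assoc]
  have zsq : ∀ a b, ζ a b * ζ a b * σ (a * b * b) 1 = 1 := by
    intro a b
    apply hR.cancelv (H.RB a)
    intro v
    have h1 : B a (A b (A b v)) = (ζ a b * ζ a b * σ (a * b * b) 1) • B a v := by
      rw [ζv, ζv, map_smul, map_smul, σv, map_smul, smul_smul, smul_smul, H.AA, H.CC, self, self, H.A0, H.C0, ← σs,
        mul_assoc]
    rw [← h1, H.AA, self, H.A0, one_smul]
  have zsq' : ∀ a b, ζ a b * ζ a b * τ (a * b) a = 1 := by
    intro a b
    apply hR.cancelv (H.RA b)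
    intro v
    have h1 : B a (B a (A b v)) = (ζ a b * ζ a b * τ (a * b) a) • A b v := by
      rw [ζv, map_smul, ζv, τv (a * b) a (C (a * b) (B a v)), map_smul, smul_smul, smul_smul, H.CC, self, H.C0, H.BB,
        self, H.B0, mul_assoc]
    rw [← h1, H.BB, self, H.B0, one_smul]
  refine ⟨fun x => σ x 1, ζ, ⟨fun x => σ1 x 1, fun x x' => σadd' x x' 1, ?_, ?_, ζv, zinv, zadd, zsq⟩⟩
  · intro c b v
    rw [← σs, σv]
  · intro c a v
    have h1 : τ c a = σ (c * a * (c * a)) 1 := by
      by_cases ha : a = 0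
      · rw [ha, mul_zero, mul_zero, h0']
        apply hR.cancelv (H.RC c)
        intro v
        have h2 := τv c 0 v
        rw [H.B0, H.B0] at h2
        rw [← h2, one_smul]
      · have e1 : ∀ a c : F4, a ≠ 0 → a * (a * a * c) = c ∧ a * (a * a * c) * (a * a * c) = c * a * (c * a) := by
          decide
        obtain ⟨e2, e3⟩ := e1 a c ha
        have f1 := zsq a (a * a * c)
        have f2 := zsq' a (a * a * c)
        rw [e2] at f2
        rw [e3] at f1
        have f3 : ζ a (a * a * c) * ζ a (a * a * c) ≠ 0 := mul_ne_zero (ζ0 _ _) (ζ0 _ _)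
        exact mul_left_cancel₀ f3 (by rw [f1, f2])
    rw [τv, h1]

omit [AddCommGroup V] [Module Ω V] in
/-- sign characters -/
theorem sign_cases {s : F4 → Ω} (s1 : ∀ x, s x = 1 ∨ s x = -1) (sadd : ∀ x x', s (x + x') = s x * s x') :
    (∀ x, s x = 1) ∨ (∀ x, s x = ch x) ∨ (∀ x, s (w * x) = ch x) ∨ (∀ x, s (u * x) = ch x) := by
  have h0 : s 0 = 1 := by
    have h1 := sadd 0 0
    rw [add_zero] at h1
    rcases s1 0 with h | h
    · exact h
    · rw [h] at h1 ⊢
      linear_combination h1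
  have hu : s u = s 1 * s w := by
    have h1 := sadd 1 w
    exact h1
  rcases s1 1 with h1 | h1 <;> rcases s1 w with hw | hw
  · left
    intro x
    cases x
    · exact h0
    · exact h1
    · exact hw
    · change s u = 1
      rw [hu, h1, hw, one_mul]
  · right; left
    intro x
    cases x
    · exact h0.trans ch_zero.symm
    · exact h1.trans ch_one.symm
    · exact hw.trans ch_w.symm
    · change s u = ch u
      rw [hu, h1, hw, one_mul, ch_u]
  · right; right; left
    intro x
    cases x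
    · exact h0.trans ch_zero.symm
    · exact hw.trans ch_one.symm
    · change s u = ch w
      rw [hu, h1, hw, ch_w, mul_one]
    · exact h1.trans ch_u.symm
  · right; right; right
    intro x
    cases x
    · exact h0.trans ch_zero.symm
    · change s u = ch 1
      rw [hu, h1, hw, ch_one]; ring
    · exact h1.trans ch_w.symm
    · exact hw.trans ch_u.symm

/-- shifted commutators -/
theorem Pairing.shift {A B C : F4 → Module.End Ω V} {s : F4 → Ω} {ζ : F4 → F4 → Ω} (h : Pairing A B C s ζ) :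
    Pairing (fun b => A (u * b)) B (fun c => C (u * c)) (fun x => s (w * x)) (fun a b => ζ a (u * b)) where
  s1 := fun x => h.s1 _
  sadd := fun x x' => by rw [mul_add, h.sadd]
  CA := fun c b v => by
    rw [h.CA]
    congr 2
    revert c b
    decide
  CB := fun c a v => by
    rw [h.CB]
    congr 2
    revert c a
    decide
  BA := fun a b v => by
    rw [h.BA]
    congr 4
    revert a b
    decide
  zinv := fun a b => h.zinv a (u * b)
  zadd := fun a b b' => by
    rw [mul_add, h.zadd]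
    congr 2
    revert a b b'
    decide +kernel
  zsq := fun a b => by
    have h1 := h.zsq a (u * b)
    have e1 : a * (u * b) * (u * b) = w * (a * b * b) :=
      (show ∀ a b : F4, a * (u * b) * (u * b) = w * (a * b * b) by decide) a b
    rw [e1] at h1
    exact h1

end Cfsg.Agent.H906.T12
end

-- part: H906/T12A
section
/-!
# The case of commuting lifts
-/

set_option autoImplicit false

namespace Cfsg.Agent.H906.T12

open F4

variable {Ω V : Type*} [Field Ω] [AddCommGroup V] [Module Ω V]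
variable {R : Module.End Ω V → M3 → Prop} {A B C : F4 → Module.End Ω V} {r y : Module.End Ω V} {z : Ω}

lemma Half.Cy (H : Half R A B C r y z) (c : F4) (v : V) : C c (y v) = y (C (u * c) v) := by
  rw [H.yC]
  congr 2
  revert c
  decide

lemma Half.Ay (H : Half R A B C r y z) (c : F4) (v : V) : A c (y v) = y (A (w * c) v) := by
  rw [H.yA]
  congr 2
  revert c
  decide

lemma Half.By (H : Half R A B C r y z) (c : F4) (v : V) : B c (y v) = y (B (w * c) v) := by
  rw [H.yB]
  congr 2
  revert c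
  decide

lemma Half.y_inj (H : Half R A B C r y z) {v : V} (hv : y v = 0) : v = 0 := by
  rw [← H.y3 v, hv, map_zero, map_zero]

lemma add_same : ∀ b : F4, b + b = 0 := by decide

lemma Half.A_inj (H : Half R A B C r y z) (b : F4) {v : V} (hv : A b v = 0) : v = 0 := by
  rw [← H.A0 v, ← add_same b, ← H.AA, hv, map_zero]

lemma Half.B_inj (H : Half R A B C r y z) (b : F4) {v : V} (hv : B b v = 0) : v = 0 := by
  rw [← H.B0 v, ← add_same b, ← H.BB, hv, map_zero]

lemma Half.r_inj (H : Half R A B C r y z) {v : V} (hv : r v = 0) : v = 0 := by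
  rw [← H.r2 v, hv, map_zero]

/-- the root group of `C` has no fixed vectors if ... -/
lemma Half.A_fix (H : Half R A B C r y z) (hC : wt C 0 = ⊥) {v : V} (hv : ∀ b, A b v = v) : v = 0 := by
  apply H.r_inj
  have h1 : r v ∈ wt C 0 := by
    intro c
    rw [← H.rA, hv, zero_mul, ch_zero, one_smul]
  rw [hC] at h1
  exact h1

section dims

variable [FiniteDimensional Ω V]

lemma Half.n_eq (H : Half R A B C r y z) : Module.finrank Ω (wt C 1) = Module.finrank Ω (wt C u) ∧
    Module.finrank Ω (wt C u) = Module.finrank Ω (wt C w) := by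
  have key : ∀ γ, Module.finrank Ω (wt C γ) ≤ Module.finrank Ω (wt C (u * γ)) := by
    intro γ
    apply finrank_le_of_map (g := y) (fun v hv => H.y_inj hv)
    intro v hv c
    rw [H.Cy, hv, map_smul]
    congr 1
    exact ch_congr ((show ∀ γ c : F4, sg (γ * (u * c)) = sg (u * γ * c) by decide) γ c)
  have h1 := key 1
  have h2 := key u
  have h3 := key w
  change _ ≤ Module.finrank Ω (wt C u) at h1
  change _ ≤ Module.finrank Ω (wt C w) at h2
  change _ ≤ Module.finrank Ω (wt C 1) at h3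
  omega

lemma Half.n_sum (H : Half R A B C r y z) (h2 : (2 : Ω) ≠ 0) :
    Module.finrank Ω V = Module.finrank Ω (wt C 0) + 3 * Module.finrank Ω (wt C 1) := by
  have h1 := finrank_wt h2 H.C0 H.CC ⊤ (fun _ _ _ => trivial)
  have h5 : ∀ γ, Module.finrank Ω ↥(⊤ ⊓ wt C γ) = Module.finrank Ω (wt C γ) := fun γ => by rw [top_inf_eq]
  rw [sum_four, h5, h5, h5, h5, finrank_top] at h1
  obtain ⟨h3, h4⟩ := H.n_eq
  omega

/-- `C` is not trivial -/
lemma Half.n_zero_ne (H : Half R A B C r y z) (hR : PR R) :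
    Module.finrank Ω (wt C 0) ≠ Module.finrank Ω V := by
  intro h0
  have h1 : wt C 0 = ⊤ := Submodule.eq_top_of_finrank_eq h0
  have h3 : C 1 = 1 := by
    ext v
    have h4 : v ∈ wt C 0 := by rw [h1]; trivial
    rw [h4 1, zero_mul, ch_zero, one_smul]
    rfl
  have h5 := H.RC 1
  rw [h3] at h5
  obtain ⟨s, hs⟩ := hR.faith h5
  revert s
  decide

end dims

/-- commuting lifts, linear action -/
theorem caseA0 [FiniteDimensional Ω V] (hR : PR R) (h2 : (2 : Ω) ≠ 0) (h12 : Module.finrank Ω V = 12)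
    (H : Half R A B C r y z) (CA : ∀ c b v, C c (A b v) = A b (C c v)) (CB : ∀ c b v, C c (B b v) = B b (C c v))
    (BA : ∀ a b v, B a (A b v) = A b (C (a * b) (B a v))) : False := by
  have h3 := finrank_wt h2 H.A0 H.AA (wt C 1) (by
    intro b v hv c
    rw [CA, hv, map_smul])
  have key : ∀ a α, Module.finrank Ω ↥(wt C 1 ⊓ wt A α) ≤ Module.finrank Ω ↥(wt C 1 ⊓ wt A (α + a)) := by
    intro a α
    apply finrank_le_of_map (g := B a) (fun v hv => H.B_inj a hv)
    rintro v ⟨hv, hv'⟩
    refine ⟨?_, ?_⟩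
    · intro c
      rw [CB, hv, map_smul]
    · intro b
      have e1 : A b (B a v) = A b (C (a * b) (B a (C (a * b) v))) := by
        rw [← CB, H.CC, (show ∀ x : F4, x + x = 0 by decide), H.C0]
      rw [e1, ← BA, hv, map_smul, map_smul, hv', map_smul, smul_smul, ← ch_add]
      congr 1
      exact ch_congr ((show ∀ a α b : F4, sg (1 * (a * b) + α * b) = sg ((α + a) * b) by decide +kernel) a α b)
  have hle : ∀ α β, Module.finrank Ω ↥(wt C 1 ⊓ wt A α) ≤ Module.finrank Ω ↥(wt C 1 ⊓ wt A β) := by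
    intro α β
    have h4 := key (α + β) α
    have e1 : α + (α + β) = β := (show ∀ α β : F4, α + (α + β) = β by decide) α β
    rwa [e1] at h4
  rw [sum_four] at h3
  have h4 := H.n_sum h2
  have h5 := H.n_zero_ne hR
  have h6 := hle 0 1
  have h7 := hle 1 0
  have h8 := hle 0 w
  have h9 := hle w 0
  have h10 := hle 0 u
  have h11 := hle u 0
  have h13 : Module.finrank Ω (wt C 0) = 0 := by omega
  have h14 : wt C 0 = ⊥ := Submodule.finrank_eq_zero.1 h13
  have h15 : wt C 1 ⊓ wt A 0 = ⊥ := by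
    rw [eq_bot_iff]
    rintro v ⟨-, hv⟩
    exact H.A_fix h14 fun b => by rw [hv, zero_mul, ch_zero, one_smul]
  rw [h15, finrank_bot] at h7 h9 h11 h3
  omega

/-- commuting lifts, affine action: no fixed vectors -/
theorem caseA1_fix [FiniteDimensional Ω V] (hR : PR R) (h2 : (2 : Ω) ≠ 0) (h12 : Module.finrank Ω V = 12)
    (H : Half R A B C r y z) (CA : ∀ c b v, C c (A b v) = A b (C c v)) (CB : ∀ c b v, C c (B b v) = B b (C c v))
    (BA : ∀ a b v, B a (A b v) = (ch (a * a * b) : Ω) • A b (C (a * b) (B a v))) : wt C 0 = ⊥ := by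
  have h3 := finrank_wt h2 H.A0 H.AA (wt C 0) (by
    intro b v hv c
    rw [CA, hv, map_smul])
  have key : ∀ a α, Module.finrank Ω ↥(wt C 0 ⊓ wt A α) ≤ Module.finrank Ω ↥(wt C 0 ⊓ wt A (α + a * a)) := by
    intro a α
    apply finrank_le_of_map (g := B a) (fun v hv => H.B_inj a hv)
    rintro v ⟨hv, hv'⟩
    refine ⟨?_, ?_⟩
    · intro c
      rw [CB, hv, map_smul]
    · intro b
      have e1 : C (a * b) v = v := by rw [hv, zero_mul, ch_zero, one_smul]
      have e2 : B a (A b v) = (ch (a * a * b) : Ω) • A b (B a v) := by rw [BA, CB, e1]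
      have e3 : A b (B a v) = (ch (a * a * b) : Ω) • B a (A b v) := by
        rw [e2, smul_smul, ch_mul_self, one_smul]
      rw [e3, hv', map_smul, smul_smul, ← ch_add]
      congr 1
      exact ch_congr ((show ∀ a α b : F4, sg (a * a * b + α * b) = sg ((α + a * a) * b) by decide +kernel) a α b)
  have hle : ∀ α β, Module.finrank Ω ↥(wt C 0 ⊓ wt A α) ≤ Module.finrank Ω ↥(wt C 0 ⊓ wt A β) := by
    intro α β
    have h4 := key ((α + β) * (α + β)) α
    have e1 : α + (α + β) * (α + β) * ((α + β) * (α + β)) = β :=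
      (show ∀ α β : F4, α + (α + β) * (α + β) * ((α + β) * (α + β)) = β by decide) α β
    rwa [e1] at h4
  rw [sum_four] at h3
  have h4 := H.n_sum h2
  have h5 := H.n_zero_ne hR
  have h6 := hle 0 1
  have h7 := hle 1 0
  have h8 := hle 0 w
  have h9 := hle w 0
  have h10 := hle 0 u
  have h11 := hle u 0
  exact Submodule.finrank_eq_zero.1 (by omega)

section affine

variable (H : Half R A B C r y z) (CA : ∀ c b v, C c (A b v) = A b (C c v)) (CB : ∀ c b v, C c (B b v) = B b (C c v))
    (BA : ∀ a b v, B a (A b v) = (ch (a * a * b) : Ω) • A b (C (a * b) (B a v))) (hC : wt C 0 = ⊥)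

include H CA CB BA hC

/-- `A(1)` on the first weight space -/
lemma affine_one (h2 : (2 : Ω) ≠ 0) {v : V} (hv : v ∈ wt C 1) : A 1 v = -v := by
  have AB : ∀ a b, ∀ x ∈ wt C 1, A b (B a x) = ((ch (a * a * b) : Ω) * ch (a * b)) • B a (A b x) := by
    intro a b x hx
    have e1 : B a (A b x) = ((ch (a * a * b) : Ω) * ch (a * b)) • A b (B a x) := by
      rw [BA, CB, hx, map_smul, map_smul, smul_smul, one_mul]
    rw [e1, smul_smul]
    have e2 : ((ch (a * a * b) : Ω) * ch (a * b)) * (ch (a * a * b) * ch (a * b)) = 1 := by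
      linear_combination (ch_mul_self (Ω := Ω) (a * a * b)) * (ch (a * b) * ch (a * b)) + ch_mul_self (Ω := Ω) (a * b)
    rw [e2, one_smul]
  have hA1 : ∀ b, ∀ x ∈ wt C 1, A b x ∈ wt C 1 := by
    intro b x hx c
    rw [CA, hx, map_smul]
  have fixA : ∀ x : V, A 1 x = x → A w x = x → x = 0 := by
    intro x h1 hw
    apply H.A_fix hC
    intro b
    cases b
    · exact H.A0 x
    · exact h1
    · exact hw
    · have : A u x = A 1 (A w x) := by rw [H.AA]; rfl
      rw [this, hw, h1]
  obtain ⟨p, hp⟩ : ∃ p, p = v + A 1 v := ⟨_, rfl⟩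
  have hp1 : A 1 p = p := by
    rw [hp, map_add, H.AA, (show (1 : F4) + 1 = 0 by decide), H.A0, add_comm]
  have hpm : p ∈ wt C 1 := by rw [hp]; exact Submodule.add_mem _ hv (hA1 1 v hv)
  have hcomm : A 1 (A w p) = A w (A 1 p) := by rw [H.AA, H.AA]; rfl
  have hpp : p + A w p = 0 := by
    apply fixA
    · rw [map_add, hcomm, hp1]
    · rw [map_add, H.AA, (show w + w = 0 by decide), H.A0, add_comm]
  have hpq : p - A w p = 0 := by
    have hq : p - A w p ∈ wt C 1 := Submodule.sub_mem _ hpm (hA1 w p hpm)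
    have q1 : A 1 (p - A w p) = p - A w p := by rw [map_sub, hcomm, hp1]
    have q2 : A w (p - A w p) = -(p - A w p) := by
      rw [map_sub, H.AA, (show w + w = 0 by decide), H.A0, neg_sub]
    apply H.B_inj w
    apply fixA
    · rw [AB _ _ _ hq, q1]
      have e1 : (ch (w * w * 1) : Ω) * ch (w * 1) = 1 := by
        rw [← ch_add]
        exact (ch_congr (by decide)).trans ch_zero
      rw [e1, one_smul]
    · rw [AB _ _ _ hq, q2, map_neg]
      have e1 : (ch (w * w * w) : Ω) * ch (w * w) = -1 := by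
        rw [← ch_add]
        exact (ch_congr (by decide)).trans ch_w
      rw [e1, neg_smul, one_smul, neg_neg]
  have h3 : p = 0 := by
    have h4 : (2 : Ω) • p = 0 := by
      have : (2 : Ω) • p = (p + A w p) + (p - A w p) := by rw [two_smul]; abel
      rw [this, hpp, hpq, add_zero]
    exact (smul_eq_zero.1 h4).resolve_left h2
  rw [hp] at h3
  rw [eq_neg_iff_add_eq_zero, add_comm, h3]

end affine

/-- an element of order five -/
lemma five_line {g : Module.End Ω V} {κ c : Ω} (hκ : g * g * g * g * g = κ • 1) {v x : V} (h1 : g v = -x)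
    (h2 : g x = -(c • v)) (hc : c ≠ 0) : ∃ d : Ω, x = d • v := by
  have h3 := LinearMap.congr_fun hκ v
  change g (g (g (g (g v)))) = κ • v at h3
  have h4 : g (g v) = c • v := by rw [h1, map_neg, h2, neg_neg]
  rw [h4, map_smul, map_smul, h4, smul_smul, map_smul, h1, smul_neg] at h3
  refine ⟨-((c * c)⁻¹ * κ), ?_⟩
  have h5 : (c * c) • x = -(κ • v) := by rw [← h3, neg_neg]
  rw [neg_smul, mul_smul, ← smul_neg, ← h5, smul_smul, inv_mul_cancel₀ (mul_ne_zero hc hc), one_smul]

section lines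

variable (H : Half R A B C r y z) (hR : PR R) (CA : ∀ c b v, C c (A b v) = A b (C c v))
    (CB : ∀ c b v, C c (B b v) = B b (C c v))
    (BA : ∀ a b v, B a (A b v) = (ch (a * a * b) : Ω) • A b (C (a * b) (B a v)))
    (hB : ∀ v ∈ wt C 1, B 1 v = -v)

lemma Half.Cr (H : Half R A B C r y z) (c : F4) (v : V) : C c (r v) = r (A c v) := (H.rA c v).symm

lemma Half.Ar (H : Half R A B C r y z) (c : F4) (v : V) : A c (r v) = r (C c v) := (H.rC c v).symm

lemma Half.z_ne (H : Half R A B C r y z) : z ≠ 0 := by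
  rintro rfl
  have := H.z3
  rw [zero_pow (by norm_num)] at this
  exact zero_ne_one this

include H hR CA CB BA hB

/-- lines fixed by the reflection -/
theorem line_one {v : V} (hv : v ∈ wt C 1) (hw : v ∈ wt A w) : ∃ κ : Ω, y (r v) = κ • v := by
  obtain ⟨κ, -, hκ⟩ := hR.rel (g := y * r * B 1 * (y * r * B 1) * (y * r * B 1) * (y * r * B 1) * (y * r * B 1))
    (hR.mul (hR.mul (hR.mul (hR.mul (hR.mul (hR.mul H.Ry H.Rr) (H.RB 1)) (hR.mul (hR.mul H.Ry H.Rr) (H.RB 1)))
      (hR.mul (hR.mul H.Ry H.Rr) (H.RB 1))) (hR.mul (hR.mul H.Ry H.Rr) (H.RB 1)))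
      (hR.mul (hR.mul H.Ry H.Rr) (H.RB 1))) hR.one (s := w) (by decide) (by decide +kernel)
  have hx : y (r v) ∈ wt C 1 := by
    intro c
    rw [H.Cy, H.Cr, hw, map_smul, map_smul]
    congr 1
    exact ch_congr ((show ∀ c : F4, sg (w * (u * c)) = sg (1 * c) by decide) c)
  apply five_line hκ (c := z) ?_ ?_ H.z_ne
  · change y (r (B 1 v)) = -y (r v)
    rw [hB v hv, map_neg, map_neg]
  · change y (r (B 1 (y (r v)))) = -(z • v)
    rw [hB _ hx, map_neg, map_neg, H.ry, map_smul, H.y3, H.r2]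

theorem line_two {v : V} (hv : v ∈ wt C 1) (hw : v ∈ wt A w) : ∃ κ : Ω, B w (y (y (r (B w v)))) = κ • v := by
  have Rg := hR.mul (hR.mul (hR.mul (hR.mul (hR.mul (H.RB w) H.Ry) H.Ry) H.Rr) (H.RB w)) (H.RB 1)
  obtain ⟨κ, -, hκ⟩ := hR.rel (hR.mul (hR.mul (hR.mul (hR.mul Rg Rg) Rg) Rg) Rg) hR.one (s := u) (by decide) (by decide +kernel)
  have AB : ∀ x ∈ wt C 1, ∀ a b, A b (B a x) = ((ch (a * a * b) : Ω) * ch (a * b)) • B a (A b x) := by
    intro x hx a b
    have e1 : B a (A b x) = ((ch (a * a * b) : Ω) * ch (a * b)) • A b (B a x) := by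
      rw [BA, CB, hx, map_smul, map_smul, smul_smul, one_mul]
    rw [e1, smul_smul]
    have e2 : ((ch (a * a * b) : Ω) * ch (a * b)) * (ch (a * a * b) * ch (a * b)) = 1 := by
      linear_combination (ch_mul_self (Ω := Ω) (a * a * b)) * (ch (a * b) * ch (a * b)) + ch_mul_self (Ω := Ω) (a * b)
    rw [e2, one_smul]
  have hx1 : B w v ∈ wt C 1 := by
    intro c
    rw [CB, hv, map_smul]
  have hx1' : B w v ∈ wt A u := by
    intro b
    rw [AB v hv, hw, map_smul, smul_smul, ← ch_add, ← ch_add]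
    congr 1
    exact ch_congr ((show ∀ b : F4, sg (w * w * b + w * b + w * b) = sg (u * b) by decide) b)
  have hx2 : y (y (r (B w v))) ∈ wt C 1 := by
    intro c
    rw [H.Cy, H.Cy, H.Cr, hx1', map_smul, map_smul, map_smul]
    congr 1
    exact ch_congr ((show ∀ b : F4, sg (u * (u * (u * b))) = sg (1 * b) by decide) c)
  have hx3 : B w (y (y (r (B w v)))) ∈ wt C 1 := by
    intro c
    rw [CB, hx2, map_smul]
  apply five_line hκ (c := z * z) ?_ ?_ (mul_ne_zero H.z_ne H.z_ne)
  · change B w (y (y (r (B w (B 1 v))))) = -B w (y (y (r (B w v))))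
    rw [hB v hv, map_neg, map_neg, map_neg, map_neg, map_neg]
  · change B w (y (y (r (B w (B 1 (B w (y (y (r (B w v)))))))))) = -((z * z) • v)
    rw [hB _ hx3, map_neg, H.BB, add_same, H.B0]
    simp only [map_neg, H.ry, map_smul, H.y3, H.r2, smul_smul, H.BB, add_same, H.B0]

end lines

end Cfsg.Agent.H906.T12
end

-- part: H906/T12A1
section
/-!
# The case of commuting lifts, affine action
-/

set_option autoImplicit false
set_option linter.unusedSectionVars false

namespace Cfsg.Agent.H906.T12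

open F4

variable {Ω V : Type*} [Field Ω] [AddCommGroup V] [Module Ω V]
variable {R : Module.End Ω V → M3 → Prop} {A B C : F4 → Module.End Ω V} {r t y : Module.End Ω V} {z : Ω}

lemma wt_of {A : F4 → Module.End Ω V} (A0 : ∀ v, A 0 v = v) (AA : ∀ b b' v, A b (A b' v) = A (b + b') v) {x : V}
    (α : F4) (h1 : A 1 x = (ch α : Ω) • x) (hw : A w x = (ch (α * w) : Ω) • x) : x ∈ wt A α := by
  intro b
  cases b
  · change A 0 x = (ch (α * 0) : Ω) • x
    rw [A0, mul_zero, ch_zero, one_smul]
  · change A 1 x = (ch (α * 1) : Ω) • x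
    rw [mul_one, h1]
  · exact hw
  · change A (1 + w) x = (ch (α * u) : Ω) • x
    rw [← AA, hw, map_smul, h1, smul_smul, ← ch_add]
    congr 1
    exact ch_congr ((show ∀ α : F4, sg (α * w + α) = sg (α * u) by decide) α)

theorem caseA1 [FiniteDimensional Ω V] (hR : PR R) (h2 : (2 : Ω) ≠ 0) (h12 : Module.finrank Ω V = 12)
    (H : Half R A B C r y 1) (H' : Half (fun g x => R g (T12.gam x)) B A C t y z)
    (CA : ∀ c b v, C c (A b v) = A b (C c v)) (CB : ∀ c b v, C c (B b v) = B b (C c v))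
    (BA : ∀ a b v, B a (A b v) = (ch (a * a * b) : Ω) • A b (C (a * b) (B a v))) : False := by
  have hC := caseA1_fix hR h2 h12 H CA CB BA
  have hR' := hR.gam
  have BA' : ∀ a b v, A a (B b v) = (ch (a * a * b) : Ω) • B b (C (a * b) (A a v)) := by
    intro a b v
    have e1 : A a (B b v) = A a (C (b * a) (B b (C (b * a) v))) := by
      rw [← CB, H.CC, add_same, H.C0]
    have e2 : B b (A a (C (b * a) v)) = (ch (b * b * a) : Ω) • A a (B b v) := by
      rw [BA, ← CB, H.CC, add_same, H.C0]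
    have e3 : (ch (a * a * b) : Ω) = ch (b * b * a) :=
      ch_congr ((show ∀ a b : F4, sg (a * a * b) = sg (b * b * a) by decide) a b)
    rw [mul_comm a b, CA, e2, e3, smul_smul, ch_mul_self, one_smul]
  have hA1 : ∀ v ∈ wt C 1, A 1 v = -v := fun v hv => affine_one H CA CB BA hC h2 hv
  have hB1 : ∀ v ∈ wt C 1, B 1 v = -v := fun v hv => affine_one H' CB CA BA' hC h2 hv
  have AB : ∀ x ∈ wt C 1, ∀ a b, A b (B a x) = ((ch (a * a * b) : Ω) * ch (a * b)) • B a (A b x) := by
    intro x hx a b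
    have e1 : B a (A b x) = ((ch (a * a * b) : Ω) * ch (a * b)) • A b (B a x) := by
      rw [BA, CB, hx, map_smul, map_smul, smul_smul, one_mul]
    rw [e1, smul_smul]
    have e2 : ((ch (a * a * b) : Ω) * ch (a * b)) * (ch (a * a * b) * ch (a * b)) = 1 := by
      linear_combination (ch_mul_self (Ω := Ω) (a * a * b)) * (ch (a * b) * ch (a * b)) + ch_mul_self (Ω := Ω) (a * b)
    rw [e2, one_smul]
  have shiftw : ∀ x ∈ wt C 1, ∀ α, x ∈ wt A α → B w x ∈ wt C 1 ∧ B w x ∈ wt A (α + 1) := by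
    intro x hx α hα
    constructor
    · intro c
      rw [CB, hx, map_smul]
    · intro b
      rw [AB x hx, hα, map_smul, smul_smul, ← ch_add, ← ch_add]
      congr 1
      exact ch_congr ((show ∀ α b : F4, sg (w * w * b + w * b + α * b) = sg ((α + 1) * b) by decide) α b)
  -- a weight vector
  have h3 := finrank_wt h2 H.A0 H.AA (wt C 1) (by
    intro b v hv c
    rw [CA, hv, map_smul])
  have h4 := H.n_sum h2
  have z0 : wt C 1 ⊓ wt A 0 = ⊥ := by
    rw [eq_bot_iff]
    rintro v ⟨-, hv⟩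
    exact H.A_fix hC fun b => by rw [hv, zero_mul, ch_zero, one_smul]
  have z1 : wt C 1 ⊓ wt A 1 = ⊥ := by
    rw [eq_bot_iff]
    rintro v ⟨hv, hv'⟩
    have e1 := hA1 v hv
    rw [hv', mul_one, ch_one, one_smul] at e1
    have e2 : (2 : Ω) • v = 0 := by
      rw [two_smul]
      nth_rewrite 2 [e1]
      exact add_neg_cancel v
    exact (smul_eq_zero.1 e2).resolve_left h2
  have hle : Module.finrank Ω ↥(wt C 1 ⊓ wt A u) ≤ Module.finrank Ω ↥(wt C 1 ⊓ wt A w) := by
    apply finrank_le_of_map (g := B w) (fun v hv => H.B_inj w hv)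
    rintro v ⟨hv, hv'⟩
    exact shiftw v hv u hv'
  rw [sum_four, z0, z1, finrank_bot] at h3
  rw [hC, finrank_bot, h12] at h4
  have hne : wt C 1 ⊓ wt A w ≠ ⊥ := by
    intro h0
    rw [h0, finrank_bot] at hle h3
    omega
  obtain ⟨v, ⟨hv, hvw⟩, hv0⟩ := Submodule.exists_mem_ne_zero_of_ne_bot hne
  obtain ⟨x, hx⟩ : ∃ x, x = B w v := ⟨_, rfl⟩
  obtain ⟨hx1, hxu⟩ : x ∈ wt C 1 ∧ x ∈ wt A u := by rw [hx]; exact shiftw v hv w hvw
  obtain ⟨κ1, e1⟩ := line_one H hR CA CB BA hB1 hv hvw
  obtain ⟨κ2, e2⟩ := line_two H hR CA CB BA hB1 hv hvw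
  rw [← hx] at e2
  have rv : r v = κ1 • y (y v) := by rw [← map_smul, ← map_smul, ← e1, H.y3]
  have rx : r x = κ2 • y x := by
    have f1 : y (y (r x)) = κ2 • x := by
      rw [hx, ← map_smul, ← e2, ← hx, H.BB, add_same, H.B0]
    rw [← map_smul, ← f1, H.y3]
  -- the other side
  have Bv : B w v = x := hx.symm
  have Bx : B w x = v := by rw [hx, H.BB, add_same, H.B0]
  have hm1 : v - x ∈ wt C 1 := Submodule.sub_mem _ hv hx1
  have hmw : v - x ∈ wt B w := by
    apply wt_of H.B0 H.BB
    · rw [ch_w, neg_smul, one_smul, hB1 _ hm1]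
    · rw [map_sub, Bv, Bx, show w * w = u from rfl, ch_u, neg_smul, one_smul, neg_sub]
  obtain ⟨κ3, e3⟩ := line_one H' hR' CB CA BA' hA1 hm1 hmw
  obtain ⟨κ4, e4⟩ := line_two H' hR' CB CA BA' hA1 hm1 hmw
  have Avx : A w (v - x) = -(v + x) := by
    rw [map_sub, hvw, hxu, show w * w = u from rfl, show u * w = 1 from rfl, ch_u, ch_one, neg_smul, one_smul, one_smul]
    abel
  have tm : t (v - x) = κ3 • y (y (v - x)) := by rw [← map_smul, ← map_smul, ← e3, H.y3]
  have tp : t (v + x) = κ4 • y (v + x) := by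
    have f1 : y (y (t (A w (v - x)))) = κ4 • A w (v - x) := by
      rw [← map_smul, ← e4, H.AA, add_same, H.A0]
    rw [Avx, map_neg, map_neg, map_neg, smul_neg, neg_inj] at f1
    rw [← map_smul, ← f1, H.y3]
  have tv : t v = (2 : Ω)⁻¹ • (κ3 • y (y (v - x)) + κ4 • y (v + x)) := by
    rw [← tm, ← tp, ← map_add, ← map_smul]
    congr 1
    have : v - x + (v + x) = (2 : Ω) • v := by rw [two_smul]; abel
    rw [this, smul_smul, inv_mul_cancel₀ h2, one_smul]
  have tx : t x = (2 : Ω)⁻¹ • (κ4 • y (v + x) - κ3 • y (y (v - x))) := by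
    rw [← tm, ← tp, ← map_sub, ← map_smul]
    congr 1
    have : v + x - (v - x) = (2 : Ω) • x := by rw [two_smul]; abel
    rw [this, smul_smul, inv_mul_cancel₀ h2, one_smul]
  -- the invariant subspace
  let f : Fin 6 → V := ![v, x, y v, y x, y (y v), y (y x)]
  let W : Submodule Ω V := Submodule.span Ω (Set.range f)
  have m0 : v ∈ W := Submodule.subset_span ⟨0, rfl⟩
  have m1 : x ∈ W := Submodule.subset_span ⟨1, rfl⟩
  have m2 : y v ∈ W := Submodule.subset_span ⟨2, rfl⟩
  have m3 : y x ∈ W := Submodule.subset_span ⟨3, rfl⟩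
  have m4 : y (y v) ∈ W := Submodule.subset_span ⟨4, rfl⟩
  have m5 : y (y x) ∈ W := Submodule.subset_span ⟨5, rfl⟩
  have inv : ∀ g : Module.End Ω V, g v ∈ W → g x ∈ W → g (y v) ∈ W → g (y x) ∈ W → g (y (y v)) ∈ W →
      g (y (y x)) ∈ W → ∀ p ∈ W, g p ∈ W := by
    intro g n0 n1 n2 n3 n4 n5 p hp
    have h5 : W ≤ W.comap g := by
      rw [Submodule.span_le]
      rintro _ ⟨i, rfl⟩
      fin_cases i
      · exact n0
      · exact n1
      · exact n2
      · exact n3
      · exact n4
      · exact n5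
    exact h5 hp
  have hy : ∀ p ∈ W, y p ∈ W := inv y m2 m3 m4 m5 (by rw [H.y3]; exact m0) (by rw [H.y3]; exact m1)
  have hA : ∀ b, ∀ p ∈ W, A b p ∈ W := by
    intro b
    apply inv
    · rw [hvw]; exact W.smul_mem _ m0
    · rw [hxu]; exact W.smul_mem _ m1
    · rw [H.Ay, hvw, map_smul]; exact W.smul_mem _ m2
    · rw [H.Ay, hxu, map_smul]; exact W.smul_mem _ m3
    · rw [H.Ay, H.Ay, hvw, map_smul, map_smul]; exact W.smul_mem _ m4
    · rw [H.Ay, H.Ay, hxu, map_smul, map_smul]; exact W.smul_mem _ m5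
  have hr0 : r v ∈ W := by rw [rv]; exact W.smul_mem _ m4
  have hr1 : r x ∈ W := by rw [rx]; exact W.smul_mem _ m3
  have hrs : ∀ p, r p ∈ W → r (y p) ∈ W := by
    intro p hp
    rw [H.ry]
    exact W.smul_mem _ (hy _ (hy _ hp))
  have hr : ∀ p ∈ W, r p ∈ W := inv r hr0 hr1 (hrs _ hr0) (hrs _ hr1) (hrs _ (hrs _ hr0)) (hrs _ (hrs _ hr1))
  have mm : v - x ∈ W := W.sub_mem m0 m1
  have mp : v + x ∈ W := W.add_mem m0 m1
  have ht0 : t v ∈ W := by
    rw [tv]
    exact W.smul_mem _ (W.add_mem (W.smul_mem _ (hy _ (hy _ mm))) (W.smul_mem _ (hy _ mp)))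
  have ht1 : t x ∈ W := by
    rw [tx]
    exact W.smul_mem _ (W.sub_mem (W.smul_mem _ (hy _ mp)) (W.smul_mem _ (hy _ (hy _ mm))))
  have hts : ∀ p, t p ∈ W → t (y p) ∈ W := by
    intro p hp
    rw [H'.ry]
    exact W.smul_mem _ (hy _ (hy _ hp))
  have ht : ∀ p ∈ W, t p ∈ W := inv t ht0 ht1 (hts _ ht0) (hts _ ht1) (hts _ (hts _ ht0)) (hts _ (hts _ ht1))
  have Rt : R t mt := by rw [← gam_r]; exact H'.Rr
  rcases hR.irr_gen H.RA H.Rr Rt W hA hr ht with h5 | h5
  · rw [h5] at m0
    exact hv0 ((Submodule.mem_bot Ω).1 m0)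
  · have h6 := finrank_range_le_card (R := Ω) f
    rw [Set.finrank] at h6
    change Module.finrank Ω W ≤ _ at h6
    rw [h5, finrank_top, h12, Fintype.card_fin] at h6
    omega

end Cfsg.Agent.H906.T12
end

-- part: H906/T12A2
section
/-!
# The case of commuting lifts: conclusion
-/

set_option autoImplicit false
set_option linter.unusedSectionVars false

namespace Cfsg.Agent.H906.T12

open F4

variable {Ω V : Type*} [Field Ω] [AddCommGroup V] [Module Ω V]
variable {R : Module.End Ω V → M3 → Prop} {A B C : F4 → Module.End Ω V} {r t y : Module.End Ω V} {z : Ω}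

theorem caseA [FiniteDimensional Ω V] [Nontrivial V] (hR : PR R) (h2 : (2 : Ω) ≠ 0) (h12 : Module.finrank Ω V = 12)
    (H : Half R A B C r y 1) (H' : Half (fun g x => R g (T12.gam x)) B A C t y z) {s : F4 → Ω} {ζ : F4 → F4 → Ω}
    (P : Pairing A B C s ζ) (hs : ∀ x, s x = 1) : False := by
  have CA : ∀ c b v, C c (A b v) = A b (C c v) := fun c b v => by rw [P.CA, hs, one_smul]
  have CB : ∀ c b v, C c (B b v) = B b (C c v) := fun c b v => by rw [P.CB, hs, one_smul]
  have hz0 : ∀ b, ζ 0 b = 1 := by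
    intro b
    apply hR.cancelv (H.RA b)
    intro v
    have h1 := P.BA 0 b v
    rw [zero_mul, H.B0, H.C0, H.B0] at h1
    rw [← h1, one_smul]
  have f1 : ∀ b, ζ 1 b = 1 ∨ ζ 1 b = -1 := by
    intro b
    have h1 := P.zsq 1 b
    rw [hs, mul_one] at h1
    exact mul_self_eq_one_iff.1 h1
  have fadd : ∀ b b', ζ 1 (b + b') = ζ 1 b * ζ 1 b' := by
    intro b b'
    rw [P.zadd, hs, mul_one]
  have f0 : ζ 1 0 = 1 := by
    have h1 := fadd 0 0
    rw [add_zero] at h1
    rcases f1 0 with h | h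
    · exact h
    · rw [h] at h1 ⊢
      linear_combination h1
  have hζ : ∀ a b, ζ a b = ζ 1 (a * a * b) := by
    intro a b
    cases a
    · change ζ 0 b = ζ 1 (0 * 0 * b)
      rw [hz0, zero_mul, zero_mul, f0]
    · change ζ 1 b = ζ 1 (1 * 1 * b)
      rw [one_mul, one_mul]
    · rw [← P.zinv w b]
      rfl
    · rw [← P.zinv u b, ← P.zinv (u * u) (u * b)]
      change ζ 1 (u * (u * b)) = ζ 1 (u * u * b)
      rw [mul_assoc]
  have BA : ∀ a b v, B a (A b v) = ζ 1 (a * a * b) • A b (C (a * b) (B a v)) := fun a b v => by rw [P.BA, hζ]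
  obtain ⟨S1, S1'⟩ := shift hR H H'
  obtain ⟨S2, S2'⟩ := shift hR.del S1 S1'
  rcases sign_cases f1 fadd with h | h | h | h
  · exact caseA0 hR h2 h12 H CA CB (fun a b v => by rw [BA, h, one_smul])
  · exact caseA1 hR h2 h12 H H' CA CB (fun a b v => by rw [BA, h])
  · refine caseA1 hR.del.del h2 h12 S2 S2' (fun c b v => CA _ _ v) (fun c b v => CB _ _ v) (fun a b v => ?_)
    have e1 : a * a * (u * (u * b)) = w * (a * a * b) :=
      (show ∀ a b : F4, a * a * (u * (u * b)) = w * (a * a * b) by decide) a b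
    have e2 : a * (u * (u * b)) = u * (u * (a * b)) :=
      (show ∀ a b : F4, a * (u * (u * b)) = u * (u * (a * b)) by decide) a b
    change B a (A (u * (u * b)) v) = (ch (a * a * b) : Ω) • A (u * (u * b)) (C (u * (u * (a * b))) (B a v))
    rw [BA, e1, h, e2]
  · refine caseA1 hR.del h2 h12 S1 S1' (fun c b v => CA _ _ v) (fun c b v => CB _ _ v) (fun a b v => ?_)
    have e1 : a * a * (u * b) = u * (a * a * b) :=
      (show ∀ a b : F4, a * a * (u * b) = u * (a * a * b) by decide) a b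
    have e2 : a * (u * b) = u * (a * b) :=
      (show ∀ a b : F4, a * (u * b) = u * (a * b) by decide) a b
    change B a (A (u * b) v) = (ch (a * a * b) : Ω) • A (u * b) (C (u * (a * b)) (B a v))
    rw [BA, e1, h, e2]

end Cfsg.Agent.H906.T12
end

-- part: H906/T12B
section
/-!
# The case of anticommuting lifts
-/

set_option autoImplicit false
set_option linter.unusedSectionVars false

namespace Cfsg.Agent.H906.T12

open F4

variable {Ω V : Type*} [Field Ω] [AddCommGroup V] [Module Ω V]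
variable {R : Module.End Ω V → M3 → Prop} {A B C : F4 → Module.End Ω V} {r t y : Module.End Ω V} {z : Ω}

/-- the scalars of the anticommuting case -/
def zt (i : Ω) (a b : F4) : Ω := if a = 0 ∨ b = 0 then 1 else if a = b then -1 else i

structure HB (R : Module.End Ω V → M3 → Prop) (A B C : F4 → Module.End Ω V) (r y : Module.End Ω V) (z i : Ω) :
    Prop where
  H : Half R A B C r y z
  CA : ∀ c b v, C c (A b v) = (ch (c * b) : Ω) • A b (C c v)
  CB : ∀ c b v, C c (B b v) = (ch (c * b) : Ω) • B b (C c v)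
  BA : ∀ a b v, B a (A b v) = zt i a b • A b (C (a * b) (B a v))
  hi : i * i = -1

lemma zt_mul {i : Ω} (hi : i * i = -1) (a b : F4) : zt i b a * zt (-i) a b = ch (a * b * b) * ch (a * b * a) := by
  have h1 : i * -i = 1 := by linear_combination -hi
  have h2 : (-1 : Ω) * -1 = 1 := by norm_num
  have hch : ∀ x : F4, x * x = x → (ch x : Ω) = 1 := by
    intro x hx
    have : x = 0 ∨ x = 1 := by revert x; decide
    rcases this with h | h
    · rw [h, ch_zero]
    · rw [h, ch_one]
  rw [← ch_add]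
  have h3 : a * b * b + a * b * a = 0 ∨ a * b * b + a * b * a = 1 := by revert a b; decide
  have h4 : (ch (a * b * b + a * b * a) : Ω) = 1 := by
    rcases h3 with h | h
    · rw [h, ch_zero]
    · rw [h, ch_one]
  rw [h4]
  unfold zt
  by_cases ha : a = 0
  · simp [ha]
  by_cases hb : b = 0
  · simp [hb]
  by_cases hab : a = b
  · simp [ha, hb, hab]
  · have hba : ¬ b = a := fun h => hab h.symm
    simp only [ha, hb, hab, hba, or_self, if_false]
    exact h1

theorem HB.swap {R' : Module.End Ω V → M3 → Prop} {i z' : Ω} (h : HB R A B C r y z i) (H' : Half R' B A C t y z') :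
    HB R' B A C t y z' (-i) where
  H := H'
  CA := h.CB
  CB := h.CA
  BA := fun a b v => by
    have e1 := h.BA b a (C (a * b) v)
    have e2 : A a (C (a * b) v) = (ch (a * b * a) : Ω) • C (a * b) (A a v) := by
      rw [h.CA, smul_smul, ch_mul_self, one_smul]
    have e3 : C (b * a) (B b (C (a * b) v)) = (ch (a * b * b) : Ω) • B b v := by
      rw [mul_comm b a, h.CB, h.H.CC, add_same, h.H.C0]
    rw [e2, e3, map_smul, map_smul, smul_smul] at e1
    have e4 := zt_mul h.hi a b
    have e5 : (ch (a * b * a) : Ω) • A a (B b v) = (ch (a * b * a) : Ω) • (zt (-i) a b • B b (C (a * b) (A a v))) := by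
      rw [smul_comm, e1, smul_smul]
      congr 1
      linear_combination (-(ch (a * b * b) : Ω)) * e4 - (ch (a * b * a) : Ω) * ch_mul_self (Ω := Ω) (a * b * b)
    have e6 := congrArg (fun x => (ch (a * b * a) : Ω) • x) e5
    simp only [smul_smul] at e6
    rw [ch_mul_self, one_smul, ← mul_assoc, ch_mul_self, one_mul] at e6
    exact e6
  hi := by rw [neg_mul_neg, h.hi]

section dim

variable [FiniteDimensional Ω V]

/-- the fixed space of `C` has dimension three -/
lemma dim_three (h2 : (2 : Ω) ≠ 0) (h12 : Module.finrank Ω V = 12) (H : Half R A B C r y z)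
    (CA : ∀ c b v, C c (A b v) = (ch (c * b) : Ω) • A b (C c v)) : Module.finrank Ω (wt C 0) = 3 := by
  have key : ∀ a α, Module.finrank Ω (wt C α) ≤ Module.finrank Ω (wt C (α + a)) := by
    intro a α
    apply finrank_le_of_map (g := A a) (fun v hv => H.A_inj a hv)
    intro v hv c
    rw [CA, hv, map_smul, smul_smul, ← ch_add]
    congr 1
    exact ch_congr ((show ∀ a α c : F4, sg (c * a + α * c) = sg ((α + a) * c) by decide +kernel) a α c)
  have hle : ∀ α β, Module.finrank Ω (wt C α) ≤ Module.finrank Ω (wt C β) := by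
    intro α β
    have h4 := key (α + β) α
    have e1 : α + (α + β) = β := (show ∀ α β : F4, α + (α + β) = β by decide) α β
    rwa [e1] at h4
  have h4 := H.n_sum h2
  have h6 := hle 0 1
  have h7 := hle 1 0
  omega

/-- the anticommuting case -/
theorem HB.of_pairing [Nontrivial V] (hR : PR R) (h2 : (2 : Ω) ≠ 0) (h12 : Module.finrank Ω V = 12)
    (H : Half R A B C r y z) {s : F4 → Ω} {ζ : F4 → F4 → Ω} (P : Pairing A B C s ζ) (hs : ∀ x, s x = ch x) :
    ∃ i, HB R A B C r y z i := by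
  have CA : ∀ c b v, C c (A b v) = (ch (c * b) : Ω) • A b (C c v) := fun c b v => by rw [P.CA, hs]
  have CB : ∀ c b v, C c (B b v) = (ch (c * b) : Ω) • B b (C c v) := fun c b v => by
    rw [P.CB, hs]
    congr 1
    exact ch_congr ((show ∀ a c : F4, sg (c * a * (c * a)) = sg (c * a) by decide) b c)
  have hz0 : ∀ b, ζ 0 b = 1 := by
    intro b
    apply hR.cancelv (H.RA b)
    intro v
    have h1 := P.BA 0 b v
    rw [zero_mul, H.B0, H.C0, H.B0] at h1
    rw [← h1, one_smul]
  have hz0' : ∀ a, ζ a 0 = 1 := by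
    intro a
    apply hR.cancelv (H.RB a)
    intro v
    have h1 := P.BA a 0 v
    rw [mul_zero, H.A0, H.A0, H.C0] at h1
    rw [← h1, one_smul]
  have q1 : ζ 1 1 * ζ 1 1 = 1 := by
    have h1 := P.zsq 1 1
    rw [hs, show (1 : F4) * 1 * 1 = 1 from rfl, ch_one, mul_one] at h1
    exact h1
  have q2 : ζ 1 w * ζ 1 w = -1 := by
    have h1 := P.zsq 1 w
    rw [hs, show (1 : F4) * w * w = u from rfl, ch_u] at h1
    linear_combination -h1
  have q3 : ζ 1 u = -(ζ 1 1 * ζ 1 w) := by
    have h1 := P.zadd 1 1 w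
    rw [hs, show (1 : F4) * 1 * w = w from rfl, ch_w, show (1 : F4) + w = u from rfl] at h1
    rw [h1]; ring
  have i1 : ζ w w = ζ 1 1 := (P.zinv w w).symm
  have i2 : ζ u u = ζ 1 1 := by rw [← i1]; exact (P.zinv u u).symm
  have i3 : ζ w 1 = ζ 1 u := (P.zinv w 1).symm
  have i4 : ζ w u = ζ 1 w := (P.zinv w u).symm
  have i5 : ζ u 1 = ζ 1 w := by rw [← i4]; exact (P.zinv u 1).symm
  have i6 : ζ u w = ζ 1 u := by rw [← i3]; exact (P.zinv u w).symm
  have q0 : ζ 1 1 = -1 := by
    rcases mul_self_eq_one_iff.1 q1 with h | h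
    swap
    · exact h
    exfalso
    have hd := dim_three h2 h12 H CA
    rw [h, one_mul] at q3
    -- the operators on the fixed space
    have f1 : ∀ v ∈ wt C 0, ∀ a, A a (B a v) ∈ wt C 0 := by
      intro v hv a c
      rw [CA, CB, hv, map_smul, map_smul, map_smul, smul_smul, smul_smul, ← ch_add, ← ch_add]
      congr 1
      exact ch_congr ((show ∀ a c : F4, sg (c * a + c * a + 0 * c) = sg (0 * c) by decide) a c)
    have f2 : ∀ v ∈ wt C 0, A 1 (B 1 (A w (B w v))) = ζ 1 w • A u (B u v) := by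
      intro v hv
      rw [P.BA, map_smul, H.BB, CB, hv, show (1 : F4) * w * (1 + w) = 1 from rfl, zero_mul, ch_zero, ch_one, one_smul,
        one_smul, H.AA]
      rfl
    have f3 : ∀ v ∈ wt C 0, A w (B w (A 1 (B 1 v))) = ζ w 1 • A u (B u v) := by
      intro v hv
      rw [P.BA, map_smul, H.BB, CB, hv, show w * (1 : F4) * (w + 1) = 1 from rfl, zero_mul, ch_zero, ch_one, one_smul,
        one_smul, H.AA]
      rfl
    have f4 : ∀ v ∈ wt C 0, ∀ a, a ≠ 0 → A a (B a (A a (B a v))) = v := by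
      intro v hv a ha
      rw [P.BA, map_smul, H.BB, add_same, H.B0, hv, zero_mul, ch_zero, one_smul, H.AA, add_same, H.A0]
      have : ζ a a = 1 := by
        cases a
        · exact absurd rfl ha
        · exact h
        · rw [i1, h]
        · rw [i2, h]
      rw [this, one_smul]
    let T1 : Module.End Ω (wt C 0) := (A 1 * B 1).restrict (fun v hv => f1 v hv 1)
    let Tw : Module.End Ω (wt C 0) := (A w * B w).restrict (fun v hv => f1 v hv w)
    have g1 : T1 * Tw = (-1 : Ω) • (Tw * T1) := by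
      ext v
      change A 1 (B 1 (A w (B w (v : V)))) = (-1 : Ω) • A w (B w (A 1 (B 1 (v : V))))
      rw [f2 v v.2, f3 v v.2, i3, q3, smul_smul]
      congr 1
      ring
    have g2 : T1 * T1 = 1 := by
      ext v
      exact f4 v v.2 1 (by decide)
    have g3 : Tw * Tw = 1 := by
      ext v
      exact f4 v v.2 w (by decide)
    have g4 := congrArg LinearMap.det g1
    rw [map_mul, LinearMap.det_smul, map_mul, hd] at g4
    have g5 := congrArg LinearMap.det g2
    rw [map_mul, map_one] at g5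
    have g6 := congrArg LinearMap.det g3
    rw [map_mul, map_one] at g6
    apply h2
    linear_combination (LinearMap.det T1 * LinearMap.det Tw) * g4 - 2 * g5 - 2 * LinearMap.det T1 * LinearMap.det T1 * g6
  refine ⟨ζ 1 w, H, CA, CB, ?_, q2⟩
  have q4 : ζ 1 u = ζ 1 w := by rw [q3, q0]; ring
  have hzt : ∀ a b, ζ a b = zt (ζ 1 w) a b := by
    intro a b
    unfold zt
    cases a <;> cases b
    · rw [if_pos (by decide)]; exact hz0 _
    · rw [if_pos (by decide)]; exact hz0 _
    · rw [if_pos (by decide)]; exact hz0 _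
    · rw [if_pos (by decide)]; exact hz0 _
    · rw [if_pos (by decide)]; exact hz0' _
    · rw [if_neg (by decide), if_pos rfl]; exact q0
    · rw [if_neg (by decide), if_neg (by decide)]; rfl
    · rw [if_neg (by decide), if_neg (by decide)]; exact q4
    · rw [if_pos (by decide)]; exact hz0' _
    · rw [if_neg (by decide), if_neg (by decide)]; exact i3.trans q4
    · rw [if_neg (by decide), if_pos rfl]; exact i1.trans q0
    · rw [if_neg (by decide), if_neg (by decide)]; exact i4
    · rw [if_pos (by decide)]; exact hz0' _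
    · rw [if_neg (by decide), if_neg (by decide)]; exact i5
    · rw [if_neg (by decide), if_neg (by decide)]; exact i6.trans q4
    · rw [if_neg (by decide), if_pos rfl]; exact i2.trans q0
  intro a b v
  rw [P.BA, hzt]

end dim

end Cfsg.Agent.H906.T12
end

-- part: H906/T12B0
section
/-!
# The case of anticommuting lifts: trivial quotient
-/

set_option autoImplicit false
set_option linter.unusedSectionVars false

namespace Cfsg.Agent.H906.T12

open F4

variable {Ω V : Type*} [Field Ω] [AddCommGroup V] [Module Ω V]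
variable {R : Module.End Ω V → M3 → Prop} {A B C : F4 → Module.End Ω V} {r t y : Module.End Ω V} {z i : Ω}

/-- the span of the translates -/
def Wv (A : F4 → Module.End Ω V) (v : V) : Submodule Ω V := Submodule.span Ω (Set.range fun γ => A γ v)

lemma mem_Wv (A : F4 → Module.End Ω V) (γ : F4) (v : V) : A γ v ∈ Wv A v := Submodule.subset_span ⟨γ, rfl⟩

lemma Wv_ind {A : F4 → Module.End Ω V} {v : V} {g : Module.End Ω V} {W : Submodule Ω V} (h : ∀ γ, g (A γ v) ∈ W) :
    ∀ x ∈ Wv A v, g x ∈ W := by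
  intro x hx
  have h1 : Wv A v ≤ W.comap g := by
    unfold Wv
    rw [Submodule.span_le]
    rintro _ ⟨γ, rfl⟩
    exact h γ
  exact h1 hx

/-- the formula for `B(1)` -/
lemma HB.B_one (h : HB R A B C r y z i) (h2 : (2 : Ω) ≠ 0) (hT : ∀ v ∈ wt C 0, B 1 v = i • A 1 v) (x : V) :
    (2 : Ω) • B 1 x = A 1 (x - C 1 x + i • C w x + i • C u x) := by
  have key : ∀ γ, ∀ x ∈ wt C γ, (2 : Ω) • B 1 x = A 1 (x - C 1 x + i • C w x + i • C u x) := by
    intro γ x hx
    obtain ⟨v, hv⟩ : ∃ v, v = A γ x := ⟨_, rfl⟩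
    have hv0 : v ∈ wt C 0 := by
      intro c
      rw [hv, h.CA, hx, map_smul, smul_smul, ← ch_add]
      congr 1
      exact ch_congr ((show ∀ γ c : F4, sg (c * γ + γ * c) = sg (0 * c) by decide) γ c)
    have hxv : x = A γ v := by rw [hv, h.H.AA, add_same, h.H.A0]
    have e1 : B 1 x = (zt i 1 γ * i * ch γ) • A 1 x := by
      rw [hxv, h.BA, one_mul, hT v hv0, map_smul, h.CA, hv0, zero_mul, ch_zero, one_smul, map_smul, map_smul, smul_smul,
        smul_smul, mul_one, h.H.AA, h.H.AA, add_comm γ 1, mul_assoc]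
    have e2 : x - C 1 x + i • C w x + i • C u x = (1 - ch γ + i * ch (γ * w) + i * ch (γ * u)) • x := by
      rw [hx, hx, hx, mul_one]
      module
    rw [e1, e2, map_smul, smul_smul]
    congr 1
    have hi := h.hi
    unfold zt
    cases γ
    · rw [if_pos (by decide)]
      change 2 * (1 * i * ch 0) = 1 - ch 0 + i * ch 0 + i * ch 0
      rw [ch_zero]; ring
    · rw [if_neg (by decide), if_pos (by decide)]
      change 2 * (-1 * i * ch 1) = 1 - ch 1 + i * ch w + i * ch u
      rw [ch_one, ch_w, ch_u]; ring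
    · rw [if_neg (by decide), if_neg (by decide)]
      change 2 * (i * i * ch w) = 1 - ch w + i * ch u + i * ch 1
      rw [ch_one, ch_w, ch_u]; linear_combination (-2) * hi
    · rw [if_neg (by decide), if_neg (by decide)]
      change 2 * (i * i * ch u) = 1 - ch u + i * ch 1 + i * ch w
      rw [ch_one, ch_w, ch_u]; linear_combination (-2) * hi
  have hx := sum_pr h2 h.H.C0 x
  have h3 : ∀ γ, (2 : Ω) • B 1 (pr C γ x) = A 1 (pr C γ x - C 1 (pr C γ x) + i • C w (pr C γ x) + i • C u (pr C γ x)) :=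
    fun γ => key γ _ (pr_mem h.H.CC γ x)
  rw [sum_four] at hx
  rw [← hx]
  simp only [map_add, smul_add]
  rw [h3, h3, h3, h3]
  simp only [map_add, map_sub, map_smul]
  abel

/-- invariance under the reflection -/
lemma HB.r_inv (h : HB R A B C r y z i) (hR : PR R) (h2 : (2 : Ω) ≠ 0) (hT : ∀ v ∈ wt C 0, B 1 v = i • A 1 v)
    {v : V} (hv : v ∈ wt C 0) : (∀ b, ∀ x ∈ Wv A v, A b x ∈ Wv A v) ∧ ∀ x ∈ Wv A v, r x ∈ Wv A v := by
  have hA : ∀ b, ∀ x ∈ Wv A v, A b x ∈ Wv A v := by
    intro b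
    apply Wv_ind
    intro γ
    rw [h.H.AA]
    exact mem_Wv _ _ _
  have hC : ∀ b, ∀ x ∈ Wv A v, C b x ∈ Wv A v := by
    intro b
    apply Wv_ind
    intro γ
    rw [h.CA, hv, map_smul]
    exact Submodule.smul_mem _ _ (Submodule.smul_mem _ _ (mem_Wv _ _ _))
  have two : ∀ p : V, (2 : Ω) • p ∈ Wv A v → p ∈ Wv A v := by
    intro p hp
    have h3 := Submodule.smul_mem _ (2 : Ω)⁻¹ hp
    rwa [smul_smul, inv_mul_cancel₀ h2, one_smul] at h3
  have hB1 : ∀ x ∈ Wv A v, B 1 x ∈ Wv A v := by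
    intro x hx
    apply two
    rw [h.B_one h2 hT]
    apply hA
    exact Submodule.add_mem _ (Submodule.add_mem _ (Submodule.sub_mem _ hx (hC 1 x hx)) (Submodule.smul_mem _ _ (hC w x hx)))
      (Submodule.smul_mem _ _ (hC u x hx))
  have hrB : ∀ x ∈ Wv A v, r (B 1 (r x)) ∈ Wv A v := by
    intro x hx
    apply two
    have e1 : (2 : Ω) • r (B 1 (r x)) = C 1 (x - A 1 x + i • A w x + i • A u x) := by
      rw [← map_smul, h.B_one h2 hT, h.H.Cr, h.H.Cr, h.H.Cr, h.H.rA]
      congr 1
      simp only [map_add, map_sub, map_smul, h.H.r2]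
    rw [e1]
    apply hC
    exact Submodule.add_mem _ (Submodule.add_mem _ (Submodule.sub_mem _ hx (hA 1 x hx)) (Submodule.smul_mem _ _ (hA w x hx)))
      (Submodule.smul_mem _ _ (hA u x hx))
  refine ⟨hA, ?_⟩
  intro x hx
  obtain ⟨κ, -, hκ⟩ := hR.rel1 h.H.Rr (hR.mul (hR.mul (hR.mul (hR.mul (h.H.RB 1) h.H.Rr) (h.H.RB 1)) h.H.Rr) (h.H.RB 1))
    (by decide +kernel)
  have e1 : r x = κ • B 1 (r (B 1 (r (B 1 x)))) := LinearMap.congr_fun hκ x
  rw [e1]
  exact Submodule.smul_mem _ _ (hB1 _ (hrB _ (hB1 _ hx)))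

/-- trivial action on the multiplicity space is impossible -/
theorem caseB0 [FiniteDimensional Ω V] (hR : PR R) (h2 : (2 : Ω) ≠ 0) (h12 : Module.finrank Ω V = 12) {z' : Ω}
    (h : HB R A B C r y z i) (h' : HB (fun g x => R g (T12.gam x)) B A C t y z' (-i))
    (hT : ∀ v ∈ wt C 0, ∀ a, a ≠ 0 → B a v = i • A a v) : False := by
  have hR' := hR.gam
  have hT' : ∀ v ∈ wt C 0, A 1 v = (-i) • B 1 v := by
    intro v hv
    rw [hT v hv 1 (by decide), smul_smul]
    have : -i * i = 1 := by linear_combination -h.hi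
    rw [this, one_smul]
  have hd := dim_three h2 h12 h.H h.CA
  have hne : wt C 0 ≠ ⊥ := by
    intro h0
    rw [h0, finrank_bot] at hd
    omega
  obtain ⟨v, hv, hv0⟩ := Submodule.exists_mem_ne_zero_of_ne_bot hne
  obtain ⟨hA, hr⟩ := h.r_inv hR h2 (fun v hv => hT v hv 1 (by decide)) hv
  obtain ⟨-, ht⟩ := h'.r_inv hR' h2 hT' hv
  have hW : Wv B v = Wv A v := by
    apply le_antisymm
    · unfold Wv
      rw [Submodule.span_le]
      rintro _ ⟨γ, rfl⟩
      by_cases hγ : γ = 0
      · subst hγ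
        change B 0 v ∈ Wv A v
        have e0 := mem_Wv A 0 v
        rw [h.H.A0] at e0
        rw [h.H.B0]
        exact e0
      · change B γ v ∈ Wv A v
        rw [hT v hv γ hγ]
        exact Submodule.smul_mem _ _ (mem_Wv _ _ _)
    · unfold Wv
      rw [Submodule.span_le]
      rintro _ ⟨γ, rfl⟩
      by_cases hγ : γ = 0
      · subst hγ
        change A 0 v ∈ Wv B v
        have e0 := mem_Wv B 0 v
        rw [h.H.B0] at e0
        rw [h.H.A0]
        exact e0
      · change A γ v ∈ Wv B v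
        have e1 : A γ v = (-i) • B γ v := by
          rw [hT v hv γ hγ, smul_smul]
          have : -i * i = 1 := by linear_combination -h.hi
          rw [this, one_smul]
        rw [e1]
        exact Submodule.smul_mem _ _ (mem_Wv _ _ _)
  rw [hW] at ht
  have Rt : R t mt := by rw [← gam_r]; exact h'.H.Rr
  have m0 : v ∈ Wv A v := by
    have := mem_Wv A 0 v
    rwa [h.H.A0] at this
  rcases hR.irr_gen h.H.RA h.H.Rr Rt (Wv A v) hA hr ht with h5 | h5
  · rw [h5] at m0
    exact hv0 ((Submodule.mem_bot Ω).1 m0)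
  · have h6 := finrank_range_le_card (R := Ω) (fun γ => A γ v)
    rw [Set.finrank] at h6
    change Module.finrank Ω (Wv A v) ≤ _ at h6
    rw [h5, finrank_top, h12] at h6
    have h7 : Fintype.card F4 = 4 := rfl
    omega

end Cfsg.Agent.H906.T12
end

-- part: H906/T12B1
section
/-!
# The case of anticommuting lifts: the basis
-/

set_option autoImplicit false
set_option linter.unusedSectionVars false

namespace Cfsg.Agent.H906.T12

open F4

variable {Ω V : Type*} [Field Ω] [AddCommGroup V] [Module Ω V]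
variable {R : Module.End Ω V → M3 → Prop} {A B C : F4 → Module.End Ω V} {r t y : Module.End Ω V} {z i : Ω}

/-- the weights -/
def wj : Fin 3 → F4 := ![1, w, u]

/-- a basis of the fixed space of `C` -/
structure UB (A B C : F4 → Module.End Ω V) (y : Module.End Ω V) (i : Ω) (e : Fin 3 → V) : Prop where
  e0 : ∀ j, e j ∈ wt C 0
  eB : ∀ j a, a ≠ 0 → B a (e j) = (i * ch (wj j * a)) • A a (e j)
  ey : ∀ j, y (e j) = e (j + 1)
  ene : ∀ j, e j ≠ 0

variable {e : Fin 3 → V}

lemma UB.swap (hi : i * i = -1) (U : UB A B C y i e) : UB B A C y (-i) e where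
  e0 := U.e0
  eB := fun j a ha => by
    rw [U.eB j a ha, smul_smul]
    have : -i * ch (wj j * a) * (i * ch (wj j * a)) = 1 := by
      linear_combination (-(ch (wj j * a) : Ω) * ch (wj j * a)) * hi + ch_mul_self (Ω := Ω) (wj j * a)
    rw [this, one_smul]
  ey := U.ey
  ene := U.ene

lemma UB.wtA (U : UB A B C y i e) (h : HB R A B C r y z i) (γ : F4) (j : Fin 3) : A γ (e j) ∈ wt C γ := by
  intro c
  rw [h.CA, U.e0 j, zero_mul, ch_zero, one_smul, mul_comm]

/-- linear independence -/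
theorem UB.linInd (h : HB R A B C r y z i) (U : UB A B C y i e) (h2 : (2 : Ω) ≠ 0) :
    LinearIndependent Ω (fun k : F4 × Fin 3 => A k.1 (e k.2)) := by
  rw [Fintype.linearIndependent_iff]
  rintro c hc ⟨γ, j⟩
  have h1 := congrArg (pr C γ) hc
  rw [map_sum, map_zero, Fintype.sum_prod_type] at h1
  have h3 : ∀ δ : F4, ∑ k : Fin 3, pr C γ (c (δ, k) • A δ (e k)) =
      if γ = δ then ∑ k : Fin 3, c (γ, k) • A γ (e k) else 0 := by
    intro δ
    by_cases hγ : γ = δ
    · subst hγ
      rw [if_pos rfl]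
      apply Finset.sum_congr rfl
      intro k _
      rw [map_smul, pr_of_wt h2 (U.wtA h γ k), if_pos rfl]
    · rw [if_neg hγ]
      apply Finset.sum_eq_zero
      intro k _
      rw [map_smul, pr_of_wt h2 (U.wtA h δ k), if_neg hγ, smul_zero]
  rw [Finset.sum_congr rfl fun δ _ => h3 δ, Finset.sum_ite_eq, if_pos (Finset.mem_univ _)] at h1
  have h4 : ∑ k : Fin 3, c (γ, k) • e k = 0 := by
    apply h.H.A_inj γ
    rw [map_sum]
    simpa only [map_smul] using h1
  let T : F4 → Module.End Ω V := fun a => if a = 0 then 1 else (-i) • (A a * B a)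
  have hT : ∀ k, e k ∈ wt T (wj k) := by
    intro k a
    by_cases ha : a = 0
    · subst ha
      change (if (0 : F4) = 0 then (1 : Module.End Ω V) else _) (e k) = _
      rw [if_pos rfl, mul_zero, ch_zero, one_smul]
      rfl
    · change (if a = 0 then (1 : Module.End Ω V) else (-i) • (A a * B a)) (e k) = _
      rw [if_neg ha]
      change (-i) • A a (B a (e k)) = _
      rw [U.eB k a ha, map_smul, h.H.AA, add_same, h.H.A0, smul_smul]
      congr 1
      linear_combination (-(ch (wj k * a) : Ω)) * h.hi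
  have h5 := congrArg (pr T (wj j)) h4
  rw [map_sum, map_zero] at h5
  have hwj : ∀ j k : Fin 3, wj j = wj k ↔ j = k := by decide
  have h6 : ∀ k : Fin 3, pr T (wj j) (c (γ, k) • e k) = if j = k then c (γ, k) • e k else 0 := by
    intro k
    rw [map_smul, pr_of_wt h2 (hT k)]
    by_cases hjk : j = k
    · rw [if_pos ((hwj j k).2 hjk), if_pos hjk]
    · rw [if_neg (fun h => hjk ((hwj j k).1 h)), if_neg hjk, smul_zero]
  rw [Finset.sum_congr rfl fun k _ => h6 k, Finset.sum_ite_eq, if_pos (Finset.mem_univ _)] at h5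
  exact (smul_eq_zero.1 h5).resolve_right (U.ene j)

/-- the basis -/
theorem UB.exists_basis [FiniteDimensional Ω V] (h : HB R A B C r y z i) (U : UB A B C y i e) (h2 : (2 : Ω) ≠ 0)
    (h12 : Module.finrank Ω V = 12) : ∃ b : Module.Basis (F4 × Fin 3) Ω V, ∀ k, b k = A k.1 (e k.2) := by
  have hcard : Fintype.card (F4 × Fin 3) = Module.finrank Ω V := by rw [h12]; rfl
  refine ⟨basisOfLinearIndependentOfCardEqFinrank (U.linInd h h2) hcard, fun k => ?_⟩
  rw [coe_basisOfLinearIndependentOfCardEqFinrank]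

/-- traces in a basis -/
lemma trace_basis {κ : Type*} [Fintype κ] [DecidableEq κ] (b : Module.Basis κ Ω V) (f : Module.End Ω V) :
    LinearMap.trace Ω V f = ∑ k, b.repr (f (b k)) k := by
  rw [LinearMap.trace_eq_matrix_trace Ω b]
  unfold Matrix.trace
  exact Finset.sum_congr rfl fun k _ => by rw [Matrix.diag_apply, LinearMap.toMatrix_apply]

section coords

variable (h : HB R A B C r y z i) {b : Module.Basis (F4 × Fin 3) Ω V} (hb : ∀ k, b k = A k.1 (e k.2))

include h hb

lemma repr_A (x : V) (δ κ : F4) (j : Fin 3) : b.repr (A δ x) (κ, j) = b.repr x (κ + δ, j) := by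
  have h1 : (b.coord (κ, j)).comp (A δ) = b.coord (κ + δ, j) := by
    apply b.ext
    rintro ⟨κ', j'⟩
    change b.repr (A δ (b (κ', j'))) (κ, j) = b.repr (b (κ', j')) (κ + δ, j)
    have e1 : A δ (b (κ', j')) = b (δ + κ', j') := by rw [hb, hb, h.H.AA]
    rw [e1, Module.Basis.repr_self, Module.Basis.repr_self, Finsupp.single_apply, Finsupp.single_apply]
    congr 1
    rw [Prod.mk.injEq, Prod.mk.injEq]
    have := (show ∀ δ κ κ' : F4, δ + κ' = κ ↔ κ' = κ + δ by decide) δ κ κ'
    rw [this]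
  exact LinearMap.congr_fun h1 x

lemma repr_C (x : V) (δ κ : F4) (j : Fin 3) (U : UB A B C y i e) :
    b.repr (C δ x) (κ, j) = ch (κ * δ) * b.repr x (κ, j) := by
  have h1 : (b.coord (κ, j)).comp (C δ) = (ch (κ * δ) : Ω) • b.coord (κ, j) := by
    apply b.ext
    rintro ⟨κ', j'⟩
    change b.repr (C δ (b (κ', j'))) (κ, j) = ch (κ * δ) * b.repr (b (κ', j')) (κ, j)
    have e1 : C δ (b (κ', j')) = (ch (κ' * δ) : Ω) • b (κ', j') := by
      rw [hb]
      exact U.wtA h κ' j' δ
    rw [e1, map_smul, Finsupp.smul_apply, Module.Basis.repr_self, Finsupp.single_apply, smul_eq_mul]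
    by_cases hk : (κ', j') = (κ, j)
    · rw [if_pos hk]
      rw [Prod.mk.injEq] at hk
      rw [hk.1]
    · rw [if_neg hk, mul_zero, mul_zero]
  exact LinearMap.congr_fun h1 x

/-- the trace of the torus element -/
lemma trace_y (U : UB A B C y i e) : LinearMap.trace Ω V y = 0 := by
  rw [trace_basis b]
  apply Finset.sum_eq_zero
  rintro ⟨γ, j⟩ -
  have e1 : y (b (γ, j)) = b (u * γ, j + 1) := by rw [hb, hb, h.H.yA, U.ey]
  rw [e1, Module.Basis.repr_self, Finsupp.single_apply, if_neg]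
  intro h0
  rw [Prod.mk.injEq] at h0
  exact (show ∀ j : Fin 3, j + 1 ≠ j by decide) j h0.2

end coords

end Cfsg.Agent.H906.T12
end

-- part: H906/T12B2
section
/-!
# The case of anticommuting lifts: the reflection
-/

set_option autoImplicit false
set_option linter.unusedSectionVars false

namespace Cfsg.Agent.H906.T12

open F4

variable {Ω V : Type*} [Field Ω] [AddCommGroup V] [Module Ω V]
variable {R : Module.End Ω V → M3 → Prop} {A B C : F4 → Module.End Ω V} {r t y : Module.End Ω V} {z i : Ω}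
variable {e : Fin 3 → V}

/-- traces of conjugate elements -/
lemma PR.tr0' (hR : PR R) {g g' h : Module.End Ω V} {x x' k : M3} (hg : R g x) (hg' : R g' x') (hh : R h k) {s : F4}
    (hs : s ≠ 0) (hk : k * x = s • (x' * k)) (h0 : LinearMap.trace Ω V g' = 0) : LinearMap.trace Ω V g = 0 := by
  obtain ⟨c, hc, e1⟩ := hR.rel (hR.mul hh hg) (hR.mul hg' hh) hs hk
  obtain ⟨h', k', -, -, -, e2, e3⟩ := hR.inv hh
  have e4 : g = c • (h' * (g' * h)) := by
    rw [← mul_smul_comm, ← e1, ← mul_assoc, e3, one_mul]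
  rw [e4, map_smul, LinearMap.trace_mul_comm, mul_assoc, e2, mul_one, h0, smul_zero]

/-- the matrix of the reflection -/
theorem HB.exists_g [FiniteDimensional Ω V] (h : HB R A B C r y z i) (U : UB A B C y i e) (hR : PR R)
    (h2 : (2 : Ω) ≠ 0) {b : Module.Basis (F4 × Fin 3) Ω V} (hb : ∀ k, b k = A k.1 (e k.2)) :
    ∃ g : Fin 3 → Ω, (∀ γ j, r (A γ (e j)) = ∑ k : F4 × Fin 3,
      (ch (γ * k.1) * z ^ ((k.2 : ℕ) + 2 * (j : ℕ)) * g (k.2 + j)) • A k.1 (e k.2)) ∧
      g 0 = g 1 + g 2 ∧ g 0 * g 1 + g 1 * g 2 + g 2 * g 0 = 0 ∧ 4 * (g 0 ^ 2 + g 1 ^ 2 + g 2 ^ 2) = 1 := by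
  have z3 : z * z * z = 1 := by rw [← h.H.z3]; ring
  obtain ⟨M, hM⟩ : ∃ M : Fin 3 → Fin 3 → Ω, M = fun l j => b.repr (r (e j)) (0, l) := ⟨_, rfl⟩
  have hMd : ∀ l j, M l j = b.repr (r (e j)) (0, l) := fun l j => by rw [hM]
  -- constancy
  have c1 : ∀ δ l j, b.repr (r (e j)) (δ, l) = M l j := by
    intro δ l j
    have e1 : A δ (r (e j)) = r (e j) := by
      rw [h.H.Ar, U.e0 j, zero_mul, ch_zero, one_smul]
    have e3 := repr_A h hb (r (e j)) δ 0 l
    rw [e1, zero_add] at e3
    rw [hMd, ← e3]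
  have hr : ∀ j, r (e j) = ∑ k : F4 × Fin 3, M k.2 j • A k.1 (e k.2) := by
    intro j
    conv_lhs => rw [← b.sum_repr (r (e j))]
    apply Finset.sum_congr rfl
    rintro ⟨δ, l⟩ -
    rw [c1, hb]
  -- the torus
  have c2 : ∀ l j, M l (j + 1) = z * M (l + 1) j := by
    intro l j
    have e1 : (b.coord (0, l)).comp (y * y) = b.coord (0, l + 1) := by
      apply b.ext
      rintro ⟨κ, j'⟩
      change b.repr (y (y (b (κ, j')))) (0, l) = b.repr (b (κ, j')) (0, l + 1)
      have e3 : y (y (b (κ, j'))) = b (w * κ, j' + 1 + 1) := by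
        rw [hb, hb, h.H.yA, h.H.yA, U.ey, U.ey]
        congr 2
        exact (show ∀ κ : F4, u * (u * κ) = w * κ by decide) κ
      rw [e3, Module.Basis.repr_self, Module.Basis.repr_self, Finsupp.single_apply, Finsupp.single_apply]
      congr 1
      rw [Prod.mk.injEq, Prod.mk.injEq]
      have h4 := (show ∀ κ : F4, w * κ = 0 ↔ κ = 0 by decide) κ
      have h5 := (show ∀ l j : Fin 3, j + 1 + 1 = l ↔ j = l + 1 by decide) l j'
      rw [h4, h5]
    rw [hMd, hMd, ← U.ey, h.H.ry, map_smul, Finsupp.smul_apply, smul_eq_mul]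
    congr 1
    exact LinearMap.congr_fun e1 (r (e j))
  have a1 : M 0 1 = z * M 1 0 := c2 0 0
  have a2 : M 0 2 = z * M 1 1 := c2 0 1
  have a3 : M 0 0 = z * M 1 2 := c2 0 2
  have a4 : M 1 1 = z * M 2 0 := c2 1 0
  have a5 : M 1 2 = z * M 2 1 := c2 1 1
  have a6 : M 1 0 = z * M 2 2 := c2 1 2
  have a7 : M 2 1 = z * M 0 0 := c2 2 0
  have a8 : M 2 2 = z * M 0 1 := c2 2 1
  have a9 : M 2 0 = z * M 0 2 := c2 2 2
  obtain ⟨g, hg⟩ : ∃ g : Fin 3 → Ω, g = ![M 0 0, z * z * M 1 0, M 1 1] := ⟨_, rfl⟩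
  have g0 : g 0 = M 0 0 := by rw [hg]; rfl
  have g1 : g 1 = z * z * M 1 0 := by rw [hg]; rfl
  have g2 : g 2 = M 1 1 := by rw [hg]; rfl
  have m00 : M 0 0 = g 0 := g0.symm
  have m10 : M 1 0 = z * g 1 := by rw [g1]; linear_combination (-M 1 0) * z3
  have m11 : M 1 1 = g 2 := g2.symm
  have m01 : M 0 1 = z * z * g 1 := by rw [a1, m10]; ring
  have m02 : M 0 2 = z * g 2 := by rw [a2, m11]
  have m21 : M 2 1 = z * g 0 := by rw [a7, m00]
  have m12 : M 1 2 = z * z * g 0 := by rw [a5, m21]; ring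
  have m22 : M 2 2 = g 1 := by rw [a8, m01]; linear_combination g 1 * z3
  have m20 : M 2 0 = z * z * g 2 := by rw [a9, m02]; ring
  have hMg : ∀ l j : Fin 3, M l j = z ^ ((l : ℕ) + 2 * (j : ℕ)) * g (l + j) := by
    intro l j
    fin_cases l <;> fin_cases j
    · change M 0 0 = z ^ 0 * g 0
      rw [m00]; ring
    · change M 0 1 = z ^ 2 * g 1
      rw [m01]; ring
    · change M 0 2 = z ^ 4 * g 2
      rw [m02]; linear_combination (-z * g 2) * z3
    · change M 1 0 = z ^ 1 * g 1
      rw [m10]; ring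
    · change M 1 1 = z ^ 3 * g 2
      rw [m11]; linear_combination (-g 2) * z3
    · change M 1 2 = z ^ 5 * g 0
      rw [m12]; linear_combination (-z * z * g 0) * z3
    · change M 2 0 = z ^ 2 * g 2
      rw [m20]; ring
    · change M 2 1 = z ^ 4 * g 0
      rw [m21]; linear_combination (-z * g 0) * z3
    · change M 2 2 = z ^ 6 * g 1
      rw [m22]; linear_combination (-(z * z * z + 1) * g 1) * z3
  -- the square
  have sq : ∀ l j, 4 * ∑ k : Fin 3, M k j * M l k = if l = j then 1 else 0 := by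
    intro l j
    have e1 : b.repr (r (r (e j))) (0, l) = if l = j then 1 else 0 := by
      rw [h.H.r2]
      have e3 : e j = b (0, j) := by rw [hb, h.H.A0]
      rw [e3, Module.Basis.repr_self, Finsupp.single_apply]
      congr 1
      rw [Prod.mk.injEq]
      simp only [true_and, eq_iff_iff]
      exact eq_comm
    rw [← e1]
    conv_rhs => rw [hr j]
    rw [map_sum, map_sum, Finsupp.finsetSum_apply, Fintype.sum_prod_type]
    have e4 : ∀ δ k, b.repr (r (M k j • A δ (e k))) (0, l) = M k j * M l k := by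
      intro δ k
      rw [map_smul, map_smul, Finsupp.smul_apply, h.H.rA, repr_C h hb _ _ _ _ U, zero_mul, ch_zero, one_mul, smul_eq_mul,
        hMd l k]
    simp only [e4]
    rw [Finset.sum_const, Finset.card_univ, show Fintype.card F4 = 4 from rfl, nsmul_eq_mul]
    norm_num
  have s00 := sq 0 0
  have s10 := sq 1 0
  rw [Fin.sum_univ_three, if_pos rfl] at s00
  rw [Fin.sum_univ_three, if_neg (by decide)] at s10
  have s1 : 4 * (g 0 ^ 2 + g 1 ^ 2 + g 2 ^ 2) = 1 := by
    rw [m00, m10, m20, m01, m02] at s00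
    linear_combination s00 - 4 * (g 1 ^ 2 + g 2 ^ 2) * z3
  have hz0 := h.H.z_ne
  have s2 : g 0 * g 1 + g 1 * g 2 + g 2 * g 0 = 0 := by
    rw [m00, m10, m20, m11, m12] at s10
    have e5 : (4 * z) * (g 0 * g 1 + g 1 * g 2 + g 2 * g 0) = 0 := by
      linear_combination s10 - 4 * z * g 2 * g 0 * z3
    exact (mul_eq_zero.1 e5).resolve_left (mul_ne_zero (four_ne h2) hz0)
  -- the trace
  have s3 : g 0 = g 1 + g 2 := by
    obtain ⟨k, hk⟩ := hR.ex !![0, 0, 1; 1, w, 0; 1, u, 0] (by rw [Matrix.det_fin_three]; decide)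
    have t0 : LinearMap.trace Ω V (r * B 1) = 0 :=
      hR.tr0' (hR.mul h.H.Rr (h.H.RB 1)) h.H.Ry hk (s := 1) (by decide) (by decide +kernel) (trace_y h hb U)
    rw [trace_basis b, Fintype.sum_prod_type] at t0
    have e1 : ∀ γ j, b.repr ((r * B 1) (b (γ, j))) (γ, j) =
        zt i 1 γ * (i * ch (wj j)) * ch γ * ch (γ * (γ + 1)) * M j j := by
      intro γ j
      have f1 : B 1 (b (γ, j)) = (zt i 1 γ * (i * ch (wj j)) * ch γ) • A (γ + 1) (e j) := by
        rw [hb, h.BA, U.eB j 1 (by decide), map_smul, map_smul, one_mul, h.CA, U.e0 j, zero_mul, ch_zero, one_smul,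
          map_smul, h.H.AA, smul_smul, smul_smul, mul_one, mul_one, mul_assoc]
      change b.repr (r (B 1 (b (γ, j)))) (γ, j) = _
      rw [f1, map_smul, map_smul, Finsupp.smul_apply, h.H.rA, repr_C h hb _ _ _ _ U, c1, smul_eq_mul]
      ring
    simp only [e1] at t0
    rw [sum_four] at t0
    simp only [Fin.sum_univ_three] at t0
    rw [m00, m11, m22] at t0
    have z0 : zt i 1 (0 : F4) = 1 := by unfold zt; rw [if_pos (by decide)]
    have z1 : zt i 1 (1 : F4) = -1 := by unfold zt; rw [if_neg (by decide), if_pos rfl]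
    have zw : zt i 1 w = i := by unfold zt; rw [if_neg (by decide), if_neg (by decide)]
    have zu : zt i 1 u = i := by unfold zt; rw [if_neg (by decide), if_neg (by decide)]
    rw [z0, z1, zw, zu, show wj 0 = 1 from rfl, show wj 1 = w from rfl, show wj 2 = u from rfl,
      show (0 : F4) * (0 + 1) = 0 from rfl, show (1 : F4) * (1 + 1) = 0 from rfl, show w * (w + 1) = 1 from rfl,
      show u * (u + 1) = 1 from rfl, ch_zero, ch_one, ch_w, ch_u] at t0
    have e6 : 2 * (g 0 - (g 1 + g 2)) = 0 := by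
      linear_combination t0 + (2 * (g 0 - g 1 - g 2)) * h.hi
    exact sub_eq_zero.1 ((mul_eq_zero.1 e6).resolve_left h2)
  refine ⟨g, ?_, s3, s2, s1⟩
  intro γ j
  rw [h.H.rA, hr j, map_sum]
  apply Finset.sum_congr rfl
  rintro ⟨δ, l⟩ -
  change C γ (M l j • A δ (e l)) = (ch (γ * δ) * z ^ ((l : ℕ) + 2 * (j : ℕ)) * g (l + j)) • A δ (e l)
  rw [map_smul, U.wtA h δ l, smul_smul, hMg]
  congr 1
  rw [mul_comm δ γ]
  ring

end Cfsg.Agent.H906.T12
end

-- part: H906/T12B3
section
/-!
# The case of anticommuting lifts: conclusion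
-/

set_option autoImplicit false
set_option linter.unusedSectionVars false

namespace Cfsg.Agent.H906.T12

open F4

/-- tables -/
def bre (γ : F4) : ℤ := if γ = 0 then 1 else 0
def bim (γ : F4) (j : Fin 3) : ℤ := if γ = 0 then 0 else sg (wj j * γ)
def PP (σ : F4 → F4 → F4) (l j : Fin 3) : ℤ := ∑ γ, ∑ δ, (bre γ * bre δ + bim γ j * bim δ l) * sg (σ γ δ)
def QQ (σ : F4 → F4 → F4) (l j : Fin 3) : ℤ := ∑ γ, ∑ δ, (bre γ * bim δ l - bim γ j * bre δ) * sg (σ γ δ)

def σ0 (γ δ : F4) : F4 := γ * δ + δ * γ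
def σ1 (γ δ : F4) : F4 := γ * δ + (w * δ + (1 + u * δ) * γ)

lemma PP0 : ∀ l j, PP σ0 l j = 2 := by decide +kernel
lemma QQ0 : ∀ l j, QQ σ0 l j = 0 := by decide +kernel
lemma PP1 : ∀ l j, PP σ1 l j = ![![2, 6, -2], ![-2, 2, 2], ![2, -2, 6]] l j := by decide +kernel
lemma QQ1 : ∀ l j, QQ σ1 l j = ![![-4, 0, 0], ![0, 4, 4], ![-4, 0, 0]] l j := by decide +kernel

variable {Ω V : Type*} [Field Ω] [AddCommGroup V] [Module Ω V]
variable {R : Module.End Ω V → M3 → Prop} {A B C : F4 → Module.End Ω V} {r t y : Module.End Ω V} {z i : Ω}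
variable {e : Fin 3 → V}

lemma S_eq (hi : i * i = -1) (σ : F4 → F4 → F4) (l j : Fin 3) :
    ∑ γ, ∑ δ, ((bre γ : Ω) - i * (bim γ j : Ω)) * ((bre δ : Ω) + i * (bim δ l : Ω)) * ch (σ γ δ) =
      (PP σ l j : Ω) + i * (QQ σ l j : Ω) := by
  unfold PP QQ ch
  push_cast
  rw [Finset.mul_sum, ← Finset.sum_add_distrib]
  apply Finset.sum_congr rfl
  intro γ _
  rw [Finset.mul_sum, ← Finset.sum_add_distrib]
  apply Finset.sum_congr rfl
  intro δ _
  linear_combination (-(bim γ j : Ω) * (bim δ l : Ω) * (sg (σ γ δ) : Ω)) * hi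

lemma UB.B_eq (U : UB A B C y i e) (h : HB R A B C r y z i) (γ : F4) (j : Fin 3) :
    B γ (e j) = ((bre γ : Ω) + i * (bim γ j : Ω)) • A γ (e j) := by
  unfold bre bim
  by_cases hγ : γ = 0
  · subst hγ
    rw [if_pos rfl, if_pos rfl, h.H.B0, h.H.A0]
    simp
  · rw [if_neg hγ, if_neg hγ, U.eB j γ hγ]
    congr 1
    simp [ch]

lemma UB.A_eq (U : UB A B C y i e) (h : HB R A B C r y z i) (γ : F4) (j : Fin 3) :
    A γ (e j) = ((bre γ : Ω) - i * (bim γ j : Ω)) • B γ (e j) := by
  rw [U.B_eq h, smul_smul]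
  have : ((bre γ : Ω) - i * (bim γ j : Ω)) * ((bre γ : Ω) + i * (bim γ j : Ω)) = 1 := by
    unfold bre bim
    by_cases hγ : γ = 0
    · rw [if_pos hγ, if_pos hγ]
      simp
    · rw [if_neg hγ, if_neg hγ]
      have h1 := ch_mul_self (Ω := Ω) (wj j * γ)
      unfold ch at h1
      push_cast
      linear_combination (-(sg (wj j * γ) : Ω) * (sg (wj j * γ) : Ω)) * h.hi + h1
  rw [this, one_smul]

/-- traces of products -/
theorem trace_X [FiniteDimensional Ω V] (h : HB R A B C r y 1 i) (U : UB A B C y i e)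
    {b : Module.Basis (F4 × Fin 3) Ω V} (hb : ∀ k, b k = A k.1 (e k.2)) {g' : Fin 3 → Ω}
    (ht : ∀ γ j, t (B γ (e j)) = ∑ k : F4 × Fin 3,
      (ch (γ * k.1) * z ^ ((k.2 : ℕ) + 2 * (j : ℕ)) * g' (k.2 + j)) • B k.1 (e k.2))
    {X : Module.End Ω V} {gX : Fin 3 → Fin 3 → Ω} {σ : F4 → F4 → F4}
    (hX : ∀ δ l, X (A δ (e l)) = ∑ k : F4 × Fin 3, (ch (k.1 * δ + σ k.1 δ) * gX k.2 l) • A k.1 (e k.2)) :
    LinearMap.trace Ω V (X * t) = ∑ j : Fin 3, ∑ l : Fin 3, z ^ ((l : ℕ) + 2 * (j : ℕ)) * g' (l + j) * gX j l *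
      ((PP σ l j : Ω) + i * (QQ σ l j : Ω)) := by
  rw [trace_basis b, Fintype.sum_prod_type, Finset.sum_comm]
  apply Finset.sum_congr rfl
  intro j _
  simp only [← S_eq h.hi]
  simp only [Finset.mul_sum]
  rw [Finset.sum_comm]
  apply Finset.sum_congr rfl
  intro γ _
  have e1 : (X * t) (b (γ, j)) = ∑ l : F4 × Fin 3, (((bre γ : Ω) - i * (bim γ j : Ω)) *
      (ch (γ * l.1) * z ^ ((l.2 : ℕ) + 2 * (j : ℕ)) * g' (l.2 + j)) *
        ((bre l.1 : Ω) + i * (bim l.1 l.2 : Ω))) • X (A l.1 (e l.2)) := by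
    change X (t (b (γ, j))) = _
    rw [hb]
    change X (t (A γ (e j))) = _
    rw [U.A_eq h, map_smul, ht, map_smul, map_sum, Finset.smul_sum]
    apply Finset.sum_congr rfl
    intro l _
    rw [map_smul, U.B_eq h l.1 l.2, map_smul, smul_smul, smul_smul, mul_assoc]
  have e2 : ∀ δ l, b.repr (X (A δ (e l))) (γ, j) = ch (γ * δ + σ γ δ) * gX j l := by
    intro δ l
    rw [hX, map_sum, Finsupp.finsetSum_apply, Finset.sum_eq_single (γ, j)]
    · rw [map_smul, Finsupp.smul_apply, ← hb (γ, j), Module.Basis.repr_self, Finsupp.single_eq_same, smul_eq_mul, mul_one]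
    · intro k _ hk
      rw [map_smul, Finsupp.smul_apply, ← hb k, Module.Basis.repr_self, Finsupp.single_apply, if_neg hk, smul_zero]
    · intro h0
      exact absurd (Finset.mem_univ _) h0
  rw [e1, map_sum, Finsupp.finsetSum_apply, Fintype.sum_prod_type, Finset.sum_comm]
  apply Finset.sum_congr rfl
  intro l _
  apply Finset.sum_congr rfl
  intro δ _
  rw [map_smul, Finsupp.smul_apply, e2, smul_eq_mul, ch_add]
  have e3 := ch_mul_self (Ω := Ω) (γ * δ)
  linear_combination (((bre γ : Ω) - i * (bim γ j : Ω)) * ((bre δ : Ω) + i * (bim δ l : Ω)) *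
    ch (σ γ δ) * z ^ ((l : ℕ) + 2 * (j : ℕ)) * g' (l + j) * gX j l) * e3

end Cfsg.Agent.H906.T12
end

-- part: H906/T12B4
section
/-!
# The case of anticommuting lifts: conclusion
-/

set_option autoImplicit false
set_option linter.unusedSectionVars false

namespace Cfsg.Agent.H906.T12

open F4

variable {Ω V : Type*} [Field Ω] [AddCommGroup V] [Module Ω V]
variable {R : Module.End Ω V → M3 → Prop} {A B C : F4 → Module.End Ω V} {r t y : Module.End Ω V} {z i : Ω}
variable {e : Fin 3 → V}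

/-- the final computation -/
theorem final_algebra (h2 : (2 : Ω) ≠ 0) {i z : Ω} {g g' : Fin 3 → Ω} (hi : i * i = -1) (z3 : z ^ 3 = 1)
    (s1 : g 0 = g 1 + g 2) (s2 : g 0 * g 1 + g 1 * g 2 + g 2 * g 0 = 0) (s3 : 4 * (g 0 ^ 2 + g 1 ^ 2 + g 2 ^ 2) = 1)
    (s1' : g' 0 = g' 1 + g' 2) (s2' : g' 0 * g' 1 + g' 1 * g' 2 + g' 2 * g' 0 = 0)
    (s3' : 4 * (g' 0 ^ 2 + g' 1 ^ 2 + g' 2 ^ 2) = 1)
    (t0 : ∑ j : Fin 3, ∑ l : Fin 3, z ^ ((l : ℕ) + 2 * (j : ℕ)) * g' (l + j) * g (j + l) *
      ((PP σ0 l j : Ω) + i * (QQ σ0 l j : Ω)) = 0)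
    (t1 : ∑ j : Fin 3, ∑ l : Fin 3, z ^ ((l : ℕ) + 2 * (j : ℕ)) * g' (l + j) * g (j + (l + 1)) *
      ((PP σ1 l j : Ω) + i * (QQ σ1 l j : Ω)) = 0) : (7 : Ω) = 0 ∧ z ≠ 1 := by
  have hz0 : z ≠ 0 := by
    rintro rfl
    rw [zero_pow (by norm_num)] at z3
    exact zero_ne_one z3
  simp only [Fin.sum_univ_three] at t0 t1
  simp only [PP0, QQ0] at t0
  rw [show PP σ1 0 0 = 2 from PP1 0 0, show PP σ1 0 1 = 6 from PP1 0 1, show PP σ1 0 2 = -2 from PP1 0 2,
    show PP σ1 1 0 = -2 from PP1 1 0, show PP σ1 1 1 = 2 from PP1 1 1, show PP σ1 1 2 = 2 from PP1 1 2,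
    show PP σ1 2 0 = 2 from PP1 2 0, show PP σ1 2 1 = -2 from PP1 2 1, show PP σ1 2 2 = 6 from PP1 2 2,
    show QQ σ1 0 0 = -4 from QQ1 0 0, show QQ σ1 0 1 = 0 from QQ1 0 1, show QQ σ1 0 2 = 0 from QQ1 0 2,
    show QQ σ1 1 0 = 0 from QQ1 1 0, show QQ σ1 1 1 = 4 from QQ1 1 1, show QQ σ1 1 2 = 4 from QQ1 1 2,
    show QQ σ1 2 0 = -4 from QQ1 2 0, show QQ σ1 2 1 = 0 from QQ1 2 1, show QQ σ1 2 2 = 0 from QQ1 2 2] at t1
  push_cast at t0 t1
  have t0' : (z ^ 0 * g' 0 * g 0 * (2 + i * 0) + z ^ 1 * g' 1 * g 1 * (2 + i * 0) + z ^ 2 * g' 2 * g 2 * (2 + i * 0)) +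
      (z ^ 2 * g' 1 * g 1 * (2 + i * 0) + z ^ 3 * g' 2 * g 2 * (2 + i * 0) + z ^ 4 * g' 0 * g 0 * (2 + i * 0)) +
      (z ^ 4 * g' 2 * g 2 * (2 + i * 0) + z ^ 5 * g' 0 * g 0 * (2 + i * 0) + z ^ 6 * g' 1 * g 1 * (2 + i * 0)) = 0 := t0
  have t1' : (z ^ 0 * g' 0 * g 1 * (2 + i * (-4)) + z ^ 1 * g' 1 * g 2 * (-2 + i * 0) +
        z ^ 2 * g' 2 * g 0 * (2 + i * (-4))) +
      (z ^ 2 * g' 1 * g 2 * (6 + i * 0) + z ^ 3 * g' 2 * g 0 * (2 + i * 4) + z ^ 4 * g' 0 * g 1 * (-2 + i * 0)) +
      (z ^ 4 * g' 2 * g 0 * (-2 + i * 0) + z ^ 5 * g' 0 * g 1 * (2 + i * 4) + z ^ 6 * g' 1 * g 2 * (6 + i * 0)) = 0 := t1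
  have z4 : z ^ 4 = z := by linear_combination z * z3
  have z5 : z ^ 5 = z ^ 2 := by linear_combination z ^ 2 * z3
  have z6 : z ^ 6 = 1 := by linear_combination (z ^ 3 + 1) * z3
  rw [z3, z4, z5, z6] at t0' t1'
  -- the golden ratio
  have golden : ∀ {g : Fin 3 → Ω}, g 0 = g 1 + g 2 → g 0 * g 1 + g 1 * g 2 + g 2 * g 0 = 0 →
      4 * (g 0 ^ 2 + g 1 ^ 2 + g 2 ^ 2) = 1 → ∃ φ, g 0 ≠ 0 ∧ g 1 = φ * g 0 ∧ g 2 = (1 - φ) * g 0 ∧ φ ^ 2 = φ + 1 := by
    intro g e1 e2 e3
    have hg0 : g 0 ≠ 0 := by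
      intro h0
      have h1 : g 2 = -g 1 := by linear_combination -e1 + h0
      have h3 : g 1 ^ 2 = 0 := by
        rw [h0, h1] at e2
        linear_combination -e2
      have h4 : g 1 = 0 := pow_eq_zero_iff (by norm_num) |>.1 h3
      rw [h1, h0, h4] at e3
      norm_num at e3
    refine ⟨g 1 / g 0, hg0, by field_simp, ?_, ?_⟩
    · rw [sub_mul, div_mul_cancel₀ _ hg0]
      linear_combination -e1
    · field_simp
      have h1 : g 2 = g 0 - g 1 := by linear_combination -e1
      rw [h1] at e2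
      linear_combination -e2
  obtain ⟨φ, n0, p1, p2, hφ⟩ := golden s1 s2 s3
  obtain ⟨φ', n0', p1', p2', hφ'⟩ := golden s1' s2' s3'
  have hor : φ' = φ ∨ φ' = 1 - φ := by
    have h1 : (φ' - φ) * (φ' - (1 - φ)) = 0 := by linear_combination hφ' - hφ
    rcases mul_eq_zero.1 h1 with h | h
    · exact Or.inl (sub_eq_zero.1 h)
    · exact Or.inr (sub_eq_zero.1 h)
  rw [p1, p2, p1', p2'] at t0' t1'
  have h4 := four_ne h2
  -- characteristic three if `z = 1`
  have hz1 : z = 1 → (3 : Ω) = 0 := by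
    intro hz
    rw [hz] at t0'
    rcases hor with h | h
    · rw [h] at t0'
      have h5 : (3 : Ω) * (4 * 2 * (g 0 * g' 0)) = 0 := by
        linear_combination t0' - 12 * g 0 * g' 0 * hφ
      refine (mul_eq_zero.1 h5).resolve_right ?_
      exact mul_ne_zero (mul_ne_zero h4 h2) (mul_ne_zero n0 n0')
    · rw [h] at t0'
      have h5 : (3 : Ω) * (2 * (g 0 * g' 0)) = 0 := by
        linear_combination -t0' - 12 * g 0 * g' 0 * hφ
      refine (mul_eq_zero.1 h5).resolve_right ?_
      exact mul_ne_zero h2 (mul_ne_zero n0 n0')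
  have hzz : z ^ 2 = -1 - z := by
    by_cases hz : z = 1
    · have := hz1 hz
      rw [hz]
      linear_combination this
    · have h5 : (z - 1) * (z ^ 2 + z + 1) = 0 := by linear_combination z3
      have h6 := (mul_eq_zero.1 h5).resolve_left (sub_ne_zero.2 hz)
      linear_combination h6
  rw [hzz] at t1'
  have hgg : g 0 * g' 0 ≠ 0 := mul_ne_zero n0 n0'
  have key : (7 : Ω) = 0 := by
    rcases hor with h | h
    · rw [h] at t1'
      have h5 : (4 * (g 0 * g' 0)) * (i * (2 + z) * (1 - 2 * φ) + z) = 0 := by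
        linear_combination t1' - 8 * z * g 0 * g' 0 * hφ
      have h6 := (mul_eq_zero.1 h5).resolve_left (mul_ne_zero h4 hgg)
      have h7 : i * (2 + z) * (1 - 2 * φ) = -z := by linear_combination h6
      have h8 : (i * (2 + z) * (1 - 2 * φ)) ^ 2 = z ^ 2 := by rw [h7]; ring
      have h9 : (7 : Ω) * (2 * z ^ 2) = 0 := by
        linear_combination h8 - (2 + z) ^ 2 * (1 - 2 * φ) ^ 2 * hi + 4 * (2 + z) ^ 2 * hφ + 20 * hzz
      exact (mul_eq_zero.1 h9).resolve_right (mul_ne_zero h2 (pow_ne_zero _ hz0))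
    · exfalso
      rw [h] at t1'
      have h5 : (4 * (g 0 * g' 0)) * (4 * z) = 0 := by
        linear_combination -t1' - 8 * z * g 0 * g' 0 * hφ
      exact mul_ne_zero (mul_ne_zero h4 hgg) (mul_ne_zero h4 hz0) h5
  refine ⟨key, ?_⟩
  intro hz
  have h3 := hz1 hz
  exact one_ne_zero (α := Ω) (by linear_combination key - 2 * h3)

/-- the case of a nontrivial action on the multiplicity space -/
theorem caseB1 [FiniteDimensional Ω V] (hR : PR R) (h2 : (2 : Ω) ≠ 0) (h12 : Module.finrank Ω V = 12)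
    (h : HB R A B C r y 1 i) (h' : HB (fun g x => R g (T12.gam x)) B A C t y z (-i)) (U : UB A B C y i e) :
    (7 : Ω) = 0 ∧ z ≠ 1 := by
  obtain ⟨b, hb⟩ := U.exists_basis h h2 h12
  obtain ⟨b', hb'⟩ := (U.swap h.hi).exists_basis h' h2 h12
  obtain ⟨g, hr, s1, s2, s3⟩ := h.exists_g U hR h2 hb
  obtain ⟨g', ht, s1', s2', s3'⟩ := h'.exists_g (U.swap h.hi) hR.gam h2 hb'
  have Rt : R t mt := by rw [← gam_r]; exact h'.H.Rr
  have trY := trace_y h hb U
  have hr' : ∀ γ j, r (A γ (e j)) = ∑ k : F4 × Fin 3, (ch (γ * k.1) * g (k.2 + j)) • A k.1 (e k.2) := by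
    intro γ j
    rw [hr]
    simp only [one_pow, mul_one]
  -- the first trace
  have t0 : LinearMap.trace Ω V (r * t) = 0 := by
    obtain ⟨k, hk⟩ := hR.ex !![1, 1, 1; 1, w, u; 1, u, w] (by rw [Matrix.det_fin_three]; decide)
    exact hR.tr0' (hR.mul h.H.Rr Rt) h.H.Ry hk (s := 1) (by decide) (by decide +kernel) trY
  rw [trace_X h U hb ht (X := r) (gX := fun j l => g (j + l)) (σ := σ0) (by
    intro δ l
    rw [hr']
    apply Finset.sum_congr rfl
    intro k _
    congr 2
    exact ch_congr ((show ∀ δ κ : F4, sg (δ * κ) = sg (κ * δ + σ0 κ δ) by decide) δ k.1))] at t0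
  -- the second trace
  have hAB : LinearMap.trace Ω V (A w * B 1) = 0 := by
    rw [trace_basis b]
    apply Finset.sum_eq_zero
    rintro ⟨γ, j⟩ -
    have f1 : (A w * B 1) (b (γ, j)) = (zt i 1 γ * (i * ch (wj j)) * ch γ) • b (γ + 1 + w, j) := by
      have f0 : B 1 (b (γ, j)) = (zt i 1 γ * (i * ch (wj j)) * ch γ) • A (γ + 1) (e j) := by
        rw [hb, h.BA, U.eB j 1 (by decide), map_smul, map_smul, one_mul, h.CA, U.e0 j, zero_mul, ch_zero, one_smul,
          map_smul, h.H.AA, smul_smul, smul_smul, mul_one, mul_one, mul_assoc]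
      change A w (B 1 (b (γ, j))) = _
      rw [f0, map_smul, h.H.AA, hb, add_comm w]
    rw [f1, map_smul, Finsupp.smul_apply, Module.Basis.repr_self, Finsupp.single_apply, if_neg, smul_zero]
    intro h0
    rw [Prod.mk.injEq] at h0
    exact (show ∀ γ : F4, γ + 1 + w ≠ γ by decide) γ h0.1
  have t1 : LinearMap.trace Ω V (r * A 1 * C u * y * t) = 0 := by
    obtain ⟨k, hk⟩ := hR.ex !![0, 0, 1; 0, w, 1; u, 1, u] (by rw [Matrix.det_fin_three]; decide)
    exact hR.tr0' (hR.mul (hR.mul (hR.mul (hR.mul h.H.Rr (h.H.RA 1)) (h.H.RC u)) h.H.Ry) Rt)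
      (hR.mul (h.H.RA w) (h.H.RB 1)) hk (s := w) (by decide) (by decide +kernel) hAB
  rw [trace_X h U hb ht (X := r * A 1 * C u * y) (gX := fun j l => g (j + (l + 1))) (σ := σ1) (by
    intro δ l
    change r (A 1 (C u (y (A δ (e l))))) = _
    rw [h.H.yA, U.ey, U.wtA h, map_smul, map_smul, h.H.AA, hr', Finset.smul_sum]
    apply Finset.sum_congr rfl
    intro k _
    rw [smul_smul, ← mul_assoc, ← ch_add]
    congr 2
    exact ch_congr ((show ∀ δ κ : F4, sg (u * δ * u + (1 + u * δ) * κ) = sg (κ * δ + σ1 κ δ) by decide) δ k.1))] at t1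
  exact final_algebra h2 h.hi h'.H.z3 s1 s2 s3 s1' s2' s3' t0 t1

end Cfsg.Agent.H906.T12
end

-- part: H906/T12Main
section
/-!
# Projective representations of `PSL_3(4)` of degree twelve
-/

set_option autoImplicit false
set_option linter.unusedSectionVars false

namespace Cfsg.Agent.H906.T12

open F4

variable {Ω V : Type*} [Field Ω] [AddCommGroup V] [Module Ω V]
variable {R : Module.End Ω V → M3 → Prop} {A B C : F4 → Module.End Ω V} {r t y : Module.End Ω V} {z i : Ω}

lemma pr_mem_at {C : F4 → Module.End Ω V} {v : V} (CC : ∀ b b', C b (C b' v) = C (b + b') v) (γ : F4) :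
    pr C γ v ∈ wt C γ := by
  intro d
  rw [pr_apply, map_smul, map_sum, smul_comm]
  congr 1
  rw [Finset.smul_sum]
  have h1 : ∀ c, C d ((ch (γ * c) : Ω) • C c v) = (ch (γ * d) : Ω) • (ch (γ * (d + c)) : Ω) • C (d + c) v := by
    intro c
    rw [map_smul, CC, smul_smul]
    congr 1
    rw [mul_add, ch_add, ← mul_assoc, ch_mul_self, one_mul]
  rw [Finset.sum_congr rfl fun c _ => h1 c]
  exact Fintype.sum_equiv (Equiv.addLeft d) _ _ fun c => rfl

/-- the dichotomy for the multiplicity space -/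
theorem HB.exists_U (h : HB R A B C r y z i) (h2 : (2 : Ω) ≠ 0) :
    (∀ v ∈ wt C 0, ∀ a, a ≠ 0 → B a v = i • A a v) ∨ ∃ e : Fin 3 → V, UB A B C y i e := by
  obtain ⟨T, hT⟩ : ∃ T : F4 → Module.End Ω V, T = fun a => if a = 0 then 1 else (-i) • (A a * B a) := ⟨_, rfl⟩
  have hT0 : ∀ v, T 0 v = v := by
    intro v
    rw [hT]
    change (if (0 : F4) = 0 then (1 : Module.End Ω V) else _) v = v
    rw [if_pos rfl]
    rfl
  have hTa : ∀ a v, a ≠ 0 → T a v = (-i) • A a (B a v) := by
    intro a v ha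
    rw [hT]
    change (if a = 0 then (1 : Module.End Ω V) else (-i) • (A a * B a)) v = _
    rw [if_neg ha]
    rfl
  have hBT : ∀ a v, a ≠ 0 → B a v = i • A a (T a v) := by
    intro a v ha
    rw [hTa a v ha, map_smul, h.H.AA, add_same, h.H.A0, smul_smul]
    have : i * -i = 1 := by linear_combination -h.hi
    rw [this, one_smul]
  have TV : ∀ v ∈ wt C 0, ∀ a, T a v ∈ wt C 0 := by
    intro v hv a
    by_cases ha : a = 0
    · rw [ha, hT0]; exact hv
    · rw [hTa a v ha]
      apply Submodule.smul_mem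
      intro c
      rw [h.CA, h.CB, hv, map_smul, map_smul, map_smul, smul_smul, smul_smul, ← ch_add, ← ch_add]
      congr 1
      exact ch_congr ((show ∀ a c : F4, sg (c * a + c * a + 0 * c) = sg (0 * c) by decide) a c)
  have TT : ∀ v ∈ wt C 0, ∀ a b, T a (T b v) = T (a + b) v := by
    intro v hv a b
    by_cases ha : a = 0
    · rw [ha, hT0, zero_add]
    by_cases hb : b = 0
    · rw [hb, hT0, add_zero]
    have e1 : A a (B a (A b (B b v))) = (zt i a b * ch (a * b * (a + b))) • A (a + b) (B (a + b) v) := by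
      rw [h.BA, map_smul, h.H.BB, h.CB, hv, zero_mul, ch_zero, one_smul, map_smul, map_smul, h.H.AA, smul_smul]
    rw [hTa a _ ha, hTa b v hb, map_smul, map_smul, smul_smul, e1, smul_smul]
    by_cases hab : a = b
    · subst hab
      rw [add_same, h.H.A0, h.H.B0, hT0, mul_zero, ch_zero]
      unfold zt
      rw [if_neg (by tauto), if_pos rfl]
      have : -i * -i * (-1 * 1) = 1 := by linear_combination -h.hi
      rw [this, one_smul]
    · have hne : a + b ≠ 0 := (show ∀ a b : F4, a ≠ b → a + b ≠ 0 by decide) a b hab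
      have h3 : a * b * (a + b) = 1 := (show ∀ a b : F4, a ≠ 0 → b ≠ 0 → a ≠ b → a * b * (a + b) = 1 by decide) a b ha hb hab
      rw [hTa _ _ hne, h3, ch_one]
      unfold zt
      rw [if_neg (by (clear * - a b ha hb; tauto)), if_neg hab]
      congr 1
      linear_combination i * h.hi
  have Ty : ∀ a v, T a (y v) = y (T (w * a) v) := by
    intro a v
    by_cases ha : a = 0
    · rw [ha, mul_zero, hT0, hT0]
    · have hwa : w * a ≠ 0 := (show ∀ a : F4, a ≠ 0 → w * a ≠ 0 by decide) a ha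
      rw [hTa a _ ha, hTa _ v hwa, map_smul, h.H.By, h.H.Ay]
  by_cases hall : ∀ v ∈ wt C 0, ∀ δ : F4, δ ≠ 0 → pr T δ v = 0
  · left
    intro v hv a ha
    have h3 := sum_pr h2 hT0 v
    have h4 : ∑ γ, pr T γ v = pr T 0 v := Finset.sum_eq_single 0 (fun δ _ hδ => hall v hv δ hδ)
      (fun h0 => absurd (Finset.mem_univ _) h0)
    have h5 : v ∈ wt T 0 := by
      have h6 := pr_mem_at (TT v hv) 0
      rw [h4] at h3
      rwa [h3] at h6
    rw [hBT a v ha, h5, zero_mul, ch_zero, one_smul]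
  · right
    push Not at hall
    obtain ⟨v, hv, δ, hδ, hne⟩ := hall
    have h3 := pr_mem_at (TT v hv) δ
    have h4 : pr T δ v ∈ wt C 0 := by
      rw [pr_apply]
      exact Submodule.smul_mem _ _ (Submodule.sum_mem _ fun a _ => Submodule.smul_mem _ _ (TV v hv a))
    have hyC : ∀ x ∈ wt C 0, y x ∈ wt C 0 := by
      intro x hx c
      rw [h.H.Cy, hx, map_smul, zero_mul, zero_mul]
    have hyT : ∀ δ, ∀ x ∈ wt T δ, y x ∈ wt T (w * δ) := by
      intro δ x hx a
      rw [Ty, hx, map_smul]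
      congr 1
      exact ch_congr ((show ∀ δ a : F4, sg (δ * (w * a)) = sg (w * δ * a) by decide) δ a)
    obtain ⟨x, hx1, hx2, hx3⟩ : ∃ x, x ≠ 0 ∧ x ∈ wt C 0 ∧ x ∈ wt T 1 := by
      cases δ
      · exact absurd rfl hδ
      · exact ⟨_, hne, h4, h3⟩
      · exact ⟨y (y (pr T w v)), fun h0 => hne (h.H.y_inj (h.H.y_inj h0)), hyC _ (hyC _ h4), (hyT _ _ (hyT _ _ h3) :)⟩
      · exact ⟨y (pr T u v), fun h0 => hne (h.H.y_inj h0), hyC _ h4, (hyT _ _ h3 :)⟩
    have hw : ∀ j : Fin 3, ![x, y x, y (y x)] j ∈ wt T (wj j) := by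
      intro j
      fin_cases j
      · exact hx3
      · exact (hyT _ _ hx3 :)
      · exact (hyT _ _ (hyT _ _ hx3) :)
    refine ⟨![x, y x, y (y x)], ⟨?_, ?_, ?_, ?_⟩⟩
    · intro j
      fin_cases j
      · exact hx2
      · exact hyC _ hx2
      · exact hyC _ (hyC _ hx2)
    · intro j a ha
      rw [hBT a _ ha, hw j a, map_smul, smul_smul]
    · intro j
      fin_cases j
      · rfl
      · rfl
      · exact h.H.y3 x
    · intro j
      fin_cases j
      · exact hx1
      · exact fun h0 => hx1 (h.H.y_inj h0)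
      · exact fun h0 => hx1 (h.H.y_inj (h.H.y_inj h0))

theorem caseB [FiniteDimensional Ω V] (hR : PR R) (h2 : (2 : Ω) ≠ 0) (h12 : Module.finrank Ω V = 12)
    (h : HB R A B C r y 1 i) (h' : HB (fun g x => R g (T12.gam x)) B A C t y z (-i)) : (7 : Ω) = 0 ∧ z ≠ 1 := by
  rcases h.exists_U h2 with hT | ⟨e, U⟩
  · exact (caseB0 hR h2 h12 h h' hT).elim
  · exact caseB1 hR h2 h12 h h' U

/-- **Projective representations of `PSL_3(4)` of degree twelve.** -/
theorem PR.main [IsAlgClosed Ω] [FiniteDimensional Ω V] (hR : PR R) (h2 : (2 : Ω) ≠ 0)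
    (h12 : Module.finrank Ω V = 12) : (7 : Ω) = 0 ∧
      ∃ (r t y : Module.End Ω V) (z : Ω), R r mr ∧ R t mt ∧ R y my ∧ (∀ v, r (y v) = y (y (r v))) ∧
        (∀ v, t (y v) = z • y (y (t v))) ∧ (∀ v, y (y (y v)) = v) ∧ z ^ 3 = 1 ∧ z ≠ 1 := by
  have hnt : Nontrivial V := Module.nontrivial_of_finrank_pos (R := Ω) (by rw [h12]; norm_num)
  obtain ⟨A, B, C, r, t, y, z, H, H'⟩ := hR.exists_sys
  have key : (7 : Ω) = 0 ∧ z ≠ 1 := by
    obtain ⟨s, ζ, P⟩ := H.exists_pairing hR
    obtain ⟨S1, S1'⟩ := shift hR H H'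
    obtain ⟨S2, S2'⟩ := shift hR.del S1 S1'
    rcases sign_cases P.s1 P.sadd with hs | hs | hs | hs
    · exact (caseA hR h2 h12 H H' P hs).elim
    · obtain ⟨i, h⟩ := HB.of_pairing hR h2 h12 H P hs
      exact caseB hR h2 h12 h (h.swap H')
    · obtain ⟨i, h⟩ := HB.of_pairing hR.del h2 h12 S1 P.shift hs
      exact caseB hR.del h2 h12 h (h.swap S1')
    · obtain ⟨i, h⟩ := HB.of_pairing hR.del.del h2 h12 S2 P.shift.shift (fun x => by
        have e1 : w * (w * x) = u * x := (show ∀ x : F4, w * (w * x) = u * x by decide) x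
        rw [e1]
        exact hs x)
      exact caseB hR.del.del h2 h12 h (h.swap S2')
  refine ⟨key.1, r, t, y, z, H.Rr, ?_, H.Ry, ?_, H'.ry, H.y3, H'.z3, key.2⟩
  · rw [← gam_r]; exact H'.Rr
  · intro v
    rw [H.ry, one_smul]

end Cfsg.Agent.H906.T12
end

private theorem dce_7cbef4bd3779 : _root_.True := by
  try have : _root_.True := by simp only [_root_.Cfsg.Agent.H906.T12.mU.eq_1]
  try have : _root_.True := by simp only [_root_.Cfsg.Agent.H906.T12.ch.eq_1]
  exact _root_.True.intro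
end

-- part: H906/T12Twelve
section
prune_inst 0x14040000962000000180004900020005800000000000000c0400840080080026006804010002000000008d06008000001000020024000000e000c00000101001880000430400000420000000080000000000000000000000000000000000000000000000
set_option linter.all false
open scoped Cfsg.Agent.FastGrp

-- part: H906/T12Core
section
/-!
# Cores with socle `PSL_3(4)` in degree twelve
-/

set_option autoImplicit false
set_option linter.unusedSectionVars false

namespace Cfsg.Agent.H906.T12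

open Cfsg Cfsg.Geo SL3Par L34 H915.LD F4 T14
open scoped MatrixGroups commutatorElement Matrix

universe u v

section field

variable {K : Type v} [Field K]

/-- the map from the concrete field -/
def kmap (w0 : K) (hw : w0 ^ 2 + w0 + 1 = 0) (k2 : (2 : K) = 0) : F4 →+* K where
  toFun := fun x => match x with | .o => 0 | .i => 1 | .w => w0 | .u => w0 + 1
  map_one' := rfl
  map_zero' := rfl
  map_add' := by
    intro x y
    cases x <;> cases y
    · change (0 : K) = 0 + 0
      ring
    · change (1 : K) = 0 + 1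
      ring
    · change w0 = 0 + w0
      ring
    · change w0 + 1 = 0 + (w0 + 1)
      ring
    · change (1 : K) = 1 + 0
      ring
    · change (0 : K) = 1 + 1
      linear_combination -k2
    · change w0 + 1 = 1 + w0
      ring
    · change w0 = 1 + (w0 + 1)
      linear_combination -k2
    · change w0 = w0 + 0
      ring
    · change w0 + 1 = w0 + 1
      ring
    · change (0 : K) = w0 + w0
      linear_combination -w0 * k2
    · change (1 : K) = w0 + (w0 + 1)
      linear_combination -w0 * k2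
    · change w0 + 1 = (w0 + 1) + 0
      ring
    · change w0 = (w0 + 1) + 1
      linear_combination -k2
    · change (1 : K) = (w0 + 1) + w0
      linear_combination -w0 * k2
    · change (0 : K) = (w0 + 1) + (w0 + 1)
      linear_combination (-w0 - 1) * k2
  map_mul' := by
    intro x y
    cases x <;> cases y
    · change (0 : K) = 0 * 0
      ring
    · change (0 : K) = 0 * 1
      ring
    · change (0 : K) = 0 * w0
      ring
    · change (0 : K) = 0 * (w0 + 1)
      ring
    · change (0 : K) = 1 * 0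
      ring
    · change (1 : K) = 1 * 1
      ring
    · change w0 = 1 * w0
      ring
    · change w0 + 1 = 1 * (w0 + 1)
      ring
    · change (0 : K) = w0 * 0
      ring
    · change w0 = w0 * 1
      ring
    · change w0 + 1 = w0 * w0
      linear_combination -hw + (w0 + 1) * k2
    · change (1 : K) = w0 * (w0 + 1)
      linear_combination -hw + k2
    · change (0 : K) = (w0 + 1) * 0
      ring
    · change w0 + 1 = (w0 + 1) * 1
      ring
    · change (1 : K) = (w0 + 1) * w0
      linear_combination -hw + k2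
    · change w0 = (w0 + 1) * (w0 + 1)
      linear_combination -hw

lemma exists_k [Fintype K] (hK : Fintype.card K = 4) : ∃ k : F4 →+* K, Function.Bijective k := by
  obtain ⟨w0, hw⟩ := exists_w hK
  refine ⟨kmap w0 hw (two_zero hK), ?_⟩
  rw [Fintype.bijective_iff_injective_and_card]
  exact ⟨RingHom.injective _, by rw [hK]; rfl⟩

end field

variable {ι : Type} [Fintype ι] [DecidableEq ι] {F : Type u} [Field F] {P : Subgroup (GL ι F)}
  {K : Type v} [Field K] [Fintype K] (e : Soc P ≃* Matrix.ProjectiveSpecialLinearGroup (Fin 3) K)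

/-- the projective representation of a core -/
def RP (e : Soc P ≃* Matrix.ProjectiveSpecialLinearGroup (Fin 3) K) (k : F4 →+* K)
    (g : Module.End (AlgebraicClosure F) (ι → AlgebraicClosure F)) (x : M3) : Prop :=
  ∃ (l : P) (X : SL3Par.X K) (s : K) (c : AlgebraicClosure F), ph e l = pj K X ∧ s ≠ 0 ∧ X.1 = s • x.map k ∧
    x.det = 1 ∧ c ≠ 0 ∧ g = c • rep P l

lemma pj_eq_of_smul {x y : SL3Par.X K} {s : K} (h : x.1 = s • y.1) : pj K x = pj K y := by
  have h1 : pj K (x * y⁻¹) = 1 := by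
    apply pj_eq_one_of_smul (c := s)
    have h2 : (x * y⁻¹).1 = x.1 * (y⁻¹).1 := rfl
    have h3 : y.1 * (y⁻¹).1 = 1 := congrArg Subtype.val (mul_inv_cancel y)
    rw [h2, h, smul_mul_assoc, h3]
  rw [map_mul, map_inv] at h1
  exact mul_inv_eq_one.1 h1

lemma rep_irr (hC : Core P) (W : Submodule (AlgebraicClosure F) (ι → AlgebraicClosure F))
    (hW : ∀ l : P, ∀ v ∈ W, rep P l v ∈ W) : W = ⊥ ∨ W = ⊤ := by
  by_cases h0 : W = ⊥
  · exact Or.inl h0
  right
  have hspan := Cfsg.Agent.H920.span_eq_top hC.absIrred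
  let S : Submodule F (Matrix ι ι F) :=
    { carrier := {M | ∀ v ∈ W, Matrix.toLin' (M.map (algebraMap F (AlgebraicClosure F))) v ∈ W}
      add_mem' := fun {M N} hM hN v hv => by
        have h1 : (M + N).map (algebraMap F (AlgebraicClosure F)) =
            M.map (algebraMap F (AlgebraicClosure F)) + N.map (algebraMap F (AlgebraicClosure F)) :=
          Matrix.map_add _ (map_add _) M N
        rw [h1, map_add]
        exact W.add_mem (hM v hv) (hN v hv)
      zero_mem' := fun v hv => by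
        have h1 : (0 : Matrix ι ι F).map (algebraMap F (AlgebraicClosure F)) = 0 := Matrix.map_zero _ (map_zero _)
        rw [h1, map_zero]
        exact W.zero_mem
      smul_mem' := fun c M hM v hv => by
        have h1 : (c • M).map (algebraMap F (AlgebraicClosure F)) =
            algebraMap F (AlgebraicClosure F) c • M.map (algebraMap F (AlgebraicClosure F)) := by
          ext i j
          simp
        rw [h1, map_smul]
        exact W.smul_mem _ (hM v hv) }
  have hS : S = ⊤ := by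
    rw [eq_top_iff, ← hspan, Submodule.span_le]
    rintro _ ⟨g, hg, rfl⟩
    exact fun v hv => hW ⟨g, hg⟩ v hv
  obtain ⟨v, hv, hv0⟩ := Submodule.exists_mem_ne_zero_of_ne_bot h0
  obtain ⟨j, hj⟩ : ∃ j, v j ≠ 0 := by
    by_contra hcon
    push Not at hcon
    exact hv0 (funext hcon)
  have hE : ∀ i : ι, Pi.single i (1 : AlgebraicClosure F) ∈ W := by
    intro i
    have h1 : Matrix.single i j (1 : F) ∈ S := by rw [hS]; trivial
    have h2 := h1 v hv
    have h3 : Matrix.toLin' ((Matrix.single i j (1 : F)).map (algebraMap F (AlgebraicClosure F))) v = v j • Pi.single i 1 := by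
      rw [Matrix.toLin'_apply]
      have h4 : (Matrix.single i j (1 : F)).map (algebraMap F (AlgebraicClosure F)) =
          Matrix.single i j (1 : AlgebraicClosure F) := by
        ext a b
        simp [Matrix.single_apply, apply_ite]
      rw [h4, Matrix.single_mulVec]
      ext a
      by_cases ha : a = i
      · subst ha
        simp
      · simp [ha]
    rw [h3] at h2
    have h5 := W.smul_mem (v j)⁻¹ h2
    rwa [smul_smul, inv_mul_cancel₀ hj, one_smul] at h5
  rw [eq_top_iff]
  intro x _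
  rw [pi_eq_sum_univ' x]
  apply W.sum_mem
  intro i _
  have h1 := W.smul_mem (x i) (hE i)
  convert h1 using 2

lemma rep_ker {l : P} {c : AlgebraicClosure F} (h : rep P l = c • 1) : l ∈ (ph e).ker := by
  rw [ker_comp e, Subgroup.mem_subgroupOf, mem_scalars_iff]
  have h1 : ((l : GL ι F) : Matrix ι ι F).map (algebraMap F (AlgebraicClosure F)) = c • 1 := by
    rw [rep_apply] at h
    apply Matrix.toLin'.injective
    rw [h, map_smul, Matrix.toLin'_one]
    rfl
  have inj := (algebraMap F (AlgebraicClosure F)).injective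
  have hoff : ∀ a b, a ≠ b → ((l : GL ι F) : Matrix ι ι F) a b = 0 := by
    intro a b hab
    apply inj
    have h2 := congrFun (congrFun h1 a) b
    rw [Matrix.map_apply, Matrix.smul_apply, Matrix.one_apply_ne hab, smul_zero] at h2
    rw [h2, map_zero]
  have hdiag : ∀ a b, ((l : GL ι F) : Matrix ι ι F) a a = ((l : GL ι F) : Matrix ι ι F) b b := by
    intro a b
    apply inj
    have h2 := congrFun (congrFun h1 a) a
    have h3 := congrFun (congrFun h1 b) b
    rw [Matrix.map_apply, Matrix.smul_apply, Matrix.one_apply_eq] at h2 h3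
    rw [h2, h3]
  by_cases hι : Nonempty ι
  · obtain ⟨a⟩ := hι
    have h4 : ((l : GL ι F) : Matrix ι ι F) = (((l : GL ι F) : Matrix ι ι F) a a) • 1 := by
      ext p q
      by_cases hpq : p = q
      · subst hpq
        rw [Matrix.smul_apply, Matrix.one_apply_eq, smul_eq_mul, mul_one]
        exact hdiag p a
      · rw [Matrix.smul_apply, Matrix.one_apply_ne hpq, smul_zero]
        exact hoff p q hpq
    have h5 : ((l : GL ι F) : Matrix ι ι F) a a ≠ 0 := by
      intro h0
      rw [h0, zero_smul] at h4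
      have h6 : ((l : GL ι F) : Matrix ι ι F) * (((l : GL ι F)⁻¹ : GL ι F) : Matrix ι ι F) = 1 := by
        rw [← Units.val_mul, mul_inv_cancel, Units.val_one]
      rw [h4, Matrix.zero_mul] at h6
      have h7 := congrFun (congrFun h6 a) a
      rw [Matrix.one_apply_eq] at h7
      exact zero_ne_one h7
    exact ⟨Units.mk0 _ h5, h4⟩
  · rw [not_nonempty_iff] at hι
    exact ⟨1, by ext a; exact (IsEmpty.false a).elim⟩

/-- a core gives a projective representation -/
theorem RP_pr (hC : Core P) (k : F4 →+* K) (hk : Function.Bijective k) : PR (RP e k) where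
  mul := by
    rintro g g' x x' ⟨l, X, s, c, h1, h2, h3, h4, h5, h6⟩ ⟨l', X', s', c', h1', h2', h3', h4', h5', h6'⟩
    refine ⟨l * l', X * X', s * s', c * c', ?_, mul_ne_zero h2 h2', ?_, ?_, mul_ne_zero h5 h5', ?_⟩
    · rw [map_mul, map_mul, h1, h1']
    · have e1 : (X * X').1 = X.1 * X'.1 := rfl
      rw [e1, h3, h3', smul_mul_smul_comm, Matrix.map_mul]
    · rw [Matrix.det_mul, h4, h4', one_mul]
    · rw [h6, h6', smul_mul_smul_comm, map_mul]
  ex := by
    intro x hx
    have hX : (x.map k).det = 1 := by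
      have h1 := RingHom.map_det k x
      rw [hx, map_one] at h1
      exact h1.symm
    obtain ⟨l, hl⟩ := ph_surj e (pj K ⟨x.map k, hX⟩)
    exact ⟨rep P l, l, ⟨x.map k, hX⟩, 1, 1, hl, one_ne_zero, (one_smul _ _).symm, hx, one_ne_zero, (one_smul _ _).symm⟩
  smul := by
    rintro g x d hd ⟨l, X, s, c, h1, h2, h3, h4, h5, h6⟩
    exact ⟨l, X, s, d * c, h1, h2, h3, h4, mul_ne_zero hd h5, by rw [h6, smul_smul]⟩
  smulM := by
    rintro g x s' hs' ⟨l, X, s, c, h1, h2, h3, h4, h5, h6⟩
    have hks : k s' ≠ 0 := (map_ne_zero k).2 hs'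
    refine ⟨l, X, s * (k s')⁻¹, c, h1, mul_ne_zero h2 (inv_ne_zero hks), ?_, ?_, h5, h6⟩
    · have e1 : (s' • x).map k = k s' • x.map k := by
        ext i j
        simp
      rw [e1, smul_smul, mul_assoc, inv_mul_cancel₀ hks, mul_one, h3]
    · rw [Matrix.det_smul, h4, mul_one]
      exact (show ∀ s : F4, s ≠ 0 → s ^ Fintype.card (Fin 3) = 1 by decide) s' hs'
  eq := by
    rintro g g' x ⟨l, X, s, c, h1, h2, h3, h4, h5, h6⟩ ⟨l', X', s', c', h1', h2', h3', h4', h5', h6'⟩
    have e1 : X.1 = (s * s'⁻¹) • X'.1 := by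
      rw [h3', smul_smul, mul_assoc, inv_mul_cancel₀ h2', mul_one, h3]
    have e2 : ph e l = ph e l' := by rw [h1, h1', pj_eq_of_smul e1]
    have e3 : l * l'⁻¹ ∈ (ph e).ker := by rw [MonoidHom.mem_ker, map_mul, map_inv, e2, mul_inv_cancel]
    obtain ⟨d, hd⟩ := rep_scalar e e3
    have e4 : rep P l = d • rep P l' := by
      calc rep P l = rep P (l * l'⁻¹) * rep P l' := by rw [← map_mul, inv_mul_cancel_right]
        _ = d • rep P l' := by rw [hd, smul_mul_assoc, one_mul]
    have hd0 : d ≠ 0 := by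
      rintro rfl
      have hne := hC.nonempty
      rw [zero_smul] at e4
      have e5 : rep P l * rep P l⁻¹ = 1 := by rw [← map_mul, mul_inv_cancel, map_one]
      rw [e4, zero_mul] at e5
      exact zero_ne_one e5
    refine ⟨c * d * c'⁻¹, mul_ne_zero (mul_ne_zero h5 hd0) (inv_ne_zero h5'), ?_⟩
    rw [h6', smul_smul, mul_assoc, inv_mul_cancel₀ h5', mul_one, h6, e4, smul_smul]
  one := ⟨1, 1, 1, 1, by rw [map_one, map_one], one_ne_zero, by
    rw [one_smul, Matrix.map_one _ (map_zero k) (map_one k)]; rfl, Matrix.det_one, one_ne_zero, by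
    rw [map_one, one_smul]⟩
  det := fun ⟨l, X, s, c, h1, h2, h3, h4, h5, h6⟩ => h4
  faith := by
    rintro x ⟨l, X, s, c, h1, h2, h3, h4, h5, h6⟩
    have e1 : rep P l = c⁻¹ • 1 := by rw [h6, smul_smul, inv_mul_cancel₀ h5, one_smul]
    have e2 := rep_ker e e1
    rw [MonoidHom.mem_ker, h1] at e2
    have e3 : X ∈ Subgroup.center (SL3Par.X K) := (QuotientGroup.eq_one_iff X).1 e2
    obtain ⟨r, -, hr⟩ := Matrix.SpecialLinearGroup.mem_center_iff.1 e3
    have e4 : ∀ a b, k (x a b) = s⁻¹ * (Matrix.scalar (Fin 3) r) a b := by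
      intro a b
      have e5 := congrFun (congrFun h3 a) b
      rw [Matrix.smul_apply, Matrix.map_apply, smul_eq_mul] at e5
      have e6 := congrFun (congrFun hr a) b
      rw [e6, e5, ← mul_assoc, inv_mul_cancel₀ h2, one_mul]
    refine ⟨x 0 0, ?_⟩
    ext a b
    apply hk.1
    by_cases hab : a = b
    · subst hab
      rw [Matrix.smul_apply, Matrix.one_apply_eq, smul_eq_mul, mul_one, e4, e4]
      simp
    · rw [Matrix.smul_apply, Matrix.one_apply_ne hab, smul_zero, map_zero, e4]
      simp [hab]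
  irr := by
    intro W hW
    apply rep_irr hC
    intro l v hv
    obtain ⟨X, hX⟩ : ∃ X : SL3Par.X K, pj K X = ph e l := QuotientGroup.mk'_surjective _ _
    choose f hf using hk.2
    have e1 : (X.1.map f).map k = X.1 := by
      ext a b
      rw [Matrix.map_apply, Matrix.map_apply, hf]
    apply hW (rep P l) (X.1.map f)
    · refine ⟨l, X, 1, 1, hX.symm, one_ne_zero, by rw [e1, one_smul], ?_, one_ne_zero, (one_smul _ _).symm⟩
      apply hk.1
      have h1 := RingHom.map_det k (X.1.map f)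
      rw [h1, map_one]
      change ((X.1.map f).map k).det = 1
      rw [e1]
      exact X.2
    · exact hv

end Cfsg.Agent.H906.T12
end

-- part: H906/T12Twelve
section
/-!
# Cores with socle `PSL_3(4)` in degree twelve
-/

set_option autoImplicit false
set_option linter.unusedSectionVars false

namespace Cfsg.Agent.H906.T12

open Cfsg Cfsg.Geo SL3Par L34 H915.LD F4 T14
open scoped MatrixGroups commutatorElement Matrix

universe u v

variable {ι : Type} [Fintype ι] [DecidableEq ι] {F : Type u} [Field F] {P : Subgroup (GL ι F)}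
  {K : Type v} [Field K] [Fintype K]

/-- traces in characteristic seven -/
theorem fr_seven [Finite F] [hp : Fact (Nat.Prime 7)] [CharP F 7] (hC : Core P) (hK : Fintype.card K = 4)
    (hn : Fintype.card ι = 12) (e : Soc P ≃* Matrix.ProjectiveSpecialLinearGroup (Fin 3) K) : Fr P 49 := by
  have h49 : (49 : ℕ) = 7 ^ 2 := by norm_num
  rw [h49]
  apply Fr.of_reg 7
  intro g hg hord
  have hord' : ¬ 7 ∣ orderOf (⟨g, hg⟩ : P) := by rwa [← Subgroup.orderOf_coe]
  obtain ⟨l, hl⟩ : ∃ l : P, l = ⟨g, hg⟩ := ⟨_, rfl⟩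
  have hlg : (l : GL ι F) = g := by rw [hl]
  rw [← hl] at hord'
  rw [← tr_pow_char 7 g 2, ← hlg]
  change tr (((l ^ 7 ^ 2 : P) : GL ι F)) = tr (l : GL ι F)
  rw [← h49]
  have hz12 : ∀ z ∈ (ph e).ker, z ^ 12 = 1 := by
    intro z hz
    have := ph_pow e hC hz
    rwa [hn] at this
  have hcen : ∀ z ∈ (ph e).ker, ∀ x : P, z * x = x * z := fun z hz x =>
    ((Subgroup.mem_center_iff.1 (ph_cen e hz)) x).symm
  have hord2 : orderOf (ph e l) ∣ orderOf l := orderOf_map_dvd _ _
  -- real elements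
  have real : ∀ s, s * ph e l * s⁻¹ = (ph e l)⁻¹ → ∃ k : P, ∃ ζ ∈ (ph e).ker, k * l * k⁻¹ = ζ * l⁻¹ := by
    intro s hs
    obtain ⟨k, hk⟩ := ph_surj e s
    refine ⟨k, k * l * k⁻¹ * l, ?_, by group⟩
    rw [MonoidHom.mem_ker, map_mul, map_mul, map_mul, map_inv, hk, hs, inv_mul_cancel]
  have four : ph e l ^ 4 = 1 → l ^ 49 = l := by
    intro h4
    have h1 : l ^ 4 ∈ (ph e).ker := by rw [MonoidHom.mem_ker, map_pow, h4]
    have h2 := hz12 _ h1
    rw [← pow_mul] at h2
    rw [show 49 = 4 * 12 + 1 by norm_num, pow_succ, h2, one_mul]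
  rcases pow_cases hK (ph e l) with h3 | h4 | h5 | h7
  · obtain ⟨s, -, hs⟩ := inv_three hK h3
    obtain ⟨k, ζ, hζ, hk⟩ := real s hs
    have h1 : l ^ 3 ∈ (ph e).ker := by rw [MonoidHom.mem_ker, map_pow, h3]
    have hc : Commute ζ l⁻¹ := hcen ζ hζ _
    have h2 : l ^ 3 = ζ ^ 3 * (l ^ 3)⁻¹ := by
      have h6 : k * l ^ 3 * k⁻¹ = ζ ^ 3 * (l ^ 3)⁻¹ := by
        rw [← conj_pow, hk, hc.mul_pow, inv_pow]
      rw [← hcen _ h1 k, mul_assoc, mul_inv_cancel, mul_one] at h6
      exact h6
    have h6 : l ^ 6 = ζ ^ 3 := by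
      calc l ^ 6 = l ^ 3 * l ^ 3 := by rw [← pow_add]
        _ = ζ ^ 3 * (l ^ 3)⁻¹ * l ^ 3 := by rw [← h2]
        _ = ζ ^ 3 := by rw [inv_mul_cancel_right]
    have h8 : l ^ 49 = l := by
      calc l ^ 49 = (l ^ 6) ^ 8 * l := by rw [← pow_mul, ← pow_succ]
        _ = (ζ ^ 12) ^ 2 * l := by rw [h6, ← pow_mul, ← pow_mul]
        _ = l := by rw [hz12 ζ hζ, one_pow, one_mul]
    rw [h8]
  · rw [four h4]
  · obtain ⟨s, -, hs⟩ := inv_five hK h5
    obtain ⟨k, ζ, hζ, hk⟩ := real s hs
    have h1 : l ^ 5 ∈ (ph e).ker := by rw [MonoidHom.mem_ker, map_pow, h5]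
    have hc : Commute ζ l⁻¹ := hcen ζ hζ _
    have h2 : l ^ 5 = ζ ^ 5 * (l ^ 5)⁻¹ := by
      have h6 : k * l ^ 5 * k⁻¹ = ζ ^ 5 * (l ^ 5)⁻¹ := by
        rw [← conj_pow, hk, hc.mul_pow, inv_pow]
      rw [← hcen _ h1 k, mul_assoc, mul_inv_cancel, mul_one] at h6
      exact h6
    have h6 : l ^ 10 = ζ ^ 5 := by
      calc l ^ 10 = l ^ 5 * l ^ 5 := by rw [← pow_add]
        _ = ζ ^ 5 * (l ^ 5)⁻¹ * l ^ 5 := by rw [← h2]
        _ = ζ ^ 5 := by rw [inv_mul_cancel_right]
    have h8 : l ^ 49 = k * l * k⁻¹ := by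
      calc l ^ 49 = (l ^ 10) ^ 5 * l⁻¹ := by
            rw [eq_mul_inv_iff_mul_eq, ← pow_succ, ← pow_mul]
        _ = (ζ ^ 12) ^ 2 * ζ * l⁻¹ := by rw [h6, ← pow_mul, ← pow_mul, ← pow_succ]
        _ = ζ * l⁻¹ := by rw [hz12 ζ hζ, one_pow, one_mul]
        _ = k * l * k⁻¹ := hk.symm
    rw [h8]
    exact tr_conj (k : GL ι F) (l : GL ι F)
  · have h1 : ph e l = 1 := eq_one_of_pow h7 (by norm_num) hord2 hord'
    rw [four (by rw [h1, one_pow])]

/-- **Cores with socle `PSL_3(4)` in degree twelve.** -/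
theorem l34_twelve [Finite F] (p : ℕ) [hp : Fact p.Prime] [CharP F p] (hC : Core P) (hp2 : p ≠ 2)
    (hK : Fintype.card K = 4) (hn : Fintype.card ι = 12)
    (e : Soc P ≃* Matrix.ProjectiveSpecialLinearGroup (Fin 3) K) :
    p = 7 ∧ 3 ∣ Nat.card ((scalars ι F).subgroupOf P) ∧ Fr P 49 := by
  obtain ⟨k, hk⟩ := exists_k hK
  have h2Ω := two_ne (F := F) p hp2 (AlgebraicClosure F)
  have hR := RP_pr e hC k hk
  obtain ⟨h7, r, t, y, z, Rr, Rt, Ry, ry, ty, -, z3, z1⟩ := hR.main h2Ω
    (by rw [Module.finrank_fintype_fun_eq_card, hn])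
  have hp7 : p = 7 := by
    have h70 : ((7 : ℕ) : F) = 0 := by
      apply (algebraMap F (AlgebraicClosure F)).injective
      rw [map_zero, map_natCast]
      exact_mod_cast h7
    rw [CharP.cast_eq_zero_iff F p] at h70
    exact (Nat.prime_dvd_prime_iff_eq hp.out (by norm_num)).1 h70
  subst hp7
  refine ⟨rfl, ?_, fr_seven hC hK hn e⟩
  obtain ⟨lr, -, -, cr, -, -, -, -, hcr, er⟩ := Rr
  obtain ⟨lt, -, -, ct, -, -, -, -, hct, et⟩ := Rt
  obtain ⟨ly, -, -, cy, -, -, -, -, hcy, ey⟩ := Ry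
  have hne := hC.nonempty
  have hz0 : z ≠ 0 := by
    rintro rfl
    rw [zero_pow (by norm_num)] at z3
    exact zero_ne_one z3
  -- a scalar of order three
  have key : ∀ (l : P) (g : Module.End (AlgebraicClosure F) (ι → AlgebraicClosure F)) (c d : AlgebraicClosure F),
      c ≠ 0 → g = c • rep P l → (∀ v, g (y v) = d • y (y (g v))) → rep P (l * ly * (ly * ly * l)⁻¹) = (d * cy) • 1 := by
    intro l g c d hc hg hgy
    have h1 : g * y = d • (y * y * g) := LinearMap.ext hgy
    rw [hg, ey, smul_mul_smul_comm, smul_mul_smul_comm, smul_mul_smul_comm, smul_smul, ← map_mul, ← map_mul,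
      ← map_mul] at h1
    have h3 : rep P (l * ly) = (d * cy) • rep P (ly * ly * l) := by
      have h4 := congrArg (fun x => (c * cy)⁻¹ • x) h1
      simp only [smul_smul] at h4
      rw [inv_mul_cancel₀ (mul_ne_zero hc hcy), one_smul] at h4
      rw [h4]
      congr 1
      field_simp
    rw [map_mul, h3, smul_mul_assoc, ← map_mul, mul_inv_cancel, map_one]
  have kr := key lr r cr 1 hcr er (fun v => by rw [one_smul]; exact ry v)
  have kt := key lt t ct z hct et ty
  rw [one_mul] at kr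
  obtain ⟨ζ, hζ⟩ : ∃ ζ, ζ = lt * ly * (ly * ly * lt)⁻¹ * (lr * ly * (ly * ly * lr)⁻¹)⁻¹ := ⟨_, rfl⟩
  have hζr : rep P ζ = z • 1 := by
    have h1 : rep P ζ * rep P (lr * ly * (ly * ly * lr)⁻¹) = (z * cy) • 1 := by
      rw [hζ, ← map_mul, inv_mul_cancel_right, kt]
    rw [kr, mul_smul_comm, mul_one] at h1
    have h3 := congrArg (fun x => cy⁻¹ • x) h1
    simp only [smul_smul] at h3
    rw [inv_mul_cancel₀ hcy, one_smul] at h3
    rw [h3]
    congr 1
    field_simp
  have hζk := rep_ker e hζr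
  rw [ker_comp e] at hζk
  have hζ3 : ζ ^ 3 = 1 := by
    apply rep_injective
    rw [map_pow, hζr, smul_pow, one_pow, z3, one_smul, map_one]
  have hζ1 : ζ ≠ 1 := by
    intro h0
    rw [h0, map_one] at hζr
    apply z1
    obtain ⟨a⟩ := hne
    have h3 := congrFun (LinearMap.congr_fun hζr (Pi.single a 1)) a
    rw [LinearMap.smul_apply, Pi.smul_apply, Module.End.one_apply, Pi.single_eq_same, smul_eq_mul, mul_one] at h3
    exact h3.symm
  have h3f : Fact (Nat.Prime 3) := ⟨Nat.prime_three⟩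
  have hord : orderOf (⟨ζ, hζk⟩ : (scalars ι F).subgroupOf P) = 3 :=
    orderOf_eq_prime (Subtype.ext hζ3) (fun h0 => hζ1 (congrArg Subtype.val h0))
  rw [← hord]
  exact orderOf_dvd_natCard _

end Cfsg.Agent.H906.T12
end
end
end
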