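import Cfsg.Agent.H434.LD.PSp45_m3
import Cfsg.Agent.H175.LD.Core33
import Cfsg.Agent.H924.D5F_m3
import Cfsg.Agent.H114.TyTwo_m3
import Cfsg.Agent.FastGrp
import Cfsg.Agent.Prune
set_option linter.all false

section
prune_inst 0x7f00000000000000000000000000000000000000000000000000000000000000000000000000000000000000000000000000000000000000000000000000000000000000000000000000000000000000003fffffffffffffffffffffffffffbeffbdffffffff

-- part: H434/LD/K2Gen
section
set_option linter.all false
open scoped Cfsg.Agent.FastGrp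

/-!
# Generalities for the extension of `SL₂(25)` to `Sp₄(5)` (helper434)
-/

set_option autoImplicit false
set_option linter.unusedSectionVars false
open Matrix Module Cfsg.Agent.H162.Weil

namespace Cfsg.Agent.H434.K2

open Cfsg.Agent.H434.MRep Cfsg.Agent.H434.WK Cfsg.Agent.H434.PSp45

section gen

variable {G : Type*} [Group G] {ι : Type*} [Fintype ι] [DecidableEq ι] {F : Type*} [Field F] {𝕜 : Type*} [Field 𝕜]
  {V : Type*} [AddCommGroup V] [Module 𝕜 V]

/-- matrices of a representation -/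
noncomputable def toM (b : Basis ι 𝕜 V) (R : G →* Module.End 𝕜 V) : G →* Matrix ι ι 𝕜 :=
  (LinearMap.toMatrixAlgEquiv b : Module.End 𝕜 V →* Matrix ι ι 𝕜).comp R

theorem toM_apply (b : Basis ι 𝕜 V) (R : G →* Module.End 𝕜 V) (g : G) : toM b R g = LinearMap.toMatrix b b (R g) := rfl

theorem toM_trace (b : Basis ι 𝕜 V) (R : G →* Module.End 𝕜 V) (g : G) :
    (toM b R g).trace = LinearMap.trace 𝕜 V (R g) := by
  rw [toM_apply, LinearMap.trace_eq_matrix_trace 𝕜 b]

theorem toM_span (b : Basis ι 𝕜 V) {R : G →* Module.End 𝕜 V} (h : Submodule.span 𝕜 (Set.range R) = ⊤) :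
    Submodule.span 𝕜 (Set.range (toM b R)) = ⊤ := by
  have h1 : Set.range (toM b R) = (LinearMap.toMatrix b b) '' Set.range R := by
    rw [← Set.range_comp]
    rfl
  rw [h1]
  have h2 := Submodule.map_span ((LinearMap.toMatrix b b).toLinearMap) (Set.range R)
  rw [LinearEquiv.coe_toLinearMap] at h2
  rw [← h2, h, Submodule.map_top, LinearMap.range_eq_top]
  exact (LinearMap.toMatrix b b).surjective

theorem mRep_span (m : G →* Matrix ι ι F) (hm : Submodule.span F (Set.range m) = ⊤) (τ : F →+* 𝕜) :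
    Submodule.span 𝕜 (Set.range (mRep m τ)) = ⊤ := by
  have hall : ∀ M : Matrix ι ι F, Matrix.toLin' (M.map τ) ∈ Submodule.span 𝕜 (Set.range (mRep m τ)) := by
    intro M
    have hM : M ∈ Submodule.span F (Set.range m) := by rw [hm]; trivial
    induction hM using Submodule.span_induction with
    | mem x hx =>
      obtain ⟨g, rfl⟩ := hx
      exact Submodule.subset_span ⟨g, rfl⟩
    | zero =>
      rw [Matrix.map_zero _ (map_zero _), map_zero]
      exact Submodule.zero_mem _
    | add x y _ _ hx hy =>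
      rw [Matrix.map_add _ (map_add _), map_add]
      exact Submodule.add_mem _ hx hy
    | smul c x _ hx =>
      have h1 : (c • x).map τ = (τ c) • x.map τ := by
        ext i j
        simp
      rw [h1, map_smul]
      exact Submodule.smul_mem _ _ hx
  rw [eq_top_iff]
  intro T _
  have h2 : T = ∑ i, ∑ j, (LinearMap.toMatrix' T i j) • Matrix.toLin' ((Matrix.single i j (1 : F)).map τ) := by
    apply LinearMap.toMatrix'.injective
    simp only [map_sum, map_smul, LinearMap.toMatrix'_toLin']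
    conv_lhs => rw [Matrix.matrix_eq_sum_single (LinearMap.toMatrix' T)]
    refine Finset.sum_congr rfl fun i _ => Finset.sum_congr rfl fun j _ => ?_
    rw [Matrix.map_single, map_one, Matrix.smul_single, smul_eq_mul, mul_one]
  rw [h2]
  exact Submodule.sum_mem _ fun i _ => Submodule.sum_mem _ fun j _ => Submodule.smul_mem _ _ (hall _)

theorem span_le_mono {R : G →* Module.End 𝕜 V} {H : Type*} [Group H] (j : H →* G)
    (h : Submodule.span 𝕜 (Set.range (R.comp j)) = ⊤) : Submodule.span 𝕜 (Set.range R) = ⊤ := by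
  rw [eq_top_iff, ← h]
  apply Submodule.span_mono
  rintro _ ⟨x, rfl⟩
  exact ⟨j x, rfl⟩

theorem ne_one_of_span [FiniteDimensional 𝕜 V] {R : G →* Module.End 𝕜 V}
    (h : Submodule.span 𝕜 (Set.range R) = ⊤) (hV : 1 < finrank 𝕜 V) : R ≠ 1 := by
  rintro rfl
  have h1 : Set.range (1 : G →* Module.End 𝕜 V) = {1} := by
    ext x
    simp [eq_comm]
  rw [h1] at h
  have h2 : finrank 𝕜 (Submodule.span 𝕜 ({1} : Set (Module.End 𝕜 V))) ≤ 1 :=
    (finrank_span_le_card _).trans (by simp)
  rw [h, finrank_top, Module.finrank_linearMap] at h2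
  nlinarith

/-- a spanning representation is irreducible -/
theorem irr_of_span [Nontrivial V] {R : Representation 𝕜 G V} (h : Submodule.span 𝕜 (Set.range R) = ⊤) :
    R.IsIrreducible := by
  have key : ∀ W : Submodule 𝕜 V, (∀ g, ∀ w ∈ W, R g w ∈ W) → W = ⊥ ∨ W = ⊤ := by
    intro W hW
    have hall : ∀ T : Module.End 𝕜 V, ∀ w ∈ W, T w ∈ W := by
      intro T
      have hT : T ∈ Submodule.span 𝕜 (Set.range R) := by rw [h]; trivial
      induction hT using Submodule.span_induction with
      | mem x hx =>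
        intro w hw
        obtain ⟨g, rfl⟩ := hx
        exact hW g w hw
      | zero =>
        intro w _
        exact W.zero_mem
      | add x y _ _ hx hy =>
        intro w hw
        exact W.add_mem (hx w hw) (hy w hw)
      | smul c x _ hx =>
        intro w hw
        exact W.smul_mem _ (hx w hw)
    rw [or_iff_not_imp_left]
    intro hne
    obtain ⟨w, hw, hw0⟩ := (Submodule.ne_bot_iff _).1 hne
    obtain ⟨f, hf⟩ : ∃ f : Module.Dual 𝕜 V, f w = 1 := by
      by_contra hcon
      push Not at hcon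
      apply hw0
      rw [← Module.forall_dual_apply_eq_zero_iff 𝕜]
      intro φ
      by_contra hφ
      apply hcon ((φ w)⁻¹ • φ)
      rw [LinearMap.smul_apply, smul_eq_mul, inv_mul_cancel₀ hφ]
    rw [eq_top_iff]
    intro v _
    have h1 := hall (f.smulRight v) w hw
    rwa [LinearMap.smulRight_apply, hf, one_smul] at h1
  have hnt : Nontrivial (Subrepresentation R) := by
    refine ⟨⊥, ⊤, fun h => ?_⟩
    have h1 : (⊥ : Submodule 𝕜 V) = ⊤ := congrArg Subrepresentation.toSubmodule h
    exact bot_ne_top h1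
  refine @IsSimpleOrder.mk _ _ _ hnt ?_
  intro W
  rcases key W.toSubmodule (fun g w hw => W.apply_mem_toSubmodule g hw) with h | h
  · left
    exact Subrepresentation.toSubmodule_injective h
  · right
    exact Subrepresentation.toSubmodule_injective h

end gen

/-- the central element of `Sp₄(5)` acts as `-1` -/
theorem neg_one_act {𝕜 : Type*} [Field 𝕜] [hq : Fact ((Fintype.card (ZMod 5) : 𝕜) ≠ 0)] {V : Type*} [AddCommGroup V]
    [Module 𝕜 V] [FiniteDimensional 𝕜 V] [IsAlgClosed 𝕜] {ρ : Representation 𝕜 (Sp 2 (ZMod 5)) V} {ψ : AddChar (ZMod 5) 𝕜}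
    (hψ : ψ.IsPrimitive) (hρ : ρ.IsIrreducible) (hd : finrank 𝕜 V = 12) (u : V) :
    ρ (mm (-1 : GL (Fin 2) (ZMod 5))) u = -u := by
  obtain ⟨ε, hε, hu⟩ := exists_parity hρ
  obtain ⟨lam, v, hs⟩ : ∃ lam v, Seed ρ ψ lam 0 v := by
    rcases seed12 hψ hρ hd with ⟨v, h⟩ | ⟨v, h⟩
    · exact ⟨1, v, h⟩
    · exact ⟨2, v, h⟩
  have h1 := (wmat' hs hρ hd ij2).1 (Pi.single 0 1)
  rw [ff_neg hs, hu] at h1
  have h2 : (ε + 1) • ff ρ ψ lam v (Pi.single 0 1) = 0 := by
    rw [add_smul, one_smul, h1, neg_add_cancel]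
  have h3 : ε = -1 := by
    rcases smul_eq_zero.1 h2 with h | h
    · exact eq_neg_of_add_eq_zero_left h
    · exact absurd h (ff_ne hs (X12_ne (single_mem1 0)))
  rw [hu, h3, neg_one_smul]

end Cfsg.Agent.H434.K2
end

-- part: H175/LD/Twelve
section
set_option linter.all false
open scoped Cfsg.Agent.FastGrp

/-!
# The 12-dimensional cores isomorphic to `L₃(3)` (helper175)

* `exists_sys` : 13 vectors with sum zero permuted by `P` as the points (or the lines);
* `fixQ`, `not_fixA` (`p` odd), `ne_thirteen`, `not_plus` (`p = 2`);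
* `exists_sub` : a subgroup of index 13 with a fixed vector, two double cosets.
-/

set_option autoImplicit false
set_option linter.unusedSectionVars false

namespace Cfsg.Agent.H175.L33

open Matrix Cfsg Cfsg.Geo Cfsg.Agent.H915.LD
open Cfsg.Agent.H175.LD (X3 Irr FB NoP P1s P2s cv U wl Up bruhat U_P1 U_P2 n1 n2)

universe u v

/-! ### group theory -/

theorem wl_P1' : ∀ w, wl w ∉ P1s → ∃ k ∈ [1, n2], ∃ k' ∈ [1, n2], wl w = k * n1 * k' := by decide +kernel

theorem wl_P2' : ∀ w, wl w ∉ P2s → ∃ k ∈ [1, n1], ∃ k' ∈ [1, n1], wl w = k * n2 * k' := by decide +kernel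

/-- the structure used of the two subgroups of index 13 -/
structure Good (K : Subgroup X3) (n : X3) : Prop where
  index : K.index = 13
  not_mem : n ∉ K
  sq : n * n ∈ K
  dc : ∀ g ∉ K, ∃ k ∈ K, ∃ k' ∈ K, g = k * n * k'

theorem n2_P1 : n2 ∈ P1s := by decide

theorem n1_P2 : n1 ∈ P2s := by decide

theorem good_P1 : Good P1s n1 := by
  refine ⟨LD.index_P1, by decide, by rw [LD.n1_sq]; decide, fun g hg => ?_⟩
  obtain ⟨i, j, k, w, b, hb, rfl⟩ := bruhat g
  have h1 : wl w ∉ P1s := by
    intro h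
    exact hg (P1s.mul_mem (P1s.mul_mem (U_P1 i j k) h) hb.P1)
  obtain ⟨x, hx, y, hy, hxy⟩ := wl_P1' w h1
  have hmem : ∀ z ∈ [1, n2], z ∈ P1s := by
    intro z hz
    rw [List.mem_cons, List.mem_singleton] at hz
    rcases hz with rfl | rfl
    · exact P1s.one_mem
    · exact n2_P1
  exact ⟨U i j k * x, P1s.mul_mem (U_P1 i j k) (hmem x hx), y * b, P1s.mul_mem (hmem y hy) hb.P1, by
    rw [hxy]; group⟩

theorem good_P2 : Good P2s n2 := by
  refine ⟨LD.index_P2, by decide, by rw [LD.n2_sq]; decide, fun g hg => ?_⟩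
  obtain ⟨i, j, k, w, b, hb, rfl⟩ := bruhat g
  have h1 : wl w ∉ P2s := by
    intro h
    exact hg (P2s.mul_mem (P2s.mul_mem (U_P2 i j k) h) hb.P2)
  obtain ⟨x, hx, y, hy, hxy⟩ := wl_P2' w h1
  have hmem : ∀ z ∈ [1, n1], z ∈ P2s := by
    intro z hz
    rw [List.mem_cons, List.mem_singleton] at hz
    rcases hz with rfl | rfl
    · exact P2s.one_mem
    · exact n1_P2
  exact ⟨U i j k * x, P2s.mul_mem (U_P2 i j k) (hmem x hx), y * b, P2s.mul_mem (hmem y hy) hb.P2, by
    rw [hxy]; group⟩

/-- an element of order 13 -/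
def sg : X3 := ⟨!![0, 0, 1; 1, 0, 1; 0, 1, 0], by decide⟩

/-! ### the 13 vectors -/

variable {ι : Type} [Fintype ι] [DecidableEq ι] {F : Type u} [Field F] [Finite F] {P : Subgroup (GL ι F)}

/-- 13 vectors permuted as the cosets of `K` -/
structure Sys13 (φ : X3 ≃* P) (K : Subgroup X3) (w : X3 ⧸ K → (ι → F)) : Prop where
  hK : K = P1s ∨ K = P2s
  span : Submodule.span F (Set.range w) = ⊤
  sum : ∑ᶠ x, w x = 0
  smul : ∀ g x, ((φ g : P) : GL ι F).1 *ᵥ w x = w (g • x)

theorem exists_sys (hC : Core P) (φ : X3 ≃* P) {p : ℕ} [hp : Fact p.Prime] [CharP F p] (hp3 : p ≠ 3)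
    (hn : Fintype.card ι = 12) : ∃ (K : Subgroup X3) (w : X3 ⧸ K → (ι → F)), Sys13 φ K w := by
  have h3 : (3 : F) ≠ 0 := three_ne hp3
  have hfr : Module.finrank F (ι → F) = Fintype.card ι := Module.finrank_fintype_fun_eq_card F
  rcases LD.main h3 (rep_irr hC φ) (rep_nt hC φ) (by rw [hfr, hn]) with
    ⟨h11, -⟩ | ⟨h12, K, hK, v, hv0, hv, hsum⟩
  · omega
  · exact ⟨K, cv (rep φ) K v, hK, LD.span_cv (rep_irr hC φ) hv0 hv, hsum, fun g x => LD.cv_smul hv g x⟩

section sys

variable {φ : X3 ≃* P} {K : Subgroup X3} {w : X3 ⧸ K → (ι → F)}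

theorem Sys13.good (S : Sys13 φ K w) : ∃ n, Good K n := by
  rcases S.hK with rfl | rfl
  · exact ⟨_, good_P1⟩
  · exact ⟨_, good_P2⟩

theorem Sys13.index (S : Sys13 φ K w) : K.index = 13 := by
  obtain ⟨n, h⟩ := S.good
  exact h.index

theorem Sys13.ne_zero (S : Sys13 φ K w) (hn : Fintype.card ι = 12) (x : X3 ⧸ K) : w x ≠ 0 := by
  intro h0
  have h1 : ∀ y, w y = 0 := by
    intro y
    obtain ⟨g, rfl⟩ := MulAction.exists_smul_eq X3 x y
    rw [← S.smul, h0, Matrix.mulVec_zero]
  have h2 := S.span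
  rw [show Set.range w = {0} by
    ext v
    constructor
    · rintro ⟨y, rfl⟩; exact h1 y
    · rintro rfl; exact ⟨x, h0⟩, Submodule.span_zero_singleton] at h2
  have h3 : Module.finrank F (ι → F) = 12 := by rw [Module.finrank_fintype_fun_eq_card, hn]
  have h4 : Module.finrank F (ι → F) = 0 := by rw [← finrank_top F (ι → F), ← h2, finrank_bot]
  omega

/-- two different vectors can be exchanged with the standard pair -/
theorem Sys13.two (_S : Sys13 φ K w) {n : X3} (G : Good K n) {x y : X3 ⧸ K} (hxy : x ≠ y) :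
    ∃ g : X3, x = g • (QuotientGroup.mk 1 : X3 ⧸ K) ∧ y = g • (QuotientGroup.mk n : X3 ⧸ K) := by
  induction x using QuotientGroup.induction_on with
  | H a =>
    induction y using QuotientGroup.induction_on with
    | H b =>
      have h1 : a⁻¹ * b ∉ K := fun h => hxy (QuotientGroup.eq.2 h)
      obtain ⟨k, hk, k', hk', h2⟩ := G.dc _ h1
      refine ⟨a * k, ?_, ?_⟩
      · change _ = (QuotientGroup.mk (a * k * 1) : X3 ⧸ K)
        rw [QuotientGroup.eq, mul_one, inv_mul_cancel_left]
        exact hk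
      · change _ = (QuotientGroup.mk (a * k * n) : X3 ⧸ K)
        rw [QuotientGroup.eq, show b = a * (a⁻¹ * b) by group, h2,
          show (a * (k * n * k'))⁻¹ * (a * k * n) = k'⁻¹ by group]
        exact K.inv_mem hk'

theorem bilin_zero {f : (ι → F) → (ι → F) → F} (hf : IsBilinearForm f)
    (hs : Submodule.span F (Set.range w) = ⊤) (h : ∀ x y, f (w x) (w y) = 0) (u v : ι → F) : f u v = 0 := by
  have f0l : ∀ v, f 0 v = 0 := fun v => by
    have := hf.smul_left 0 0 v
    rwa [zero_smul, zero_mul] at this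
  have f0r : ∀ v, f v 0 = 0 := fun v => by
    have := hf.smul_right 0 v 0
    rwa [zero_smul, zero_mul] at this
  have h1 : ∀ x v, f (w x) v = 0 := by
    intro x v
    have hv : v ∈ Submodule.span F (Set.range w) := by rw [hs]; trivial
    induction hv using Submodule.span_induction with
    | mem y hy => obtain ⟨z, rfl⟩ := hy; exact h x z
    | zero => exact f0r _
    | add a b _ _ ha hb => rw [hf.add_right, ha, hb, add_zero]
    | smul c a _ ha => rw [hf.smul_right, ha, mul_zero]
  have hu : u ∈ Submodule.span F (Set.range w) := by rw [hs]; trivial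
  induction hu using Submodule.span_induction with
  | mem y hy => obtain ⟨z, rfl⟩ := hy; exact h1 z v
  | zero => exact f0l _
  | add a b _ _ ha hb => rw [hf.add_left, ha, hb, add_zero]
  | smul c a _ ha => rw [hf.smul_left, ha, mul_zero]

theorem Sys13.not_fixA (S : Sys13 φ K w) (hn : Fintype.card ι = 12) (h2 : (2 : F) ≠ 0) : ¬ FixA P := by
  rintro ⟨f, hf, hP⟩
  obtain ⟨n, G⟩ := S.good
  have hinv : ∀ g u v, f (((φ g : P) : GL ι F).1 *ᵥ u) (((φ g : P) : GL ι F).1 *ᵥ v) = f u v :=
    fun g u v => hP _ ⟨(φ g : P), (φ g).2, rfl⟩ u v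
  have hst : f (w (QuotientGroup.mk 1)) (w (QuotientGroup.mk n)) = 0 := by
    have h1 := hinv n (w (QuotientGroup.mk 1)) (w (QuotientGroup.mk n))
    rw [S.smul, S.smul] at h1
    have e1 : n • (QuotientGroup.mk 1 : X3 ⧸ K) = QuotientGroup.mk n := by
      change (QuotientGroup.mk (n * 1) : X3 ⧸ K) = _
      rw [mul_one]
    have e2 : n • (QuotientGroup.mk n : X3 ⧸ K) = QuotientGroup.mk 1 := by
      change (QuotientGroup.mk (n * n) : X3 ⧸ K) = _
      rw [eq_comm, QuotientGroup.eq]
      simpa using G.sq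
    rw [e1, e2, hf.skew] at h1
    have h3 : (2 : F) * f (w (QuotientGroup.mk 1)) (w (QuotientGroup.mk n)) = 0 := by linear_combination -h1
    exact (mul_eq_zero.1 h3).resolve_left h2
  have hall : ∀ x y, f (w x) (w y) = 0 := by
    intro x y
    by_cases hxy : x = y
    · rw [hxy]; exact hf.alternating _
    · obtain ⟨g, h3, h4⟩ := S.two G hxy
      rw [h3, h4, ← S.smul, ← S.smul, hinv, hst]
  have h5 := bilin_zero hf.bilinear S.span hall
  have h6 := S.ne_zero hn (QuotientGroup.mk 1)
  exact h6 (by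
    by_contra hne
    obtain ⟨⟨u, hu⟩, -⟩ := hf.nondegenerate _ hne
    exact hu (h5 _ _))

end sys

end Cfsg.Agent.H175.L33
end
end
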