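import Cfsg.Agent.H434.LD.WUniq_m3
import Cfsg.Agent.H464.Sl2Basic
import Mathlib.RingTheory.Trace.Basic
import Cfsg.Agent.StdG24.CoSide
import Cfsg.Agent.StdG24.Ord6
import Cfsg.Agent.CoOneType.QFold
import Cfsg.Agent.H920.Sz12.CoreP
import Mathlib
import Cfsg.Agent.H637.A7Main
import Cfsg.Agent.H933.O10.Base_m3
import Cfsg.Agent.H937.G24.Qk_mg
import Cfsg.Agent.FastGrp
import Cfsg.Agent.Prune
set_option linter.all false

section
prune_inst 0x7ffcacffabfcbbdfdfff7e77a6decdfdffb93fffe4dff9cb7fe061ff2b9f6f80c9c5f3ad0be002fe0fb6c01410e87b43fbffeeffe06bdc7ffffd5ff41ffbee0ffdf73508519c88b40fbc0ffe03f0778e7f3fffffffffdfffffffffffffffffaeffbfffffffff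

-- part: H434/LD/WModel
section
prune_inst 0x20000000000000000010000000000000
set_option linter.all false
open scoped Cfsg.Agent.FastGrp

/-!
# The Weil representation: intertwining operators (helper162; port to any coefficient field, helper434)
-/

set_option autoImplicit false
set_option linter.unusedSectionVars false
set_option linter.unusedVariables false
open Matrix Cfsg.Agent.H162.Weil

namespace Cfsg.Agent.H434.WK

variable {F : Type*} [Field F] {n : ℕ} [Fintype F] {𝕜 : Type*} [Field 𝕜] [hq : Fact ((Fintype.card F : 𝕜) ≠ 0)]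

/-- The space of functions. -/
abbrev W (n : ℕ) (F : Type*) (𝕜 : Type*) : Type _ := (Fin n → F) → 𝕜

/-- Heisenberg operators `M(a,b) f (x) = ψ(-λ(2 a·x + a·b)) f(x+b)`. -/
noncomputable def Mop (ψ : AddChar F 𝕜) (lam : F) (w : Fin n ⊕ Fin n → F) : W n F 𝕜 →ₗ[𝕜] W n F 𝕜 where
  toFun f x := ψ (-lam * (2 * ((w ∘ Sum.inl) ⬝ᵥ x) + (w ∘ Sum.inl) ⬝ᵥ (w ∘ Sum.inr))) *
    f (x + w ∘ Sum.inr)
  map_add' f g := by ext x; simp [mul_add]
  map_smul' c f := by ext x; simp; ring

theorem Mop_apply (ψ : AddChar F 𝕜) (lam : F) (a b : Fin n → F) (f : W n F 𝕜) (x : Fin n → F) :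
    Mop ψ lam (Sum.elim a b) f x = ψ (-lam * (2 * (a ⬝ᵥ x) + a ⬝ᵥ b)) * f (x + b) := rfl

/-- The parity operator. -/
def Pop : W n F 𝕜 →ₗ[𝕜] W n F 𝕜 where
  toFun f x := f (-x)
  map_add' f g := rfl
  map_smul' c f := rfl

theorem Pop_apply (f : W n F 𝕜) (x : Fin n → F) : Pop f x = f (-x) := rfl

/-- Intertwining operators for `g`. -/
def IsInt (ψ : AddChar F 𝕜) (lam : F) (g : Sp n F) (R : W n F 𝕜 ≃ₗ[𝕜] W n F 𝕜) : Prop :=
  (∀ w f, R (Mop ψ lam w f) =
    Mop ψ lam ((g : Matrix (Fin n ⊕ Fin n) (Fin n ⊕ Fin n) F) *ᵥ w) (R f)) ∧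
  (∀ f, R (Pop f) = Pop (R f))

variable {ψ : AddChar F 𝕜} {lam : F}

theorem IsInt.one : IsInt ψ lam (1 : Sp n F) 1 :=
  ⟨fun w f => by simp, fun f => rfl⟩

theorem IsInt.mul {g h : Sp n F} {R R' : W n F 𝕜 ≃ₗ[𝕜] W n F 𝕜} (hR : IsInt ψ lam g R)
    (hR' : IsInt ψ lam h R') : IsInt ψ lam (g * h) (R * R') := by
  refine ⟨fun w f => ?_, fun f => ?_⟩
  · rw [LinearEquiv.mul_apply, LinearEquiv.mul_apply, hR'.1, hR.1, Submonoid.coe_mul,
      mulVec_mulVec]
  · rw [LinearEquiv.mul_apply, LinearEquiv.mul_apply, hR'.2, hR.2]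

/-- Multiplication by a nowhere zero function. -/
noncomputable def mulOp (u : (Fin n → F) → 𝕜) (hu : ∀ x, u x ≠ 0) : W n F 𝕜 ≃ₗ[𝕜] W n F 𝕜 where
  toFun f x := u x * f x
  map_add' f g := by ext x; simp [mul_add]
  map_smul' c f := by ext x; simp; ring
  invFun f x := (u x)⁻¹ * f x
  left_inv f := by ext x; simp [hu x]
  right_inv f := by ext x; simp [hu x]

theorem psi_ne_zero (x : F) : ψ x ≠ 0 := by
  intro h
  have := AddChar.map_add_eq_mul ψ x (-x)
  rw [h, zero_mul, add_neg_cancel, AddChar.map_zero_eq_one] at this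
  exact one_ne_zero this

/-- The operator of `uu S`. -/
noncomputable def DS (ψ : AddChar F 𝕜) (lam : F) (S : Sym n F) : W n F 𝕜 ≃ₗ[𝕜] W n F 𝕜 :=
  mulOp (fun x => ψ (lam * (x ⬝ᵥ (S.1 *ᵥ x)))) (fun _ => psi_ne_zero _)

theorem DS_apply (S : Sym n F) (f : W n F 𝕜) (x : Fin n → F) :
    DS ψ lam S f x = ψ (lam * (x ⬝ᵥ (S.1 *ᵥ x))) * f x := rfl

theorem sym_dot (S : Sym n F) (x y : Fin n → F) : x ⬝ᵥ (S.1 *ᵥ y) = y ⬝ᵥ (S.1 *ᵥ x) := by
  have h := S.2
  rw [mem_Sym] at h
  rw [dotProduct_comm, ← vecMul_transpose, h, dotProduct_comm, dotProduct_mulVec, dotProduct_comm]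

theorem isInt_uu (S : Sym n F) : IsInt ψ lam (uu S) (DS ψ lam S) := by
  refine ⟨fun w f => ?_, fun f => ?_⟩
  · obtain ⟨a, b, rfl⟩ : ∃ a b, w = Sum.elim a b := ⟨_, _, (Sum.elim_comp_inl_inr w).symm⟩
    rw [uu_mulVec]
    ext x
    rw [DS_apply, Mop_apply, Mop_apply, DS_apply, ← mul_assoc, ← mul_assoc,
      ← AddChar.map_add_eq_mul, ← AddChar.map_add_eq_mul]
    congr 2
    have h1 : (x + b) ⬝ᵥ (S.1 *ᵥ (x + b)) = x ⬝ᵥ (S.1 *ᵥ x) + 2 * (x ⬝ᵥ (S.1 *ᵥ b)) +
        b ⬝ᵥ (S.1 *ᵥ b) := by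
      rw [mulVec_add, dotProduct_add, add_dotProduct, add_dotProduct, sym_dot S b x]
      ring
    have h3 : (a + S.1 *ᵥ b) ⬝ᵥ x = a ⬝ᵥ x + x ⬝ᵥ (S.1 *ᵥ b) := by
      rw [add_dotProduct, dotProduct_comm (S.1 *ᵥ b)]
    have h4 : (a + S.1 *ᵥ b) ⬝ᵥ b = a ⬝ᵥ b + b ⬝ᵥ (S.1 *ᵥ b) := by
      rw [add_dotProduct, dotProduct_comm (S.1 *ᵥ b)]
    rw [h1, h3, h4]
    ring
  · ext x
    rw [DS_apply, Pop_apply, Pop_apply, DS_apply]
    congr 3
    rw [mulVec_neg, dotProduct_neg, neg_dotProduct, neg_neg]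

/-- The operator of `mm h`. -/
def LH (h : GL (Fin n) F) : W n F 𝕜 ≃ₗ[𝕜] W n F 𝕜 where
  toFun f x := f (x ᵥ* (h : Matrix (Fin n) (Fin n) F))
  map_add' f g := rfl
  map_smul' c f := rfl
  invFun f x := f (x ᵥ* ((h⁻¹ : GL (Fin n) F) : Matrix (Fin n) (Fin n) F))
  left_inv f := by
    ext x
    simp only [vecMul_vecMul]
    rw [← Units.val_mul, inv_mul_cancel, Units.val_one, vecMul_one]
  right_inv f := by
    ext x
    simp only [vecMul_vecMul]
    rw [← Units.val_mul, mul_inv_cancel, Units.val_one, vecMul_one]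

theorem LH_apply (h : GL (Fin n) F) (f : W n F 𝕜) (x : Fin n → F) :
    LH h f x = f (x ᵥ* (h : Matrix (Fin n) (Fin n) F)) := rfl

theorem isInt_mm (h : GL (Fin n) F) : IsInt ψ lam (mm h) (LH h) := by
  refine ⟨fun w f => ?_, fun f => ?_⟩
  · obtain ⟨a, b, rfl⟩ : ∃ a b, w = Sum.elim a b := ⟨_, _, (Sum.elim_comp_inl_inr w).symm⟩
    rw [mm_mulVec]
    ext x
    rw [LH_apply, Mop_apply, Mop_apply, LH_apply]
    have h1 : ((h : Matrix (Fin n) (Fin n) F) *ᵥ a) ⬝ᵥ x =
        a ⬝ᵥ (x ᵥ* (h : Matrix (Fin n) (Fin n) F)) := by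
      rw [dotProduct_comm, dotProduct_mulVec, dotProduct_comm]
    have h3 : ((h : Matrix (Fin n) (Fin n) F) *ᵥ a) ⬝ᵥ
        (b ᵥ* ((h⁻¹ : GL (Fin n) F) : Matrix (Fin n) (Fin n) F)) = a ⬝ᵥ b := by
      rw [dotProduct_comm, dotProduct_mulVec, vecMul_vecMul, ← Units.val_mul, inv_mul_cancel,
        Units.val_one, vecMul_one, dotProduct_comm]
    have h4 : (x + b ᵥ* ((h⁻¹ : GL (Fin n) F) : Matrix (Fin n) (Fin n) F)) ᵥ*
        (h : Matrix (Fin n) (Fin n) F) = x ᵥ* (h : Matrix (Fin n) (Fin n) F) + b := by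
      rw [add_vecMul, vecMul_vecMul, ← Units.val_mul, inv_mul_cancel, Units.val_one, vecMul_one]
    rw [h1, h3, h4]
  · ext x
    rw [LH_apply, Pop_apply, Pop_apply, LH_apply, neg_vecMul]

/-- Partial Fourier transform, as a linear map. -/
noncomputable def FTl (ψ : AddChar F 𝕜) (lam : F) (j : Fin n) : W n F 𝕜 →ₗ[𝕜] W n F 𝕜 where
  toFun f x := ∑ y : F, ψ (2 * lam * x j * y) * f (Function.update x j y)
  map_add' f g := by ext x; simp [mul_add, Finset.sum_add_distrib]
  map_smul' c f := by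
    ext x
    simp only [Pi.smul_apply, smul_eq_mul, RingHom.id_apply, Finset.mul_sum]
    refine Finset.sum_congr rfl fun y _ => by ring

theorem FTl_apply (j : Fin n) (f : W n F 𝕜) (x : Fin n → F) :
    FTl ψ lam j f x = ∑ y : F, ψ (2 * lam * x j * y) * f (Function.update x j y) := rfl

theorem FTl_sq (hψ : ψ.IsPrimitive) (h2 : (2 : F) ≠ 0) (hlam : lam ≠ 0) (j : Fin n) (f : W n F 𝕜)
    (x : Fin n → F) : FTl ψ lam j (FTl ψ lam j f) x =
      (Fintype.card F : 𝕜) * f (Function.update x j (- x j)) := by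
  classical
  rw [FTl_apply]
  have h1 : ∀ y : F, ψ (2 * lam * x j * y) * FTl ψ lam j f (Function.update x j y) =
      ∑ z : F, ψ (y * (2 * lam * (x j + z))) * f (Function.update x j z) := by
    intro y
    rw [FTl_apply, Finset.mul_sum]
    refine Finset.sum_congr rfl fun z _ => ?_
    rw [Function.update_idem, Function.update_self, ← mul_assoc, ← AddChar.map_add_eq_mul]
    congr 2
    ring
  rw [Finset.sum_congr rfl fun y _ => h1 y, Finset.sum_comm]
  have h3 : ∀ z : F, ∑ y : F, ψ (y * (2 * lam * (x j + z))) * f (Function.update x j z) =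
      if z = - x j then (Fintype.card F : 𝕜) * f (Function.update x j z) else 0 := by
    intro z
    rw [← Finset.sum_mul, AddChar.sum_mulShift _ hψ]
    by_cases hz : z = - x j
    · rw [if_pos hz, if_pos]
      rw [hz]; ring
    · rw [if_neg hz, if_neg, Nat.cast_zero, zero_mul]
      apply mul_ne_zero (mul_ne_zero h2 hlam)
      intro h
      apply hz
      linear_combination h
  rw [Finset.sum_congr rfl fun z _ => h3 z]
  simp

theorem FTl_bij (hψ : ψ.IsPrimitive) (h2 : (2 : F) ≠ 0) (hlam : lam ≠ 0) (j : Fin n) :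
    Function.Bijective (FTl ψ lam j : W n F 𝕜 →ₗ[𝕜] W n F 𝕜) := by
  have hinj : Function.Injective (FTl ψ lam j : W n F 𝕜 →ₗ[𝕜] W n F 𝕜) := by
    rw [← LinearMap.ker_eq_bot, LinearMap.ker_eq_bot']
    intro f hf
    ext x
    have h1 := FTl_sq hψ h2 hlam j f (Function.update x j (- x j))
    rw [hf, map_zero, Pi.zero_apply, Function.update_idem, Function.update_self, neg_neg,
      Function.update_eq_self] at h1
    have h3 : (Fintype.card F : 𝕜) ≠ 0 := hq.out
    rcases mul_eq_zero.mp h1.symm with h4 | h4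
    · exact absurd h4 h3
    · exact h4
  exact ⟨hinj, LinearMap.injective_iff_surjective.mp hinj⟩

/-- Partial Fourier transform. -/
noncomputable def FT (hψ : ψ.IsPrimitive) (h2 : (2 : F) ≠ 0) (hlam : lam ≠ 0) (j : Fin n) :
    W n F 𝕜 ≃ₗ[𝕜] W n F 𝕜 := LinearEquiv.ofBijective (FTl ψ lam j) (FTl_bij hψ h2 hlam j)

theorem FT_apply (hψ : ψ.IsPrimitive) (h2 : (2 : F) ≠ 0) (hlam : lam ≠ 0) (j : Fin n)
    (f : W n F 𝕜) (x : Fin n → F) :
    FT hψ h2 hlam j f x = ∑ y : F, ψ (2 * lam * x j * y) * f (Function.update x j y) := rfl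

theorem update_eq_add (x : Fin n → F) (j : Fin n) (y : F) :
    Function.update x j y = x + Pi.single j (y - x j) := by
  ext k
  by_cases hk : k = j
  · subst hk; simp
  · simp [hk]

theorem isInt_ww (hψ : ψ.IsPrimitive) (h2 : (2 : F) ≠ 0) (hlam : lam ≠ 0) (j : Fin n) :
    IsInt ψ lam (ww j) (FT hψ h2 hlam j) := by
  refine ⟨fun w f => ?_, fun f => ?_⟩
  · obtain ⟨a, b, rfl⟩ : ∃ a b, w = Sum.elim a b := ⟨_, _, (Sum.elim_comp_inl_inr w).symm⟩
    rw [ww_mulVec]
    ext x
    rw [FT_apply, Mop_apply, FT_apply, Finset.mul_sum]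
    have hxb : (x + Function.update b j (-a j)) j = x j - a j := by
      simp [sub_eq_add_neg]
    have hupd : ∀ y, Function.update (x + Function.update b j (-a j)) j (y + b j) =
        Function.update x j y + b := by
      intro y
      ext k
      by_cases hk : k = j
      · subst hk; simp
      · simp [hk]
    refine Fintype.sum_equiv (Equiv.addRight (b j)) _ _ fun y => ?_
    rw [Mop_apply, Equiv.coe_addRight, hupd, hxb, ← mul_assoc, ← mul_assoc,
      ← AddChar.map_add_eq_mul, ← AddChar.map_add_eq_mul]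
    congr 2
    have e1 : a ⬝ᵥ Function.update x j y = a ⬝ᵥ x + a j * (y - x j) := by
      rw [update_eq_add, dotProduct_add, dotProduct_single]
    have e2 : Function.update a j (b j) ⬝ᵥ x = a ⬝ᵥ x + (b j - a j) * x j := by
      rw [update_eq_add a, add_dotProduct, single_dotProduct]
    have e3 : Function.update a j (b j) ⬝ᵥ Function.update b j (-a j) =
        a ⬝ᵥ b - 2 * (a j * b j) := by
      rw [update_eq_add a, add_dotProduct, single_dotProduct, Function.update_self,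
        update_eq_add b, dotProduct_add, dotProduct_single]
      ring
    rw [e1, e2, e3]
    ring
  · ext x
    rw [FT_apply, Pop_apply, FT_apply]
    refine Fintype.sum_equiv (Equiv.neg F) _ _ fun y => ?_
    rw [Pop_apply, Equiv.neg_apply]
    have h1 : Function.update (-x) j (-y) = - Function.update x j y := by
      ext k
      by_cases hk : k = j
      · subst hk; simp
      · simp [hk]
    rw [h1]
    congr 2
    rw [Pi.neg_apply]
    ring

theorem exists_isInt (hψ : ψ.IsPrimitive) (h2 : (2 : F) ≠ 0) (hlam : lam ≠ 0) (j : Fin n)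
    (g : Sp n F) : ∃ R, IsInt ψ lam g R := by
  refine gen_induct j (P := fun g => ∃ R, IsInt ψ lam g R) ⟨1, IsInt.one⟩ ?_
    (fun S => ⟨_, isInt_uu S⟩) (fun h => ⟨_, isInt_mm h⟩) ⟨_, isInt_ww hψ h2 hlam j⟩ g
  rintro g h ⟨R, hR⟩ ⟨R', hR'⟩
  exact ⟨_, hR.mul hR'⟩

/-- delta functions. -/
noncomputable def dl (x : Fin n → F) : W n F 𝕜 := by
  classical exact Pi.single x 1

theorem dl_self (x : Fin n → F) : (dl x : W n F 𝕜) x = 1 := by
  classical
  simp [dl]

theorem dl_ne {x y : Fin n → F} (h : y ≠ x) : (dl x : W n F 𝕜) y = 0 := by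
  classical
  simp [dl, h]

theorem f_eq_sum (f : W n F 𝕜) : f = ∑ x, f x • dl x := by
  classical
  ext y
  rw [Finset.sum_apply, Finset.sum_eq_single y]
  · simp [dl_self]
  · intro x _ hx
    simp [dl_ne (Ne.symm hx)]
  · simp

/-- Schur's lemma for the Heisenberg operators. -/
theorem isInt_unique (hψ : ψ.IsPrimitive) (h2 : (2 : F) ≠ 0) (hlam : lam ≠ 0) {g : Sp n F}
    {R R' : W n F 𝕜 ≃ₗ[𝕜] W n F 𝕜} (hR : IsInt ψ lam g R) (hR' : IsInt ψ lam g R') :
    ∃ c : 𝕜, c ≠ 0 ∧ ∀ f, R' f = c • R f := by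
  -- `X = R⁻¹ R'` commutes with all Heisenberg operators
  let X : W n F 𝕜 →ₗ[𝕜] W n F 𝕜 := (R'.trans R.symm).toLinearMap
  have hX : ∀ w f, X (Mop ψ lam w f) = Mop ψ lam w (X f) := by
    intro w f
    show R.symm (R' (Mop ψ lam w f)) = Mop ψ lam w (R.symm (R' f))
    rw [LinearEquiv.symm_apply_eq, hR'.1, hR.1, LinearEquiv.apply_symm_apply]
  -- X is diagonal
  have hdiag : ∀ x y : Fin n → F, y ≠ x → X (dl x) y = 0 := by
    intro x y hxy
    obtain ⟨k, hk⟩ : ∃ k, y k - x k ≠ 0 := by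
      by_contra hc
      push Not at hc
      apply hxy
      ext k
      exact sub_eq_zero.mp (hc k)
    obtain ⟨s, hs⟩ := exists_ne_one hψ (mul_ne_zero (mul_ne_zero (neg_ne_zero.mpr hlam) h2) hk)
    have h1 : ∀ f : W n F 𝕜, ∀ z, Mop ψ lam (Sum.elim (Pi.single k s) 0) f z =
        ψ (-lam * (2 * (s * z k))) * f z := by
      intro f z
      rw [Mop_apply, single_dotProduct, dotProduct_zero, add_zero, add_zero]
    have h3 : Mop ψ lam (Sum.elim (Pi.single k s) 0) (dl x) =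
        ψ (-lam * (2 * (s * x k))) • dl x := by
      ext z
      rw [h1, Pi.smul_apply, smul_eq_mul]
      by_cases hz : z = x
      · rw [hz]
      · rw [dl_ne hz, mul_zero, mul_zero]
    have h4 := congrFun (hX (Sum.elim (Pi.single k s) 0) (dl x)) y
    rw [h3, map_smul, h1, Pi.smul_apply, smul_eq_mul] at h4
    by_contra h0
    have h5 := mul_right_cancel₀ h0 h4
    apply hs
    have : s * (-lam * 2 * (y k - x k)) = -lam * (2 * (s * y k)) + -(-lam * (2 * (s * x k))) := by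
      ring
    rw [this, AddChar.map_add_eq_mul, ← h5, ← AddChar.map_add_eq_mul, add_neg_cancel,
      AddChar.map_zero_eq_one]
  have hconst : ∀ x : Fin n → F, X (dl x) x = X (dl 0) 0 := by
    intro x
    have h1 : Mop ψ lam (Sum.elim 0 x) (dl x) = dl 0 := by
      ext z
      rw [Mop_apply, zero_dotProduct, zero_dotProduct, mul_zero, add_zero, mul_zero,
        AddChar.map_zero_eq_one, one_mul]
      by_cases hz : z = 0
      · rw [hz, zero_add, dl_self, dl_self]
      · rw [dl_ne hz, dl_ne]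
        intro h
        apply hz
        simpa using h
    have h3 := congrFun (hX (Sum.elim 0 x) (dl x)) 0
    rw [h1, Mop_apply, zero_dotProduct, zero_dotProduct, mul_zero, add_zero, mul_zero,
      AddChar.map_zero_eq_one, one_mul, zero_add] at h3
    exact h3.symm
  set c := X (dl 0) 0 with hc
  have hXc : ∀ f, X f = c • f := by
    intro f
    have h1 : ∀ x : Fin n → F, X (dl x) = c • dl x := by
      intro x
      ext y
      rw [Pi.smul_apply, smul_eq_mul]
      by_cases hy : y = x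
      · rw [hy, dl_self, mul_one, hconst]
      · rw [hdiag x y hy, dl_ne hy, mul_zero]
    conv_lhs => rw [f_eq_sum f, map_sum]
    conv_rhs => rw [f_eq_sum f, Finset.smul_sum]
    refine Finset.sum_congr rfl fun x _ => ?_
    rw [map_smul, h1, smul_comm]
  refine ⟨c, ?_, fun f => ?_⟩
  · intro h0
    have h1 := hXc (dl 0)
    rw [h0, zero_smul] at h1
    have h3 : (dl 0 : W n F 𝕜) = 0 := by
      apply (R'.trans R.symm).injective
      rw [map_zero]
      exact h1
    have h4 := congrFun h3 0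
    rw [dl_self, Pi.zero_apply] at h4
    exact one_ne_zero h4
  · have h1 := hXc f
    have h3 : R.symm (R' f) = c • f := h1
    rw [LinearEquiv.symm_apply_eq, map_smul] at h3
    exact h3

end Cfsg.Agent.H434.WK

private theorem dce_0fa968754f34 : _root_.True := by
  try have : _root_.True := by simp only [_root_.Cfsg.Agent.H434.WK.dl.eq_1]
  exact _root_.True.intro
end

-- part: H434/LD/WRep
section
prune_inst 0x24300400304200000818859213200000480000b200400000e8e009040101a060a0c52841bb10050412b008516809000001100020422000000a000c00011d00000880000431400000000016000080000000000000020000000000000000010000000000000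
set_option linter.all false
open scoped Cfsg.Agent.FastGrp

/-!
# The Weil representation: normalisation (helper162; port to any coefficient field, helper434)
-/

set_option autoImplicit false
set_option linter.unusedSectionVars false
set_option linter.unusedVariables false
open Matrix Module Cfsg.Agent.H162.Weil

namespace Cfsg.Agent.H434.WK

variable {F : Type*} [Field F] {n : ℕ} [Fintype F] {𝕜 : Type*} [Field 𝕜] [hq : Fact ((Fintype.card F : 𝕜) ≠ 0)]
  [hk2 : Fact ((2 : 𝕜) ≠ 0)]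

/-- Functions of parity `s`. -/
def Es (n : ℕ) (F : Type*) [Field F] (s : 𝕜) : Submodule 𝕜 (W n F 𝕜) where
  carrier := {f | ∀ x, f (-x) = s * f x}
  add_mem' {a b} ha hb x := by simp [ha x, hb x, mul_add]
  zero_mem' x := by simp
  smul_mem' c f hf x := by simp only [Pi.smul_apply, smul_eq_mul, hf x]; ring

/-- Projection to parity `s`. -/
noncomputable def pe (s : 𝕜) : W n F 𝕜 →ₗ[𝕜] W n F 𝕜 := (1 / 2 : 𝕜) • (LinearMap.id + s • Pop)

theorem pe_apply (s : 𝕜) (f : W n F 𝕜) (x : Fin n → F) :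
    pe s f x = (1 / 2 : 𝕜) * (f x + s * f (-x)) := rfl

theorem pe_mem {s : 𝕜} (hs : s * s = 1) (f : W n F 𝕜) : pe s f ∈ Es n F s := by
  intro x
  rw [pe_apply, pe_apply, neg_neg]
  linear_combination (-(1/2 : 𝕜) * f (-x)) * hs

theorem pe_of_mem {s : 𝕜} (hs : s * s = 1) {f : W n F 𝕜} (hf : f ∈ Es n F s) : pe s f = f := by
  ext x
  rw [pe_apply, hf x]
  have h2 : (1/2 : 𝕜) * 2 = 1 := by rw [one_div, inv_mul_cancel₀ hk2.out]
  linear_combination (1/2 : 𝕜) * f x * hs + f x * h2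

/-- compression to parity `s`. -/
noncomputable def cS {s : 𝕜} (hs : s * s = 1) (R : W n F 𝕜 →ₗ[𝕜] W n F 𝕜) : Es n F s →ₗ[𝕜] Es n F s :=
  LinearMap.codRestrict (Es n F s) (pe s ∘ₗ R ∘ₗ (Es n F s).subtype) (fun _ => pe_mem hs _)

theorem cS_coe {s : 𝕜} (hs : s * s = 1) (R : W n F 𝕜 →ₗ[𝕜] W n F 𝕜) (f : Es n F s) :
    ((cS hs R f : Es n F s) : W n F 𝕜) = pe s (R f) := rfl

/-- commuting with parity -/
def CP (R : W n F 𝕜 →ₗ[𝕜] W n F 𝕜) : Prop := ∀ f, R (Pop f) = Pop (R f)

theorem CP.mem {R : W n F 𝕜 →ₗ[𝕜] W n F 𝕜} (h : CP R) {s : 𝕜} {f : W n F 𝕜} (hf : f ∈ Es n F s) :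
    R f ∈ Es n F s := by
  have h1 : Pop f = s • f := by
    ext x; exact hf x
  have h3 := h f
  rw [h1, map_smul] at h3
  intro x
  exact (congrFun h3 x).symm

theorem cS_coe' {s : 𝕜} (hs : s * s = 1) {R : W n F 𝕜 →ₗ[𝕜] W n F 𝕜} (h : CP R) (f : Es n F s) :
    ((cS hs R f : Es n F s) : W n F 𝕜) = R f := by
  rw [cS_coe, pe_of_mem hs (h.mem f.2)]

theorem cS_smul {s : 𝕜} (hs : s * s = 1) (c : 𝕜) (R : W n F 𝕜 →ₗ[𝕜] W n F 𝕜) :
    cS hs (c • R) = c • cS hs R := by
  apply LinearMap.ext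
  intro f
  apply Subtype.ext
  rw [LinearMap.smul_apply, Submodule.coe_smul, cS_coe, cS_coe, LinearMap.smul_apply, map_smul]

theorem cS_mul {s : 𝕜} (hs : s * s = 1) {R R' : W n F 𝕜 →ₗ[𝕜] W n F 𝕜} (hR : CP R) (hR' : CP R') :
    cS hs (R ∘ₗ R') = cS hs R ∘ₗ cS hs R' := by
  have h : CP (R ∘ₗ R') := by
    intro f
    rw [LinearMap.comp_apply, LinearMap.comp_apply, hR', hR]
  apply LinearMap.ext
  intro f
  apply Subtype.ext
  rw [cS_coe' hs h, LinearMap.comp_apply, LinearMap.comp_apply, cS_coe' hs hR, cS_coe' hs hR']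

theorem cS_id {s : 𝕜} (hs : s * s = 1) : cS hs (LinearMap.id : W n F 𝕜 →ₗ[𝕜] W n F 𝕜) =
    LinearMap.id := by
  apply LinearMap.ext
  intro f
  apply Subtype.ext
  rw [cS_coe' hs (R := LinearMap.id) (fun f => rfl)]
  rfl

/-- determinant on the parity `s` part. -/
noncomputable def dt {s : 𝕜} (hs : s * s = 1) (R : W n F 𝕜 →ₗ[𝕜] W n F 𝕜) : 𝕜 :=
  LinearMap.det (cS hs R)

theorem dt_mul {s : 𝕜} (hs : s * s = 1) {R R' : W n F 𝕜 →ₗ[𝕜] W n F 𝕜} (hR : CP R) (hR' : CP R') :
    dt hs (R ∘ₗ R') = dt hs R * dt hs R' := by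
  rw [dt, cS_mul hs hR hR', LinearMap.det_comp, dt, dt]

theorem dt_ne_zero {s : 𝕜} (hs : s * s = 1) {R : W n F 𝕜 ≃ₗ[𝕜] W n F 𝕜} (hR : CP R.toLinearMap) :
    dt hs R.toLinearMap ≠ 0 := by
  have hR' : CP R.symm.toLinearMap := by
    intro f
    show R.symm (Pop f) = Pop (R.symm f)
    rw [LinearEquiv.symm_apply_eq]
    have := hR (R.symm f)
    simp only [LinearEquiv.coe_coe, LinearEquiv.apply_symm_apply] at this
    exact this.symm
  intro h
  have h1 := dt_mul hs hR hR'
  rw [h, zero_mul] at h1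
  have h3 : R.toLinearMap ∘ₗ R.symm.toLinearMap = LinearMap.id := by
    ext f; simp
  rw [h3, dt, cS_id, LinearMap.det_id] at h1
  exact one_ne_zero h1

theorem dt_smul {s : 𝕜} (hs : s * s = 1) (c : 𝕜) (R : W n F 𝕜 →ₗ[𝕜] W n F 𝕜) :
    dt hs (c • R) = c ^ finrank 𝕜 (Es n F s) * dt hs R := by
  rw [dt, cS_smul, LinearMap.det_smul, dt]

/-! ### half systems -/

/-- numbering of vectors -/
noncomputable def num (n : ℕ) (F : Type*) [Fintype F] : (Fin n → F) ≃ Fin (Fintype.card (Fin n → F)) :=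
  by classical exact Fintype.equivFin _

/-- strict half -/
def Hf (x : Fin n → F) : Prop := num n F x < num n F (-x)

/-- nonstrict half -/
def He (x : Fin n → F) : Prop := num n F x ≤ num n F (-x)

theorem num_inj {x y : Fin n → F} (h : num n F x = num n F y) : x = y := (num n F).injective h

theorem eq_neg_iff (h2 : (2 : F) ≠ 0) (x : Fin n → F) : x = -x ↔ x = 0 := by
  constructor
  · intro h
    ext k
    have h1 := congrFun h k
    rw [Pi.neg_apply] at h1
    have h3 : 2 * x k = 0 := by linear_combination h1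
    rcases mul_eq_zero.mp h3 with h4 | h4
    · exact absurd h4 h2
    · exact h4
  · rintro rfl; simp

theorem He_iff (h2 : (2 : F) ≠ 0) (x : Fin n → F) : He x ↔ x = 0 ∨ Hf x := by
  rw [He, Hf, le_iff_eq_or_lt, (num n F).injective.eq_iff, eq_neg_iff h2]

theorem not_Hf_zero : ¬ Hf (0 : Fin n → F) := by
  rw [Hf, neg_zero]; exact lt_irrefl _

theorem not_He_iff (x : Fin n → F) : ¬ He x ↔ Hf (-x) := by
  rw [He, Hf, neg_neg, not_le]

/-- Even functions are functions on the nonstrict half. -/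
noncomputable def evE (n : ℕ) (F : Type*) [Field F] [Fintype F] (h2 : (2 : F) ≠ 0) :
    Es n F (1 : 𝕜) ≃ₗ[𝕜] ({x : Fin n → F // He x} → 𝕜) := by
  classical exact {
    toFun := fun f x => f.1 x.1
    map_add' := fun f g => rfl
    map_smul' := fun c f => rfl
    invFun := fun g => ⟨fun x => if h : He x then g ⟨x, h⟩ else
      if h' : He (-x) then g ⟨-x, h'⟩ else 0, by
        intro x
        by_cases h : He x <;> by_cases h' : He (-x)
        · have : x = -x := by
            apply num_inj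
            apply le_antisymm h
            have := h'
            rw [He, neg_neg] at this
            exact this
          have h0 := (eq_neg_iff h2 x).mp this
          subst h0
          simp
        · simp [h, h']
        · simp [h, h']
        · exfalso
          rw [not_He_iff, Hf, neg_neg] at h h'
          exact lt_asymm h h'⟩
    left_inv := by
      intro f
      apply Subtype.ext
      ext x
      by_cases h : He x
      · simp [h]
      · have h' : He (-x) := by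
          rw [not_He_iff] at h
          rw [He_iff h2]; right; exact h
        have := f.2 x
        rw [one_mul] at this
        simp [h, h', this]
    right_inv := by
      intro g
      ext x
      simp [x.2] }

/-- Odd functions are functions on the strict half. -/
noncomputable def evO (n : ℕ) (F : Type*) [Field F] [Fintype F] (h2 : (2 : F) ≠ 0) :
    Es n F (-1 : 𝕜) ≃ₗ[𝕜] ({x : Fin n → F // Hf x} → 𝕜) := by
  classical exact {
    toFun := fun f x => f.1 x.1
    map_add' := fun f g => rfl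
    map_smul' := fun c f => rfl
    invFun := fun g => ⟨fun x => if h : Hf x then g ⟨x, h⟩ else
      if h' : Hf (-x) then - g ⟨-x, h'⟩ else 0, by
        intro x
        by_cases h : Hf x <;> by_cases h' : Hf (-x)
        · exfalso
          rw [Hf] at h h'
          rw [neg_neg] at h'
          exact lt_asymm h h'
        · simp [h, h']
        · simp [h, h']
        · simp [h, h']⟩
    left_inv := by
      intro f
      apply Subtype.ext
      ext x
      by_cases h : Hf x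
      · simp [h]
      · by_cases h' : Hf (-x)
        · have := f.2 x
          simp [h, h', this]
        · have h0 : x = 0 := by
            by_contra hne
            rcases lt_trichotomy (num n F x) (num n F (-x)) with h3 | h3 | h3
            · exact h h3
            · exact hne ((eq_neg_iff h2 x).mp (num_inj h3))
            · apply h'
              rw [Hf, neg_neg]; exact h3
          have := f.2 x
          rw [h0, neg_zero] at this
          have h3 : f.1 0 = 0 := by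
            have h5 : (2 : 𝕜) * f.1 0 = 0 := by linear_combination this
            exact (mul_eq_zero.1 h5).resolve_left hk2.out
          simp [h, h', h0, h3]
    right_inv := by
      intro g
      ext x
      simp [x.2] }

theorem evE_apply (h2 : (2 : F) ≠ 0) (f : Es n F (1 : 𝕜)) (x : {x : Fin n → F // He x}) :
    evE n F h2 f x = f.1 x.1 := rfl

theorem evO_apply (h2 : (2 : F) ≠ 0) (f : Es n F (-1 : 𝕜)) (x : {x : Fin n → F // Hf x}) :
    evO n F h2 f x = f.1 x.1 := rfl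

open Classical in
theorem finrank_even (h2 : (2 : F) ≠ 0) :
    finrank 𝕜 (Es n F (1 : 𝕜)) = (Finset.univ.filter (fun x : Fin n → F => He x)).card := by
  rw [LinearEquiv.finrank_eq (evE (𝕜 := 𝕜) n F h2), finrank_fintype_fun_eq_card, Fintype.card_subtype]

open Classical in
theorem finrank_odd (h2 : (2 : F) ≠ 0) :
    finrank 𝕜 (Es n F (-1 : 𝕜)) = (Finset.univ.filter (fun x : Fin n → F => Hf x)).card := by
  rw [LinearEquiv.finrank_eq (evO (𝕜 := 𝕜) n F h2), finrank_fintype_fun_eq_card, Fintype.card_subtype]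

open Classical in
theorem filter_He (h2 : (2 : F) ≠ 0) : Finset.univ.filter (fun x : Fin n → F => He x) =
    insert 0 (Finset.univ.filter (fun x : Fin n → F => Hf x)) := by
  ext x
  simp [He_iff h2]

theorem finrank_even_eq (h2 : (2 : F) ≠ 0) :
    finrank 𝕜 (Es n F (1 : 𝕜)) = finrank 𝕜 (Es n F (-1 : 𝕜)) + 1 := by
  classical
  rw [finrank_even h2, finrank_odd h2, filter_He h2, Finset.card_insert_of_notMem]
  simp [not_Hf_zero]

theorem finrank_sum (h2 : (2 : F) ≠ 0) :
    finrank 𝕜 (Es n F (1 : 𝕜)) + finrank 𝕜 (Es n F (-1 : 𝕜)) = Fintype.card F ^ n := by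
  classical
  rw [finrank_even h2, finrank_odd h2]
  have h1 : (Finset.univ.filter (fun x : Fin n → F => Hf x)).card =
      (Finset.univ.filter (fun x : Fin n → F => ¬ He x)).card := by
    refine Finset.card_bij (fun x _ => -x) ?_ ?_ ?_
    · intro x hx
      simp only [Finset.mem_filter, Finset.mem_univ, true_and] at hx ⊢
      rw [not_He_iff, neg_neg]; exact hx
    · intro x _ y _ h
      exact neg_injective h
    · intro y hy
      simp only [Finset.mem_filter, Finset.mem_univ, true_and] at hy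
      refine ⟨-y, ?_, neg_neg y⟩
      simp only [Finset.mem_filter, Finset.mem_univ, true_and]
      rwa [← not_He_iff]
  rw [h1, Finset.card_filter_add_card_filter_not]
  simp

/-- determinant of a diagonal operator on even functions. -/
theorem det_diag {ι : Type*} [Fintype ι] (u : ι → 𝕜) (D : (ι → 𝕜) →ₗ[𝕜] (ι → 𝕜))
    (hD : ∀ g x, D g x = u x * g x) : LinearMap.det D = ∏ x, u x := by
  classical
  have : D = Matrix.toLin' (diagonal u) := by
    apply LinearMap.ext
    intro g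
    ext x
    rw [hD, Matrix.toLin'_apply, mulVec_diagonal]
  rw [this, LinearMap.det_toLin', det_diagonal]

theorem one_sq : (1 : 𝕜) * 1 = 1 := by norm_num
theorem neg_one_sq' : (-1 : 𝕜) * (-1) = 1 := by norm_num

theorem dt_mulOp (h2 : (2 : F) ≠ 0) (u : (Fin n → F) → 𝕜) (hu : ∀ x, u x ≠ 0) (hu0 : u 0 = 1)
    (hpar : ∀ x, u (-x) = u x) :
    dt one_sq (mulOp u hu).toLinearMap = dt neg_one_sq' (mulOp u hu).toLinearMap := by
  classical
  have hCP : CP (mulOp u hu).toLinearMap := by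
    intro f
    ext x
    show u x * f (-x) = u (-x) * f (-x)
    rw [hpar]
  have h1 : dt one_sq (mulOp u hu).toLinearMap = ∏ x : {x : Fin n → F // He x}, u x.1 := by
    rw [dt, ← LinearMap.det_conj _ (evE (𝕜 := 𝕜) n F h2)]
    apply det_diag
    intro g x
    simp only [LinearMap.comp_apply, LinearEquiv.coe_coe]
    rw [evE_apply, cS_coe' one_sq hCP]
    show u x.1 * ((evE (𝕜 := 𝕜) n F h2).symm g).1 x.1 = _
    rw [← evE_apply h2, LinearEquiv.apply_symm_apply]
  have h3 : dt neg_one_sq' (mulOp u hu).toLinearMap = ∏ x : {x : Fin n → F // Hf x}, u x.1 := by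
    rw [dt, ← LinearMap.det_conj _ (evO (𝕜 := 𝕜) n F h2)]
    apply det_diag
    intro g x
    simp only [LinearMap.comp_apply, LinearEquiv.coe_coe]
    rw [evO_apply, cS_coe' neg_one_sq' hCP]
    show u x.1 * ((evO (𝕜 := 𝕜) n F h2).symm g).1 x.1 = _
    rw [← evO_apply h2, LinearEquiv.apply_symm_apply]
  rw [h1, h3]
  have h4 : ∏ x : {x : Fin n → F // He x}, u x.1 =
      ∏ x ∈ Finset.univ.filter (fun x : Fin n → F => He x), u x := by
    rw [Finset.prod_subtype (Finset.univ.filter (fun x : Fin n → F => He x)) (p := fun x => He x)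
      (by simp)]
  have h5 : ∏ x : {x : Fin n → F // Hf x}, u x.1 =
      ∏ x ∈ Finset.univ.filter (fun x : Fin n → F => Hf x), u x := by
    rw [Finset.prod_subtype (Finset.univ.filter (fun x : Fin n → F => Hf x)) (p := fun x => Hf x)
      (by simp)]
  rw [h4, h5, filter_He h2, Finset.prod_insert (by simp [not_Hf_zero]), hu0, one_mul]

/-- normalised operators -/
def Nrm (R : W n F 𝕜 →ₗ[𝕜] W n F 𝕜) : Prop := dt one_sq R = dt neg_one_sq' R

variable {ψ : AddChar F 𝕜} {lam : F}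

theorem IsInt.cp {g : Sp n F} {R : W n F 𝕜 ≃ₗ[𝕜] W n F 𝕜} (h : IsInt ψ lam g R) :
    CP R.toLinearMap := h.2

theorem nrm_DS (h2 : (2 : F) ≠ 0) (S : Sym n F) : Nrm (DS ψ lam S).toLinearMap := by
  apply dt_mulOp h2
  · simp
  · intro x
    rw [mulVec_neg, dotProduct_neg, neg_dotProduct, neg_neg]

/-- scaling -/
noncomputable def scl (c : 𝕜) (hc : c ≠ 0) (R : W n F 𝕜 ≃ₗ[𝕜] W n F 𝕜) : W n F 𝕜 ≃ₗ[𝕜] W n F 𝕜 :=
  R.trans (LinearEquiv.smulOfNeZero 𝕜 (W n F 𝕜) c hc)

theorem scl_apply (c : 𝕜) (hc : c ≠ 0) (R : W n F 𝕜 ≃ₗ[𝕜] W n F 𝕜) (f : W n F 𝕜) :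
    scl c hc R f = c • R f := rfl

theorem isInt_scl {g : Sp n F} {c : 𝕜} (hc : c ≠ 0) {R : W n F 𝕜 ≃ₗ[𝕜] W n F 𝕜}
    (h : IsInt ψ lam g R) : IsInt ψ lam g (scl c hc R) := by
  refine ⟨fun w f => ?_, fun f => ?_⟩
  · rw [scl_apply, scl_apply, h.1, map_smul]
  · rw [scl_apply, scl_apply, h.2, map_smul]

theorem exists_nrm (hψ : ψ.IsPrimitive) (h2 : (2 : F) ≠ 0) (hlam : lam ≠ 0) (j : Fin n)
    (g : Sp n F) : ∃ R, IsInt ψ lam g R ∧ Nrm R.toLinearMap := by
  obtain ⟨R, hR⟩ := exists_isInt hψ h2 hlam j g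
  have h1 := dt_ne_zero one_sq hR.cp
  have h3 := dt_ne_zero neg_one_sq' hR.cp
  set c := dt neg_one_sq' R.toLinearMap / dt one_sq R.toLinearMap with hc
  have hc0 : c ≠ 0 := div_ne_zero h3 h1
  refine ⟨scl c hc0 R, isInt_scl hc0 hR, ?_⟩
  have h4 : (scl c hc0 R).toLinearMap = c • R.toLinearMap := rfl
  rw [Nrm, h4, dt_smul, dt_smul, finrank_even_eq h2, pow_succ, mul_assoc]
  congr 1
  rw [hc]
  field_simp

theorem nrm_unique (hψ : ψ.IsPrimitive) (h2 : (2 : F) ≠ 0) (hlam : lam ≠ 0) {g : Sp n F}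
    {R R' : W n F 𝕜 ≃ₗ[𝕜] W n F 𝕜} (hR : IsInt ψ lam g R) (hR' : IsInt ψ lam g R')
    (hn : Nrm R.toLinearMap) (hn' : Nrm R'.toLinearMap) : R = R' := by
  obtain ⟨c, hc, h⟩ := isInt_unique hψ h2 hlam hR hR'
  have h1 := dt_ne_zero one_sq hR.cp
  have h4 : R'.toLinearMap = c • R.toLinearMap := LinearMap.ext h
  rw [Nrm] at hn hn'
  rw [h4, dt_smul, dt_smul, finrank_even_eq h2, pow_succ, mul_assoc, ← hn] at hn'
  have h5 : c * dt one_sq R.toLinearMap = dt one_sq R.toLinearMap :=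
    mul_left_cancel₀ (pow_ne_zero _ hc) hn'
  have h6 : c = 1 := by
    apply mul_right_cancel₀ h1
    rw [h5, one_mul]
  apply LinearEquiv.ext
  intro f
  have := h f
  rw [h6, one_smul] at this
  exact this.symm

/-- **The Weil representation.** -/
theorem exists_weil (hψ : ψ.IsPrimitive) (h2 : (2 : F) ≠ 0) (hlam : lam ≠ 0) (j : Fin n) :
    ∃ ω : Representation 𝕜 (Sp n F) (W n F 𝕜),
      (∀ S f, ω (uu S) f = DS ψ lam S f) ∧
      (∀ g f, ω g (Pop f) = Pop (ω g f)) ∧
      (∀ h, ∃ c : 𝕜, c ≠ 0 ∧ ∀ f, ω (mm h) f = c • LH h f) ∧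
      (∀ k, ∃ c : 𝕜, c ≠ 0 ∧ ∀ f, ω (ww k) f = c • FTl ψ lam k f) := by
  choose R hR hN using exists_nrm (n := n) hψ h2 hlam j
  have hmul : ∀ g h, R (g * h) = R g * R h := by
    intro g h
    apply nrm_unique hψ h2 hlam (hR _) ((hR g).mul (hR h)) (hN _)
    have h1 : (R g * R h).toLinearMap = (R g).toLinearMap ∘ₗ (R h).toLinearMap := rfl
    rw [Nrm, h1, dt_mul _ (hR g).cp (hR h).cp, dt_mul _ (hR g).cp (hR h).cp, hN g, hN h]
  have hone : R 1 = 1 := by
    have := hmul 1 1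
    rw [mul_one] at this
    exact (mul_eq_left.mp this.symm)
  let ω : Representation 𝕜 (Sp n F) (W n F 𝕜) :=
    { toFun := fun g => (R g).toLinearMap
      map_one' := by rw [hone]; rfl
      map_mul' := fun g h => by rw [hmul]; rfl }
  have hω : ∀ g f, ω g f = R g f := fun g f => rfl
  refine ⟨ω, ?_, ?_, ?_, ?_⟩
  · intro S f
    rw [hω, nrm_unique hψ h2 hlam (hR (uu S)) (isInt_uu S) (hN _) (nrm_DS h2 S)]
  · intro g f
    exact (hR g).2 f
  · intro h
    obtain ⟨c, hc, h3⟩ := isInt_unique hψ h2 hlam (isInt_mm h) (hR (mm h))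
    exact ⟨c, hc, h3⟩
  · intro k
    obtain ⟨c, hc, h3⟩ := isInt_unique hψ h2 hlam (isInt_ww hψ h2 hlam k) (hR (ww k))
    exact ⟨c, hc, h3⟩

end Cfsg.Agent.H434.WK

private theorem dce_8ce425a446d5 : _root_.True := by
  try have : _root_.True := by simp only [_root_.Cfsg.Agent.H434.WK.dt.eq_1]
  try have : _root_.True := by simp only [_root_.Cfsg.Agent.H434.WK.cS.congr_simp]
  try have : _root_.True := by simp only [_root_.Cfsg.Agent.H434.WK.He.eq_1]
  try have : _root_.True := by simp only [_root_.Cfsg.Agent.H434.WK.Hf.eq_1]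
  try have : _root_.True := by simp only [_root_.Cfsg.Agent.H434.WK.evO.congr_simp]
  try have : _root_.True := by simp only [_root_.Cfsg.Agent.H434.WK.evE.congr_simp]
  try have : _root_.True := by simp only [_root_.Cfsg.Agent.H434.WK.mulOp.congr_simp]
  try have : _root_.True := by simp only [_root_.Cfsg.Agent.H434.WK.Nrm.eq_1]
  try have : _root_.True := by simp only [_root_.Cfsg.Agent.H434.WK.dt.congr_simp]
  exact _root_.True.intro
end

-- part: H434/LD/K2Emb
section
prune_inst 0x311005403402020008188512120020006800000200434800b18008040907f040a0450e01f710090090f2acd068080040011001e0422000000a000c00011d0020888202002040000026001f008080000000000000020000000000000000051000000000000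
set_option linter.all false
open scoped Cfsg.Agent.FastGrp

/-!
# `SL₂(K)` in `Sp_2n(k)`, `n = [K : k]` (helper434)

`e` a basis of `K / k`, `M` the regular matrices, `G` the matrix of the trace form. `jj : SL₂(K) → Sp_2n(k)`.
-/

set_option autoImplicit false
set_option linter.unusedSectionVars false
open Matrix Module Cfsg.Agent.H162.Weil

namespace Cfsg.Agent.H434.K2

variable {k : Type*} [Field k] {K : Type*} [Field K] [Algebra k K] {n : ℕ} (e : Basis (Fin n) k K)

/-- regular matrices -/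
noncomputable def M (a : K) : Matrix (Fin n) (Fin n) k := Algebra.leftMulMatrix e a

theorem M_add (a b : K) : M e (a + b) = M e a + M e b := map_add _ _ _
theorem M_mul (a b : K) : M e (a * b) = M e a * M e b := map_mul _ _ _
theorem M_sub (a b : K) : M e (a - b) = M e a - M e b := map_sub _ _ _
theorem M_one : M e 1 = 1 := map_one _
theorem M_zero : M e 0 = 0 := map_zero _
theorem M_neg (a : K) : M e (-a) = -M e a := map_neg _ _
theorem M_comm (a b : K) : M e a * M e b = M e b * M e a := by rw [← M_mul, ← M_mul, mul_comm]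

theorem M_mulVec (a : K) (x : Fin n → k) : e.equivFun.symm (M e a *ᵥ x) = a * e.equivFun.symm x := by
  apply e.equivFun.injective
  rw [LinearEquiv.apply_symm_apply]
  have h1 := Algebra.leftMulMatrix_mulVec_repr e a (e.equivFun.symm x)
  have h2 : (e.repr (e.equivFun.symm x) : Fin n → k) = x := e.equivFun.apply_symm_apply x
  rw [h2] at h1
  exact h1

/-- the trace form -/
noncomputable def G : Matrix (Fin n) (Fin n) k := Algebra.traceMatrix k e

theorem G_apply (i j : Fin n) : G e i j = Algebra.trace k K (e i * e j) := rfl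

theorem G_symm : (G e)ᵀ = G e := by
  ext i j
  rw [Matrix.transpose_apply, G_apply, G_apply, mul_comm]

theorem G_mul_apply (a : K) (i j : Fin n) : (G e * M e a) i j = Algebra.trace k K (a * (e i * e j)) := by
  rw [Matrix.mul_apply]
  have h1 : ∑ l, M e a l j • e l = a * e j :=
    (Finset.sum_congr rfl fun l _ => by
      rw [show M e a l j = e.repr (a * e j) l from Algebra.leftMulMatrix_eq_repr_mul e a l j]).trans
        (e.sum_repr (a * e j))
  have h2 : a * (e i * e j) = e i * ∑ l, M e a l j • e l := by rw [h1]; ring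
  rw [h2, Finset.mul_sum, map_sum]
  refine Finset.sum_congr rfl fun l _ => ?_
  rw [mul_smul_comm, map_smul, smul_eq_mul, mul_comm]
  rfl

theorem G_mul (a : K) : G e * M e a = (M e a)ᵀ * G e := by
  have h1 : (G e * M e a)ᵀ = G e * M e a := by
    ext i j
    rw [Matrix.transpose_apply, G_mul_apply, G_mul_apply, mul_comm (e j)]
  rw [← h1, Matrix.transpose_mul, G_symm]

variable [Algebra.IsSeparable k K]

theorem G_det : (G e).det ≠ 0 := by
  have h := det_traceForm_ne_zero (K := k) (L := K) e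
  rwa [← Algebra.traceMatrix_of_basis] at h

theorem G_mul_inv : G e * (G e)⁻¹ = 1 := Matrix.mul_nonsing_inv _ (isUnit_iff_ne_zero.2 (G_det e))
theorem G_inv_mul : (G e)⁻¹ * G e = 1 := Matrix.nonsing_inv_mul _ (isUnit_iff_ne_zero.2 (G_det e))

theorem Gi_symm : ((G e)⁻¹)ᵀ = (G e)⁻¹ := by
  rw [Matrix.transpose_nonsing_inv, G_symm]

/-- `M a G⁻¹ = G⁻¹ (M a)ᵀ`. -/
theorem mul_Gi (a : K) : M e a * (G e)⁻¹ = (G e)⁻¹ * (M e a)ᵀ := by
  have h := G_mul e a
  calc M e a * (G e)⁻¹ = ((G e)⁻¹ * G e) * (M e a * (G e)⁻¹) := by rw [G_inv_mul, Matrix.one_mul]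
    _ = (G e)⁻¹ * (G e * M e a) * (G e)⁻¹ := by simp only [Matrix.mul_assoc]
    _ = (G e)⁻¹ * ((M e a)ᵀ * (G e * (G e)⁻¹)) := by rw [h]; simp only [Matrix.mul_assoc]
    _ = _ := by rw [G_mul_inv, Matrix.mul_one]

theorem trGi (a : K) : (M e a * (G e)⁻¹)ᵀ = M e a * (G e)⁻¹ := by
  rw [Matrix.transpose_mul, Gi_symm, mul_Gi]

/-- the symmetric matrix `M a G⁻¹` -/
noncomputable def SG (a : K) : Sym n k := ⟨M e a * (G e)⁻¹, trGi e a⟩

theorem jj_mem (g : SpecialLinearGroup (Fin 2) K) :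
    fromBlocks (M e (g.1 0 0)) (M e (g.1 0 1) * (G e)⁻¹) (G e * M e (g.1 1 0)) (M e (g.1 1 1))ᵀ ∈
      Matrix.symplecticGroup (Fin n) k := by
  have hdet := g.2
  rw [Matrix.det_fin_two] at hdet
  rw [SymplecticGroup.fromBlocks_mem_iff]
  refine ⟨?_, ?_, ?_⟩
  · rw [Matrix.transpose_mul, G_symm, ← G_mul e (g.1 1 0), ← Matrix.mul_assoc, ← G_mul, Matrix.mul_assoc,
      Matrix.mul_assoc, M_comm]
  · rw [trGi, Matrix.transpose_transpose, Matrix.mul_assoc, ← mul_Gi e (g.1 1 1), ← Matrix.mul_assoc, M_comm,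
      Matrix.mul_assoc]
  · have h1 : (G e * M e (g.1 1 0))ᵀ * (M e (g.1 0 1) * (G e)⁻¹) = (M e (g.1 0 1 * g.1 1 0))ᵀ := by
      calc (G e * M e (g.1 1 0))ᵀ * (M e (g.1 0 1) * (G e)⁻¹)
          = (M e (g.1 1 0))ᵀ * ((G e * M e (g.1 0 1)) * (G e)⁻¹) := by
            rw [Matrix.transpose_mul, G_symm]; simp only [Matrix.mul_assoc]
        _ = (M e (g.1 1 0))ᵀ * ((M e (g.1 0 1))ᵀ * (G e * (G e)⁻¹)) := by rw [G_mul]; simp only [Matrix.mul_assoc]
        _ = _ := by rw [G_mul_inv, Matrix.mul_one, ← Matrix.transpose_mul, ← M_mul]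
    rw [h1, ← Matrix.transpose_mul, ← Matrix.transpose_sub, ← M_mul, ← M_sub, mul_comm (g.1 1 1), hdet, M_one,
      Matrix.transpose_one]

/-- **The embedding.** -/
noncomputable def jj : SpecialLinearGroup (Fin 2) K →* Sp n k where
  toFun g := ⟨_, jj_mem e g⟩
  map_one' := by
    apply Subtype.ext
    change fromBlocks (M e ((1 : Matrix (Fin 2) (Fin 2) K) 0 0)) (M e ((1 : Matrix (Fin 2) (Fin 2) K) 0 1) * (G e)⁻¹)
      (G e * M e ((1 : Matrix (Fin 2) (Fin 2) K) 1 0)) (M e ((1 : Matrix (Fin 2) (Fin 2) K) 1 1))ᵀ = 1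
    rw [Matrix.one_apply_eq, Matrix.one_apply_eq, Matrix.one_apply_ne (by decide), Matrix.one_apply_ne (by decide),
      M_one, M_zero, Matrix.zero_mul, Matrix.mul_zero, Matrix.transpose_one, fromBlocks_one]
  map_mul' g h := by
    apply Subtype.ext
    change fromBlocks (M e ((g.1 * h.1) 0 0)) (M e ((g.1 * h.1) 0 1) * (G e)⁻¹)
      (G e * M e ((g.1 * h.1) 1 0)) (M e ((g.1 * h.1) 1 1))ᵀ = fromBlocks _ _ _ _ * fromBlocks _ _ _ _
    rw [fromBlocks_multiply]
    have e1 : ∀ i j, (g.1 * h.1) i j = g.1 i 0 * h.1 0 j + g.1 i 1 * h.1 1 j := fun i j => by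
      rw [Matrix.mul_apply, Fin.sum_univ_two]
    simp only [e1, M_add, M_mul]
    congr 1
    · rw [Matrix.mul_assoc _ (G e)⁻¹, ← Matrix.mul_assoc (G e)⁻¹, G_inv_mul, Matrix.one_mul]
    · rw [Matrix.mul_assoc _ (G e)⁻¹, ← mul_Gi, Matrix.add_mul]
      simp only [Matrix.mul_assoc]
    · rw [← Matrix.mul_assoc _ (G e), ← G_mul, Matrix.mul_add]
      simp only [Matrix.mul_assoc]
    · rw [Matrix.mul_assoc (G e), ← Matrix.mul_assoc (M e _) (M e _), ← Matrix.mul_assoc (G e), ← M_mul, G_mul,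
        Matrix.mul_assoc _ (G e), G_mul_inv, Matrix.mul_one, ← Matrix.transpose_mul, ← Matrix.transpose_add,
        ← M_mul, ← M_mul, mul_comm (h.1 1 1)]

theorem jj_coe (g : SpecialLinearGroup (Fin 2) K) : (jj e g).1 =
    fromBlocks (M e (g.1 0 0)) (M e (g.1 0 1) * (G e)⁻¹) (G e * M e (g.1 1 0)) (M e (g.1 1 1))ᵀ := rfl

theorem jj_u (x : K) : jj e (H464.Sl2.u x) = uu (SG e x) := by
  apply Subtype.ext
  rw [jj_coe, uu_coe]
  change fromBlocks (M e 1) (M e x * (G e)⁻¹) (G e * M e 0) (M e 1)ᵀ = _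
  rw [M_one, M_zero, Matrix.mul_zero, Matrix.transpose_one]
  rfl

/-- the regular matrix of a unit -/
noncomputable def Mu (a : Kˣ) : GL (Fin n) k :=
  ⟨M e a, M e ((a⁻¹ : Kˣ) : K), by rw [← M_mul, ← Units.val_mul, mul_inv_cancel, Units.val_one, M_one], by
    rw [← M_mul, ← Units.val_mul, inv_mul_cancel, Units.val_one, M_one]⟩

theorem jj_t (a : Kˣ) : jj e (H464.Sl2.t a) = mm (Mu e a) := by
  apply Subtype.ext
  rw [jj_coe, mm_coe]
  change fromBlocks (M e a) (M e 0 * (G e)⁻¹) (G e * M e 0) (M e ((a⁻¹ : Kˣ) : K))ᵀ = _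
  rw [M_zero, Matrix.mul_zero, Matrix.zero_mul]
  rfl

/-! ### The identification of `k^n` with `K` -/

/-- `φ x = ∑ (G⁻¹ x)_i e_i` -/
noncomputable def ph (x : Fin n → k) : K := e.equivFun.symm ((G e)⁻¹ *ᵥ x)

theorem ph_zero : ph e 0 = 0 := by rw [ph, Matrix.mulVec_zero, map_zero]

theorem ph_neg (x : Fin n → k) : ph e (-x) = -ph e x := by rw [ph, Matrix.mulVec_neg, map_neg]; rfl

theorem ph_injective : Function.Injective (ph e) := by
  intro x y h
  have h1 := e.equivFun.symm.injective h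
  have h2 := congrArg (G e *ᵥ ·) h1
  simpa only [Matrix.mulVec_mulVec, G_mul_inv, Matrix.one_mulVec] using h2

theorem ph_ne {x : Fin n → k} (hx : x ≠ 0) : ph e x ≠ 0 := fun h => hx (ph_injective e (h.trans (ph_zero e).symm))

/-- `x ↦ x M_a` is multiplication by `a`. -/
theorem ph_vecMul (a : K) (x : Fin n → k) : ph e (x ᵥ* M e a) = a * ph e x := by
  rw [ph, ph, ← Matrix.mulVec_transpose, Matrix.mulVec_mulVec, ← mul_Gi, ← Matrix.mulVec_mulVec, M_mulVec]

/-- The quadratic form of `SG t`. -/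
theorem ph_quad (t : K) (x : Fin n → k) : x ⬝ᵥ ((SG e t).1 *ᵥ x) = Algebra.trace k K (t * (ph e x) ^ 2) := by
  set y := (G e)⁻¹ *ᵥ x with hy
  have hx : x = G e *ᵥ y := by
    rw [hy, Matrix.mulVec_mulVec, G_mul_inv, Matrix.one_mulVec]
  have h1 : x ⬝ᵥ ((SG e t).1 *ᵥ x) = y ⬝ᵥ ((G e * M e t) *ᵥ y) := by
    change x ⬝ᵥ ((M e t * (G e)⁻¹) *ᵥ x) = _
    rw [← Matrix.mulVec_mulVec, ← hy]
    conv_lhs => rw [hx]
    rw [Matrix.dotProduct_mulVec, ← Matrix.vecMul_transpose, G_symm, Matrix.vecMul_vecMul, ← Matrix.dotProduct_mulVec]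
  rw [h1]
  have h2 : ph e x = ∑ i, y i • e i := by
    rw [ph, ← hy, Basis.equivFun_symm_apply]
  rw [h2, sq, Finset.sum_mul_sum]
  rw [Finset.mul_sum, map_sum, dotProduct]
  refine Finset.sum_congr rfl fun i _ => ?_
  rw [Finset.mul_sum, map_sum, Matrix.mulVec, dotProduct, Finset.mul_sum]
  refine Finset.sum_congr rfl fun j _ => ?_
  rw [G_mul_apply, smul_mul_smul_comm, mul_smul_comm, map_smul, smul_eq_mul]
  ring

/-! ### Field automorphisms -/

/-- the matrix of an automorphism -/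
noncomputable def Sg (σ : K ≃ₐ[k] K) : Matrix (Fin n) (Fin n) k := LinearMap.toMatrix e e σ.toLinearMap

theorem Sg_M (σ : K ≃ₐ[k] K) (a : K) : Sg e σ * M e a = M e (σ a) * Sg e σ := by
  rw [Sg, M, M, Algebra.leftMulMatrix_apply, Algebra.leftMulMatrix_apply, ← LinearMap.toMatrix_comp e e e,
    ← LinearMap.toMatrix_comp e e e]
  congr 1
  apply LinearMap.ext
  intro x
  change σ (a * x) = σ a * σ x
  rw [map_mul]

theorem Sg_mul (σ τ : K ≃ₐ[k] K) : Sg e (σ * τ) = Sg e σ * Sg e τ := by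
  rw [Sg, Sg, Sg, ← LinearMap.toMatrix_comp e e e]
  rfl

theorem Sg_one : Sg e 1 = 1 := by
  rw [Sg]
  exact LinearMap.toMatrix_id e

/-- as an element of `GL` -/
noncomputable def Su (σ : K ≃ₐ[k] K) : GL (Fin n) k :=
  ⟨Sg e σ, Sg e σ⁻¹, by rw [← Sg_mul, mul_inv_cancel, Sg_one], by rw [← Sg_mul, inv_mul_cancel, Sg_one]⟩

theorem Sg_form (σ : K ≃ₐ[k] K) : (Sg e σ)ᵀ * G e * Sg e σ = G e := by
  have hcol : ∀ j, σ (e j) = ∑ l, Sg e σ l j • e l := by
    intro j
    refine ((Finset.sum_congr rfl fun l _ => ?_).trans (e.sum_repr (σ (e j)))).symm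
    rw [show Sg e σ l j = e.repr (σ (e j)) l from LinearMap.toMatrix_apply e e σ.toLinearMap l j]
  ext i j
  have h1 : G e i j = Algebra.trace k K (σ (e i) * σ (e j)) := by
    rw [G_apply, ← map_mul σ (e i) (e j), Algebra.trace_eq_of_algEquiv σ]
  rw [h1, hcol i, hcol j, Finset.sum_mul_sum, map_sum, Matrix.mul_apply]
  simp only [Matrix.mul_apply, Matrix.transpose_apply, Finset.sum_mul, map_sum]
  rw [Finset.sum_comm]
  refine Finset.sum_congr rfl fun a _ => ?_
  refine Finset.sum_congr rfl fun b _ => ?_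
  rw [smul_mul_smul_comm, map_smul, smul_eq_mul, G_apply]
  ring

theorem Su_coe (σ : K ≃ₐ[k] K) : (Su e σ : Matrix (Fin n) (Fin n) k) = Sg e σ := rfl

theorem Su_inv_coe (σ : K ≃ₐ[k] K) : (((Su e σ)⁻¹ : GL (Fin n) k) : Matrix (Fin n) (Fin n) k) = Sg e σ⁻¹ := rfl

theorem Sg_mul_inv (σ : K ≃ₐ[k] K) : Sg e σ * Sg e σ⁻¹ = 1 := by rw [← Sg_mul, mul_inv_cancel, Sg_one]

/-- `Σ G⁻¹ = G⁻¹ Σ⁻ᵀ`. -/
theorem Sg_Gi (σ : K ≃ₐ[k] K) : Sg e σ * (G e)⁻¹ = (G e)⁻¹ * (Sg e σ⁻¹)ᵀ := by
  have h1 := Sg_form e σ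
  have h2 : G e * Sg e σ = (Sg e σ⁻¹)ᵀ * G e := by
    calc G e * Sg e σ = ((Sg e σ⁻¹)ᵀ * (Sg e σ)ᵀ) * (G e * Sg e σ) := by
          rw [← Matrix.transpose_mul, Sg_mul_inv, Matrix.transpose_one, Matrix.one_mul]
      _ = (Sg e σ⁻¹)ᵀ * ((Sg e σ)ᵀ * G e * Sg e σ) := by simp only [Matrix.mul_assoc]
      _ = _ := by rw [h1]
  calc Sg e σ * (G e)⁻¹ = ((G e)⁻¹ * G e) * (Sg e σ * (G e)⁻¹) := by rw [G_inv_mul, Matrix.one_mul]
    _ = (G e)⁻¹ * (G e * Sg e σ) * (G e)⁻¹ := by simp only [Matrix.mul_assoc]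
    _ = (G e)⁻¹ * ((Sg e σ⁻¹)ᵀ * (G e * (G e)⁻¹)) := by rw [h2]; simp only [Matrix.mul_assoc]
    _ = _ := by rw [G_mul_inv, Matrix.mul_one]

/-- **Field automorphisms are inner in `Sp_2n(k)`.** -/
theorem jj_map (σ : K ≃ₐ[k] K) (g : SpecialLinearGroup (Fin 2) K) :
    mm (Su e σ) * jj e g = jj e (SpecialLinearGroup.map (σ : K →+* K) g) * mm (Su e σ) := by
  have hG : (Sg e σ⁻¹)ᵀ * G e = G e * Sg e σ := by
    calc (Sg e σ⁻¹)ᵀ * G e = (Sg e σ⁻¹)ᵀ * ((Sg e σ)ᵀ * G e * Sg e σ) := by rw [Sg_form]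
      _ = (Sg e σ * Sg e σ⁻¹)ᵀ * (G e * Sg e σ) := by rw [Matrix.transpose_mul]; simp only [Matrix.mul_assoc]
      _ = _ := by rw [Sg_mul_inv, Matrix.transpose_one, Matrix.one_mul]
  apply Subtype.ext
  rw [Submonoid.coe_mul, Submonoid.coe_mul, jj_coe, jj_coe, mm_coe, fromBlocks_multiply, fromBlocks_multiply,
    Su_coe, Su_inv_coe]
  simp only [Matrix.mul_zero, Matrix.zero_mul, add_zero, zero_add]
  congr 1
  · exact Sg_M e σ _
  · rw [← Matrix.mul_assoc, Sg_M, Matrix.mul_assoc, Sg_Gi, ← Matrix.mul_assoc]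
    rfl
  · rw [← Matrix.mul_assoc, hG, Matrix.mul_assoc, Sg_M, ← Matrix.mul_assoc]
    rfl
  · rw [← Matrix.transpose_mul, ← Matrix.transpose_mul]
    congr 1
    have h1 := Sg_M e σ⁻¹ (σ (g.1 1 1))
    have h2 : σ⁻¹ (σ (g.1 1 1)) = g.1 1 1 := σ.symm_apply_apply _
    rw [h2] at h1
    exact h1.symm

end Cfsg.Agent.H434.K2

private theorem dce_b4cceff68241 : _root_.True := by
  try have : _root_.True := by simp only [_root_.Cfsg.Agent.H434.K2.Sg.eq_1]
  try have : _root_.True := by simp only [_root_.Cfsg.Agent.H434.K2.M.eq_1]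
  try have : _root_.True := by simp only [_root_.Cfsg.Agent.H434.K2.ph.eq_1]
  exact _root_.True.intro
end

-- part: H434/LD/K2Span
section
prune_inst 0x35300540344200000818809203200000680000220040000000a009000100a06020c52801be10050412a0085168080040011000a0422000000a000c00011f00000880100420400200080016000000000000000000020000000000000000010000000000000
set_option linter.all false
open scoped Cfsg.Agent.FastGrp

/-!
# The odd half of the Weil representation of `Sp_2n(k)`, restricted to `SL₂(K)`, spans (helper434)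
-/

set_option autoImplicit false
set_option linter.unusedSectionVars false
open Matrix Module Cfsg.Agent.H162.Weil Cfsg.Agent.H434.WK

namespace Cfsg.Agent.H434.K2

variable {k : Type*} [Field k] [Fintype k] {𝕜 : Type*} [Field 𝕜] [hq : Fact ((Fintype.card k : 𝕜) ≠ 0)]
  [hk2 : Fact ((2 : 𝕜) ≠ 0)] {n : ℕ}

/-- the odd half -/
def oddRep (ω : Representation 𝕜 (Sp n k) (W n k 𝕜)) (hω : ∀ g f, ω g (Pop f) = Pop (ω g f)) :
    Representation 𝕜 (Sp n k) (Es n k (-1 : 𝕜)) where
  toFun g := (ω g).restrict (p := Es n k (-1 : 𝕜)) (q := Es n k (-1 : 𝕜)) (fun f hf => by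
    have h1 : CP (ω g) := hω g
    exact h1.mem hf)
  map_one' := by
    apply LinearMap.ext
    intro f
    apply Subtype.ext
    rw [LinearMap.coe_restrict_apply, map_one]
    rfl
  map_mul' a b := by
    apply LinearMap.ext
    intro f
    apply Subtype.ext
    rw [LinearMap.coe_restrict_apply, map_mul]
    rfl

theorem oddRep_coe (ω : Representation 𝕜 (Sp n k) (W n k 𝕜)) (hω : ∀ g f, ω g (Pop f) = Pop (ω g f)) (g : Sp n k)
    (f : Es n k (-1 : 𝕜)) : ((oddRep ω hω g f : Es n k (-1 : 𝕜)) : W n k 𝕜) = ω g f := rfl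

theorem odd_neg (f : Es n k (-1 : 𝕜)) (x : Fin n → k) : f.1 (-x) = -f.1 x := by
  have h := f.2 x
  rw [neg_one_mul] at h
  exact h

theorem odd_zero (f : Es n k (-1 : 𝕜)) : f.1 0 = 0 := by
  have h := odd_neg f 0
  rw [neg_zero] at h
  have h1 : (2 : 𝕜) * f.1 0 = 0 := by linear_combination h
  exact (mul_eq_zero.1 h1).resolve_left hk2.out

/-- `δ_x - δ_{-x}` -/
noncomputable def dd (x : Fin n → k) : Es n k (-1 : 𝕜) := ⟨dl x - dl (-x), by
  intro y
  rw [Pi.sub_apply, Pi.sub_apply]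
  by_cases h1 : y = x
  · subst h1
    by_cases h2 : -y = y
    · rw [h2, sub_self]; ring
    · rw [dl_ne h2, dl_self, dl_self, dl_ne (fun h => h2 h.symm)]; ring
  · by_cases h2 : y = -x
    · subst h2
      rw [neg_neg, dl_self, dl_self, dl_ne h1, dl_ne (fun h => h1 h.symm)]; ring
    · rw [dl_ne (y := -y) (x := x) (fun h => h2 (by rw [← h, neg_neg])), dl_ne (y := -y) (x := -x) (fun h => h1 (neg_injective h)),
        dl_ne h1, dl_ne h2]; ring⟩

theorem dd_apply (x y : Fin n → k) : (dd x : Es n k (-1 : 𝕜)).1 y = (dl x : W n k 𝕜) y - (dl (-x) : W n k 𝕜) y := rfl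

theorem dd_self (h2 : (2 : k) ≠ 0) {x : Fin n → k} (hx : x ≠ 0) : (dd x : Es n k (-1 : 𝕜)).1 x = 1 := by
  rw [dd_apply, dl_self, dl_ne, sub_zero]
  intro h
  exact hx ((eq_neg_iff h2 x).1 h)

theorem dd_ne {x y : Fin n → k} (h1 : y ≠ x) (h2 : y ≠ -x) : (dd x : Es n k (-1 : 𝕜)).1 y = 0 := by
  rw [dd_apply, dl_ne h1, dl_ne h2, sub_zero]

/-- the projection onto the line of `dd x` -/
noncomputable def ex (x : Fin n → k) : Module.End 𝕜 (Es n k (-1 : 𝕜)) where
  toFun f := f.1 x • dd x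
  map_add' f g := by
    rw [← add_smul]; rfl
  map_smul' c f := by
    rw [RingHom.id_apply, smul_smul]; rfl

theorem ex_apply (x : Fin n → k) (f : Es n k (-1 : 𝕜)) : ex x f = f.1 x • dd x := rfl

theorem sum_ex : ∑ x : Fin n → k, (ex x : Module.End 𝕜 (Es n k (-1 : 𝕜))) = (2 : 𝕜) • 1 := by
  classical
  apply LinearMap.ext
  intro f
  apply Subtype.ext
  ext y
  rw [LinearMap.sum_apply, LinearMap.smul_apply, Module.End.one_apply]
  have h1 : ((∑ x, ex x f : Es n k (-1 : 𝕜)) : W n k 𝕜) y = ∑ x, f.1 x * ((dl x : W n k 𝕜) y - (dl (-x) : W n k 𝕜) y) := by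
    rw [AddSubmonoidClass.coe_finsetSum, Finset.sum_apply]
    rfl
  rw [h1]
  simp only [mul_sub, Finset.sum_sub_distrib]
  have h3 : ∑ x, f.1 x * (dl x : W n k 𝕜) y = f.1 y := by
    rw [Finset.sum_eq_single y, dl_self, mul_one]
    · intro x _ hx
      rw [dl_ne hx.symm, mul_zero]
    · intro h; exact absurd (Finset.mem_univ _) h
  have h4 : ∑ x, f.1 x * (dl (-x) : W n k 𝕜) y = f.1 (-y) := by
    rw [Finset.sum_eq_single (-y), neg_neg, dl_self, mul_one]
    · intro x _ hx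
      rw [dl_ne (fun h => hx (by rw [h, neg_neg])), mul_zero]
    · intro h; exact absurd (Finset.mem_univ _) h
  rw [h3, h4, odd_neg]
  change _ = (2 : 𝕜) * f.1 y
  ring

section sl

variable {K : Type*} [Field K] [Fintype K] [Algebra k K] [Algebra.IsSeparable k K] (e : Basis (Fin n) k K)
  {ψ : AddChar k 𝕜} (ω : Representation 𝕜 (Sp n k) (W n k 𝕜)) (hω : ∀ g f, ω g (Pop f) = Pop (ω g f))

/-- `ψ ∘ Tr` -/
noncomputable def psK (K : Type*) [Field K] [Algebra k K] (ψ : AddChar k 𝕜) : AddChar K 𝕜 :=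
  ψ.compAddMonoidHom (Algebra.trace k K).toAddMonoidHom

theorem psK_apply (x : K) : psK K ψ x = ψ (Algebra.trace k K x) := rfl

theorem psK_prim (hψ : ψ.IsPrimitive) : (psK K ψ).IsPrimitive := by
  intro s hs h
  obtain ⟨t, ht⟩ := Algebra.trace_surjective k K 1
  obtain ⟨c, hc⟩ := exists_ne_one hψ (one_ne_zero (α := k))
  apply hc
  have h1 := DFunLike.congr_fun h (c • t * s⁻¹)
  rw [AddChar.mulShift_apply, AddChar.one_apply, psK_apply, mul_comm (c • t), ← mul_assoc, mul_inv_cancel₀ hs, one_mul,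
    map_smul, ht, smul_eq_mul] at h1
  exact h1

include e in
theorem card_K : Fintype.card K = Fintype.card k ^ n := by
  rw [Module.card_fintype e]
  simp

include e in
theorem card_K_ne : (Fintype.card K : 𝕜) ≠ 0 := by
  rw [card_K e, Nat.cast_pow]
  exact pow_ne_zero _ hq.out

variable {ω}

/-- **Lemma A.** -/
theorem ex_eq (hψ : ψ.IsPrimitive) (h2 : (2 : k) ≠ 0) (hu : ∀ S f, ω (uu S) f = DS ψ 1 S f) {x : Fin n → k} (hx : x ≠ 0) :
    (ex x : Module.End 𝕜 (Es n k (-1 : 𝕜))) = (Fintype.card K : 𝕜)⁻¹ • ∑ t : K,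
      (psK K ψ (-(t * ph e x ^ 2))) • oddRep ω hω (jj e (H464.Sl2.u t)) := by
  classical
  have hxn : x ≠ -x := fun h => hx ((eq_neg_iff h2 x).1 h)
  apply LinearMap.ext
  intro f
  apply Subtype.ext
  ext y
  have h1 : ((((Fintype.card K : 𝕜)⁻¹ • ∑ t : K,
      (psK K ψ (-(t * ph e x ^ 2))) • oddRep ω hω (jj e (H464.Sl2.u t))) f : Es n k (-1 : 𝕜)) : W n k 𝕜) y =
      (Fintype.card K : 𝕜)⁻¹ * ∑ t : K, psK K ψ (-(t * ph e x ^ 2)) * (psK K ψ (t * ph e y ^ 2) * f.1 y) := by
    rw [LinearMap.smul_apply, LinearMap.sum_apply, Submodule.coe_smul, Pi.smul_apply, AddSubmonoidClass.coe_finsetSum,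
      Finset.sum_apply, smul_eq_mul]
    congr 1
    refine Finset.sum_congr rfl fun t _ => ?_
    rw [LinearMap.smul_apply, Submodule.coe_smul, Pi.smul_apply, oddRep_coe, smul_eq_mul, jj_u, hu, DS_apply, one_mul,
      ph_quad, psK_apply (t * ph e y ^ 2)]
  rw [h1]
  have h3 : ∀ t : K, psK K ψ (-(t * ph e x ^ 2)) * (psK K ψ (t * ph e y ^ 2) * f.1 y) =
      psK K ψ (t * (ph e y ^ 2 - ph e x ^ 2)) * f.1 y := by
    intro t
    rw [← mul_assoc, ← AddChar.map_add_eq_mul]
    congr 2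
    ring
  simp only [h3]
  rw [← Finset.sum_mul, AddChar.sum_mulShift _ (psK_prim hψ), ex_apply]
  change f.1 x * (dd x : Es n k (-1 : 𝕜)).1 y = _
  by_cases hy : y = x
  · subst hy
    rw [sub_self, if_pos rfl, ← mul_assoc, inv_mul_cancel₀ (card_K_ne e), one_mul, dd_self h2 hx, mul_one]
  · by_cases hy' : y = -x
    · subst hy'
      rw [ph_neg, neg_sq, sub_self, if_pos rfl, ← mul_assoc, inv_mul_cancel₀ (card_K_ne e), one_mul, odd_neg, odd_neg,
        dd_self h2 hx]
      ring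
    · rw [dd_ne hy hy', mul_zero, if_neg, Nat.cast_zero, zero_mul, mul_zero]
      intro h
      have h4 : (ph e y - ph e x) * (ph e y + ph e x) = 0 := by linear_combination h
      rcases mul_eq_zero.1 h4 with h5 | h5
      · exact hy (ph_injective e (sub_eq_zero.1 h5))
      · apply hy'
        apply ph_injective e
        rw [ph_neg]
        exact eq_neg_of_add_eq_zero_left h5

/-- **Lemma B.** -/
theorem ex_ex (h2 : (2 : k) ≠ 0) (hm : ∀ h, ∃ c : 𝕜, c ≠ 0 ∧ ∀ f, ω (mm h) f = c • LH h f) {x z : Fin n → k}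
    (hx : x ≠ 0) (hz : z ≠ 0) : ∃ (c : 𝕜) (a : Kˣ), c ≠ 0 ∧ ∀ f : Es n k (-1 : 𝕜),
      (ex x * oddRep ω hω (jj e (H464.Sl2.t a)) * ex z : Module.End 𝕜 (Es n k (-1 : 𝕜))) f = (f.1 z * c) • dd x := by
  have hpx := ph_ne e hx
  have hpz := ph_ne e hz
  obtain ⟨c, hc, hcf⟩ := hm (Mu e (Units.mk0 (ph e z / ph e x) (div_ne_zero hpz hpx)))
  refine ⟨c, Units.mk0 (ph e z / ph e x) (div_ne_zero hpz hpx), hc, fun f => ?_⟩
  rw [Module.End.mul_apply, Module.End.mul_apply, ex_apply, ex_apply, oddRep_coe, Submodule.coe_smul, map_smul, jj_t, hcf,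
    Pi.smul_apply, Pi.smul_apply, LH_apply]
  have h1 : x ᵥ* ((Mu e (Units.mk0 (ph e z / ph e x) (div_ne_zero hpz hpx)) : GL (Fin n) k) : Matrix (Fin n) (Fin n) k) = z := by
    apply ph_injective e
    change ph e (x ᵥ* M e (ph e z / ph e x)) = _
    rw [ph_vecMul, div_mul_cancel₀ _ hpx]
  rw [h1, dd_self h2 hz, smul_eq_mul, smul_eq_mul, mul_one]

/-- **The odd half restricted to `SL₂(K)` spans.** -/
theorem span_odd (hψ : ψ.IsPrimitive) (h2 : (2 : k) ≠ 0) (hu : ∀ S f, ω (uu S) f = DS ψ 1 S f)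
    (hm : ∀ h, ∃ c : 𝕜, c ≠ 0 ∧ ∀ f, ω (mm h) f = c • LH h f) :
    Submodule.span 𝕜 (Set.range ((oddRep ω hω).comp (jj e))) = ⊤ := by
  classical
  set R : SpecialLinearGroup (Fin 2) K →* Module.End 𝕜 (Es n k (-1 : 𝕜)) := (oddRep ω hω).comp (jj e) with hR
  have hA : Submodule.span 𝕜 (Set.range R) = Subalgebra.toSubmodule (Algebra.adjoin 𝕜 (Set.range R)) := by
    rw [Algebra.adjoin_eq_span]
    congr 1
    have h3 : Set.range R = (MonoidHom.mrange R : Set _) := rfl
    rw [h3, Submonoid.closure_eq]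
  rw [hA, eq_top_iff]
  intro T _
  change T ∈ Algebra.adjoin 𝕜 (Set.range R)
  have hmem : ∀ g, R g ∈ Algebra.adjoin 𝕜 (Set.range R) := fun g => Algebra.subset_adjoin ⟨g, rfl⟩
  have hex : ∀ x : Fin n → k, ex x ∈ Algebra.adjoin 𝕜 (Set.range R) := by
    intro x
    by_cases hx : x = 0
    · have h4 : (ex x : Module.End 𝕜 (Es n k (-1 : 𝕜))) = 0 := by
        apply LinearMap.ext
        intro f
        rw [ex_apply, hx, odd_zero, zero_smul]
        rfl
      rw [h4]
      exact zero_mem _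
    · rw [ex_eq e hω hψ h2 hu hx]
      exact Subalgebra.smul_mem _ (sum_mem fun t _ => Subalgebra.smul_mem _ (hmem _) _) _
  have h4 : ((2 : 𝕜) * 2) ≠ 0 := mul_ne_zero hk2.out hk2.out
  have hT : ((2 : 𝕜) * 2) • T = ∑ x, ∑ z, ex x * T * ex z := by
    have h5 : ∑ x, ∑ z, ex x * T * ex z = (∑ x, ex x) * T * ∑ z, ex z := by
      rw [Finset.sum_mul, Finset.sum_mul]
      refine Finset.sum_congr rfl fun x _ => ?_
      rw [Finset.mul_sum]
    rw [h5, sum_ex, smul_mul_assoc, one_mul, smul_mul_smul_comm, mul_one]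
  have hsum : ((2 : 𝕜) * 2) • T ∈ Algebra.adjoin 𝕜 (Set.range R) := by
    rw [hT]
    refine sum_mem fun x _ => sum_mem fun z _ => ?_
    by_cases hx : x = 0
    · have h6 : (ex x * T * ex z : Module.End 𝕜 (Es n k (-1 : 𝕜))) = 0 := by
        apply LinearMap.ext
        intro f
        rw [Module.End.mul_apply, Module.End.mul_apply, ex_apply x, hx, odd_zero, zero_smul]
        rfl
      rw [h6]
      exact zero_mem _
    by_cases hz : z = 0
    · have h6 : (ex x * T * ex z : Module.End 𝕜 (Es n k (-1 : 𝕜))) = 0 := by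
        apply LinearMap.ext
        intro f
        rw [Module.End.mul_apply, Module.End.mul_apply, ex_apply z, hz, odd_zero, zero_smul, map_zero, map_zero]
        rfl
      rw [h6]
      exact zero_mem _
    obtain ⟨c, a, hc, hca⟩ := ex_ex e hω h2 hm hx hz
    have h7 : ex x * T * ex z = ((T (dd z)).1 x / c) • (ex x * R (H464.Sl2.t a) * ex z) := by
      apply LinearMap.ext
      intro f
      rw [LinearMap.smul_apply]
      have h8 : (ex x * R (H464.Sl2.t a) * ex z : Module.End 𝕜 (Es n k (-1 : 𝕜))) f = (f.1 z * c) • dd x := hca f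
      rw [h8, Module.End.mul_apply, Module.End.mul_apply, ex_apply, ex_apply, map_smul, Submodule.coe_smul, Pi.smul_apply,
        smul_smul, smul_eq_mul]
      congr 1
      field_simp
    rw [h7]
    exact Subalgebra.smul_mem _ (mul_mem (mul_mem (hex x) (hmem _)) (hex z)) _
  have h9 := Subalgebra.smul_mem _ hsum ((2 : 𝕜) * 2)⁻¹
  rwa [smul_smul, inv_mul_cancel₀ h4, one_smul] at h9

end sl

end Cfsg.Agent.H434.K2

private theorem dce_e56c9dfd9198 : _root_.True := by
  try have : _root_.True := by simp only [_root_.Cfsg.Agent.H434.K2.dd.congr_simp]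
  try have : _root_.True := by simp only [_root_.Cfsg.Agent.H434.K2.ex.congr_simp]
  exact _root_.True.intro
end

-- part: H931/K1Co
section
set_option linter.all false
open scoped Cfsg.Agent.FastGrp

/-- decoders of the packed data (elaboration time only) -/
private noncomputable def pk61d (b S i : Nat) : Nat := Nat.mod (Nat.shiftRight S (Nat.mul b i)) (Nat.shiftLeft (nat_lit 1) b)
private noncomputable def pk61c {α : Type} (t : Nat) (a : α) (f : Nat → α) : α := Nat.rec a (fun k _ => f k) t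
private noncomputable def pk61f {α : Type} (t : Nat) (f : Nat → α) : α := Nat.rec (f Nat.zero) (fun k _ => f (Nat.succ k)) t
private noncomputable def pk61z (t : Nat) : Int := pk61f t fun t =>
  pk61c (Nat.mod t (nat_lit 2)) (Int.ofNat (Nat.div t (nat_lit 2))) fun _ => Int.negSucc (Nat.div t (nat_lit 2))
private noncomputable def pk61l {α : Type} (f : Nat → α) (s e : Nat) (tl : List α) : List α :=
  pk61f e fun e => Nat.rec tl (fun k ih => List.cons (pk61f (Nat.sub e (Nat.succ k)) f) ih) (Nat.sub e s)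

/-!
# `2.G₂(4)` in `Co₀` (helper931)

Six elements `e 0, …, e 5` of `Co₀` which satisfy the relators `R6` of `G₂(4)` up to sign, commute with
`I = e 8`, `J = e 9` (`I² = J² = -1`, `I J = - J I`), and an element `e 6` with inverse `e 7` which induces an
outer automorphism of `⟨e 0, …, e 5⟩` and maps `I` to `-I`, `J` to `-I J`.
-/

set_option autoImplicit false
set_option Elab.async false

namespace Cfsg.Agent.H931.K1Co

open Cfsg Cfsg.Agent.SporadicA Cfsg.Agent.SporadicStructure.Co0Matrix Cfsg.Agent.CoOneType.CoEval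
  Cfsg.Agent.CoOneType Cfsg.Agent.SporRec

/-- Rows of `c0` (times 8). -/
def c0R : List (List ℤ) :=
  (by
  refine (?fq9001 : ((pk61l (fun i1 => (pk61l (fun i2 => (pk61z (pk61d (nat_lit 4) 
    (nat_lit 0xc430) (pk61d (nat_lit 2) 
    (nat_lit 0x829216a144163404800822401c048008224082611652482681a22591482542a215624429140c8008224081a22a62842628084004138041922652481a41521aa2482582522a51442981911992442a81621961481a2808400c11804262299244164152155184262808400431804291296148262808c00411801404800822c042a21a91882a416126a1442a825225a2882a) i2)))) (Nat.mul (nat_lit 24) i1) (Nat.mul (nat_lit 24) (Nat.succ i1)) List.nil)) (nat_lit 0) (nat_lit 24) List.nil) : List (List ℤ))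
    = ?xq9001 → (List (List ℤ))) ?hq9001; (case hq9001 => (set_option maxRecDepth 1000000 in conv => lhs; reduce)); intro _; exact ?xq9001 : List (List ℤ))

/-- Columns of `c0` (times 8). -/
def c0C : List (List ℤ) := c0R

theorem ok_c0 : Ok c0R c0C := Cfsg.Agent.Co0Q.ok_of (by decide +kernel)

/-- Rows of `c1` (times 8). -/
def c1R : List (List ℤ) :=
  (by
  refine (?fq9002 : ((pk61l (fun i1 => (pk61l (fun i2 => (pk61z (pk61d (nat_lit 4) 
    (nat_lit 0x700000080003040030043443070000000073040030033334007000000003730030044333000700000003030047033433000070000003040040834343000007000004037030033343000000708003030030034444800000070003040030043443000000807003030030034444000000000704040830034433070000000074030040044443333334333440403404300000007000000004740040033444443343343430404404400000000007000003047040044434000000000804040730034433333443333340404303400000000700000004040037044344000080000003040040734343434333343340304304300000334343434440304404400000433433444440404403300000433344444340403304400000343333434330404304300000)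 i2))) (Nat.mul (nat_lit 24) i1) (Nat.mul (nat_lit 24) (Nat.succ i1)) List.nil)) (nat_lit 0) (nat_lit 24) List.nil) : List (List ℤ))
    = ?xq9002 → (List (List ℤ))) ?hq9002; (case hq9002 => (set_option maxRecDepth 1000000 in conv => lhs; reduce)); intro _; exact ?xq9002 : List (List ℤ))

/-- Columns of `c1` (times 8). -/
def c1C : List (List ℤ) := c1R

theorem ok_c1 : Ok c1R c1C := Cfsg.Agent.Co0Q.ok_of (by decide +kernel)

/-- Rows of `c2` (times 8). -/
def c2R : List (List ℤ) :=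
  (by
  refine (?fq9003 : ((pk61l (fun i1 => (pk61l (fun i2 => (pk61z (pk61d (nat_lit 4) 
    (nat_lit 0xb430) (pk61d (nat_lit 2) 
    (nat_lit 0xc8009080068012560a1aa0268800908006c02169061a602a116a05199025129a052a502a12a5051a601521a5092a90268800d08006804400704009402156062a5015225509195029880090c0068011660916501a22aa0a165025226a09296016219605156026225905169016440060400d408800908007808c009080068022a60619901a12650625502622660526a029) i2)))) (Nat.mul (nat_lit 24) i1) (Nat.mul (nat_lit 24) (Nat.succ i1)) List.nil)) (nat_lit 0) (nat_lit 24) List.nil) : List (List ℤ))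
    = ?xq9003 → (List (List ℤ))) ?hq9003; (case hq9003 => (set_option maxRecDepth 1000000 in conv => lhs; reduce)); intro _; exact ?xq9003 : List (List ℤ))

/-- Columns of `c2` (times 8). -/
def c2C : List (List ℤ) := c2R

theorem ok_c2 : Ok c2R c2C := Cfsg.Agent.Co0Q.ok_of (by decide +kernel)

/-- Rows of `c3` (times 8). -/
def c3R : List (List ℤ) :=
  (by
  refine (?fq9004 : ((pk61l (fun i1 => (pk61l (fun i2 => (pk61z (pk61d (nat_lit 4) 
    (nat_lit 0x43007300004303400000804300334043330030044333440400333043340040034433330044070400804303300000003044800480003403400000004834000400004304400000084400333044330030043344330033070300803404400000004044000300083304300700004044700470003403400000004043000407003304400008003300343044440030044434340400434034340030044434430043000400004404307070004400443033430030044333330300433034330040034334340034000300003303407070003033000400003383380000004043000408003304400007003044000300004484480000003044000300073304300800004734000400004304400000074034007400003404300000803300433033340030043443340)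 i2))) (Nat.mul (nat_lit 24) i1) (Nat.mul (nat_lit 24) (Nat.succ i1)) List.nil)) (nat_lit 0) (nat_lit 24) List.nil) : List (List ℤ))
    = ?xq9004 → (List (List ℤ))) ?hq9004; (case hq9004 => (set_option maxRecDepth 1000000 in conv => lhs; reduce)); intro _; exact ?xq9004 : List (List ℤ))

/-- Columns of `c3` (times 8). -/
def c3C : List (List ℤ) :=
  (by
  refine (?fq9005 : ((pk61l (fun i1 => (pk61l (fun i2 => (pk61z (pk61d (nat_lit 4) 
    (nat_lit 0x34008400003404300000703400443034440040033444330300444034430030043344440033080300703404400000004033700370004304300000003743000300003403300000073300444033440040034433440044080400704303300000003033000400074403400800003033800380004304300000003034000308004403300007004400434033330040033343430300343043430040033343340034000300003303408080003300334044340040033444440400344043440030043443430043000400004404308080004044000300004474470000003034000307004403300008004033000400003373370000004033000400084403400700003843000300003403300000083043008300004303400000704400344044430040034334430)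 i2))) (Nat.mul (nat_lit 24) i1) (Nat.mul (nat_lit 24) (Nat.succ i1)) List.nil)) (nat_lit 0) (nat_lit 24) List.nil) : List (List ℤ))
    = ?xq9005 → (List (List ℤ))) ?hq9005; (case hq9005 => (set_option maxRecDepth 1000000 in conv => lhs; reduce)); intro _; exact ?xq9005 : List (List ℤ))

theorem ok_c3 : Ok c3R c3C := Cfsg.Agent.Co0Q.ok_of (by decide +kernel)

/-- Rows of `c4` (times 8). -/
def c4R : List (List ℤ) :=
  (by
  refine (?fq9006 : ((pk61l (fun i1 => (pk61l (fun i2 => (pk61z (pk61d (nat_lit 4) 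
    (nat_lit 0x3003304400333400743004003004403300333408033003440337030044000034400340004003403470333300044003004003484300443400043003438440030044000044300440430330030733000043300340004074403400434400043004340430040043000744300340340340830043000033300440003803403300344400044004003003404400434480034003440430030043007043400430440430040034000033370440440440030033800034300330330430038033000034400440004003303407344400033003073003403400443300033004803004404400344300043003340330030034080044300430440340040033000044400448004003404300334300033074003003303300434300043803340440030034000043407340) i2))) (Nat.mul (nat_lit 24) i1) (Nat.mul (nat_lit 24) (Nat.succ i1)) List.nil)) (nat_lit 0) (nat_lit 24) List.nil) : List (List ℤ))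
    = ?xq9006 → (List (List ℤ))) ?hq9006; (case hq9006 => (set_option maxRecDepth 1000000 in conv => lhs; reduce)); intro _; exact ?xq9006 : List (List ℤ))

/-- Columns of `c4` (times 8). -/
def c4C : List (List ℤ) :=
  (by
  refine (?fq9007 : ((pk61l (fun i1 => (pk61l (fun i2 => (pk61z (pk61d (nat_lit 4) 
    (nat_lit 0x4004403300444300834003004003304400444307044004330448040033000043300430003004304380444400033004003004373400334300034004347330040033000033400330340440040844000034400430003083304300343300034003430340030034000833400430430430740034000044400330004704304400433300033003004004303300343370043004330340040034008034300340330340030043000044480330330330040044700043400440440340047044000043300330003004404308433300044004084004304300334400044003704003303300433400034004430440040043070033400340330430030044000033300337003004303400443400044083004004404400343400034704430330040043000034308430) i2))) (Nat.mul (nat_lit 24) i1) (Nat.mul (nat_lit 24) (Nat.succ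 i1)) List.nil)) (nat_lit 0) (nat_lit 24) List.nil) : List (List ℤ))
    = ?xq9007 → (List (List ℤ))) ?hq9007; (case hq9007 => (set_option maxRecDepth 1000000 in conv => lhs; reduce)); intro _; exact ?xq9007 : List (List ℤ))

theorem ok_c4 : Ok c4R c4C := Cfsg.Agent.Co0Q.ok_of (by decide +kernel)

/-- Rows of `c5` (times 8). -/
def c5R : List (List ℤ) :=
  (by
  refine (?fq9008 : ((pk61l (fun i1 => (pk61l (fun i2 => (pk61z (pk61d (nat_lit 4) 
    (nat_lit 0x30403043304440030333334373030300040004404008000030304034303440030343343403730400030003404000008030304043403430030433433304047400037004404000000030404044303340040443434403040470040004403000070304030407040003403080000303040300730073403000000040303044304440030444433403037300047003303000000404040300040703474000000404030400740074304000000040304043303340040334333040404044403430030344334303030400030704373000000040404033303440030434444303040400040003304700800304030408040003403070000383030300040004404007000303040400040003304800700304030370030003304000070403830400030003404000007)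 i2))) (Nat.mul (nat_lit 24) i1) (Nat.mul (nat_lit 24) (Nat.succ i1)) List.nil)) (nat_lit 0) (nat_lit 24) List.nil) : List (List ℤ))
    = ?xq9008 → (List (List ℤ))) ?hq9008; (case hq9008 => (set_option maxRecDepth 1000000 in conv => lhs; reduce)); intro _; exact ?xq9008 : List (List ℤ))

/-- Columns of `c5` (times 8). -/
def c5C : List (List ℤ) := c5R

theorem ok_c5 : Ok c5R c5C := Cfsg.Agent.Co0Q.ok_of (by decide +kernel)

/-- Rows of `n` (times 8). -/
def nR : List (List ℤ) :=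
  (by
  refine (?fq9009 : ((pk61l (fun i1 => (pk61l (fun i2 => (pk61z (pk61d (nat_lit 4) 
    (nat_lit 0x33004303400030304030448033003473400040303030330043074304400040303040430044803404400040304030440033003304470040404040340043003304300030374030330300340040033404740303003400340038044403040303004400430040043404040403704300337040043303040304004400330030043304030303083034004404400730304040330034004304300040303038340300330030044404048404003407440040044304040304003300440030043404030384004400340040843403030404003044003303408030303040340300340040044384030403004370430040044403030303003834003303300040304040430033003404300030303840440043004403300047304040340300440730043303040403003) i2))) (Nat.mul (nat_lit 24) i1) (Nat.mul (nat_lit 24) (Nat.succ i1)) List.nil)) (nat_lit 0) (nat_lit 24) List.nil) : List (List ℤ))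
    = ?xq9009 → (List (List ℤ))) ?hq9009; (case hq9009 => (set_option maxRecDepth 1000000 in conv => lhs; reduce)); intro _; exact ?xq9009 : List (List ℤ))

/-- Columns of `n` (times 8). -/
def nC : List (List ℤ) :=
  (by
  refine (?fq9010 : ((pk61l (fun i1 => (pk61l (fun i2 => (pk61z (pk61d (nat_lit 4) 
    (nat_lit 0x344340034340338003334434000003300004073340333433000004407004004330000800334330034430340004007000443330034440430004434333000704400003003340343433000004300003003447070000434430034340440003334444080004400003003430444443000004300084003330000070344440044440440004000000343330044338440003000000444337043440340003344443000003400003804340000000434340044430430073333343700003300003003330000007444430044330330004433444000004380003004340000000334330043340430804334343000004300804004440000000333430844440330003434433007003300003004430433443000083400004003440800000344430033430430003) i2))) (Nat.mul (nat_lit 24) i1) (Nat.mul (nat_lit 24) (Nat.succ i1))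 List.nil)) (nat_lit 0) (nat_lit 24) List.nil) : List (List ℤ))
    = ?xq9010 → (List (List ℤ))) ?hq9010; (case hq9010 => (set_option maxRecDepth 1000000 in conv => lhs; reduce)); intro _; exact ?xq9010 : List (List ℤ))

theorem ok_n : Ok nR nC := Cfsg.Agent.Co0Q.ok_of (by decide +kernel)

/-- The matrices. -/
def M : ℕ → List (List ℤ)
  | 0 => c0R
  | 1 => c1R
  | 2 => c2R
  | 3 => c3R
  | 4 => c4R
  | 5 => c5R
  | 6 => nR
  | 7 => nC
  | 8 => LettersB.wR
  | _ => StdG24.CoSide.jR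

/-- The letters in `Co0`. -/
def e : ℕ → Co0
  | 0 => mk ok_c0
  | 1 => mk ok_c1
  | 2 => mk ok_c2
  | 3 => mk ok_c3
  | 4 => mk ok_c4
  | 5 => mk ok_c5
  | 6 => mk ok_n
  | 7 => (mk ok_n)⁻¹
  | 8 => mk LettersB.ok_w
  | _ => mk StdG24.CoSide.ok_j

theorem hM : ∀ i, Rep (e i) (M i)
  | 0 => rep_mk ok_c0
  | 1 => rep_mk ok_c1
  | 2 => rep_mk ok_c2
  | 3 => rep_mk ok_c3
  | 4 => rep_mk ok_c4
  | 5 => rep_mk ok_c5
  | 6 => rep_mk ok_n
  | 7 => rep_inv ok_n
  | 8 => rep_mk LettersB.ok_w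
  | _ + 9 => rep_mk StdG24.CoSide.ok_j

/-- The relators of `G₂(4)` hold in `Co₁`. -/
theorem chk_R6 : (G24Rel.R6.all fun w => relB M (w.map Fin.val)) = true := by delta relB; rw [Cfsg.Agent.Co0Q.fold_eq]; decide +kernel

/-- The letters commute with `I` and `J`. -/
theorem chk_I : ((List.range 6).all fun i => oneB M [i, 8, i, i, i, 8, 8, 8]) = true := by delta oneB; rw [Cfsg.Agent.Co0Q.fold_eq]; decide +kernel
theorem chk_J : ((List.range 6).all fun i => oneB M [i, 9, i, i, i, 9, 9, 9]) = true := by delta oneB; rw [Cfsg.Agent.Co0Q.fold_eq]; decide +kernel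
/-- The fourth powers of the letters are `1`. -/
theorem chk_four : ((List.range 6).all fun i => oneB M [i, i, i, i]) = true := by delta oneB; rw [Cfsg.Agent.Co0Q.fold_eq]; decide +kernel
theorem chk_II : negB M [8, 8] = true := by delta negB; rw [Cfsg.Agent.Co0Q.fold_eq]; decide +kernel
theorem chk_JJ : negB M [9, 9] = true := by delta negB; rw [Cfsg.Agent.Co0Q.fold_eq]; decide +kernel
theorem chk_JI : negB M [9, 8, 9, 9, 9, 8, 8, 8] = true := by delta negB; rw [Cfsg.Agent.Co0Q.fold_eq]; decide +kernel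
/-- `n I n⁻¹ = - I`, `n J n⁻¹ = - I J`. -/
theorem chk_nI : oneB M [6, 8, 7, 8] = true := by delta oneB; rw [Cfsg.Agent.Co0Q.fold_eq]; decide +kernel
theorem chk_nJ : oneB M [6, 9, 7, 8, 9] = true := by delta oneB; rw [Cfsg.Agent.Co0Q.fold_eq]; decide +kernel

/-- The images of the letters under the outer automorphism, as words in the letters. -/
def aw : Fin 6 → List (Fin 6)
  | 0 => [5, 1, 0, 1, 5, 4, 2, 3, 1, 2, 3, 4, 0, 1, 0, 1, 2, 3, 2, 1, 0, 1, 0, 4, 3, 2, 1, 3, 2, 4, 1, 0, 1, 5, 0, 1, 0, 1, 0, 5, 1, 0, 1, 4, 2, 3, 1, 2, 3, 4, 0, 1, 0, 1, 2, 3, 2, 1, 0, 1, 0, 4, 3, 2, 1, 3, 2, 4, 5, 1, 0, 1, 5]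
  | 1 => [5, 1, 0, 1, 5, 4, 2, 3, 1, 2, 3, 4, 0, 1, 0, 1, 2, 3, 2, 1, 0, 1, 0, 4, 3, 2, 1, 3, 2, 4, 1, 4, 2, 3, 1, 2, 3, 4, 0, 1, 0, 1, 2, 3, 2, 1, 0, 1, 0, 4, 3, 2, 1, 3, 2, 4, 5, 1, 0, 1, 5]
  | 2 => [5, 1, 0, 1, 5, 4, 2, 3, 1, 2, 3, 4, 0, 1, 0, 1, 2, 3, 2, 1, 0, 1, 0, 4, 3, 2, 1, 3, 2, 4, 2, 3, 1, 2, 1, 0, 1, 5, 0, 1, 2, 3, 2, 3, 2, 1, 0, 5, 1, 0, 1, 2, 1, 3, 2, 5, 2, 3, 1, 2, 1, 0, 1, 5, 0, 1, 2, 3, 2, 3, 2, 1, 0, 5, 1, 0, 1, 2, 1, 3, 2, 4, 2, 3, 1, 2, 3, 4, 0, 1, 0, 1, 2, 3, 2, 1, 0, 1, 0, 4, 3, 2, 1, 3, 2, 4, 5, 1, 0, 1, 5]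
  | 3 => [5, 1, 0, 1, 5, 4, 2, 3, 1, 2, 3, 4, 0, 1, 0, 1, 2, 3, 2, 1, 0, 1, 0, 4, 3, 2, 1, 3, 2, 4, 3, 4, 2, 3, 1, 2, 3, 4, 0, 1, 0, 1, 2, 3, 2, 1, 0, 1, 0, 4, 3, 2, 1, 3, 2, 4, 5, 1, 0, 1, 5]
  | 4 => [5, 1, 0, 1, 5, 4, 2, 3, 1, 2, 3, 4, 0, 1, 0, 1, 2, 3, 2, 1, 0, 1, 0, 4, 3, 2, 1, 3, 2, 4, 4, 4, 2, 3, 1, 2, 3, 4, 0, 1, 0, 1, 2, 3, 2, 1, 0, 1, 0, 4, 3, 2, 1, 3, 2, 4, 5, 1, 0, 1, 5]
  | 5 => [5, 1, 0, 1, 5, 4, 2, 3, 1, 2, 3, 4, 0, 1, 0, 1, 2, 3, 2, 1, 0, 1, 0, 4, 3, 2, 1, 3, 2, 4, 5, 4, 2, 3, 1, 2, 3, 4, 0, 1, 0, 1, 2, 3, 2, 1, 0, 1, 0, 4, 3, 2, 1, 3, 2, 4, 5, 1, 0, 1, 5]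

theorem chk_n : ∀ i : Fin 6, sameB M [6, i.val, 7] ((aw i).map Fin.val) = true := by delta sameB; rw [Cfsg.Agent.Co0Q.fold_eq]; decide +kernel

end Cfsg.Agent.H931.K1Co
end

-- part: H920/Sz12/Kill
section
prune_inst 0x20000000000000000010000000000000
set_option linter.all false
open scoped Cfsg.Agent.FastGrp

/-!
# Overgroup kills in `Sp₁₂(3)` with `2.Suz` (helper920)

* `exists_ratio` : `P ≤ spGL` a core, `g⁻¹ P g ≤ WF`: the form transported by `g` is proportional to the standard form;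
* `kill` : `H ≤ P ⊔ scalars`, `g⁻¹ P g ≤ WF`, `|Soc P| ≠ |Suz|` ⟹ `H` is not maximal;
* `kill_two` : the same, if moreover some element of multiplier `-1` normalises `P` and `|Out (Soc P)| = 2`;
* `kill_conj` : `P = g (2.G₂(4)) g⁻¹`.
-/

set_option autoImplicit false
set_option linter.style.haveILetI false

namespace Cfsg.Agent.H920.Sz12

open Matrix Cfsg Cfsg.Geo
open Cfsg.Agent.H915.LD (Core Soc toSoc toSoc_surjective)
open Cfsg.Agent.H914 Cfsg.Agent.H914.S6

universe u

variable {F : Type u} [Field F] (f : ZMod 3 →+* F) {H P : Subgroup (GL I12 F)}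

/-- the form transported by `g` -/
def tform (g : GL I12 F) (u v : I12 → F) : F :=
  sympForm 6 F (((g⁻¹ : GL I12 F) : Matrix I12 I12 F) *ᵥ u) (((g⁻¹ : GL I12 F) : Matrix I12 I12 F) *ᵥ v)

theorem tform_bil (g : GL I12 F) : IsBilinearForm (tform g) := by
  have hb := (H924.isSymplecticForm_sympForm (m := 6) (F := F)).bilinear
  refine ⟨fun x y v => ?_, fun c x v => ?_, fun v x y => ?_, fun c v x => ?_⟩
  · unfold tform; rw [mulVec_add, hb.add_left]
  · unfold tform; rw [mulVec_smul, hb.smul_left]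
  · unfold tform; rw [mulVec_add, hb.add_right]
  · unfold tform; rw [mulVec_smul, hb.smul_right]

theorem sympForm_ne : ∃ u v : I12 → F, sympForm 6 F u v ≠ 0 := by
  have hn := (H924.isSymplecticForm_sympForm (m := 6) (F := F)).nondegenerate
  have h1 : (Pi.single (Sum.inl 0) 1 : I12 → F) ≠ 0 := by
    intro h
    have := congrFun h (Sum.inl 0)
    simp at this
  obtain ⟨x, hx⟩ := (hn _ h1).2
  exact ⟨_, x, hx⟩

theorem tform_ne (g : GL I12 F) : ∃ u v, tform g u v ≠ 0 := by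
  obtain ⟨u, v, h⟩ := sympForm_ne (F := F)
  refine ⟨(g : Matrix I12 I12 F) *ᵥ u, (g : Matrix I12 I12 F) *ᵥ v, ?_⟩
  unfold tform
  rwa [mulVec_mulVec, mulVec_mulVec, ← Units.val_mul, inv_mul_cancel, Units.val_one, one_mulVec, one_mulVec]

/-- the conjugate of the model -/
noncomputable def Wg (g : GL I12 F) : Subgroup (GL I12 F) := (WF f).map (MulAut.conj g).toMonoidHom

theorem mem_Wg {g x : GL I12 F} : x ∈ Wg f g ↔ g⁻¹ * x * g ∈ WF f := by
  constructor
  · rintro ⟨y, hy, rfl⟩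
    show g⁻¹ * (g * y * g⁻¹) * g ∈ WF f
    rwa [show g⁻¹ * (g * y * g⁻¹) * g = y by group]
  · intro h
    refine ⟨_, h, ?_⟩
    show g * (g⁻¹ * x * g) * g⁻¹ = x
    group

theorem Wg_fixes (g : GL I12 F) : FixesForm (matrixSet (Wg f g)) (tform g) := by
  rintro _ ⟨x, hx, rfl⟩ u v
  have h1 := WF_le f ((mem_Wg f).1 hx)
  rw [H931.mem_spGL_iff] at h1
  have h2 := h1 (((g⁻¹ : GL I12 F) : Matrix I12 I12 F) *ᵥ u) (((g⁻¹ : GL I12 F) : Matrix I12 I12 F) *ᵥ v)
  unfold tform
  rw [← h2, mulVec_mulVec, mulVec_mulVec, mulVec_mulVec, mulVec_mulVec, ← Units.val_mul, ← Units.val_mul,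
    show g⁻¹ * x * g * g⁻¹ = g⁻¹ * x by group]

theorem exists_ratio (hP : ActsAbsolutelyIrreducibly (matrixSet P)) (hPs : P ≤ spGL 6 F) {g : GL I12 F}
    (hg : ∀ x ∈ P, g⁻¹ * x * g ∈ WF f) : ∃ c : F, c ≠ 0 ∧ ∀ u v, tform g u v = c * sympForm 6 F u v := by
  have hs := H924.isSymplecticForm_sympForm (m := 6) (F := F)
  obtain ⟨c, hc⟩ := sesq_unique hP (IsSesq.of_bilinear hs.bilinear) hs.nondegenerate (fixes_of_le hPs)
    (IsSesq.of_bilinear (tform_bil g)) (fun s hs => by
      obtain ⟨x, hx, rfl⟩ := hs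
      exact Wg_fixes f g _ ⟨x, (mem_Wg f).2 (hg x hx), rfl⟩)
  refine ⟨c, ?_, hc⟩
  rintro rfl
  obtain ⟨u, v, h⟩ := tform_ne g
  exact h (by rw [hc, zero_mul])

theorem Wg_le (hP : ActsAbsolutelyIrreducibly (matrixSet P)) (hPs : P ≤ spGL 6 F) {g : GL I12 F}
    (hg : ∀ x ∈ P, g⁻¹ * x * g ∈ WF f) : Wg f g ≤ spGL 6 F :=
  le_spGL_of_fixes hP hPs (fun x hx => (mem_Wg f).2 (hg x hx)) (tform_bil g) (tform_ne g) (Wg_fixes f g)

section three

variable [Finite F] (hF : Nat.card F = 3)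

include hF in
theorem surj : Function.Surjective f := by
  haveI := Fintype.ofFinite F
  have hb : Function.Bijective f := by
    rw [Fintype.bijective_iff_injective_and_card]
    exact ⟨f.injective, by rw [ZMod.card, ← Nat.card_eq_fintype_card, hF]⟩
  exact hb.2

include hF in
theorem scalars_eq_map : scalars I12 F = (scalars I12 (ZMod 3)).map (Matrix.GeneralLinearGroup.map f) := by
  ext x
  constructor
  · rintro ⟨c, rfl⟩
    obtain ⟨a, ha⟩ := surj f hF (c : F)
    have ha0 : a ≠ 0 := by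
      rintro rfl
      rw [map_zero] at ha
      exact c.ne_zero ha.symm
    refine ⟨Units.map (Matrix.scalar I12 : ZMod 3 →+* Matrix I12 I12 (ZMod 3)).toMonoidHom (Units.mk0 a ha0), ⟨_, rfl⟩, ?_⟩
    apply Units.ext
    refine Matrix.ext fun i j => ?_
    show f ((Matrix.scalar I12 a) i j) = (Matrix.scalar I12 (c : F)) i j
    rw [Matrix.scalar_apply, Matrix.diagonal_apply, Matrix.scalar_apply, Matrix.diagonal_apply]
    split_ifs
    · exact ha
    · rw [map_zero]
  · rintro ⟨y, hy, rfl⟩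
    haveI : Nonempty I12 := ⟨Sum.inl 0⟩
    exact (map_mem_scalars f).2 hy

include hF in
theorem scalars_le_WF : scalars I12 F ≤ WF f := by
  rw [scalars_eq_map f hF]
  exact Subgroup.map_mono scalars_le_W

include f hF in
theorem card_scalars_F : Nat.card (scalars I12 F) = 2 := by
  rw [scalars_eq_map f hF, ← card_scalars]
  exact (Nat.card_congr ((scalars I12 (ZMod 3)).equivMapOfInjective _ (map_injective f)).toEquiv).symm

include f hF in
theorem scalars_le_spGL : scalars I12 F ≤ spGL 6 F := (scalars_le_WF f hF).trans (WF_le f)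

theorem comm_of_mem_scalars {z : GL I12 F} (hz : z ∈ scalars I12 F) (x : GL I12 F) : z * x = x * z := by
  obtain ⟨c, rfl⟩ := hz
  apply Units.ext
  show Matrix.scalar I12 (c : F) * (x : Matrix I12 I12 F) = (x : Matrix I12 I12 F) * Matrix.scalar I12 (c : F)
  exact Matrix.scalar_commute _ (fun _ => Commute.all _ _) _

include hF in
/-- **Overgroup kill.** -/
theorem kill (hH : IsMaximalIn (spGL 6 F) H) (hc : IsResidualCore H P) {g : GL I12 F}
    (hg : ∀ x ∈ P, g⁻¹ * x * g ∈ WF f) (hHP : H ≤ P ⊔ scalars I12 F) (hcard : Nat.card (Soc P) ≠ 448345497600) :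
    False := by
  have hPs : P ≤ spGL 6 F := hc.le.trans hH.1.le
  have h1 := Wg_le f hc.absIrred hPs hg
  have hPW : P ≤ Wg f g := fun x hx => (mem_Wg f).2 (hg x hx)
  have hZW : scalars I12 F ≤ Wg f g := by
    intro z hz
    rw [mem_Wg, mul_assoc, comm_of_mem_scalars hz, inv_mul_cancel_left]
    exact scalars_le_WF f hF hz
  have hcW : Nat.card (Wg f g) = 896690995200 := by
    rw [← card_WF f]
    exact (Nat.card_congr ((WF f).equivMapOfInjective _ (MulAut.conj g).injective).toEquiv).symm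
  rcases hH.2 (Wg f g) (hHP.trans (sup_le hPW hZW)) h1 with h2 | h2
  · -- `H = Wg`
    have h3 : P ⊔ scalars I12 F = Wg f g := le_antisymm (sup_le hPW hZW) (h2 ▸ hHP)
    have h4 : (scalars I12 F).relIndex (P ⊔ scalars I12 F) = (scalars I12 F).relIndex P :=
      Subgroup.relIndex_sup_right P (scalars I12 F)
    have h5 : (scalars I12 F).relIndex P = Nat.card (Soc P) := rfl
    have h6 := Subgroup.relIndex_mul_relIndex ⊥ (scalars I12 F) (P ⊔ scalars I12 F) bot_le le_sup_right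
    rw [Subgroup.relIndex_bot_left, Subgroup.relIndex_bot_left, h4, h5, card_scalars_F f hF, h3, hcW] at h6
    omega
  · rw [h2, H955.card_spGL, hF] at hcW
    norm_num [Finset.prod_range_succ] at hcW

include f hF in
/-- elements of `P ⊔ scalars` preserve the form -/
theorem form_of_mem_sup (hPs : P ≤ spGL 6 F) {x : GL I12 F} (hx : x ∈ P ⊔ scalars I12 F) (u v : I12 → F) :
    sympForm 6 F ((x : Matrix I12 I12 F) *ᵥ u) ((x : Matrix I12 I12 F) *ᵥ v) = sympForm 6 F u v :=
  H931.mem_spGL_iff.1 (sup_le hPs (scalars_le_spGL f hF) hx) u v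

include f hF in
theorem two_ne : (2 : F) ≠ 0 := by
  intro h
  have h1 : f 2 = f 0 := by rw [map_zero, ← h]; exact map_ofNat f 2
  exact absurd (f.injective h1) (by decide)

include f hF in
/-- an element of multiplier `-1` is not in `P ⊔ scalars` -/
theorem not_mem_sup (hPs : P ≤ spGL 6 F) {x : GL I12 F}
    (h : ∀ u v, sympForm 6 F ((x : Matrix I12 I12 F) *ᵥ u) ((x : Matrix I12 I12 F) *ᵥ v) = -sympForm 6 F u v) :
    x ∉ P ⊔ scalars I12 F := by
  intro hx
  obtain ⟨u, v, huv⟩ := sympForm_ne (F := F)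
  have h1 := form_of_mem_sup f hF hPs hx u v
  rw [h u v] at h1
  have h2 : (2 : F) * sympForm 6 F u v = 0 := by linear_combination -h1
  exact (mul_ne_zero (two_ne f hF) huv) h2

include hF in
/-- **Overgroup kill**, if an element of multiplier `-1` normalises `P` and `N(P) / (P ⊔ scalars)` has at most two
elements. -/
theorem kill_pair (hH : IsMaximalIn (spGL 6 F) H) (hc : IsResidualCore H P) {g n : GL I12 F}
    (hg : ∀ x ∈ P, g⁻¹ * x * g ∈ WF f)
    (hout : ∀ a b : GL I12 F, (∀ x ∈ P, a * x * a⁻¹ ∈ P) → (∀ x ∈ P, b * x * b⁻¹ ∈ P) → a ∉ P ⊔ scalars I12 F →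
      b ∉ P ⊔ scalars I12 F → a * b ∈ P ⊔ scalars I12 F)
    (hn : ∀ x ∈ P, n * x * n⁻¹ ∈ P)
    (hn' : ∀ u v, sympForm 6 F ((n : Matrix I12 I12 F) *ᵥ u) ((n : Matrix I12 I12 F) *ᵥ v) = -sympForm 6 F u v)
    (hcard : Nat.card (Soc P) ≠ 448345497600) : False := by
  have hPs : P ≤ spGL 6 F := hc.le.trans hH.1.le
  refine kill f hF hH hc hg (fun h hh => ?_) hcard
  by_contra hcon
  have h1 := hout h n (hc.normal h hh) hn hcon (not_mem_sup f hF hPs hn')
  refine not_mem_sup f hF hPs (x := h * n) (fun u v => ?_) h1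
  have h2 := H931.mem_spGL_iff.1 (hH.1.le hh)
  rw [Units.val_mul, ← mulVec_mulVec, ← mulVec_mulVec, h2, hn']

include hF in
/-- the same if `Soc P` has two outer classes -/
theorem kill_two (hH : IsMaximalIn (spGL 6 F) H) (hc : IsResidualCore H P) {g n : GL I12 F}
    (hg : ∀ x ∈ P, g⁻¹ * x * g ∈ WF f) (hout : Nat.card (Out (Soc P)) = 2) (hn : ∀ x ∈ P, n * x * n⁻¹ ∈ P)
    (hn' : ∀ u v, sympForm 6 F ((n : Matrix I12 I12 F) *ᵥ u) ((n : Matrix I12 I12 F) *ᵥ v) = -sympForm 6 F u v)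
    (hcard : Nat.card (Soc P) ≠ 448345497600) : False :=
  kill_pair f hF hH hc hg (fun _ _ ha hb ha' hb' => mul_mem_of_out (H915.LD.core_of_residual hc) hout ha hb ha' hb')
    hn hn' hcard

include hF in
/-- the kill for conjugates of `2.G₂(4)` -/
theorem kill_conj (hH : IsMaximalIn (spGL 6 F) H) (hc : IsResidualCore H P) {g : GL I12 F}
    (hP : P = (PF f).map (MulAut.conj g).toMonoidHom) (hout : Nat.card (Out (Soc P)) = 2)
    (hcard : Nat.card (Soc P) ≠ 448345497600) : False := by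
  have hPs : P ≤ spGL 6 F := hc.le.trans hH.1.le
  have hg' : ∀ x ∈ P, g⁻¹ * x * g ∈ PF f := by
    intro x hx
    rw [hP] at hx
    obtain ⟨y, hy, rfl⟩ := hx
    show g⁻¹ * (g * y * g⁻¹) * g ∈ PF f
    rwa [show g⁻¹ * (g * y * g⁻¹) * g = y by group]
  have hg : ∀ x ∈ P, g⁻¹ * x * g ∈ WF f := fun x hx => PF_le f (hg' x hx)
  obtain ⟨c, hc0, hcf⟩ := exists_ratio f hc.absIrred hPs hg
  refine kill_two f hF hH hc hg (n := g * GF f 7 * g⁻¹) hout ?_ ?_ hcard
  · intro x hx
    rw [hP]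
    refine ⟨_, norm_PF f (hg' x hx), ?_⟩
    show g * (GF f 7 * (g⁻¹ * x * g) * (GF f 7)⁻¹) * g⁻¹ = g * GF f 7 * g⁻¹ * x * (g * GF f 7 * g⁻¹)⁻¹
    group
  · intro u v
    apply mul_left_cancel₀ hc0
    rw [← hcf, mul_neg, ← hcf]
    unfold tform
    rw [mulVec_mulVec, mulVec_mulVec, ← Units.val_mul, show g⁻¹ * (g * GF f 7 * g⁻¹) = GF f 7 * g⁻¹ by group,
      Units.val_mul, ← mulVec_mulVec, ← mulVec_mulVec, GF_seven]

end three

end Cfsg.Agent.H920.Sz12
end

-- part: H931/K1Quat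
section
prune_inst 0x301005002442000000188510122000006800002200430800a08008040101c060a0802e41a310010492b00c5120010040011001a0420000000a000000011d00000800000021400100220010800000000000000000020000000000000000010000000000000
set_option linter.all false
open scoped Cfsg.Agent.FastGrp

/-!
# Matrices commuting with a quaternion algebra (helper931)

`I² = J² = -1`, `J I = - I J` are square matrices of size `2 m` over a field of characteristic not 2 in which
`a² + b² = -1`. The centraliser of `I, J` acts on the `m`-dimensional eigenspace of `a I + b J` for the eigenvalue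
one: `rW`. If `I, J` are orthogonal, the isometries in the centraliser preserve an alternating form `Bf`.
-/

set_option autoImplicit false
set_option linter.unusedSectionVars false

namespace Cfsg.Agent.H931.K1Quat

open Matrix

variable {F : Type*} [Field F] {α ι : Type*} [Fintype α] [DecidableEq α] [Fintype ι] [DecidableEq ι]

/-- the quaternion relations -/
structure Quat (I J : Matrix α α F) : Prop where
  II : I * I = -1
  JJ : J * J = -1
  JI : J * I = -(I * J)

variable {I J : Matrix α α F} {a b : F}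

/-- the matrix `a I + b J` -/
def Em (I J : Matrix α α F) (a b : F) : Matrix α α F := a • I + b • J
/-- the matrix `b I - a J` -/
def Um (I J : Matrix α α F) (a b : F) : Matrix α α F := b • I - a • J
/-- the idempotent -/
def Pm (I J : Matrix α α F) (a b : F) : Matrix α α F := (2 : F)⁻¹ • (1 + Em I J a b)

theorem Em_sq (hQ : Quat I J) (hab : a * a + b * b = -1) : Em I J a b * Em I J a b = 1 := by
  unfold Em
  rw [add_mul, mul_add, mul_add]
  simp only [smul_mul_smul_comm]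
  rw [hQ.II, hQ.JJ, hQ.JI]
  have h1 : (a * a) • (-1 : Matrix α α F) + (a * b) • (I * J) + ((b * a) • (-(I * J)) + (b * b) • (-1 : Matrix α α F)) =
      (-(a * a + b * b)) • (1 : Matrix α α F) := by
    rw [mul_comm b a]
    module
  rw [h1, hab, neg_neg, one_smul]

theorem Um_sq (hQ : Quat I J) (hab : a * a + b * b = -1) : Um I J a b * Um I J a b = 1 := by
  unfold Um
  rw [sub_mul, mul_sub, mul_sub]
  simp only [smul_mul_smul_comm]
  rw [hQ.II, hQ.JJ, hQ.JI]
  have h1 : (b * b) • (-1 : Matrix α α F) - (b * a) • (I * J) - ((a * b) • (-(I * J)) - (a * a) • (-1 : Matrix α α F)) =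
      (-(a * a + b * b)) • (1 : Matrix α α F) := by
    rw [mul_comm b a]
    module
  rw [h1, hab, neg_neg, one_smul]

theorem Um_Em (hQ : Quat I J) : Um I J a b * Em I J a b = -(Em I J a b * Um I J a b) := by
  unfold Um Em
  rw [sub_mul, mul_add, mul_add, add_mul, mul_sub, mul_sub]
  simp only [smul_mul_smul_comm]
  rw [hQ.II, hQ.JJ, hQ.JI]
  module

theorem Pm_sq (h2 : (2 : F) ≠ 0) (hQ : Quat I J) (hab : a * a + b * b = -1) :
    Pm I J a b * Pm I J a b = Pm I J a b := by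
  unfold Pm
  rw [smul_mul_smul_comm, add_mul, mul_add, mul_add, Em_sq hQ hab, one_mul, mul_one, one_mul]
  have h3 : (1 : Matrix α α F) + Em I J a b + (Em I J a b + 1) = (2 : F) • (1 + Em I J a b) := by
    module
  rw [h3, smul_smul]
  congr 1
  field_simp

theorem Um_Pm (hQ : Quat I J) :
    Um I J a b * Pm I J a b = (2 : F)⁻¹ • (1 - Em I J a b) * Um I J a b := by
  unfold Pm
  rw [mul_smul_comm, mul_add, mul_one, Um_Em hQ, smul_mul_assoc, sub_mul, one_mul]
  congr 1
  abel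

theorem one_sub_Pm (h2 : (2 : F) ≠ 0) : 1 - Pm I J a b = (2 : F)⁻¹ • (1 - Em I J a b) := by
  unfold Pm
  rw [smul_sub, smul_add]
  have h : (1 : Matrix α α F) = (2 : F)⁻¹ • 1 + (2 : F)⁻¹ • 1 := by
    rw [← add_smul]
    have : (2 : F)⁻¹ + (2 : F)⁻¹ = 1 := by field_simp; norm_num
    rw [this, one_smul]
  nth_rewrite 1 [h]
  abel

theorem Um_Pm' (h2 : (2 : F) ≠ 0) (hQ : Quat I J) :
    Um I J a b * Pm I J a b = (1 - Pm I J a b) * Um I J a b := by
  rw [one_sub_Pm h2, Um_Pm hQ]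

/-- the image of the idempotent has half of the dimension -/
theorem finrank_range (h2 : (2 : F) ≠ 0) (hQ : Quat I J) (hab : a * a + b * b = -1) :
    2 * Module.finrank F (LinearMap.range (Matrix.toLin' (Pm I J a b))) = Fintype.card α := by
  set P := Matrix.toLin' (Pm I J a b) with hP
  set U := Matrix.toLin' (Um I J a b) with hU
  have hUU : ∀ x, U (U x) = x := by
    intro x
    rw [hU, Matrix.toLin'_apply, Matrix.toLin'_apply, Matrix.mulVec_mulVec, Um_sq hQ hab, Matrix.one_mulVec]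
  have hPP : ∀ x, P (P x) = P x := by
    intro x
    rw [hP, Matrix.toLin'_apply, Matrix.toLin'_apply, Matrix.mulVec_mulVec, Pm_sq h2 hQ hab]
  have hUP : ∀ x, U (P x) = U x - P (U x) := by
    intro x
    rw [hP, hU, Matrix.toLin'_apply, Matrix.toLin'_apply, Matrix.toLin'_apply, Matrix.toLin'_apply,
      Matrix.mulVec_mulVec, Um_Pm' h2 hQ, ← Matrix.mulVec_mulVec, Matrix.sub_mulVec, Matrix.one_mulVec]
  let e : (α → F) ≃ₗ[F] (α → F) := LinearEquiv.ofInvolutive U hUU
  have hker : LinearMap.ker P = (LinearMap.range P).map (e : (α → F) →ₗ[F] (α → F)) := by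
    ext x
    rw [LinearMap.mem_ker, Submodule.mem_map]
    constructor
    · intro hx
      refine ⟨U x, ⟨U x, ?_⟩, hUU x⟩
      have h1 := hUP (U x)
      have h3 := congrArg U (hUP x)
      rw [hUU, map_sub, hUU] at h3
      -- `P x = x - U P U x`
      rw [hx] at h3
      have h4 : U (P (U x)) = x := by
        have := sub_eq_zero.1 h3.symm
        exact this.symm
      rw [← hUU (P (U x)), h4]
    · rintro ⟨y, ⟨z, rfl⟩, rfl⟩
      show P (U (P z)) = 0
      rw [hUP, map_sub, hPP, sub_self]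
  have h3 := LinearMap.finrank_range_add_finrank_ker P
  rw [hker, LinearEquiv.finrank_map_eq, Module.finrank_fintype_fun_eq_card] at h3
  omega

/-- factorisation of the idempotent -/
theorem exists_factor (h2 : (2 : F) ≠ 0) (hQ : Quat I J) (hab : a * a + b * b = -1)
    (hι : 2 * Fintype.card ι = Fintype.card α) :
    ∃ (T : Matrix α ι F) (R : Matrix ι α F), R * T = 1 ∧ T * R = Pm I J a b := by
  set P := Pm I J a b with hP
  have hf := finrank_range h2 hQ hab
  rw [← hP] at hf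
  have hd : Module.finrank F (LinearMap.range (Matrix.toLin' P)) = Fintype.card ι := by omega
  let B : Module.Basis ι F (LinearMap.range (Matrix.toLin' P)) :=
    (Module.finBasisOfFinrankEq F _ hd).reindex (Fintype.equivFin ι).symm
  let pr : (α → F) →ₗ[F] LinearMap.range (Matrix.toLin' P) := (Matrix.toLin' P).rangeRestrict
  have hpr : ∀ w : LinearMap.range (Matrix.toLin' P), pr (w : α → F) = w := by
    rintro ⟨_, z, rfl⟩
    apply Subtype.ext
    show (Matrix.toLin' P) ((Matrix.toLin' P) z) = (Matrix.toLin' P) z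
    rw [Matrix.toLin'_apply, Matrix.toLin'_apply, Matrix.mulVec_mulVec, Pm_sq h2 hQ hab]
  refine ⟨Matrix.of fun i k => (B k : α → F) i, Matrix.of fun k j => B.repr (pr (Pi.single j 1)) k, ?_, ?_⟩
  · ext k l
    rw [Matrix.mul_apply]
    have h1 : ∀ x : α → F, ∑ j, B.repr (pr (Pi.single j 1)) k * x j = B.repr (pr x) k := by
      intro x
      have h3 : x = ∑ j, x j • (Pi.single j 1 : α → F) := by
        funext i
        simp [Finset.sum_apply, Pi.single_apply]
      conv_rhs => rw [h3]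
      rw [map_sum, map_sum, Finsupp.finsetSum_apply]
      apply Finset.sum_congr rfl
      intro j _
      rw [map_smul, map_smul, Finsupp.smul_apply, smul_eq_mul, mul_comm]
    have h3 := h1 (B l : α → F)
    rw [hpr, Module.Basis.repr_self] at h3
    simp only [Matrix.of_apply]
    rw [h3, Finsupp.single_apply, Matrix.one_apply]
    simp only [eq_comm]
  · ext i j
    rw [Matrix.mul_apply]
    simp only [Matrix.of_apply]
    have h1 := congrArg (fun w : LinearMap.range (Matrix.toLin' P) => (w : α → F) i)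
      (B.sum_repr (pr (Pi.single j 1)))
    simp only [Submodule.coe_sum, Submodule.coe_smul, Finset.sum_apply, Pi.smul_apply, smul_eq_mul] at h1
    rw [show ∑ k, (B k : α → F) i * B.repr (pr (Pi.single j 1)) k =
      ∑ k, B.repr (pr (Pi.single j 1)) k * (B k : α → F) i from
        Finset.sum_congr rfl fun k _ => mul_comm _ _, h1]
    show (Matrix.toLin' P (Pi.single j 1)) i = P i j
    rw [Matrix.toLin'_apply, Matrix.mulVec_single_one]
    rfl

/-- the centraliser of the quaternion algebra -/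
def Z (I J : Matrix α α F) : Subgroup (GL α F) where
  carrier := {m | (m : Matrix α α F) * I = I * m ∧ (m : Matrix α α F) * J = J * m}
  one_mem' := by
    refine ⟨?_, ?_⟩ <;> rw [Units.val_one, one_mul, mul_one]
  mul_mem' := by
    rintro x y ⟨hx1, hx2⟩ ⟨hy1, hy2⟩
    refine ⟨?_, ?_⟩
    · rw [Units.val_mul, mul_assoc, hy1, ← mul_assoc, hx1, mul_assoc]
    · rw [Units.val_mul, mul_assoc, hy2, ← mul_assoc, hx2, mul_assoc]
  inv_mem' := by
    rintro x ⟨hx1, hx2⟩
    refine ⟨?_, ?_⟩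
    · rw [Units.inv_mul_eq_iff_eq_mul, ← mul_assoc, hx1, mul_assoc, Units.mul_inv, mul_one]
    · rw [Units.inv_mul_eq_iff_eq_mul, ← mul_assoc, hx2, mul_assoc, Units.mul_inv, mul_one]

theorem comm_Pm {m : Matrix α α F} (h1 : m * I = I * m) (h2 : m * J = J * m) :
    m * Pm I J a b = Pm I J a b * m := by
  unfold Pm Em
  rw [mul_smul_comm, smul_mul_assoc, mul_add, add_mul, mul_add, add_mul, mul_smul_comm, mul_smul_comm,
    smul_mul_assoc, smul_mul_assoc, h1, h2, mul_one, one_mul]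

theorem comm_Um {m : Matrix α α F} (h1 : m * I = I * m) (h2 : m * J = J * m) :
    m * Um I J a b = Um I J a b * m := by
  unfold Um
  rw [mul_sub, sub_mul, mul_smul_comm, mul_smul_comm, smul_mul_assoc, smul_mul_assoc, h1, h2]

variable {T : Matrix α ι F} {R : Matrix ι α F}

theorem T_r (hTR : T * R = Pm I J a b) (hRT : R * T = 1) {m : Matrix α α F} (h1 : m * I = I * m)
    (h2 : m * J = J * m) : T * (R * m * T) = m * T := by
  have h3 : Pm I J a b * T = T := by rw [← hTR, Matrix.mul_assoc, hRT, Matrix.mul_one]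
  calc T * (R * m * T) = T * R * m * T := by simp only [Matrix.mul_assoc]
    _ = m * (Pm I J a b * T) := by rw [hTR, ← comm_Pm h1 h2, Matrix.mul_assoc]
    _ = m * T := by rw [h3]

theorem r_mul (hTR : T * R = Pm I J a b) (hRT : R * T = 1) {m m' : Matrix α α F} (h1 : m' * I = I * m')
    (h2 : m' * J = J * m') : R * (m * m') * T = (R * m * T) * (R * m' * T) := by
  rw [Matrix.mul_assoc (R * m), T_r hTR hRT h1 h2]
  simp only [Matrix.mul_assoc]

/-- the action on the eigenspace -/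
def rW (hTR : T * R = Pm I J a b) (hRT : R * T = 1) : Z I J →* GL ι F where
  toFun m := ⟨R * ((m : GL α F) : Matrix α α F) * T, R * (((m⁻¹ : Z I J) : GL α F) : Matrix α α F) * T, by
    rw [← r_mul hTR hRT (m⁻¹).2.1 (m⁻¹).2.2]
    rw [Subgroup.coe_inv, Units.mul_inv, Matrix.mul_one, hRT], by
    rw [← r_mul hTR hRT m.2.1 m.2.2]
    rw [Subgroup.coe_inv, Units.inv_mul, Matrix.mul_one, hRT]⟩
  map_one' := by
    apply Units.ext
    show R * (((1 : Z I J) : GL α F) : Matrix α α F) * T = 1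
    rw [Subgroup.coe_one, Units.val_one, Matrix.mul_one, hRT]
  map_mul' m m' := by
    apply Units.ext
    show R * (((m * m' : Z I J) : GL α F) : Matrix α α F) * T = (R * ((m : GL α F) : Matrix α α F) * T) * (R * ((m' : GL α F) : Matrix α α F) * T)
    rw [← r_mul hTR hRT m'.2.1 m'.2.2, Subgroup.coe_mul, Units.val_mul]

theorem rW_val (hTR : T * R = Pm I J a b) (hRT : R * T = 1) (m : Z I J) :
    (rW hTR hRT m : Matrix ι ι F) = R * ((m : GL α F) : Matrix α α F) * T := rfl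

/-- a matrix commuting with the algebra is determined by its action on the eigenspace -/
theorem eq_smul_of_r (h2 : (2 : F) ≠ 0) (hQ : Quat I J) (hab : a * a + b * b = -1) (hTR : T * R = Pm I J a b)
    (hRT : R * T = 1) {m : Matrix α α F} (h1 : m * I = I * m) (h3 : m * J = J * m) {c : F}
    (h : R * m * T = c • 1) : m = c • 1 := by
  have h4 : m * T = c • T := by rw [← T_r hTR hRT h1 h3, h, Matrix.mul_smul, Matrix.mul_one]
  have h5 : m * Pm I J a b = c • Pm I J a b := by rw [← hTR, ← Matrix.mul_assoc, h4, Matrix.smul_mul]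
  have h6 : m * (1 - Pm I J a b) = c • (1 - Pm I J a b) := by
    have h7 : 1 - Pm I J a b = Um I J a b * Pm I J a b * Um I J a b := by
      rw [Um_Pm' h2 hQ, Matrix.mul_assoc, Um_sq hQ hab, Matrix.mul_one]
    rw [h7, ← Matrix.mul_assoc, ← Matrix.mul_assoc, comm_Um h1 h3, Matrix.mul_assoc (Um I J a b), h5,
      Matrix.mul_smul, Matrix.smul_mul]
  have h8 : m = m * Pm I J a b + m * (1 - Pm I J a b) := by
    rw [← mul_add, add_sub_cancel, mul_one]
  rw [h8, h5, h6, ← smul_add, add_sub_cancel]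

/-! ### The form -/

/-- the form -/
def Bf (I J : Matrix α α F) (a b : F) (T : Matrix α ι F) : Matrix ι ι F := Tᵀ * Um I J a b * T

theorem Bf_inv (hTR : T * R = Pm I J a b) (hRT : R * T = 1) {m : Matrix α α F} (h1 : m * I = I * m)
    (h2 : m * J = J * m) (ho : mᵀ * m = 1) : (R * m * T)ᵀ * Bf I J a b T * (R * m * T) = Bf I J a b T := by
  unfold Bf
  calc (R * m * T)ᵀ * (Tᵀ * Um I J a b * T) * (R * m * T) =
      (T * (R * m * T))ᵀ * Um I J a b * (T * (R * m * T)) := by
        rw [Matrix.transpose_mul T]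
        simp only [Matrix.mul_assoc]
    _ = (m * T)ᵀ * Um I J a b * (m * T) := by rw [T_r hTR hRT h1 h2]
    _ = Tᵀ * (mᵀ * (Um I J a b * m)) * T := by
        rw [Matrix.transpose_mul]
        simp only [Matrix.mul_assoc]
    _ = Tᵀ * Um I J a b * T := by
        rw [← comm_Um h1 h2, ← Matrix.mul_assoc mᵀ, ho, Matrix.one_mul]

theorem Bf_unit (h2 : (2 : F) ≠ 0) (hQ : Quat I J) (hab : a * a + b * b = -1) (hI : Iᵀ = -I) (hJ : Jᵀ = -J)
    (hTR : T * R = Pm I J a b) (hRT : R * T = 1) :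
    Bf I J a b T * (R * Um I J a b * Rᵀ) = 1 := by
  have hE : (Pm I J a b)ᵀ = 1 - Pm I J a b := by
    rw [one_sub_Pm h2]
    unfold Pm Em
    rw [Matrix.transpose_smul, Matrix.transpose_add, Matrix.transpose_one, Matrix.transpose_add,
      Matrix.transpose_smul, Matrix.transpose_smul, hI, hJ]
    congr 1
    module
  unfold Bf
  calc Tᵀ * Um I J a b * T * (R * Um I J a b * Rᵀ) = Tᵀ * (Um I J a b * (T * R) * Um I J a b) * Rᵀ := by
        simp only [Matrix.mul_assoc]
    _ = Tᵀ * (Pm I J a b)ᵀ * Rᵀ := by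
        rw [hTR, Um_Pm' h2 hQ, Matrix.mul_assoc (1 - Pm I J a b), Um_sq hQ hab, Matrix.mul_one, hE]
    _ = (R * (T * R) * T)ᵀ := by
        rw [hTR, Matrix.transpose_mul, Matrix.transpose_mul]
        simp only [Matrix.mul_assoc]
    _ = 1 := by
        rw [← Matrix.mul_assoc R, hRT, Matrix.one_mul, hRT, Matrix.transpose_one]

end Cfsg.Agent.H931.K1Quat

private theorem dce_f9a3813848fa : _root_.True := by
  try have : _root_.True := by simp only [_root_.Cfsg.Agent.H931.K1Quat.Pm.congr_simp]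
  exact _root_.True.intro
end

-- part: H931/K1Red
section
set_option linter.all false
open scoped Cfsg.Agent.FastGrp

/-!
# Reduction of `Co₀` over fields of characteristic not two (helper931)
-/

set_option autoImplicit false

namespace Cfsg.Agent.H931.K1Red

open Cfsg Matrix Cfsg.Agent.SporadicA.Co0Basic Cfsg.Agent.CoOneType.CoEval Cfsg.Agent.SporadicStructure.Co0Matrix

variable (F : Type*) [Field F]

/-- the matrix of an element of `Co₀` -/
def rmat (g : Co0) : Matrix GolayPt GolayPt F := fun i j => (((g.1 (e8 j) : leechLattice) : GolayPt → ℤ) i : F) / 8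

variable {F}

theorem eight_ne (h2 : (2 : F) ≠ 0) : (8 : F) ≠ 0 := by
  have : (8 : F) = 2 * 2 * 2 := by norm_num
  rw [this]
  exact mul_ne_zero (mul_ne_zero h2 h2) h2

theorem rmat_one (h2 : (2 : F) ≠ 0) : rmat F 1 = 1 := by
  ext i j
  show (((e8 j : leechLattice) : GolayPt → ℤ) i : F) / 8 = _
  rw [e8_apply, Matrix.one_apply]
  split
  · push_cast
    exact div_self (eight_ne h2)
  · simp

theorem rmat_mul (h2 : (2 : F) ≠ 0) (g h : Co0) : rmat F (g * h) = rmat F g * rmat F h := by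
  ext i j
  rw [Matrix.mul_apply]
  show ((((g * h).1 (e8 j) : leechLattice) : GolayPt → ℤ) i : F) / 8 = _
  have h1 := congrArg (fun v : leechLattice => (v : GolayPt → ℤ) i) (map_smul8 g (h.1 (e8 j)))
  simp only [AddSubgroup.coe_zsmul, AddSubgroup.val_finsetSum, Finset.sum_apply, Pi.smul_apply, smul_eq_mul] at h1
  have h3 : (g * h).1 (e8 j) = g.1 (h.1 (e8 j)) := rfl
  rw [h3]
  have h4 := congrArg (Int.cast : ℤ → F) h1
  push_cast at h4
  have h8 := eight_ne h2
  rw [div_eq_iff h8, Finset.sum_mul]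
  have h5 : ∀ k, rmat F g i k * rmat F h k j * 8 =
      ((((h.1 (e8 j) : leechLattice) : GolayPt → ℤ) k : F) * (((g.1 (e8 k) : leechLattice) : GolayPt → ℤ) i : F)) / 8 := by
    intro k
    unfold rmat
    field_simp
  rw [Finset.sum_congr rfl fun k _ => h5 k, ← Finset.sum_div, ← h4]
  field_simp

theorem rmat_orth (h2 : (2 : F) ≠ 0) (g : Co0) : (rmat F g)ᵀ * rmat F g = 1 := by
  ext i j
  rw [Matrix.mul_apply]
  have h1 := map_dot g (e8 i) (e8 j)
  unfold dotInt at h1
  have h4 := congrArg (Int.cast : ℤ → F) h1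
  push_cast at h4
  have h8 := eight_ne h2
  have h5 : ∀ k, (rmat F g)ᵀ i k * rmat F g k j =
      ((((g.1 (e8 i) : leechLattice) : GolayPt → ℤ) k : F) * (((g.1 (e8 j) : leechLattice) : GolayPt → ℤ) k : F)) / 64 := by
    intro k
    rw [Matrix.transpose_apply]
    unfold rmat
    rw [div_mul_div_comm]
    norm_num
  rw [Finset.sum_congr rfl fun k _ => h5 k, ← Finset.sum_div, h4]
  have h6 : ∀ k, (((e8 i : leechLattice) : GolayPt → ℤ) k : F) * (((e8 j : leechLattice) : GolayPt → ℤ) k : F) =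
      if k = i then (if i = j then 64 else 0) else 0 := by
    intro k
    rw [e8_apply, e8_apply]
    by_cases hki : k = i
    · subst hki
      by_cases hkj : k = j
      · subst hkj; simp; norm_num
      · simp [hkj]
    · simp [hki]
  rw [Finset.sum_congr rfl fun k _ => h6 k, Finset.sum_ite_eq' Finset.univ i, if_pos (Finset.mem_univ _),
    Matrix.one_apply]
  have h64 : (64 : F) ≠ 0 := by
    have : (64 : F) = 8 * 8 := by norm_num
    rw [this]; exact mul_ne_zero h8 h8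
  split
  · exact div_self h64
  · exact zero_div _

theorem rmat_neg (h2 : (2 : F) ≠ 0) : rmat F negCo0 = -1 := by
  ext i j
  show (((negCo0.1 (e8 j) : leechLattice) : GolayPt → ℤ) i : F) / 8 = _
  rw [negCo0_apply, Matrix.neg_apply, Matrix.one_apply]
  have h1 : ((-e8 j : leechLattice) : GolayPt → ℤ) i = -(((e8 j : leechLattice) : GolayPt → ℤ) i) := rfl
  rw [h1, e8_apply]
  split
  · push_cast
    rw [neg_div, div_self (eight_ne h2)]
  · simp

/-- `Co₀` over `F` -/
noncomputable def rho (h2 : (2 : F) ≠ 0) : Co0 →* GL GolayPt F :=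
  MonoidHom.toHomUnits
    { toFun := rmat F
      map_one' := rmat_one h2
      map_mul' := rmat_mul h2 }

theorem rho_val (h2 : (2 : F) ≠ 0) (g : Co0) : ((rho h2 g : GL GolayPt F) : Matrix GolayPt GolayPt F) = rmat F g := rfl

/-! ### The quaternion algebra -/

/-- the image of `I` -/
noncomputable def Im (F : Type*) [Field F] : Matrix GolayPt GolayPt F := rmat F (K1Co.e 8)
/-- the image of `J` -/
noncomputable def Jm (F : Type*) [Field F] : Matrix GolayPt GolayPt F := rmat F (K1Co.e 9)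

theorem eII : K1Co.e 8 * K1Co.e 8 = negCo0 := by
  have h := eq_neg_of_negB K1Co.hM K1Co.chk_II
  simpa using h

theorem eJJ : K1Co.e 9 * K1Co.e 9 = negCo0 := by
  have h := eq_neg_of_negB K1Co.hM K1Co.chk_JJ
  simpa using h

theorem neg_sq : negCo0 * negCo0 = 1 := by
  apply ext_e8
  intro i
  show negCo0.1 (negCo0.1 (e8 i)) = e8 i
  rw [negCo0_apply, negCo0_apply, neg_neg]

theorem neg_comm (g : Co0) : negCo0 * g = g * negCo0 := (Subgroup.mem_center_iff.1 negCo0_mem_center g).symm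

theorem inv_of_sq {x : Co0} (h : x * x = negCo0) : x * x * x = x⁻¹ := by
  rw [eq_inv_iff_mul_eq_one, mul_assoc, h, neg_sq]

theorem eJI : K1Co.e 9 * K1Co.e 8 = negCo0 * (K1Co.e 8 * K1Co.e 9) := by
  have h := eq_neg_of_negB K1Co.hM K1Co.chk_JI
  have h1 : K1Co.e 9 * K1Co.e 8 * (K1Co.e 9 * K1Co.e 9 * K1Co.e 9) * (K1Co.e 8 * K1Co.e 8 * K1Co.e 8) = negCo0 := by
    rw [← h]; simp [mul_assoc]
  rw [inv_of_sq eII, inv_of_sq eJJ, mul_inv_eq_iff_eq_mul, mul_inv_eq_iff_eq_mul, mul_assoc negCo0] at h1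
  exact h1

theorem quat (h2 : (2 : F) ≠ 0) : K1Quat.Quat (Im F) (Jm F) where
  II := by rw [Im, ← rmat_mul h2, eII, rmat_neg h2]
  JJ := by rw [Jm, ← rmat_mul h2, eJJ, rmat_neg h2]
  JI := by rw [Jm, Im, ← rmat_mul h2, eJI, rmat_mul h2, rmat_mul h2, rmat_neg h2, neg_one_mul]

theorem Im_transpose (h2 : (2 : F) ≠ 0) : (Im F)ᵀ = -Im F := by
  have h1 := rmat_orth h2 (K1Co.e 8)
  have h3 := (quat h2).II
  have h4 : (Im F)ᵀ * Im F * Im F = Im F := by
    show (rmat F (K1Co.e 8))ᵀ * rmat F (K1Co.e 8) * _ = _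
    rw [h1, one_mul]
  rw [mul_assoc, h3, mul_neg, mul_one] at h4
  exact neg_eq_iff_eq_neg.1 h4

theorem Jm_transpose (h2 : (2 : F) ≠ 0) : (Jm F)ᵀ = -Jm F := by
  have h1 := rmat_orth h2 (K1Co.e 9)
  have h3 := (quat h2).JJ
  have h4 : (Jm F)ᵀ * Jm F * Jm F = Jm F := by
    show (rmat F (K1Co.e 9))ᵀ * rmat F (K1Co.e 9) * _ = _
    rw [h1, one_mul]
  rw [mul_assoc, h3, mul_neg, mul_one] at h4
  exact neg_eq_iff_eq_neg.1 h4

theorem comm_I (i : Fin 6) : K1Co.e i.val * K1Co.e 8 = K1Co.e 8 * K1Co.e i.val := by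
  have h := eq_one_of_oneB K1Co.hM (List.all_eq_true.1 K1Co.chk_I i.val (List.mem_range.2 i.2))
  have h4 := eq_one_of_oneB K1Co.hM (List.all_eq_true.1 K1Co.chk_four i.val (List.mem_range.2 i.2))
  have h1 : K1Co.e i.val * K1Co.e 8 * (K1Co.e i.val * K1Co.e i.val * K1Co.e i.val) *
      (K1Co.e 8 * K1Co.e 8 * K1Co.e 8) = 1 := by
    rw [← h]; simp [mul_assoc]
  have h5 : K1Co.e i.val * K1Co.e i.val * K1Co.e i.val = (K1Co.e i.val)⁻¹ := by
    rw [eq_inv_iff_mul_eq_one, ← h4]; simp [mul_assoc]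
  rw [inv_of_sq eII, h5, mul_inv_eq_iff_eq_mul, mul_inv_eq_iff_eq_mul, one_mul] at h1
  exact h1

theorem comm_J (i : Fin 6) : K1Co.e i.val * K1Co.e 9 = K1Co.e 9 * K1Co.e i.val := by
  have h := eq_one_of_oneB K1Co.hM (List.all_eq_true.1 K1Co.chk_J i.val (List.mem_range.2 i.2))
  have h4 := eq_one_of_oneB K1Co.hM (List.all_eq_true.1 K1Co.chk_four i.val (List.mem_range.2 i.2))
  have h1 : K1Co.e i.val * K1Co.e 9 * (K1Co.e i.val * K1Co.e i.val * K1Co.e i.val) *
      (K1Co.e 9 * K1Co.e 9 * K1Co.e 9) = 1 := by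
    rw [← h]; simp [mul_assoc]
  have h5 : K1Co.e i.val * K1Co.e i.val * K1Co.e i.val = (K1Co.e i.val)⁻¹ := by
    rw [eq_inv_iff_mul_eq_one, ← h4]; simp [mul_assoc]
  rw [inv_of_sq eJJ, h5, mul_inv_eq_iff_eq_mul, mul_inv_eq_iff_eq_mul, one_mul] at h1
  exact h1

theorem inv_I : (K1Co.e 8)⁻¹ = negCo0 * K1Co.e 8 := by
  rw [inv_eq_iff_mul_eq_one, neg_comm, ← mul_assoc, eII, neg_sq]

theorem inv_J : (K1Co.e 9)⁻¹ = negCo0 * K1Co.e 9 := by
  rw [inv_eq_iff_mul_eq_one, neg_comm, ← mul_assoc, eJJ, neg_sq]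

/-- `n I = - I n` -/
theorem n_I : K1Co.e 6 * K1Co.e 8 = negCo0 * K1Co.e 8 * K1Co.e 6 := by
  have h := eq_one_of_oneB K1Co.hM K1Co.chk_nI
  have h1 : K1Co.e 6 * K1Co.e 8 * (K1Co.e 6)⁻¹ * K1Co.e 8 = 1 := by
    rw [← h]
    have h7 : K1Co.e 7 = (K1Co.e 6)⁻¹ := rfl
    simp [mul_assoc, h7]
  rw [← inv_I]
  have h3 := eq_inv_of_mul_eq_one_left h1
  rw [mul_inv_eq_iff_eq_mul] at h3
  exact h3

/-- `n J = - I J n` -/
theorem n_J : K1Co.e 6 * K1Co.e 9 = negCo0 * (K1Co.e 8 * K1Co.e 9) * K1Co.e 6 := by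
  have h := eq_one_of_oneB K1Co.hM K1Co.chk_nJ
  have h1 : K1Co.e 6 * K1Co.e 9 * (K1Co.e 6)⁻¹ * (K1Co.e 8 * K1Co.e 9) = 1 := by
    rw [← h]
    have h7 : K1Co.e 7 = (K1Co.e 6)⁻¹ := rfl
    simp [mul_assoc, h7]
  have h3 := eq_inv_of_mul_eq_one_left h1
  rw [mul_inv_eq_iff_eq_mul, _root_.mul_inv_rev, inv_I, inv_J] at h3
  rw [h3, mul_assoc negCo0 (K1Co.e 9), ← mul_assoc (K1Co.e 9) negCo0, ← neg_comm (K1Co.e 9),
    mul_assoc negCo0 (K1Co.e 9), eJI, ← mul_assoc negCo0 negCo0, neg_sq, one_mul]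

/-- the matrix `n (J - I J)` -/
noncomputable def N0 (F : Type*) [Field F] : Matrix GolayPt GolayPt F :=
  rmat F (K1Co.e 6) * (Jm F - Im F * Jm F)

theorem mat_nI (h2 : (2 : F) ≠ 0) : rmat F (K1Co.e 6) * Im F = -(Im F * rmat F (K1Co.e 6)) := by
  rw [Im, ← rmat_mul h2, n_I, rmat_mul h2, rmat_mul h2, rmat_neg h2, neg_one_mul, neg_mul]

theorem mat_nJ (h2 : (2 : F) ≠ 0) : rmat F (K1Co.e 6) * Jm F = -(Im F * Jm F * rmat F (K1Co.e 6)) := by
  rw [Im, Jm, ← rmat_mul h2, n_J, rmat_mul h2, rmat_mul h2, rmat_mul h2, rmat_neg h2, neg_one_mul, neg_mul]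

section Abs

variable {A : Type*} [Ring A] {N I J : A}

theorem abs_eq (hII : I * I = -1) (h1 : N * I = -(I * N)) (h3 : N * J = -(I * J * N)) :
    N * (J - I * J) = (J - I * J) * N := by
  have h4 : N * (I * J) = -(J * N) := by
    rw [← mul_assoc, h1, neg_mul, mul_assoc, h3, mul_neg, neg_neg, ← mul_assoc, ← mul_assoc, hII, neg_one_mul,
      neg_mul]
  rw [mul_sub, h3, h4, sub_mul]
  abel

theorem abs_I (hII : I * I = -1) (hJI : J * I = -(I * J)) (h1 : N * I = -(I * N)) (h3 : N * J = -(I * J * N)) :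
    N * (J - I * J) * I = I * (N * (J - I * J)) := by
  have e1 : (J - I * J) * I = -(I * (J - I * J)) := by
    rw [sub_mul, mul_sub, mul_assoc I J I, hJI, mul_neg, ← mul_assoc I I J, hII, neg_one_mul]
    abel
  rw [abs_eq hII h1 h3, mul_assoc, h1, mul_neg, ← mul_assoc, e1, neg_mul, neg_neg, mul_assoc]

theorem abs_J (hII : I * I = -1) (hJJ : J * J = -1) (hJI : J * I = -(I * J)) (h1 : N * I = -(I * N))
    (h3 : N * J = -(I * J * N)) : N * (J - I * J) * J = J * (N * (J - I * J)) := by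
  have e2 : J * I * J = I := by rw [hJI, neg_mul, mul_assoc, hJJ, mul_neg, mul_one, neg_neg]
  have e1 : -((J - I * J) * (I * J)) = J * (J - I * J) := by
    rw [sub_mul, mul_sub, ← mul_assoc J I J, e2, mul_assoc I J (I * J), ← mul_assoc J I J, e2, hII, hJJ]
    abel
  rw [abs_eq hII h1 h3, mul_assoc, h3, mul_neg, ← mul_assoc, ← neg_mul, e1, mul_assoc]

end Abs

theorem N0_I (h2 : (2 : F) ≠ 0) : N0 F * Im F = Im F * N0 F :=
  abs_I (quat h2).II (quat h2).JI (mat_nI h2) (mat_nJ h2)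

theorem N0_J (h2 : (2 : F) ≠ 0) : N0 F * Jm F = Jm F * N0 F :=
  abs_J (quat h2).II (quat h2).JJ (quat h2).JI (mat_nI h2) (mat_nJ h2)

/-- the inverse of `J - I J` is `-(J - I J) / 2` -/
theorem u0_sq (h2 : (2 : F) ≠ 0) : (Jm F - Im F * Jm F) * (Jm F - Im F * Jm F) = (-2 : F) • 1 := by
  have hQ := quat (F := F) h2
  set I := Im F
  set J := Jm F
  have e2 : J * I * J = I := by rw [hQ.JI, neg_mul, mul_assoc, hQ.JJ, mul_neg, mul_one, neg_neg]
  rw [sub_mul, mul_sub, mul_sub, ← mul_assoc J I J, e2, mul_assoc I J J, hQ.JJ, mul_assoc I J (I * J),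
    ← mul_assoc J I J, e2, hQ.II]
  rw [mul_neg, mul_one]
  module

/-- `J - I J` as a unit -/
noncomputable def u0 (h2 : (2 : F) ≠ 0) : GL GolayPt F :=
  ⟨Jm F - Im F * Jm F, (-2 : F)⁻¹ • (Jm F - Im F * Jm F), by
    rw [Matrix.mul_smul, u0_sq h2, smul_smul, inv_mul_cancel₀ (neg_ne_zero.2 h2), one_smul], by
    rw [Matrix.smul_mul, u0_sq h2, smul_smul, inv_mul_cancel₀ (neg_ne_zero.2 h2), one_smul]⟩

/-- the outer element in the centraliser of the quaternion algebra -/
noncomputable def n0 (h2 : (2 : F) ≠ 0) : GL GolayPt F := rho h2 (K1Co.e 6) * u0 h2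

theorem n0_mem (h2 : (2 : F) ≠ 0) : n0 h2 ∈ K1Quat.Z (Im F) (Jm F) := ⟨N0_I h2, N0_J h2⟩

/-- `J - I J` commutes with everything in the centraliser -/
theorem u0_comm (h2 : (2 : F) ≠ 0) {m : GL GolayPt F} (hm : m ∈ K1Quat.Z (Im F) (Jm F)) :
    m * u0 h2 = u0 h2 * m := by
  apply Units.ext
  show (m : Matrix GolayPt GolayPt F) * (Jm F - Im F * Jm F) = (Jm F - Im F * Jm F) * m
  rw [mul_sub, sub_mul, ← mul_assoc, hm.1, mul_assoc, hm.2, ← mul_assoc, mul_assoc]

/-! ### The trace of a letter -/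

theorem trace_e1 (h2 : (2 : F) ≠ 0) : (rmat F (K1Co.e 1)).trace = -8 := by
  have h : ∀ p : GolayPt, (((K1Co.e 1).1 (e8 p) : leechLattice) : GolayPt → ℤ) p =
      Cfsg.Agent.SporadicStructure.Co0Matrix.act (K1Co.M 1) (Pi.single p 8) p := by
    intro p
    rw [(K1Co.hM 1).act, e8_coe]
  have h1 : ∑ p : GolayPt, Cfsg.Agent.SporadicStructure.Co0Matrix.act (K1Co.M 1) (Pi.single p 8) p = -64 := by
    decide +kernel
  have h3 := congrArg (Int.cast : ℤ → F) h1
  push_cast at h3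
  unfold Matrix.trace
  have h8 := eight_ne h2
  have h4 : ∀ p, Matrix.diag (rmat F (K1Co.e 1)) p =
      ((Cfsg.Agent.SporadicStructure.Co0Matrix.act (K1Co.M 1) (Pi.single p 8) p : ℤ) : F) / 8 := by
    intro p
    rw [← h p]; rfl
  rw [Finset.sum_congr rfl fun p _ => h4 p, ← Finset.sum_div, h3, div_eq_iff h8]
  norm_num

end Cfsg.Agent.H931.K1Red

private theorem dce_525839c3d686 : _root_.True := by
  try have : _root_.True := by simp only [_root_.Cfsg.Agent.H931.K1Red.Jm.eq_1]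
  try have : _root_.True := by simp only [_root_.Cfsg.Agent.H931.K1Red.Im.eq_1]
  exact _root_.True.intro
end

-- part: H931/A7D/PathB
section
prune_inst 0x14100140100002000000859001200000480001200000080008e008040100202000c02000858001040208000100000000001000a00000000000000000000100000800100411000100220008000000000000000000000000000000000000000004000000000
set_option linter.all false
open scoped Cfsg.Agent.FastGrp

-- part: H931/A7D/Code
section
/-!
# Four by four matrices over `ZMod 7` encoded by natural numbers (helper931)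
-/

set_option autoImplicit false

namespace Cfsg.Agent.H931.A7D

/-- the base 8 number with the given digits -/
def pack (l : List ℕ) : ℕ := l.foldr (fun e acc => e + 8 * acc) 0

/-- a digit -/
def dig (c m : ℕ) : ℕ := c / 8 ^ m % 8

theorem dig_pack (l : List ℕ) (hl : ∀ e ∈ l, e < 8) (m : ℕ) : dig (pack l) m = l.getD m 0 := by
  induction l generalizing m with
  | nil => simp [pack, dig]
  | cons e l ih =>
    have he : e < 8 := hl e List.mem_cons_self
    have ih' := ih (fun x hx => hl x (List.mem_cons_of_mem _ hx))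
    have h1 : pack (e :: l) = e + 8 * pack l := rfl
    cases m with
    | zero =>
      rw [dig, pow_zero, Nat.div_one, h1, Nat.add_mul_mod_self_left, Nat.mod_eq_of_lt he]
      rfl
    | succ m =>
      rw [List.getD_cons_succ, ← ih' m, dig, dig, h1, pow_succ', ← Nat.div_div_eq_div_mul,
        Nat.add_mul_div_left _ _ (by norm_num), Nat.div_eq_of_lt he, zero_add]

/-- the matrix with a given code -/
def toM (c : ℕ) : Matrix (Fin 4) (Fin 4) (ZMod 7) := fun i j => (dig c (4 * i + j) : ℕ)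

/-- an entry of the product -/
def ent (a b i j : ℕ) : ℕ :=
  (dig a (4 * i) * dig b j + dig a (4 * i + 1) * dig b (4 + j) + dig a (4 * i + 2) * dig b (8 + j) +
    dig a (4 * i + 3) * dig b (12 + j)) % 7

/-- the code of the product -/
def mulC (a b : ℕ) : ℕ :=
  pack [ent a b 0 0, ent a b 0 1, ent a b 0 2, ent a b 0 3, ent a b 1 0, ent a b 1 1, ent a b 1 2, ent a b 1 3,
    ent a b 2 0, ent a b 2 1, ent a b 2 2, ent a b 2 3, ent a b 3 0, ent a b 3 1, ent a b 3 2, ent a b 3 3]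

/-- an entry of the negative -/
def nent (a i : ℕ) : ℕ := (7 - dig a i % 7) % 7

/-- the code of the negative -/
def negC (a : ℕ) : ℕ :=
  pack [nent a 0, nent a 1, nent a 2, nent a 3, nent a 4, nent a 5, nent a 6, nent a 7, nent a 8, nent a 9, nent a 10,
    nent a 11, nent a 12, nent a 13, nent a 14, nent a 15]

theorem ent_lt (a b i j : ℕ) : ent a b i j < 8 := (Nat.mod_lt _ (by norm_num)).trans (by norm_num)
theorem nent_lt (a i : ℕ) : nent a i < 8 := (Nat.mod_lt _ (by norm_num)).trans (by norm_num)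

theorem cast_ent (a b i j : ℕ) : ((ent a b i j : ℕ) : ZMod 7) =
    dig a (4 * i) * dig b j + dig a (4 * i + 1) * dig b (4 + j) + dig a (4 * i + 2) * dig b (8 + j) +
    dig a (4 * i + 3) * dig b (12 + j) := by
  unfold ent
  rw [ZMod.natCast_mod]
  push_cast
  rfl

theorem cast_nent (a i : ℕ) : ((nent a i : ℕ) : ZMod 7) = - dig a i := by
  unfold nent
  rw [ZMod.natCast_mod, Nat.cast_sub (Nat.mod_lt _ (by norm_num)).le, ZMod.natCast_mod, ZMod.natCast_self, zero_sub]

theorem toM_mulC (a b : ℕ) : toM (mulC a b) = toM a * toM b := by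
  ext i j
  rw [Matrix.mul_apply, Fin.sum_univ_four]
  have h1 : ∀ m, dig (mulC a b) m = [ent a b 0 0, ent a b 0 1, ent a b 0 2, ent a b 0 3, ent a b 1 0, ent a b 1 1,
      ent a b 1 2, ent a b 1 3, ent a b 2 0, ent a b 2 1, ent a b 2 2, ent a b 2 3, ent a b 3 0, ent a b 3 1,
      ent a b 3 2, ent a b 3 3].getD m 0 := by
    intro m
    refine dig_pack _ ?_ m
    simp only [List.mem_cons, List.not_mem_nil, or_false, forall_eq_or_imp, forall_eq, ent_lt, and_self]
  have h2 : toM (mulC a b) i j = ((dig (mulC a b) (4 * i + j) : ℕ) : ZMod 7) := rfl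
  rw [h2, h1]
  fin_cases i <;> fin_cases j <;> exact cast_ent a b _ _

theorem toM_negC (a : ℕ) : toM (negC a) = - toM a := by
  ext i j
  have h1 : ∀ m, dig (negC a) m = [nent a 0, nent a 1, nent a 2, nent a 3, nent a 4, nent a 5, nent a 6, nent a 7,
      nent a 8, nent a 9, nent a 10, nent a 11, nent a 12, nent a 13, nent a 14, nent a 15].getD m 0 := by
    intro m
    refine dig_pack _ ?_ m
    simp only [List.mem_cons, List.not_mem_nil, or_false, forall_eq_or_imp, forall_eq, nent_lt, and_self]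
  have h2 : toM (negC a) i j = ((dig (negC a) (4 * i + j) : ℕ) : ZMod 7) := rfl
  rw [h2, h1, Matrix.neg_apply]
  fin_cases i <;> fin_cases j <;> exact cast_nent a _

end Cfsg.Agent.H931.A7D
end

-- part: H931/A7D/Chk
section
/-!
# Verification of identities in the group ring of `2.A₇` (helper931)

`Cov π g z` : `D` is a double cover of `A₇` with the Carmichael generators `g`.  `GR` : formal integral combinations of
words in the generators; `chk m L = true` and `m = 0` in `K` imply that `L` evaluates to zero in every representation with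
`z ↦ -1`.
-/

set_option autoImplicit false

namespace Cfsg.Agent.H931.A7D

open Matrix Subgroup Cfsg.Agent.H637.A7Cov Cfsg.Agent.H637.A7Grp Cfsg.Agent.H637.A7Main Cfsg.Agent.H637.A7Ev
  Cfsg.Agent.H637.A7Mat

/-- the code of a generator -/
def genC : Fin 5 → ℕ := ![26403313226672, 211662460158336, 169364589975705, 63232716477300, 157242081755827]

/-- the code of a word -/
def codeW (w : List (Fin 5)) : ℕ := w.foldr (fun i c => mulC (genC i) c) (pack [1, 0, 0, 0, 0, 1, 0, 0, 0, 0, 1, 0, 0, 0, 0, 1])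

theorem hb3 : (3 : ZMod 7) * 3 + 3 + 2 = 0 := by decide

instance fact7 : Fact (Nat.Prime 7) := ⟨by norm_num⟩

theorem toM_gen (i : Fin 5) : toM (genC i) = S (3 : ZMod 7) i := by
  revert i
  decide +kernel

theorem toM_one : toM (pack [1, 0, 0, 0, 0, 1, 0, 0, 0, 0, 1, 0, 0, 0, 0, 1]) = 1 := by
  decide +kernel

/-- formal combinations -/
abbrev GR := List (ℤ × List (Fin 5))

/-- insertion -/
def ins (k : ℕ) (c : ℤ) : List (ℕ × ℤ) → List (ℕ × ℤ)
  | [] => [(k, c)]
  | p :: l => if k = p.1 then (p.1, c + p.2) :: l else p :: ins k c l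

/-- collecting the coefficients -/
def coll : GR → List (ℕ × ℤ)
  | [] => []
  | t :: l =>
    if negC (codeW t.2) < codeW t.2 then ins (negC (codeW t.2)) (-t.1) (coll l) else ins (codeW t.2) t.1 (coll l)

theorem coll_cons (t : ℤ × List (Fin 5)) (l : GR) : coll (t :: l) =
    if negC (codeW t.2) < codeW t.2 then ins (negC (codeW t.2)) (-t.1) (coll l) else ins (codeW t.2) t.1 (coll l) := rfl

/-- the check -/
def chk (m : ℤ) (L : GR) : Bool := (coll L).all fun p => p.2 % m == 0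

/-- product -/
def GR.mul (A B : GR) : GR := A.flatMap fun a => B.map fun b => (a.1 * b.1, a.2 ++ b.2)

/-- multiples -/
def GR.smul (c : ℤ) (A : GR) : GR := A.map fun a => (c * a.1, a.2)

/-- sum -/
def GR.add (A B : GR) : GR := A ++ B

/-- word -/
def GR.wd (w : List (Fin 5)) : GR := [(1, w)]

section cov

universe u v

/-- the double cover of `A₇` -/
structure Cov {D : Type u} [Group D] (π : D →* alternatingGroup (Fin 7)) (g : Fin 5 → D) (z : D)
    (β : D →* GL (Fin 4) (ZMod 7)) : Prop extends Good π g z where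
  bg : ∀ i, (β (g i) : Matrix (Fin 4) (Fin 4) (ZMod 7)) = S 3 i
  bz : β z = -1

variable {D : Type u} [Group D] {π : D →* alternatingGroup (Fin 7)} {g : Fin 5 → D} {z : D}
  {β : D →* GL (Fin 4) (ZMod 7)} (H : Cov π g z β)

include H

theorem Cov.inj {d : D} (hd : β d = 1) : d = 1 := by
  have h1 : (β.ker.map π).Normal := Subgroup.Normal.map inferInstance π H.surj
  have hA : IsSimpleGroup (alternatingGroup (Fin 7)) := alternatingGroup.isSimpleGroup (by simp)
  have hz : (-1 : GL (Fin 4) (ZMod 7)) ≠ 1 := by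
    intro h0
    have h2 := congrArg (fun u : GL (Fin 4) (ZMod 7) => (u : Matrix (Fin 4) (Fin 4) (ZMod 7)) 0 0) h0
    revert h2
    decide
  rcases h1.eq_bot_or_eq_top with h2 | h2
  · have h3 : π d ∈ β.ker.map π := ⟨d, hd, rfl⟩
    rw [h2, Subgroup.mem_bot] at h3
    rcases H.ker d h3 with h4 | h4
    · exact h4
    · exfalso
      rw [h4, H.bz] at hd
      exact hz hd
  · exfalso
    have h3 : π (g 0) ∈ β.ker.map π := by rw [h2]; trivial
    obtain ⟨c, hc, hcg⟩ := h3
    have hc1 : β c = 1 := hc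
    have h5 : ∀ s : ZMod 7, S (3 : ZMod 7) 0 ≠ s • (1 : Matrix (Fin 4) (Fin 4) (ZMod 7)) := by
      decide +kernel
    rcases H.eq_or hcg with h4 | h4
    · rw [h4] at hc1
      have h6 := congrArg (fun u : GL (Fin 4) (ZMod 7) => (u : Matrix (Fin 4) (Fin 4) (ZMod 7))) hc1
      simp only [H.bg, Units.val_one] at h6
      exact h5 1 (by rw [h6, one_smul])
    · rw [h4, map_mul, H.bz] at hc1
      have h6 := congrArg (fun u : GL (Fin 4) (ZMod 7) => (u : Matrix (Fin 4) (Fin 4) (ZMod 7))) hc1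
      simp only [Units.val_mul, H.bg, Units.val_one, Units.val_neg, neg_mul, one_mul] at h6
      exact h5 (-1) (by rw [neg_smul, one_smul, ← h6, neg_neg])

theorem Cov.inj' {d d' : D} (h : β d = β d') : d = d' := by
  have h1 : d * d'⁻¹ = 1 := H.inj (by rw [map_mul, map_inv, h, mul_inv_cancel])
  exact mul_inv_eq_one.1 h1

omit H in
/-- the element given by a word -/
def wd (g : Fin 5 → D) (w : List (Fin 5)) : D := (w.map g).prod

omit H in
theorem wd_append (w w' : List (Fin 5)) : wd g (w ++ w') = wd g w * wd g w' := by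
  unfold wd
  rw [List.map_append, List.prod_append]

theorem Cov.toM_codeW (w : List (Fin 5)) : toM (codeW w) = (β (wd g w) : Matrix (Fin 4) (Fin 4) (ZMod 7)) := by
  induction w with
  | nil =>
    show toM _ = ((β 1 : GL (Fin 4) (ZMod 7)) : Matrix (Fin 4) (Fin 4) (ZMod 7))
    rw [map_one, Units.val_one]
    exact toM_one
  | cons i w ih =>
    have h1 : codeW (i :: w) = mulC (genC i) (codeW w) := rfl
    have h2 : wd g (i :: w) = g i * wd g w := rfl
    rw [h1, h2, toM_mulC, ih, toM_gen, map_mul, Units.val_mul, H.bg]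

/-- **Equality of words.** -/
theorem Cov.wd_eq {w w' : List (Fin 5)} (h : codeW w = codeW w') : wd g w = wd g w' := by
  apply H.inj'
  apply Units.ext
  rw [← H.toM_codeW, ← H.toM_codeW, h]

theorem Cov.wd_neg {w w' : List (Fin 5)} (h : codeW w = negC (codeW w')) : wd g w = z * wd g w' := by
  apply H.inj'
  apply Units.ext
  rw [← H.toM_codeW, h, toM_negC, H.toM_codeW, map_mul, H.bz, Units.val_mul, Units.val_neg, Units.val_one, neg_mul,
    one_mul]

variable {A : Type v} [Ring A] (σ : D →* A)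

omit H in
/-- evaluation -/
def ev (g : Fin 5 → D) (σ : D →* A) (L : GR) : A := (L.map fun t => (t.1 : A) * σ (wd g t.2)).sum

omit H in
open Classical in
/-- the value of a code -/
noncomputable def val (β : D →* GL (Fin 4) (ZMod 7)) (σ : D →* A) (k : ℕ) : A :=
  if h : ∃ d, (β d : Matrix (Fin 4) (Fin 4) (ZMod 7)) = toM k then σ h.choose else 0

theorem Cov.val_eq {k : ℕ} {d : D} (h : (β d : Matrix (Fin 4) (Fin 4) (ZMod 7)) = toM k) : val β σ k = σ d := by
  have hex : ∃ d, (β d : Matrix (Fin 4) (Fin 4) (ZMod 7)) = toM k := ⟨d, h⟩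
  unfold val
  rw [dif_pos hex]
  congr 1
  apply H.inj'
  apply Units.ext
  rw [hex.choose_spec, h]

theorem Cov.val_neg (hz : σ z = -1) (k : ℕ) : val β σ (negC k) = - val β σ k := by
  by_cases hex : ∃ d, (β d : Matrix (Fin 4) (Fin 4) (ZMod 7)) = toM k
  · obtain ⟨d, hd⟩ := hex
    rw [H.val_eq σ hd, H.val_eq σ (k := negC k) (d := z * d) (by
      rw [map_mul, H.bz, Units.val_mul, Units.val_neg, Units.val_one, neg_mul, one_mul, hd, toM_negC])]
    rw [map_mul, hz, neg_one_mul]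
  · have hex' : ¬ ∃ d, (β d : Matrix (Fin 4) (Fin 4) (ZMod 7)) = toM (negC k) := by
      rintro ⟨d, hd⟩
      apply hex
      refine ⟨z * d, ?_⟩
      rw [map_mul, H.bz, Units.val_mul, Units.val_neg, Units.val_one, neg_mul, one_mul, hd, toM_negC, neg_neg]
    unfold val
    rw [dif_neg hex, dif_neg hex', neg_zero]

theorem Cov.val_codeW (w : List (Fin 5)) : val β σ (codeW w) = σ (wd g w) :=
  H.val_eq σ (H.toM_codeW w).symm

omit H in
theorem sum_ins (f : ℕ → A) (k : ℕ) (c : ℤ) (l : List (ℕ × ℤ)) :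
    ((ins k c l).map fun p => (p.2 : A) * f p.1).sum = (c : A) * f k + (l.map fun p => (p.2 : A) * f p.1).sum := by
  induction l with
  | nil => simp [ins]
  | cons p l ih =>
    unfold ins
    split_ifs with h
    · simp only [List.map_cons, List.sum_cons, Int.cast_add]
      rw [h]
      noncomm_ring
    · simp only [List.map_cons, List.sum_cons]
      rw [ih]
      abel

theorem Cov.sum_coll (hz : σ z = -1) (L : GR) :
    ((coll L).map fun p => (p.2 : A) * val β σ p.1).sum = ev g σ L := by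
  induction L with
  | nil => rfl
  | cons t L ih =>
    have h1 : ev g σ (t :: L) = (t.1 : A) * σ (wd g t.2) + ev g σ L := by
      unfold ev
      rw [List.map_cons, List.sum_cons]
    rw [h1, ← ih, ← H.val_codeW, coll_cons]
    split_ifs with h
    · rw [sum_ins, H.val_neg σ hz, Int.cast_neg, neg_mul_neg]
    · rw [sum_ins]

/-- **Soundness of the check.** -/
theorem Cov.ev_eq_zero (hz : σ z = -1) {m : ℤ} (hm : (m : A) = 0) {L : GR} (h : chk m L = true) : ev g σ L = 0 := by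
  rw [← H.sum_coll σ hz]
  unfold chk at h
  rw [List.all_eq_true] at h
  apply List.sum_eq_zero
  intro a ha
  obtain ⟨p, hp, rfl⟩ := List.mem_map.1 ha
  have h1 : p.2 % m = 0 := by simpa only [_root_.EuclideanDomain.mod_eq_zero, _root_.beq_iff_eq] using h p hp
  have h2 : (p.2 : A) = 0 := by
    obtain ⟨c, hc⟩ := Int.dvd_of_emod_eq_zero h1
    rw [hc, Int.cast_mul, hm, zero_mul]
  rw [h2, zero_mul]

omit H in
theorem ev_add (L M : GR) : ev g σ (GR.add L M) = ev g σ L + ev g σ M := by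
  unfold ev GR.add
  rw [List.map_append, List.sum_append]

omit H in
theorem ev_smul (c : ℤ) (L : GR) : ev g σ (GR.smul c L) = (c : A) * ev g σ L := by
  induction L with
  | nil => simp [ev, GR.smul]
  | cons t L ih =>
    unfold ev GR.smul at *
    simp only [List.map_cons, List.sum_cons, Int.cast_mul] at ih ⊢
    rw [ih]
    noncomm_ring

omit H in
theorem ev_mul (L M : GR) : ev g σ (GR.mul L M) = ev g σ L * ev g σ M := by
  have key : ∀ (a : ℤ × List (Fin 5)) (M : GR), ev g σ (M.map fun b => (a.1 * b.1, a.2 ++ b.2)) =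
      (a.1 : A) * σ (wd g a.2) * ev g σ M := by
    intro a M
    induction M with
    | nil => simp [ev]
    | cons b M ih =>
      unfold ev at *
      simp only [List.map_cons, List.sum_cons, Int.cast_mul] at ih ⊢
      rw [ih, wd_append, map_mul, mul_add]
      congr 1
      rw [mul_assoc, mul_assoc, ← mul_assoc (σ (wd g a.2)), ← mul_assoc (b.1 : A), (Int.cast_commute b.1 (σ (wd g a.2))).eq]
  induction L with
  | nil => simp [ev, GR.mul]
  | cons a L ih =>
    have h1 : GR.mul (a :: L) M = (M.map fun b => (a.1 * b.1, a.2 ++ b.2)) ++ GR.mul L M := by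
      unfold GR.mul
      rw [List.flatMap_cons]
    have h2 : ev g σ (a :: L) = (a.1 : A) * σ (wd g a.2) + ev g σ L := by
      unfold ev
      rw [List.map_cons, List.sum_cons]
    have h3 := ev_add (g := g) σ (M.map fun b => (a.1 * b.1, a.2 ++ b.2)) (GR.mul L M)
    unfold GR.add at h3
    rw [h1, h3, key, ih, h2, add_mul]

end cov

end Cfsg.Agent.H931.A7D
end

-- part: H931/A7D/Rep
section
/-!
# Representations of `2.A₇`: invariant subspaces, Scott's lemma, fixed spaces (helper931)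
-/

set_option autoImplicit false
set_option linter.unusedSectionVars false

namespace Cfsg.Agent.H931.A7D

open Module Subgroup Cfsg.Agent.H637.JW Cfsg.Agent.H882.Dim Cfsg.Agent.H882.Sc Cfsg.Agent.H637.A7Cov

universe u

section general

variable {K : Type*} [Field K] {V : Type*} [AddCommGroup V] [Module K V] [FiniteDimensional K V]
  {G : Type*} [Group G] {σ : G →* Module.End K V}

/-- `z` acts as `-1` and lies in the group generated by `x` and `y`: no common fixed vector -/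
theorem no_fixed {z : G} (hz : σ z = -1) (h2 : (2 : K) ≠ 0) {x y : G} (hzm : z ∈ _root_.Subgroup.closure ({x, y} : Set G)) {v : V}
    (hx : σ x v = v) (hy : σ y v = v) : v = 0 := by
  have h1 : _root_.Subgroup.closure ({x, y} : Set G) ≤ stab σ v := by
    rw [closure_le]
    rintro g (rfl | rfl)
    · exact hx
    · exact hy
  have h3 : σ z v = v := h1 hzm
  rw [hz, LinearMap.neg_apply, Module.End.one_apply] at h3
  have h4 : (2 : K) • v = 0 := by
    rw [two_smul]
    nth_rewrite 1 [← h3]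
    exact neg_add_cancel v
  exact (smul_eq_zero.1 h4).resolve_left h2

theorem inv_inv {x : G} {W : Submodule K V} (hx : ∀ w ∈ W, σ x w ∈ W) {w : V} (hw : w ∈ W) : σ x⁻¹ w ∈ W := by
  let f : W →ₗ[K] W := (σ x).restrict hx
  have hf : Function.Injective f := by
    intro u v huv
    have h1 : σ x (u : V) = σ x (v : V) := congrArg Subtype.val huv
    exact Subtype.ext (injective x h1)
  obtain ⟨u, hu⟩ := LinearMap.injective_iff_surjective.1 hf ⟨w, hw⟩
  have h1 : σ x (u : V) = w := congrArg Subtype.val hu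
  rw [← h1, ← mul_apply', inv_mul_cancel, act_one]
  exact u.2

/-- **Scott's lemma** for an invariant subspace. -/
theorem scott_sub {z : G} (hz : σ z = -1) (h2 : (2 : K) ≠ 0) {x y : G} (hzm : z ∈ _root_.Subgroup.closure ({x, y} : Set G))
    (W : Submodule K V) (hx : ∀ w ∈ W, σ x w ∈ W) (hy : ∀ w ∈ W, σ y w ∈ W) :
    finrank K (W ⊓ _root_.Cfsg.Agent.H637.JW.Fix σ x : Submodule K V) + finrank K (W ⊓ _root_.Cfsg.Agent.H637.JW.Fix σ y : Submodule K V) +
      finrank K (W ⊓ _root_.Cfsg.Agent.H637.JW.Fix σ (x * y) : Submodule K V) ≤ finrank K W := by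
  let R : G → Submodule K V := fun g => W.map (σ g - 1)
  have hR : ∀ g, (∀ w ∈ W, σ g w ∈ W) → R g ≤ W := by
    rintro g hg _ ⟨w, hw, rfl⟩
    exact W.sub_mem (hg w hw) hw
  have hmem : ∀ g, ∀ w ∈ W, σ g w - w ∈ R g := fun g w hw => ⟨w, hw, rfl⟩
  have hdim : ∀ g, finrank K (R g) + finrank K (W ⊓ _root_.Cfsg.Agent.H637.JW.Fix σ g : Submodule K V) = finrank K W := by
    intro g
    have h1 := LinearMap.finrank_range_add_finrank_ker ((σ g - 1).comp W.subtype)
    have h3 : LinearMap.range ((σ g - 1).comp W.subtype) = R g := by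
      rw [LinearMap.range_comp, Submodule.range_subtype]
    have h4 : finrank K (LinearMap.ker ((σ g - 1).comp W.subtype)) = finrank K (W ⊓ _root_.Cfsg.Agent.H637.JW.Fix σ g : Submodule K V) := by
      have h5 : (LinearMap.ker ((σ g - 1).comp W.subtype)).map W.subtype = W ⊓ _root_.Cfsg.Agent.H637.JW.Fix σ g := by
        ext v
        simp only [Submodule.mem_map, LinearMap.mem_ker, LinearMap.comp_apply, Submodule.subtype_apply,
          LinearMap.sub_apply, Module.End.one_apply, sub_eq_zero, Submodule.mem_inf, mem_Fix]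
        constructor
        · rintro ⟨w, hw, rfl⟩
          exact ⟨w.2, hw⟩
        · rintro ⟨hv, hf⟩
          exact ⟨⟨v, hv⟩, hf, rfl⟩
      rw [← h5]
      exact (Submodule.finrank_map_subtype_eq _ _).symm
    rw [h3, h4] at h1
    exact h1
  set U := R x ⊔ R y with hU
  have hUW : U ≤ W := sup_le (hR x hx) (hR y hy)
  let T : Subgroup G :=
    { carrier := {g | ∀ w ∈ W, σ g w - w ∈ U}
      one_mem' := by
        intro w _
        rw [map_one, Module.End.one_apply, sub_self]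
        exact U.zero_mem
      mul_mem' := by
        intro a b ha hb w hw
        have h1 : σ b w ∈ W := by
          have := W.add_mem (hUW (hb w hw)) hw
          rwa [sub_add_cancel] at this
        rw [mul_apply', ← sub_add_sub_cancel _ (σ b w)]
        exact U.add_mem (ha _ h1) (hb w hw)
      inv_mem' := by
        intro a ha w hw
        have h0 : ∀ w ∈ W, σ a w ∈ W := fun w hw => by
          have := W.add_mem (hUW (ha w hw)) hw
          rwa [sub_add_cancel] at this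
        have h1 := ha (σ a⁻¹ w) (inv_inv h0 hw)
        rw [← mul_apply', mul_inv_cancel, map_one, Module.End.one_apply] at h1
        rw [← neg_sub]
        exact U.neg_mem h1 }
  have hT : _root_.Subgroup.closure {x, y} ≤ T := by
    rw [closure_le]
    rintro g (rfl | rfl)
    · exact fun v hv => (le_sup_left : R g ≤ U) (hmem g v hv)
    · exact fun v hv => (le_sup_right : R g ≤ U) (hmem g v hv)
  have hUtop : U = W := by
    refine le_antisymm hUW fun w hw => ?_
    have h1 : σ z w - w ∈ U := hT hzm w hw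
    rw [hz, LinearMap.neg_apply, Module.End.one_apply] at h1
    have h3 : (-2 : K)⁻¹ • (-w - w) ∈ U := U.smul_mem _ h1
    have h4 : -w - w = (-2 : K) • w := by module
    rwa [h4, smul_smul, inv_mul_cancel₀ (neg_ne_zero.2 h2), one_smul] at h3
  -- the injection
  let f : (W ⊓ _root_.Cfsg.Agent.H637.JW.Fix σ (x * y) : Submodule K V) →ₗ[K] V := (σ y - 1).comp (W ⊓ _root_.Cfsg.Agent.H637.JW.Fix σ (x * y)).subtype
  have hf : Function.Injective f := by
    rw [injective_iff_map_eq_zero]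
    rintro ⟨v, hv, hvf⟩ h0
    have h3 : σ y v = v := sub_eq_zero.1 h0
    have h4 : σ x (σ y v) = v := by rw [← mul_apply']; exact mem_Fix.1 hvf
    rw [h3] at h4
    exact Subtype.ext (no_fixed hz h2 hzm h4 h3)
  have hr : LinearMap.range f ≤ R x ⊓ R y := by
    rintro _ ⟨⟨v, hv, hvf⟩, rfl⟩
    refine ⟨⟨-(σ y v), W.neg_mem (hy v hv), ?_⟩, ⟨v, hv, rfl⟩⟩
    have h4 : σ x (σ y v) = v := by rw [← mul_apply']; exact mem_Fix.1 hvf
    change σ x (-(σ y v)) - -(σ y v) = σ y v - v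
    rw [map_neg, h4]
    abel
  have h5 := Submodule.finrank_mono hr
  rw [LinearMap.finrank_range_of_inj hf] at h5
  have h6 := Submodule.finrank_sup_add_finrank_inf_eq (R x) (R y)
  rw [← hU, hUtop] at h6
  have h7 := hdim x
  have h8 := hdim y
  omega

/-- two elements generating a group containing `z`: the fixed spaces are independent -/
theorem two_fix {z : G} (hz : σ z = -1) (h2 : (2 : K) ≠ 0) {x y : G} (hzm : z ∈ _root_.Subgroup.closure ({x, y} : Set G))
    (W : Submodule K V) : finrank K (W ⊓ _root_.Cfsg.Agent.H637.JW.Fix σ x : Submodule K V) + finrank K (W ⊓ _root_.Cfsg.Agent.H637.JW.Fix σ y : Submodule K V) ≤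
      finrank K W := by
  have h1 : (W ⊓ _root_.Cfsg.Agent.H637.JW.Fix σ x) ⊓ (W ⊓ _root_.Cfsg.Agent.H637.JW.Fix σ y) = ⊥ := by
    rw [Submodule.eq_bot_iff]
    rintro v ⟨⟨-, hx⟩, ⟨-, hy⟩⟩
    exact no_fixed hz h2 hzm (mem_Fix.1 hx) (mem_Fix.1 hy)
  have h3 := Submodule.finrank_sup_add_finrank_inf_eq (W ⊓ _root_.Cfsg.Agent.H637.JW.Fix σ x) (W ⊓ _root_.Cfsg.Agent.H637.JW.Fix σ y)
  rw [h1, finrank_bot, add_zero] at h3
  rw [← h3]
  exact Submodule.finrank_mono (sup_le inf_le_left inf_le_left)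

/-- conjugation preserves the dimension of the fixed space of an invariant subspace -/
theorem fix_conj_sub {x y c : G} (h : c * x = y * c) (W : Submodule K V) (hc : ∀ w ∈ W, σ c w ∈ W) :
    finrank K (W ⊓ _root_.Cfsg.Agent.H637.JW.Fix σ x : Submodule K V) ≤ finrank K (W ⊓ _root_.Cfsg.Agent.H637.JW.Fix σ y : Submodule K V) := by
  refine finrank_le_of_map (σ := σ) c fun v hv => ?_
  refine ⟨hc v hv.1, mem_Fix.2 ?_⟩
  rw [← mul_apply', ← h, mul_apply', mem_Fix.1 hv.2]

theorem fix_pow {x : G} {v : V} (h : σ x v = v) (n : ℕ) : σ (x ^ n) v = v := by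
  induction n with
  | zero => rw [pow_zero, map_one, Module.End.one_apply]
  | succ n ih => rw [pow_succ, mul_apply', h, ih]

/-- **Parity.** -/
theorem even_sub [IsAlgClosed K] (h2 : (2 : K) ≠ 0) (X Y : Module.End K V) (hXX : ∀ v, X (X v) = -v)
    (hYY : ∀ v, Y (Y v) = -v) (hXY : ∀ v, X (Y v) = -(Y (X v))) (W : Submodule K V) (hX : ∀ w ∈ W, X w ∈ W)
    (hY : ∀ w ∈ W, Y w ∈ W) : Even (finrank K W) := by
  obtain ⟨s, hs⟩ := IsAlgClosed.exists_pow_nat_eq (-1 : K) (n := 2) (by norm_num)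
  have hss : s * s = -1 := by rw [← pow_two, hs]
  let A : K → Submodule K V := fun c => W ⊓ LinearMap.ker (X - algebraMap K _ c)
  have hA : ∀ c v, v ∈ A c ↔ v ∈ W ∧ X v = c • v := by
    intro c v
    simp only [A, Submodule.mem_inf, LinearMap.mem_ker, LinearMap.sub_apply, Module.algebraMap_end_apply, sub_eq_zero]
  have hle : ∀ c, finrank K (A c) ≤ finrank K (A (-c)) := by
    intro c
    let f : A c →ₗ[K] V := Y.comp (A c).subtype
    have hfi : Function.Injective f := by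
      rw [injective_iff_map_eq_zero]
      rintro ⟨v, hv⟩ h0
      have h1 : Y v = 0 := h0
      have h3 := hYY v
      rw [h1, map_zero] at h3
      exact Subtype.ext (neg_eq_zero.1 h3.symm)
    rw [← LinearMap.finrank_range_of_inj hfi]
    apply Submodule.finrank_mono
    rintro _ ⟨⟨v, hv⟩, rfl⟩
    rw [hA] at hv
    rw [hA]
    refine ⟨hY v hv.1, ?_⟩
    change X (Y v) = -c • Y v
    rw [hXY, hv.2, map_smul, neg_smul]
  have heq : finrank K (A s) = finrank K (A (-s)) := by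
    have h1 := hle s
    have h3 := hle (-s)
    rw [neg_neg] at h3
    omega
  have hinf : A s ⊓ A (-s) = ⊥ := by
    rw [Submodule.eq_bot_iff]
    rintro v ⟨h1, h3⟩
    have h1' := (hA _ _).1 h1
    have h3' := (hA _ _).1 h3
    have h4 : (2 * s) • v = 0 := by
      rw [two_mul, add_smul]
      nth_rewrite 1 [← h1'.2]
      rw [h3'.2, neg_smul, neg_add_cancel]
    have hs0 : s ≠ 0 := by
      rintro rfl
      rw [mul_zero] at hss
      exact one_ne_zero (neg_eq_zero.1 hss.symm)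
    exact (smul_eq_zero.1 h4).resolve_left (mul_ne_zero h2 hs0)
  have hsup : A s ⊔ A (-s) = W := by
    refine le_antisymm (sup_le inf_le_left inf_le_left) fun w hw => ?_
    have e1 : (2 : K)⁻¹ • (w - s • X w) ∈ A s := by
      rw [hA]
      refine ⟨W.smul_mem _ (W.sub_mem hw (W.smul_mem _ (hX w hw))), ?_⟩
      have h5 : s • (2 : K)⁻¹ • (w - s • X w) = ((2 : K)⁻¹ * s) • w - ((2 : K)⁻¹ * (s * s)) • X w := by module
      rw [map_smul, map_sub, map_smul, hXX, h5, hss]
      module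
    have e2 : (2 : K)⁻¹ • (w + s • X w) ∈ A (-s) := by
      rw [hA]
      refine ⟨W.smul_mem _ (W.add_mem hw (W.smul_mem _ (hX w hw))), ?_⟩
      have h5 : (-s) • (2 : K)⁻¹ • (w + s • X w) = -(((2 : K)⁻¹ * s) • w) - ((2 : K)⁻¹ * (s * s)) • X w := by module
      rw [map_smul, map_add, map_smul, hXX, h5, hss]
      module
    have e3 : w = (2 : K)⁻¹ • (w - s • X w) + (2 : K)⁻¹ • (w + s • X w) := by
      rw [← smul_add, sub_add_add_cancel, ← two_smul K, smul_smul, inv_mul_cancel₀ h2, one_smul]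
    rw [e3]
    exact Submodule.add_mem_sup e1 e2
  have h3 := Submodule.finrank_sup_add_finrank_inf_eq (A s) (A (-s))
  rw [hinf, hsup, finrank_bot, add_zero] at h3
  exact ⟨_, by rw [h3, heq]⟩

end general

end Cfsg.Agent.H931.A7D
end

-- part: H931/A7D/Cliff
section
/-!
# Quadratic three-cycles (helper931)

If the generators of `2.A₇` satisfy `x² + x + 1 = 0`, the algebra they generate has dimension at most `32`.
-/

set_option autoImplicit false
set_option linter.unusedSectionVars false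

namespace Cfsg.Agent.H931.A7D

open Module Subgroup Cfsg.Agent.H637.JW Cfsg.Agent.H882.Dim Cfsg.Agent.H882.Sc Cfsg.Agent.H637.A7Cov

universe u

section alg

variable {K : Type*} [Field K] {A : Type*} [Ring A] [Algebra K A] [FiniteDimensional K A]

/-- the spaces -/
def LL (K : Type*) [Field K] {A : Type*} [Ring A] [Algebra K A] (x : ℕ → A) : ℕ → Submodule K A
  | 0 => K ∙ (1 : A)
  | k + 1 => LL K x k ⊔ (LL K x k).map (LinearMap.mulLeft K (x k))

theorem LL_finrank (x : ℕ → A) (k : ℕ) : finrank K (LL K x k) ≤ 2 ^ k := by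
  induction k with
  | zero =>
    have h1 := finrank_span_le_card (R := K) ({1} : Set A)
    rw [Set.toFinset_card, Fintype.card_unique] at h1
    exact h1
  | succ k ih =>
    have h1 : finrank K (LL K x (k + 1)) ≤ finrank K (LL K x k) + finrank K ((LL K x k).map (LinearMap.mulLeft K (x k))) :=
      Submodule.finrank_add_le_finrank_add_finrank _ _
    have h2 := Submodule.finrank_map_le (LinearMap.mulLeft K (x k)) (LL K x k)
    rw [pow_succ]
    omega

theorem one_mem_LL (x : ℕ → A) (k : ℕ) : (1 : A) ∈ LL K x k := by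
  induction k with
  | zero => exact Submodule.mem_span_singleton_self _
  | succ k ih => exact (le_sup_left : LL K x k ≤ _) ih

theorem LL_mul (x : ℕ → A) (n : ℕ) (hq : ∀ i < n, x i * x i + x i + 1 = 0)
    (hr : ∀ i < n, ∀ j < n, i ≠ j → x i * x j + x j * x i + x i + x j + 1 = 0) (k : ℕ) (hk : k ≤ n) :
    ∀ j < k, ∀ a ∈ LL K x k, x j * a ∈ LL K x k := by
  induction k with
  | zero => intro j hj; omega
  | succ k ih =>
    have ih' := ih (by omega)
    have hL : LL K x k ≤ LL K x (k + 1) := le_sup_left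
    have hX : ∀ a ∈ LL K x k, x k * a ∈ LL K x (k + 1) := fun a ha =>
      (le_sup_right : (LL K x k).map (LinearMap.mulLeft K (x k)) ≤ _) ⟨a, ha, rfl⟩
    intro j hj a ha
    obtain ⟨b, hb, c, hc, rfl⟩ := Submodule.mem_sup.1 ha
    obtain ⟨c, hc, rfl⟩ := hc
    rw [LinearMap.mulLeft_apply, mul_add]
    by_cases hjk : j = k
    · subst hjk
      have h1 : x j * (x j * c) = -(x j * c) - c := by
        have := congrArg (· * c) (hq j (by omega))
        simp only [add_mul, zero_mul, one_mul] at this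
        rw [← mul_assoc]
        linear_combination (norm := noncomm_ring) this
      rw [h1]
      exact Submodule.add_mem _ (hX b hb) (Submodule.sub_mem _ (Submodule.neg_mem _ (hX c hc)) (hL hc))
    · have hjk' : j < k := by omega
      have h1 : x j * (x k * c) = -(x k * (x j * c)) - x j * c - x k * c - c := by
        have := congrArg (· * c) (hr j (by omega) k (by omega) hjk)
        simp only [add_mul, zero_mul, one_mul] at this
        rw [← mul_assoc, ← mul_assoc]
        linear_combination (norm := noncomm_ring) this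
      rw [h1]
      refine Submodule.add_mem _ (hL (ih' j hjk' b hb)) ?_
      exact Submodule.sub_mem _ (Submodule.sub_mem _ (Submodule.sub_mem _ (Submodule.neg_mem _ (hX _ (ih' j hjk' c hc)))
        (hL (ih' j hjk' c hc))) (hX c hc)) (hL hc)

end alg

section rep

variable {K : Type*} [Field K] {V : Type*} [AddCommGroup V] [Module K V] [FiniteDimensional K V]
  {D : Type u} [Group D] {π : D →* alternatingGroup (Fin 7)} {g : Fin 5 → D} {z : D}
  {β : D →* Matrix.GeneralLinearGroup (Fin 4) (ZMod 7)} (H : Cov π g z β) {σ : D →* Module.End K V}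

include H

/-- induction over the generators, for the left multiplication -/
theorem Cov.left_mem {L : Submodule K (Module.End K V)} (h : ∀ i, ∀ a ∈ L, σ (g i) * a ∈ L) (d : D) :
    ∀ a ∈ L, σ d * a ∈ L := by
  have hd : d ∈ _root_.Subgroup.closure (Set.range g) := by rw [H.gen]; trivial
  induction hd using closure_induction with
  | mem x hx =>
    obtain ⟨i, rfl⟩ := hx
    exact h i
  | one =>
    intro a ha
    rwa [map_one, one_mul]
  | mul x y _ _ hx hy =>
    intro a ha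
    rw [map_mul, mul_assoc]
    exact hx _ (hy a ha)
  | inv x _ hx =>
    intro a ha
    have := H.fin
    have h1 : x⁻¹ = x ^ (orderOf x - 1) := by
      rw [inv_eq_iff_mul_eq_one, ← pow_succ', Nat.sub_add_cancel (orderOf_pos x), pow_orderOf_eq_one]
    rw [h1, map_pow]
    clear h1
    induction (orderOf x - 1) with
    | zero => rwa [pow_zero, one_mul]
    | succ m ih =>
      rw [pow_succ', mul_assoc]
      exact hx _ ih

/-- **Quadratic three-cycles are impossible.** -/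
theorem Cov.not_quadratic (hz : σ z = -1) (hspan : Submodule.span K (Set.range σ) = ⊤) (hn : finrank K V = 12)
    (hq : ∀ i, 1 + σ (g i) + σ (g i) * σ (g i) = 0) : False := by
  let x : ℕ → Module.End K V := fun i => if h : i < 5 then σ (g ⟨i, h⟩) else 0
  have hx : ∀ i (h : i < 5), x i = σ (g ⟨i, h⟩) := fun i h => dif_pos h
  have hxq : ∀ i < 5, x i * x i + x i + 1 = 0 := by
    intro i hi
    rw [hx i hi]
    have := hq ⟨i, hi⟩
    rw [← this]
    abel
  have hr : ∀ i < 5, ∀ j < 5, i ≠ j → x i * x j + x j * x i + x i + x j + 1 = 0 := by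
    intro i hi j hj hij
    have h1 : (x i * x j) * (x i * x j) = -1 := by
      rw [hx i hi, hx j hj, ← map_mul, ← map_mul, ← pow_two, H.sq _ _ (by
        intro h
        exact hij (congrArg Fin.val h)), hz]
    have hi3 := hxq i hi
    have hj3 := hxq j hj
    -- `x⁻¹ = x²`
    have ei : x i * x i * x i = 1 := by
      have : x i * x i * x i = x i * (x i * x i + x i + 1) - (x i * x i + x i + 1) + 1 := by noncomm_ring
      rw [this, hi3]
      simp
    have ej : x j * x j * x j = 1 := by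
      have : x j * x j * x j = x j * (x j * x j + x j + 1) - (x j * x j + x j + 1) + 1 := by noncomm_ring
      rw [this, hj3]
      simp
    -- `x i x j = - x j² x i²`
    have e1 : x i * x j = -(x j * x j * (x i * x i)) := by
      have e2 : x i * x j * (x i * x j) * (x j * x j * (x i * x i)) = x i * x j := by
        calc x i * x j * (x i * x j) * (x j * x j * (x i * x i))
            = x i * x j * (x i * (x j * x j * x j) * x i * x i) := by noncomm_ring
          _ = x i * x j := by rw [ej, mul_one, ei, mul_one]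
      rw [h1, neg_one_mul] at e2
      exact e2.symm
    have fi : x i * x i = -x i - 1 := by linear_combination (norm := noncomm_ring) hi3
    have fj : x j * x j = -x j - 1 := by linear_combination (norm := noncomm_ring) hj3
    rw [fi, fj] at e1
    linear_combination (norm := noncomm_ring) e1
  have h5 := LL_mul (K := K) x 5 hxq hr 5 le_rfl
  have h6 : ∀ d, ∀ a ∈ LL K x 5, σ d * a ∈ LL K x 5 := H.left_mem fun i a ha => by
    have := h5 i i.2 a ha
    rwa [hx i i.2] at this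
  have h7 : (⊤ : Submodule K (Module.End K V)) ≤ LL K x 5 := by
    rw [← hspan, Submodule.span_le]
    rintro _ ⟨d, rfl⟩
    have := h6 d 1 (one_mem_LL x 5)
    rwa [mul_one] at this
  have h8 := Submodule.finrank_mono h7
  have h9 := LL_finrank (K := K) x 5
  rw [finrank_top, Module.finrank_linearMap, hn] at h8
  omega

end rep

end Cfsg.Agent.H931.A7D
end

-- part: H931/A7D/Eig
section
/-!
# Eigenvalue multiplicities for elements of order 3, 5, 7 (helper931)
-/

set_option autoImplicit false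
set_option linter.unusedSectionVars false

namespace Cfsg.Agent.H931.A7D

open Module Subgroup Cfsg.Agent.H637.JW Cfsg.Agent.H882.Dim Cfsg.Agent.H882.Sc Cfsg.Agent.H637.A7Cov

universe u

section words

variable {D : Type u} [Group D] {π : D →* alternatingGroup (Fin 7)} {g : Fin 5 → D} {z : D}
  {β : D →* Matrix.GeneralLinearGroup (Fin 4) (ZMod 7)} (H : Cov π g z β)

include H

theorem Cov.z_eq : z = wd g [0, 1, 0, 1] := by
  have h1 := H.sq 0 1 (by decide)
  rw [pow_two] at h1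
  rw [← h1]
  simp [wd, mul_assoc]

theorem Cov.rel {A B C E : List (Fin 5)} (h : codeW (A ++ B) = codeW (C ++ E)) :
    wd g A * wd g B = wd g C * wd g E := by
  rw [← wd_append, ← wd_append]
  exact H.wd_eq h

theorem Cov.rel1 {A B C : List (Fin 5)} (h : codeW (A ++ B) = codeW C) : wd g A * wd g B = wd g C := by
  rw [← wd_append]
  exact H.wd_eq h

theorem Cov.wcube {A : List (Fin 5)} (h : codeW (A ++ (A ++ A)) = codeW []) : wd g A * wd g A * wd g A = 1 := by
  have h1 : wd g (A ++ (A ++ A)) = wd g [] := H.wd_eq h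
  rw [wd_append, wd_append, ← mul_assoc] at h1
  exact h1

theorem Cov.pow_one {A : List (Fin 5)} (n : ℕ) (h : codeW (List.replicate n A).flatten = codeW []) :
    wd g A ^ n = 1 := by
  have h1 : ∀ n, wd g (List.replicate n A).flatten = wd g A ^ n := by
    intro n
    induction n with
    | zero => rw [List.replicate_zero, pow_zero]; rfl
    | succ n ih => rw [List.replicate_succ, List.flatten_cons, wd_append, ih, pow_succ']
  rw [← h1]
  exact H.wd_eq h

theorem Cov.z_mem {A B : List (Fin 5)} (l : List Bool)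
    (h : codeW (l.flatMap fun b => if b then B else A) = codeW [0, 1, 0, 1]) : z ∈ _root_.Subgroup.closure ({wd g A, wd g B} : Set D) := by
  have h1 : ∀ l : List Bool, wd g (l.flatMap fun b => if b then B else A) ∈ _root_.Subgroup.closure ({wd g A, wd g B} : Set D) := by
    intro l
    induction l with
    | nil => exact one_mem _
    | cons b l ih =>
      rw [List.flatMap_cons, wd_append]
      refine mul_mem ?_ ih
      cases b
      · exact _root_.Subgroup.subset_closure (Or.inl rfl)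
      · exact _root_.Subgroup.subset_closure (Or.inr rfl)
  rw [H.z_eq, ← H.wd_eq h]
  exact h1 l

/-- elements of order four -/
theorem Cov.sq_neg {K : Type*} [Field K] {V : Type*} [AddCommGroup V] [Module K V] {σ : D →* Module.End K V}
    (hz : σ z = -1) {A : List (Fin 5)} (h : codeW (A ++ A) = codeW [0, 1, 0, 1]) (v : V) :
    σ (wd g A) (σ (wd g A) v) = -v := by
  rw [← mul_apply', ← wd_append, H.wd_eq h, ← H.z_eq, hz]
  rfl

theorem Cov.anti {K : Type*} [Field K] {V : Type*} [AddCommGroup V] [Module K V] {σ : D →* Module.End K V}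
    (hz : σ z = -1) {A B : List (Fin 5)} (h : codeW (A ++ B) = negC (codeW (B ++ A))) (v : V) :
    σ (wd g A) (σ (wd g B) v) = -(σ (wd g B) (σ (wd g A) v)) := by
  rw [← mul_apply', ← wd_append, H.wd_neg h, map_mul, hz, wd_append, neg_one_mul, LinearMap.neg_apply, mul_apply']

end words

section eig

variable {K : Type*} [Field K] [IsAlgClosed K] {V : Type*} [AddCommGroup V] [Module K V] [FiniteDimensional K V]
  {G : Type*} [Group G] {σ : G →* Module.End K V}

theorem sum_Eg {c : G} {r : ℕ} [NeZero r] (hrK : (r : K) ≠ 0) (hc : c ^ r = 1) {ζ : K} (hζ : IsPrimitiveRoot ζ r) :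
    ∑ j : ZMod r, finrank K (Eg σ c (ζ ^ j.val)) = finrank K V := by
  classical
  have hsum := sum_W (V := V) hrK hζ (f := fun _ : Unit => σ c) (fun _ _ => rfl)
    (fun _ => by rw [← map_pow, hc, map_one])
  have hW : ∀ d : Unit → ZMod r, finrank K (W r ζ (fun _ : Unit => σ c) d) = finrank K (Eg σ c (ζ ^ (d ()).val)) := by
    intro d
    have : W r ζ (fun _ : Unit => σ c) d = Eg σ c (ζ ^ (d ()).val) := by
      ext v
      rw [mem_W, mem_Eg]
      exact ⟨fun h => h (), fun h _ => h⟩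
    rw [this]
  rw [← hsum, Finset.sum_congr rfl fun d _ => hW d]
  exact (Fintype.sum_equiv (Equiv.funUnique Unit (ZMod r)) _ _ fun d => rfl).symm

theorem Eg_le_mul {c y : G} {k r : ℕ} [NeZero r] {ζ : K} (hζ : IsPrimitiveRoot ζ r) (h : y * c * y⁻¹ = c ^ k)
    (j : ZMod r) : finrank K (Eg σ c (ζ ^ j.val)) ≤ finrank K (Eg σ c (ζ ^ (j * k : ZMod r).val)) := by
  have h1 := finrank_Eg_pow (σ := σ) h (ζ ^ j.val)
  have h2 : (ζ ^ j.val) ^ k = ζ ^ (j * k : ZMod r).val := by
    rw [← pow_mul, ZMod.val_mul, ← pow_mod_of_pow_eq_one hζ.pow_eq_one (j.val * k),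
      ZMod.val_natCast, Nat.mul_mod_mod]
  rw [h2] at h1
  exact h1

theorem Eg_one {c : G} : Eg σ c (1 : K) = _root_.Cfsg.Agent.H637.JW.Fix σ c := rfl

/-- order three -/
theorem eig_three (h3 : (3 : K) ≠ 0) {c y : G} (hc : c * c * c = 1) (h : y * c * y⁻¹ = c * c) :
    ∃ ζ : K, IsPrimitiveRoot ζ 3 ∧ finrank K V = finrank K (Fix σ c) + 2 * finrank K (Eg σ c ζ) := by
  have h3' : ((3 : ℕ) : K) ≠ 0 := by exact_mod_cast h3
  obtain ⟨ζ, hζ⟩ := exists_root (K := K) h3'
  refine ⟨ζ, hζ, ?_⟩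
  have hc3 : c ^ 3 = 1 := by rw [pow_succ, pow_two, hc]
  have hs := sum_Eg (σ := σ) h3' hc3 hζ
  have h2 : y * c * y⁻¹ = c ^ 2 := by rw [h, pow_two]
  have e1 := Eg_le_mul (σ := σ) hζ h2 (1 : ZMod 3)
  have e2 := Eg_le_mul (σ := σ) hζ h2 (2 : ZMod 3)
  have hu : (Finset.univ : Finset (ZMod 3)) = {0, 1, 2} := by decide
  rw [hu, Finset.sum_insert (by decide), Finset.sum_insert (by decide), Finset.sum_singleton] at hs
  have v0 : (0 : ZMod 3).val = 0 := by decide
  have v1 : (1 : ZMod 3).val = 1 := by decide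
  have v2 : (2 : ZMod 3).val = 2 := by decide
  have m1 : ((1 : ZMod 3) * ((2 : ℕ) : ZMod 3)).val = 2 := by decide
  have m2 : ((2 : ZMod 3) * ((2 : ℕ) : ZMod 3)).val = 1 := by decide
  rw [v0, v1, v2, pow_zero, pow_one] at hs
  rw [v1, m1, pow_one] at e1
  rw [v2, m2, pow_one] at e2
  rw [Eg_one] at hs
  omega

/-- order five -/
theorem eig_five (h5 : (5 : K) ≠ 0) {c y : G} (hc : c ^ 5 = 1) (h : y * c * y⁻¹ = c ^ 2) :
    ∃ m, finrank K V = finrank K (Fix σ c) + 4 * m := by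
  have h5' : ((5 : ℕ) : K) ≠ 0 := by exact_mod_cast h5
  obtain ⟨ζ, hζ⟩ := exists_root (K := K) h5'
  have hs := sum_Eg (σ := σ) h5' hc hζ
  have e1 := Eg_le_mul (σ := σ) hζ h (1 : ZMod 5)
  have e2 := Eg_le_mul (σ := σ) hζ h (2 : ZMod 5)
  have e4 := Eg_le_mul (σ := σ) hζ h (4 : ZMod 5)
  have e3 := Eg_le_mul (σ := σ) hζ h (3 : ZMod 5)
  have hu : (Finset.univ : Finset (ZMod 5)) = {0, 1, 2, 3, 4} := by decide
  rw [hu, Finset.sum_insert (by decide), Finset.sum_insert (by decide), Finset.sum_insert (by decide),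
    Finset.sum_insert (by decide), Finset.sum_singleton] at hs
  have v0 : (0 : ZMod 5).val = 0 := by decide
  have v1 : (1 : ZMod 5).val = 1 := by decide
  have v2 : (2 : ZMod 5).val = 2 := by decide
  have v3 : (3 : ZMod 5).val = 3 := by decide
  have v4 : (4 : ZMod 5).val = 4 := by decide
  have m1 : ((1 : ZMod 5) * ((2 : ℕ) : ZMod 5)).val = 2 := by decide
  have m2 : ((2 : ZMod 5) * ((2 : ℕ) : ZMod 5)).val = 4 := by decide
  have m4 : ((4 : ZMod 5) * ((2 : ℕ) : ZMod 5)).val = 3 := by decide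
  have m3 : ((3 : ZMod 5) * ((2 : ℕ) : ZMod 5)).val = 1 := by decide
  rw [v0, v1, v2, v3, v4, pow_zero] at hs
  rw [v1, m1] at e1
  rw [v2, m2] at e2
  rw [v4, m4] at e4
  rw [v3, m3] at e3
  rw [Eg_one] at hs
  exact ⟨finrank K (Eg σ c (ζ ^ 1)), by omega⟩

/-- order seven, normalised by an element `y` of order three: `dim V ≤ dim V^c + 3 dim V^y` -/
theorem eig_seven (h7 : (7 : K) ≠ 0) {c y : G} (hc : c ^ 7 = 1) (hy : y * y * y = 1) (h : y * c * y⁻¹ = c ^ 2) :
    finrank K V ≤ finrank K (Fix σ c) + 3 * finrank K (Fix σ y) := by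
  have h7' : ((7 : ℕ) : K) ≠ 0 := by exact_mod_cast h7
  obtain ⟨ζ, hζ⟩ := exists_root (K := K) h7'
  have hs := sum_Eg (σ := σ) h7' hc hζ
  have e1 := Eg_le_mul (σ := σ) hζ h (1 : ZMod 7)
  have e2 := Eg_le_mul (σ := σ) hζ h (2 : ZMod 7)
  have e4 := Eg_le_mul (σ := σ) hζ h (4 : ZMod 7)
  have e3 := Eg_le_mul (σ := σ) hζ h (3 : ZMod 7)
  have e6 := Eg_le_mul (σ := σ) hζ h (6 : ZMod 7)
  have e5 := Eg_le_mul (σ := σ) hζ h (5 : ZMod 7)
  have hu : (Finset.univ : Finset (ZMod 7)) = {0, 1, 2, 3, 4, 5, 6} := by decide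
  rw [hu, Finset.sum_insert (by decide), Finset.sum_insert (by decide), Finset.sum_insert (by decide),
    Finset.sum_insert (by decide), Finset.sum_insert (by decide), Finset.sum_insert (by decide),
    Finset.sum_singleton] at hs
  have v0 : (0 : ZMod 7).val = 0 := by decide
  have v1 : (1 : ZMod 7).val = 1 := by decide
  have v2 : (2 : ZMod 7).val = 2 := by decide
  have v3 : (3 : ZMod 7).val = 3 := by decide
  have v4 : (4 : ZMod 7).val = 4 := by decide
  have v5 : (5 : ZMod 7).val = 5 := by decide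
  have v6 : (6 : ZMod 7).val = 6 := by decide
  have m1 : ((1 : ZMod 7) * ((2 : ℕ) : ZMod 7)).val = 2 := by decide
  have m2 : ((2 : ZMod 7) * ((2 : ℕ) : ZMod 7)).val = 4 := by decide
  have m4 : ((4 : ZMod 7) * ((2 : ℕ) : ZMod 7)).val = 1 := by decide
  have m3 : ((3 : ZMod 7) * ((2 : ℕ) : ZMod 7)).val = 6 := by decide
  have m6 : ((6 : ZMod 7) * ((2 : ℕ) : ZMod 7)).val = 5 := by decide
  have m5 : ((5 : ZMod 7) * ((2 : ℕ) : ZMod 7)).val = 3 := by decide
  rw [v0, v1, v2, v3, v4, v5, v6, pow_zero] at hs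
  rw [v1, m1] at e1
  rw [v2, m2] at e2
  rw [v4, m4] at e4
  rw [v3, m3] at e3
  rw [v6, m6] at e6
  rw [v5, m5] at e5
  rw [Eg_one] at hs
  -- the injection
  have hsum : finrank K (Eg σ c (ζ ^ 1)) + finrank K (Eg σ c (ζ ^ 3)) ≤ finrank K (Fix σ y) := by
    have hact : ∀ μ : K, ∀ v ∈ Eg σ c μ, σ y⁻¹ v ∈ Eg σ c (μ ^ 2) := by
      intro μ v hv
      rw [mem_Eg] at hv ⊢
      have h1 : c * y⁻¹ = y⁻¹ * c ^ 2 := by rw [← h]; group
      rw [← mul_apply', h1, mul_apply', map_pow, pow_apply hv, map_smul]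
    have hyi : y⁻¹ * y⁻¹ * y⁻¹ = 1 := by
      have : y⁻¹ * y⁻¹ * y⁻¹ = (y * y * y)⁻¹ := by group
      rw [this, hy, inv_one]
    set t := σ y⁻¹ with ht
    have htt : ∀ v, t (t (t v)) = v := fun v => by
      rw [ht, ← mul_apply', ← mul_apply', hyi, act_one]
    let U : Submodule K V := Eg σ c (ζ ^ 1) ⊔ Eg σ c (ζ ^ 3)
    let f : U →ₗ[K] V := (1 + t + t * t).comp U.subtype
    have hind : ∀ a b c' d e f' : V, a ∈ Eg σ c (ζ ^ 1) → b ∈ Eg σ c (ζ ^ 2) → c' ∈ Eg σ c (ζ ^ 4) →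
        d ∈ Eg σ c (ζ ^ 3) → e ∈ Eg σ c (ζ ^ 6) → f' ∈ Eg σ c (ζ ^ 5) → a + b + c' + d + e + f' = 0 → a + d = 0 := by
      intro a b c' d e f' ha hb hc' hd he hf' h0
      have hindep := (σ c).eigenspaces_iSupIndep
      have hne : ∀ i j : ℕ, i < 7 → j < 7 → i ≠ j → ζ ^ i ≠ ζ ^ j := fun i j hi hj hij h =>
        hij (hζ.pow_inj hi hj h)
      have ha0 : a = 0 := by
        have hd1 := hindep (ζ ^ 1)
        rw [Submodule.disjoint_def] at hd1
        refine hd1 a ha ?_
        have h1 : a = -b + -c' + -d + -e + -f' := by linear_combination (norm := abel) h0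
        rw [h1]
        have key : ∀ (i : ℕ) (w : V), i < 7 → i ≠ 1 → w ∈ Eg σ c (ζ ^ i) →
            -w ∈ ⨆ μ, ⨆ (_ : μ ≠ ζ ^ 1), (σ c).eigenspace μ := by
          intro i w hi h1 hw
          exact Submodule.neg_mem _ (Submodule.mem_iSup_of_mem (ζ ^ i) (Submodule.mem_iSup_of_mem
            (hne i 1 hi (by norm_num) h1) hw))
        exact Submodule.add_mem _ (Submodule.add_mem _ (Submodule.add_mem _ (Submodule.add_mem _
          (key 2 b (by norm_num) (by norm_num) hb) (key 4 c' (by norm_num) (by norm_num) hc'))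
          (key 3 d (by norm_num) (by norm_num) hd)) (key 6 e (by norm_num) (by norm_num) he))
          (key 5 f' (by norm_num) (by norm_num) hf')
      have hd0 : d = 0 := by
        have hd1 := hindep (ζ ^ 3)
        rw [Submodule.disjoint_def] at hd1
        refine hd1 d hd ?_
        have h1 : d = -a + -b + -c' + -e + -f' := by linear_combination (norm := abel) h0
        rw [h1]
        have key : ∀ (i : ℕ) (w : V), i < 7 → i ≠ 3 → w ∈ Eg σ c (ζ ^ i) →
            -w ∈ ⨆ μ, ⨆ (_ : μ ≠ ζ ^ 3), (σ c).eigenspace μ := by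
          intro i w hi h1 hw
          exact Submodule.neg_mem _ (Submodule.mem_iSup_of_mem (ζ ^ i) (Submodule.mem_iSup_of_mem
            (hne i 3 hi (by norm_num) h1) hw))
        exact Submodule.add_mem _ (Submodule.add_mem _ (Submodule.add_mem _ (Submodule.add_mem _
          (key 1 a (by norm_num) (by norm_num) ha) (key 2 b (by norm_num) (by norm_num) hb))
          (key 4 c' (by norm_num) (by norm_num) hc')) (key 6 e (by norm_num) (by norm_num) he))
          (key 5 f' (by norm_num) (by norm_num) hf')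
      rw [ha0, hd0, add_zero]
    have hfi : Function.Injective f := by
      rw [injective_iff_map_eq_zero]
      rintro ⟨v, hv⟩ h0
      obtain ⟨a, ha, d, hd, rfl⟩ := Submodule.mem_sup.1 hv
      have h1 : (a + d) + t (a + d) + t (t (a + d)) = 0 := h0
      have ha1 := hact _ _ ha
      have ha2 := hact _ _ ha1
      have hd1 := hact _ _ hd
      have hd2 := hact _ _ hd1
      have p8 : ζ ^ 7 = 1 := hζ.pow_eq_one
      have q1 : (ζ ^ 1) ^ 2 = ζ ^ 2 := by ring
      have q2 : (ζ ^ 2) ^ 2 = ζ ^ 4 := by ring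
      have q3 : (ζ ^ 3) ^ 2 = ζ ^ 6 := by ring
      have q4 : (ζ ^ 6) ^ 2 = ζ ^ 5 := by
        have : (ζ ^ 6) ^ 2 = ζ ^ 5 * ζ ^ 7 := by ring
        rw [this, p8, mul_one]
      rw [q1] at ha1 ha2
      rw [q2] at ha2
      rw [q3] at hd1 hd2
      rw [q4] at hd2
      refine Subtype.ext (hind a (t a) (t (t a)) d (t d) (t (t d)) ha ha1 ha2 hd hd1 hd2 ?_)
      rw [← h1, map_add, map_add]
      abel
    have hr : LinearMap.range f ≤ _root_.Cfsg.Agent.H637.JW.Fix σ y := by
      rintro _ ⟨⟨v, hv⟩, rfl⟩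
      change v + t v + t (t v) ∈ _root_.Cfsg.Agent.H637.JW.Fix σ y
      have hty : ∀ v, σ y (t v) = v := fun v => by rw [ht, ← mul_apply', mul_inv_cancel, act_one]
      rw [mem_Fix, map_add, map_add, hty, hty]
      have : σ y v = t (t v) := by
        conv_lhs => rw [← htt v]
        rw [hty]
      rw [this]
      abel
    have h1 := Submodule.finrank_mono hr
    rw [LinearMap.finrank_range_of_inj hfi] at h1
    have h2 := Submodule.finrank_sup_add_finrank_inf_eq (Eg σ c (ζ ^ 1)) (Eg σ c (ζ ^ 3))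
    have h3 : Eg σ c (ζ ^ 1) ⊓ Eg σ c (ζ ^ 3) = ⊥ := by
      rw [Submodule.eq_bot_iff]
      rintro v ⟨h1, h3⟩
      have h1' := mem_Eg.1 h1
      have h3' := mem_Eg.1 h3
      have h4 : (ζ ^ 1 - ζ ^ 3) • v = 0 := by rw [sub_smul, ← h1', ← h3', sub_self]
      refine (smul_eq_zero.1 h4).resolve_left (sub_ne_zero.2 fun h5 => ?_)
      have := hζ.pow_inj (by norm_num) (by norm_num) h5
      omega
    rw [h3, finrank_bot, add_zero] at h2
    rw [← h2]
    exact h1
  omega

end eig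

end Cfsg.Agent.H931.A7D
end

-- part: H931/A7D/PathA
section
/-!
# `2.A₇` in degree 12: the characteristics different from 2, 3, 7 (helper931)

`three` : `p ≠ 2, 3` : the three-cycles `a` have `dim V^a = 4`, their products with disjoint ones `dim V^(ab) = 2`.
`path_a` : contradiction for `p ≠ 7`.
-/

set_option autoImplicit false
set_option linter.unusedSectionVars false
set_option maxRecDepth 100000

namespace Cfsg.Agent.H931.A7D

open Module Subgroup Cfsg.Agent.H637.JW Cfsg.Agent.H882.Dim Cfsg.Agent.H882.Sc Cfsg.Agent.H637.A7Cov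

universe u

variable {K : Type*} [Field K] [IsAlgClosed K] {V : Type*} [AddCommGroup V] [Module K V] [FiniteDimensional K V]
  {D : Type u} [Group D] {π : D →* alternatingGroup (Fin 7)} {g : Fin 5 → D} {z : D}
  {β : D →* Matrix.GeneralLinearGroup (Fin 4) (ZMod 7)} (H : Cov π g z β) {σ : D →* Module.End K V}

/-- `(3 4 5)` -/
abbrev wb : List (Fin 5) := [0, 1, 0, 3, 2, 2, 1]
/-- `(3 4 6)` -/
abbrev wb' : List (Fin 5) := [0, 1, 0, 4, 2, 2, 1]
/-- elements of order four above `(3 4)(5 6)`, `(3 5)(4 6)` -/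
abbrev wi : List (Fin 5) := [1, 3, 2, 4, 1, 3]
abbrev wj : List (Fin 5) := [1, 2, 3, 4, 1, 2]
/-- the element of order seven and an element of order three normalising it -/
abbrev w7 : List (Fin 5) := [0, 1, 2, 3, 4]
abbrev wy : List (Fin 5) := [0, 0, 3, 3, 2, 4]
abbrev w7' : List (Fin 5) := [0, 4, 3, 2, 1]

include H

theorem Cov.conj_gen (i : Fin 5) : finrank K (Fix σ (g i)) = finrank K (Fix σ (g 0)) := by
  have h1 : ∀ (A : List (Fin 5)) (i : Fin 5), codeW (A ++ [0]) = codeW ([i] ++ A) →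
      finrank K (Fix σ (g i)) = finrank K (Fix σ (g 0)) := by
    intro A i h
    have h2 : wd g A * wd g [0] = wd g [i] * wd g A := H.rel h
    have h3 : ∀ i, wd g [i] = g i := fun i => by simp [wd]
    rw [h3, h3] at h2
    exact fix_conj h2
  fin_cases i
  · rfl
  · exact h1 [0, 2, 2, 1] 1 (by decide +kernel)
  · exact h1 [0, 1, 1, 2] 2 (by decide +kernel)
  · exact h1 [0, 1, 1, 3] 3 (by decide +kernel)
  · exact h1 [0, 1, 1, 4] 4 (by decide +kernel)

theorem Cov.quad_of_fix {x : D} (hx : x * x * x = 1) (h : _root_.Cfsg.Agent.H637.JW.Fix σ x = ⊥) : 1 + σ x + σ x * σ x = 0 := by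
  ext v
  have h1 : v + σ x v + σ x (σ x v) ∈ _root_.Cfsg.Agent.H637.JW.Fix σ x := by
    rw [mem_Fix, map_add, map_add]
    have : σ x (σ x (σ x v)) = v := by rw [← mul_apply', ← mul_apply', hx, act_one]
    rw [this]
    abel
  rw [h, Submodule.mem_bot] at h1
  exact h1

theorem Cov.gcube (i : Fin 5) : g i * g i * g i = 1 := by
  have := H.cube i
  rwa [pow_succ, pow_two] at this

/-- the space of fixed vectors of a three-cycle is not zero -/
theorem Cov.fix_ne (hz : σ z = -1) (hspan : Submodule.span K (Set.range σ) = ⊤) (hn : finrank K V = 12) :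
    0 < finrank K (Fix σ (g 0)) := by
  by_contra h0
  refine H.not_quadratic hz hspan hn fun i => ?_
  apply H.quad_of_fix (H.gcube i)
  rw [← Submodule.finrank_eq_zero (R := K), H.conj_gen i]
  omega

/-- **`p ≠ 2, 3`.** -/
theorem Cov.three (hz : σ z = -1) (h2 : (2 : K) ≠ 0) (h3 : (3 : K) ≠ 0)
    (hspan : Submodule.span K (Set.range σ) = ⊤) (hn : finrank K V = 12) :
    finrank K (Fix σ (g 0)) = 4 ∧ finrank K (Fix σ (g 0 * wd g wb)) = 2 ∧
      finrank K (_root_.Cfsg.Agent.H637.JW.Fix σ (g 0) ⊓ _root_.Cfsg.Agent.H637.JW.Fix σ (wd g wb) : Submodule K V) = 0 := by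
  have hg : ∀ i, wd g [i] = g i := fun i => by simp [wd]
  have hpos := H.fix_ne hz hspan hn
  -- the eigenspaces of `a`
  have ra : wd g [1, 2, 2, 1] * g 0 = g 0 * g 0 * wd g [1, 2, 2, 1] := by
    have h1 : wd g [1, 2, 2, 1] * wd g [0] = wd g [0, 0] * wd g [1, 2, 2, 1] := H.rel (by decide +kernel)
    have h4 : wd g [0, 0] = g 0 * g 0 := by simp [wd]
    rwa [hg, h4] at h1
  obtain ⟨ζ, hζ, hd⟩ := eig_three (σ := σ) h3 (H.gcube 0) (y := wd g [1, 2, 2, 1]) (by rw [ra, mul_inv_cancel_right])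
  have hcom : ∀ A : List (Fin 5), codeW (A ++ [0]) = codeW ([0] ++ A) → wd g A * g 0 = g 0 * wd g A := by
    intro A h
    have h1 : wd g A * wd g [0] = wd g [0] * wd g A := H.rel h
    rwa [hg] at h1
  have ci := hcom wi (by decide +kernel)
  have cj := hcom wj (by decide +kernel)
  have hev : Even (finrank K (Eg σ (g 0) ζ)) := by
    refine even_sub h2 (σ (wd g wi)) (σ (wd g wj)) (H.sq_neg hz (by decide +kernel)) (H.sq_neg hz (by decide +kernel))
      (H.anti hz (by decide +kernel)) _ ?_ ?_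
    · intro w hw
      rw [mem_Eg] at hw ⊢
      rw [← mul_apply', ← ci, mul_apply', hw, map_smul]
    · intro w hw
      rw [mem_Eg] at hw ⊢
      rw [← mul_apply', ← cj, mul_apply', hw, map_smul]
  have h01 : z ∈ _root_.Subgroup.closure ({g 0, g 1} : Set D) := by
    have := H.z_mem (A := [0]) (B := [1]) [false, true, false, true] (by decide +kernel)
    rwa [hg, hg] at this
  have htwo := two_fix (σ := σ) hz h2 h01 ⊤
  rw [top_inf_eq, top_inf_eq, finrank_top, hn, H.conj_gen 1] at htwo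
  have hfa : finrank K (Fix σ (g 0)) = 4 := by
    obtain ⟨m, hm⟩ := hev
    omega
  -- the nine
  set b := wd g wb with hb
  have hb3 : b * b * b = 1 := H.wcube (by decide +kernel)
  have cab : g 0 * b = b * g 0 := (hcom wb (by decide +kernel)).symm
  have e9 := nine' (σ := σ) h3 (H.gcube 0) hb3 cab
  have fb : finrank K (Fix σ b) = finrank K (Fix σ (g 0)) := by
    have h1 : wd g [1, 0, 0, 2, 3] * wd g [0] = wd g wb * wd g [1, 0, 0, 2, 3] := H.rel (by decide +kernel)
    rw [hg] at h1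
    exact fix_conj h1
  have faab : finrank K (Fix σ (g 0 * g 0 * b)) = finrank K (Fix σ (g 0 * b)) := by
    have h1 : wd g [1, 0, 0, 2, 3] * wd g ([0] ++ wb) = wd g ([0, 0] ++ wb) * wd g [1, 0, 0, 2, 3] :=
      H.rel (by decide +kernel)
    have h4 : wd g [0, 0] = g 0 * g 0 := by simp [wd]
    rw [wd_append, wd_append, hg, h4] at h1
    exact fix_conj h1
  -- the fixed space of `E`
  have hc0 : finrank K (_root_.Cfsg.Agent.H637.JW.Fix σ (g 0) ⊓ _root_.Cfsg.Agent.H637.JW.Fix σ b : Submodule K V) + finrank K (_root_.Cfsg.Agent.H637.JW.Fix σ (g 0) ⊓ _root_.Cfsg.Agent.H637.JW.Fix σ b : Submodule K V) ≤ 4 := by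
    have hbb : z ∈ _root_.Subgroup.closure ({b, wd g wb'} : Set D) :=
      H.z_mem (A := wb) (B := wb') [false, true, false, true] (by decide +kernel)
    have h1 := two_fix (σ := σ) hz h2 hbb (_root_.Cfsg.Agent.H637.JW.Fix σ (g 0))
    have h4 : finrank K (_root_.Cfsg.Agent.H637.JW.Fix σ (g 0) ⊓ _root_.Cfsg.Agent.H637.JW.Fix σ b : Submodule K V) ≤
        finrank K (_root_.Cfsg.Agent.H637.JW.Fix σ (g 0) ⊓ _root_.Cfsg.Agent.H637.JW.Fix σ (wd g wb' * wd g wb') : Submodule K V) := by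
      refine fix_conj_sub (c := wd g [1, 4, 3, 1, 4]) ?_ _ ?_
      · rw [hb, ← wd_append wb' wb']
        exact H.rel (by decide +kernel)
      · intro w hw
        have cc := hcom [1, 4, 3, 1, 4] (by decide +kernel)
        rw [mem_Fix] at hw ⊢
        rw [← mul_apply', ← cc, mul_apply', hw]
    have h5 : _root_.Cfsg.Agent.H637.JW.Fix σ (wd g wb' * wd g wb') = _root_.Cfsg.Agent.H637.JW.Fix σ (wd g wb') := fix_sq (H.wcube (by decide +kernel))
    rw [h5] at h4
    (clear * - hfa h1 h4; omega)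
  -- the element `ab` is real
  have rab : wd g [1, 2, 2, 1] * (g 0 * b) = (g 0 * b) * (g 0 * b) * wd g [1, 2, 2, 1] := by
    have h1 : wd g [1, 2, 2, 1] * wd g ([0] ++ wb) = wd g (([0] ++ wb) ++ ([0] ++ wb)) * wd g [1, 2, 2, 1] :=
      H.rel (by decide +kernel)
    rw [wd_append ([0] ++ wb), wd_append [0] wb, hg] at h1
    exact h1
  have cab3 : g 0 * b * (g 0 * b) * (g 0 * b) = 1 := by
    have h1 := H.wcube (A := [0] ++ wb) (by decide +kernel)
    rwa [wd_append, hg] at h1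
  obtain ⟨ζ', hζ', hd'⟩ := eig_three (σ := σ) h3 cab3 (y := wd g [1, 2, 2, 1]) (by rw [rab, mul_inv_cancel_right])
  rw [fb, faab, hfa, hn] at e9
  rw [hn] at hd'
  refine ⟨hfa, ?_, ?_⟩ <;> omega

/-- **`p ≠ 2, 3, 7`.** -/
theorem Cov.path_a (hz : σ z = -1) (h2 : (2 : K) ≠ 0) (h3 : (3 : K) ≠ 0) (h7 : (7 : K) ≠ 0)
    (hspan : Submodule.span K (Set.range σ) = ⊤) (hn : finrank K V = 12) : False := by
  have hg : ∀ i, wd g [i] = g i := fun i => by simp [wd]
  obtain ⟨fa, fab, -⟩ := H.three hz h2 h3 hspan hn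
  have hc7 : wd g w7 ^ 7 = 1 := H.pow_one 7 (by decide +kernel)
  have hy3 : wd g wy * wd g wy * wd g wy = 1 := H.wcube (by decide +kernel)
  have hcy : wd g wy * wd g w7 * (wd g wy)⁻¹ = wd g w7 ^ 2 := by
    have h1 : wd g wy * wd g w7 = wd g (w7 ++ w7) * wd g wy := H.rel (by decide +kernel)
    rw [h1, mul_inv_cancel_right, wd_append, pow_two]
  have e7 := eig_seven (σ := σ) h7 hc7 hy3 hcy
  have fy : finrank K (Fix σ (wd g wy)) = finrank K (Fix σ (g 0 * wd g wb)) := by
    have h1 : wd g [0, 1, 1, 4, 2, 3] * wd g ([0] ++ wb) = wd g wy * wd g [0, 1, 1, 4, 2, 3] :=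
      H.rel (by decide +kernel)
    rw [wd_append [0] wb, hg] at h1
    exact fix_conj h1
  have hzm : z ∈ _root_.Subgroup.closure ({wd g w7, wd g w7'} : Set D) :=
    H.z_mem (A := w7) (B := w7') [false, false, true, true, false, false, true, true] (by decide +kernel)
  have hs := scott_sub (σ := σ) hz h2 hzm ⊤ (fun _ _ => trivial) (fun _ _ => trivial)
  rw [top_inf_eq, top_inf_eq, top_inf_eq, finrank_top] at hs
  have f7' : finrank K (Fix σ (wd g w7')) = finrank K (Fix σ (wd g w7)) := by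
    have h1 : wd g [1, 0, 0, 3, 2] * wd g w7 = wd g w7' * wd g [1, 0, 0, 3, 2] := H.rel (by decide +kernel)
    exact fix_conj h1
  have fp : finrank K (Fix σ (wd g w7 * wd g w7')) = finrank K (Fix σ (g 0)) := by
    have h1 : wd g [0, 3] * wd g [0] = wd g (w7 ++ w7') * wd g [0, 3] := H.rel (by decide +kernel)
    rw [hg, wd_append] at h1
    exact fix_conj h1
  rw [f7', fp, fa, hn] at hs
  rw [fy, fab, hn] at e7
  omega

end Cfsg.Agent.H931.A7D
end

-- part: H931/A7D/Data
section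
/-!
# Data for the group ring of `2.A₇` (helper931)
-/

set_option autoImplicit false

namespace Cfsg.Agent.H931.A7D

/-- lifts of order three of the three-cycles `(i j k)`, `i < j < k`, indexed by the decimal number `ijk` -/
def w3 : ℕ → List (Fin 5)
  | 12 => [0]
  | 13 => [1]
  | 14 => [2]
  | 15 => [3]
  | 16 => [4]
  | 23 => [1, 1, 0, 1]
  | 24 => [2, 1, 0, 1]
  | 25 => [3, 1, 0, 1]
  | 26 => [4, 1, 0, 1]
  | 34 => [2, 0, 1, 0]
  | 35 => [3, 0, 1, 0]
  | 36 => [4, 0, 1, 0]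
  | 45 => [3, 0, 2, 0]
  | 46 => [4, 0, 2, 0]
  | 56 => [4, 0, 3, 0]
  | 123 => [0, 1, 0, 0]
  | 124 => [0, 2, 0, 0]
  | 125 => [0, 3, 0, 0]
  | 126 => [0, 4, 0, 0]
  | 134 => [0, 2, 0, 1]
  | 135 => [0, 3, 0, 1]
  | 136 => [0, 4, 0, 1]
  | 145 => [0, 3, 0, 2]
  | 146 => [0, 4, 0, 2]
  | 156 => [0, 4, 0, 3]
  | 234 => [0, 0, 2, 0, 1, 0, 0]
  | 235 => [0, 0, 3, 0, 1, 0, 0]
  | 236 => [0, 0, 4, 0, 1, 0, 0]
  | 245 => [0, 0, 3, 0, 2, 0, 0]
  | 246 => [0, 0, 4, 0, 2, 0, 0]
  | 256 => [0, 0, 4, 0, 3, 0, 0]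
  | 345 => [0, 1, 0, 3, 2, 2, 1]
  | 346 => [0, 1, 0, 4, 2, 2, 1]
  | 356 => [0, 1, 0, 4, 3, 3, 1]
  | 456 => [0, 2, 0, 4, 3, 3, 2]
  | _ => []

/-- `1 + x + x²` -/
def NN (k : ℕ) : GR := [(1, []), (1, w3 k), (1, w3 k ++ w3 k)]

/-- sums of such elements -/
def NS (l : List ℕ) : GR := l.flatMap NN

/-- elements of order five -/
def wx : List (Fin 5) := [0, 0, 1, 2]
def wy5 : List (Fin 5) := [0, 2, 1, 1]

/-- `1 + x + x² + x³ + x⁴` -/
def PH (w : List (Fin 5)) : GR := [(1, []), (1, w), (1, w ++ w), (1, w ++ (w ++ w)), (1, w ++ (w ++ (w ++ w)))]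

/-- combinations of `u (1 + x + x² + x³ + x⁴) v` -/
def cert (l : List (ℤ × List (Fin 5) × List (Fin 5))) : GR :=
  l.flatMap fun t => GR.mul (GR.mul [(t.1, t.2.1)] (PH wx)) [(1, t.2.2)]

end Cfsg.Agent.H931.A7D
end

-- part: H931/A7D/PathB
section
/-!
# `2.A₇` in degree 12, elements of order five (helper931)
-/

set_option autoImplicit false
set_option linter.unusedSectionVars false
set_option maxRecDepth 100000

namespace Cfsg.Agent.H931.A7D

open Module Subgroup Cfsg.Agent.H637.JW Cfsg.Agent.H882.Dim Cfsg.Agent.H882.Sc Cfsg.Agent.H637.A7Cov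

universe u

variable {K : Type*} [Field K] [IsAlgClosed K] {V : Type*} [AddCommGroup V] [Module K V] [FiniteDimensional K V]
  {D : Type u} [Group D] {π : D →* alternatingGroup (Fin 7)} {g : Fin 5 → D} {z : D}
  {β : D →* Matrix.GeneralLinearGroup (Fin 4) (ZMod 7)} (H : Cov π g z β) {σ : D →* Module.End K V}

/-- the sum over the four-set `0123` -/
def S4 : GR := NS [12, 13, 23, 123]

/-- the sum over the five-set `01234`, minus ten -/
def O5 : GR := NS [12, 13, 14, 23, 24, 34, 123, 124, 134, 234] ++ [(-10, [])]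

/-- the certificates -/
def cS : Fin 5 → List (ℤ × List (Fin 5) × List (Fin 5))
  | 0 => []
  | 1 => []
  | 2 => [(-1, [1, 1], [2]), (-1, [], [1, 2]), (-1, [2], [0, 0, 2, 0]), (-1, [], [0, 2]), (-1, [1, 1], []),
      (1, [2], [2, 2, 1, 1])]
  | 3 => [(-1, [2, 1, 3], [3, 1, 2, 3, 0, 1]), (1, [1, 2, 2, 3], [0, 2, 1, 3, 0, 2]),
      (-1, [0, 2, 3, 3], [2, 0, 3, 1, 2]), (1, [2, 3, 3], [3, 0, 2, 3, 3]), (1, [2, 0, 3], [3, 0, 2, 0, 0]),
      (-1, [2, 2, 3], [0, 2, 3, 0, 2])]
  | 4 => [(-1, [2, 1, 4], [1, 4, 0, 2, 4]), (-1, [2, 1, 4], [1, 4, 0, 2]), (-1, [2, 0, 4], [4, 0, 2, 4, 1, 0]),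
      (1, [2, 4, 4], [0, 0, 4, 4, 2]), (-1, [2, 0, 4], [0, 0, 4, 0, 2, 0, 0]), (-1, [2, 4, 4], [0, 1, 0, 4, 2, 2])]

/-- difference of two elements -/
def GR.sub (A B : GR) : GR := GR.add A (GR.smul (-1) B)

theorem ev_sub {A : Type*} [Ring A] (g : Fin 5 → D) (σ : D →* A) (L M : GR) :
    ev g σ (GR.sub L M) = ev g σ L - ev g σ M := by
  unfold GR.sub
  rw [ev_add, ev_smul, Int.cast_neg, Int.cast_one, neg_one_mul, sub_eq_add_neg]

private theorem _root_.Cfsg.Agent.KO698b44f.e2.{ku, kv} {α : Type kv} {M : List α → Sort ku} (φ : ∀ l, M l) {z : M List.nil} {s : ∀ a l, M l → M (List.cons a l)} (h0 : φ List.nil = z) (hs : ∀ a l, φ (List.cons a l) = s a l (φ l)) (l : List α) : φ l = @List.rec α M z s l := List.rec h0 (fun a l ih => (hs a l).trans (congrArg (s a l) ih)) l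
private noncomputable def _root_.Cfsg.Agent.KO698b44f.k12 : type_of% @Nat.decEq := @(letI c0 := @Nat.beq; @(fun x0 x1 => @Bool.rec.{1} @(fun x2 => (@Eq.{1} _ (@c0 @x0 @x1) @x2) → @Decidable (@Eq.{1} _ @x0 @x1)) @(fun x2 => @Decidable.isFalse _ (@Nat.ne_of_beq_eq_false _ _ @x2)) @(fun x2 => @Decidable.isTrue _ (@Nat.eq_of_beq_eq_true _ _ @x2)) (@c0 @x0 @x1) (@Eq.refl.{1} _ (@c0 @x0 @x1))))
private noncomputable def _root_.Cfsg.Agent.KO698b44f.k21 : type_of% @Int.mul := @(letI c0 := @Int.rec.{1}; letI c1 := @Int.ofNat; letI c2 := @Nat.mul; letI c3 := @Nat.rec.{1}; letI c4 := @Int.negSucc; letI c5 := @Nat.succ; @(fun x0 x1 => @c0 @(fun x2 => ℤ) @(fun x2 => @c0 @(fun x3 => ℤ) @(fun x3 => @c1 (@c2 @x2 @x3)) @(fun x3 => @c3 @(fun x4 => ℤ) (@c1 (nat_lit 0)) @(fun x4 x5 => @c4 @x4) (@c2 @x2 (@c5 @x3))) @x1) @(fun x2 => @c0 @(fun x3 => ℤ) @(fun x3 => @c3 @(fun x4 => ℤ) (@c1 (nat_lit 0)) @(fun x4 x5 => @c4 @x4) (@c2 (@c5 @x2) @x3)) @(fun x3 => @c1 (@c2 (@c5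 @x2) (@c5 @x3))) @x1) @x0))
private theorem _root_.Cfsg.Agent.KO698b44f.e21 : @Int.mul = @_root_.Cfsg.Agent.KO698b44f.k21 := by delta _root_.Cfsg.Agent.KO698b44f.k21; rfl'
private noncomputable def _root_.Cfsg.Agent.KO698b44f.k26.{ku} {α : Type ku} {n : Nat} (h : α) (t : Fin n → α) (i : Fin n.succ) : α := @Nat.rec (fun m => m < n.succ → α) (fun _ => h) (fun j _ g => t ⟨j, Nat.lt_of_succ_lt_succ g⟩) i.1 i.2
private theorem _root_.Cfsg.Agent.KO698b44f.e26.{ku} : @Matrix.vecCons.{ku} = @_root_.Cfsg.Agent.KO698b44f.k26.{ku} := funext fun α => funext fun n => funext fun h => funext fun t => funext fun i => by cases i with | mk m g => cases m <;> rfl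
private noncomputable def _root_.Cfsg.Agent.KO698b44f.k29 : type_of% @Decidable.decide := @(fun x0 x1 => @Decidable.rec.{1} _ @(fun x2 => @Bool) @(fun x2 => @Bool.false) @(fun x2 => @Bool.true) @x1)
private theorem _root_.Cfsg.Agent.KO698b44f.e29 : @Decidable.decide = @_root_.Cfsg.Agent.KO698b44f.k29 := by delta _root_.Cfsg.Agent.KO698b44f.k29; rfl'
private noncomputable def _root_.Cfsg.Agent.KO698b44f.k30l (n : Nat) (P : ∀ k, k < n → Prop) (H : ∀ k h, Decidable (P k h)) (m : Nat) : m ≤ n → Bool := @Nat.rec (fun m => m ≤ n → Bool) (fun _ => true) (fun k ih h => @Decidable.rec (P k h) (fun _ => Bool) (fun _ => false) (fun _ => ih (Nat.le_of_succ_le h)) (H k h)) m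
private theorem _root_.Cfsg.Agent.KO698b44f.k30ls (n : Nat) (P : ∀ k, k < n → Prop) (H : ∀ k h, Decidable (P k h)) (m : Nat) : ∀ h : m ≤ n, _root_.Cfsg.Agent.KO698b44f.k30l n P H m h = true ↔ ∀ k (g : k < m), P k (Nat.lt_of_lt_of_le g h) := by induction m with | zero => exact fun _ => ⟨fun _ _ g => absurd g (Nat.not_lt_zero _), fun _ => rfl⟩ | succ m ih => intro h; show @Decidable.rec (P m h) (fun _ => Bool) (fun _ => false) (fun _ => _root_.Cfsg.Agent.KO698b44f.k30l n P H m (Nat.le_of_succ_le h)) (H m h) = true ↔ _; cases H m h with | isFalse q => exact ⟨fun g => absurd g Bool.false_ne_true, fun g => absurd (g m (Nat.lt_succ_self m)) q⟩ | isTrue q => exact ⟨fun g k hk => (Nat.lt_succ_iff_lt_or_eq.1 hk).elim ((ih _).1 g k) fun e => by subst e; exact q, fun g => (ih _).2 fun k hk => g k (Nat.lt_succ_of_lt hk)⟩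
private noncomputable def _root_.Cfsg.Agent.KO698b44f.k30 (n : Nat) (P : ∀ k, k < n → Prop) (H : ∀ k h, Decidable (P k h)) : Decidable (∀ k h, P k h) := @Bool.rec (fun b => _root_.Cfsg.Agent.KO698b44f.k30l n P H n (Nat.le_refl n) = b → Decidable (∀ k h, P k h)) (fun g => isFalse fun q => Bool.false_ne_true (g.symm.trans ((_root_.Cfsg.Agent.KO698b44f.k30ls n P H n _).2 fun k h => q k h))) (fun g => isTrue fun k h => (_root_.Cfsg.Agent.KO698b44f.k30ls n P H n _).1 g k h) (_root_.Cfsg.Agent.KO698b44f.k30l n P H n (Nat.le_refl n)) rfl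
private noncomputable def _root_.Cfsg.Agent.KO698b44f.k31 : type_of% @Nat.decidableForallFin := @(fun x0 x1 x2 => @Decidable.rec.{1} _ @(fun x3 => @Decidable ((x4 : @Fin @x0) → @x1 @x4)) @(fun x3 => @Decidable.isFalse _ (@decidable_of_decidable_of_iff._proof_1 _ _ (@Nat.decidableForallFin._proof_1 _ @x1) @x3)) @(fun x3 => @Decidable.isTrue _ (@Iff.mp _ _ (@Nat.decidableForallFin._proof_1 _ @x1) @x3)) (@Cfsg.Agent.KO698b44f.k30 @x0 @(fun x3 x4 => @x1 (@Fin.mk _ @x3 @x4)) @(fun x3 x4 => @x2 (@Fin.mk _ @x3 @x4))))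
private theorem _root_.Cfsg.Agent.KO698b44f.e31 : @Nat.decidableForallFin = @_root_.Cfsg.Agent.KO698b44f.k31 := by delta _root_.Cfsg.Agent.KO698b44f.k31; exact Subsingleton.elim _ _
private noncomputable def _root_.Cfsg.Agent.KO698b44f.k32 : (by first | exact type_of% @Cfsg.Agent.H931.A7D.dig | exact Unit : Sort _) := by first | (refine @Subtype.val _ (fun g => @Cfsg.Agent.H931.A7D.dig = @g) (@Subtype.mk _ _ (@(fun x0 x1 => @Nat.mod (@Nat.div @x0 (@Nat.pow (nat_lit 8) @x1)) (nat_lit 8))) ?_); rfl') | exact @Cfsg.Agent.H931.A7D.dig | exact ()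
private theorem _root_.Cfsg.Agent.KO698b44f.e32 : (by first | exact @Cfsg.Agent.H931.A7D.dig = @_root_.Cfsg.Agent.KO698b44f.k32 | exact True : Prop) := by first | (delta _root_.Cfsg.Agent.KO698b44f.k32; exact @Subtype.property _ (fun g => @Cfsg.Agent.H931.A7D.dig = @g) _) | rfl | trivial
private noncomputable def _root_.Cfsg.Agent.KO698b44f.k37.{ku0} : type_of% @Fin.elim0.{ku0} := @(fun x0 x1 => @Fin.rec.{ku0} (nat_lit 0) @(fun x2 => @x0) @(fun x2 x3 => @False.rec.{ku0} @(fun x4 => @x0) (@Nat.not_lt_zero @x2 @x3)) @x1)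
private theorem _root_.Cfsg.Agent.KO698b44f.e37.{ku0} : @Fin.elim0.{ku0} = @_root_.Cfsg.Agent.KO698b44f.k37.{ku0} := by delta _root_.Cfsg.Agent.KO698b44f.k37; rfl'
private noncomputable def _root_.Cfsg.Agent.KO698b44f.k38 : (by first | exact type_of% @Cfsg.Agent.H931.A7D.genC | exact Unit : Sort _) := by first | (refine @Subtype.val _ (fun g => @Cfsg.Agent.H931.A7D.genC = @g) (@Subtype.mk _ _ (@(letI c0 := @Cfsg.Agent.KO698b44f.k26.{0}; @c0 _ (nat_lit 4) (nat_lit 26403313226672) (@c0 _ (nat_lit 3) (nat_lit 211662460158336) (@c0 _ (nat_lit 2) (nat_lit 169364589975705) (@c0 _ (nat_lit 1) (nat_lit 63232716477300) (@c0 _ (nat_lit 0) (nat_lit 157242081755827) (@Cfsg.Agent.KO698b44f.k37.{1} _))))))) ?_); rewrite [← Cfsg.Agent.KO698b44f.e37.{1}, ← Cfsg.Agent.KO698b44f.e26.{0}]; rfl') | exact @Cfsg.Agent.H931.A7D.genC | exact ()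
private theorem _root_.Cfsg.Agent.KO698b44f.e38 : (by first | exact @Cfsg.Agent.H931.A7D.genC = @_root_.Cfsg.Agent.KO698b44f.k38 | exact True : Prop) := by first | (delta _root_.Cfsg.Agent.KO698b44f.k38; exact @Subtype.property _ (fun g => @Cfsg.Agent.H931.A7D.genC = @g) _) | rfl | trivial
private noncomputable def _root_.Cfsg.Agent.KO698b44f.k39.{ku0} : type_of% @List.append.{ku0} := @(fun x0 x1 x2 => @List.rec.{(ku0+1), ku0} @x0 @(fun x3 => (@List.{ku0} @x0) → @List.{ku0} @x0) @(fun x3 => @x3) @(fun x3 x4 x5 x6 => @x3 :: (@x5 @x6)) @x1 @x2)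
private theorem _root_.Cfsg.Agent.KO698b44f.e39.{ku0} : @List.append.{ku0} = @_root_.Cfsg.Agent.KO698b44f.k39.{ku0} := by delta _root_.Cfsg.Agent.KO698b44f.k39; funext a0 a1 a2; refine (congrFun (_root_.Cfsg.Agent.KO698b44f.e2 (fun a1 a2 => @List.append.{ku0} a0 a1 a2) ?_ (fun c0 c1 => ?_) a1) a2 :) <;> (rfl')
private noncomputable def _root_.Cfsg.Agent.KO698b44f.k40.{ku0} : type_of% @List.flatten.{ku0} := @(fun x0 x1 => @List.rec.{(ku0+1), ku0} (@List.{ku0} @x0) @(fun x2 => @List.{ku0} @x0) [] @(fun x2 x3 x4 => @Cfsg.Agent.KO698b44f.k39.{ku0} _ @x2 @x4) @x1)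
private theorem _root_.Cfsg.Agent.KO698b44f.e40.{ku0} : @List.flatten.{ku0} = @_root_.Cfsg.Agent.KO698b44f.k40.{ku0} := by delta _root_.Cfsg.Agent.KO698b44f.k40; rewrite [← Cfsg.Agent.KO698b44f.e39.{ku0}]; funext a0 a1; refine (_root_.Cfsg.Agent.KO698b44f.e2 (fun a1 => @List.flatten.{ku0} a0 a1) ?_ (fun c0 c1 => ?_) a1 :) <;> (rfl')
private noncomputable def _root_.Cfsg.Agent.KO698b44f.k41.{ku0, ku1} : type_of% @List.map.{ku0, ku1} := @(fun x0 x1 x2 x3 => @List.rec.{(ku1+1), ku0} @x0 @(fun x4 => @List.{ku1} @x1) [] @(fun x4 x5 x6 => (@x2 @x4) :: @x6) @x3)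
private theorem _root_.Cfsg.Agent.KO698b44f.e41.{ku0, ku1} : @List.map.{ku0, ku1} = @_root_.Cfsg.Agent.KO698b44f.k41.{ku0, ku1} := by delta _root_.Cfsg.Agent.KO698b44f.k41; funext a0 a1 a2 a3; refine (_root_.Cfsg.Agent.KO698b44f.e2 (fun a3 => @List.map.{ku0, ku1} a0 a1 a2 a3) ?_ (fun c0 c1 => ?_) a3 :) <;> (rfl')
private noncomputable def _root_.Cfsg.Agent.KO698b44f.k42 : (by first | exact type_of% @Cfsg.Agent.H931.A7D.NN | exact Unit : Sort _) := by first | (refine @Subtype.val _ (fun g => @Cfsg.Agent.H931.A7D.NN = @g) (@Subtype.mk _ _ (@(letI c0 := @Int.ofNat; letI c1 := @Cfsg.Agent.H931.A7D.w3; @(fun x0 => ((@c0 (nat_lit 1), [])) :: (((@c0 (nat_lit 1), @c1 @x0)) :: (((@c0 (nat_lit 1), @Cfsg.Agent.KO698b44f.k39.{0} _ (@c1 @x0) (@c1 @x0))) :: []))))) ?_); rewrite [← Cfsg.Agent.KO698b44f.e39.{0}]; (try delta Cfsg.Agent.H931.A7D.NN); (try generalize @Cfsg.Agent.H931.A7D.w3 = g0); rfl') | exact @Cfsg.Agent.H931.A7D.NN | exact ()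
private theorem _root_.Cfsg.Agent.KO698b44f.e42 : (by first | exact @Cfsg.Agent.H931.A7D.NN = @_root_.Cfsg.Agent.KO698b44f.k42 | exact True : Prop) := by first | (delta _root_.Cfsg.Agent.KO698b44f.k42; exact @Subtype.property _ (fun g => @Cfsg.Agent.H931.A7D.NN = @g) _) | rfl | trivial
private noncomputable def _root_.Cfsg.Agent.KO698b44f.k43 : (by first | exact type_of% @Cfsg.Agent.H931.A7D.NS | exact Unit : Sort _) := by first | (refine @Subtype.val _ (fun g => @Cfsg.Agent.H931.A7D.NS = @g) (@Subtype.mk _ _ (@(fun x0 => @Cfsg.Agent.KO698b44f.k40.{0} _ (@Cfsg.Agent.KO698b44f.k41.{0, 0} _ _ @Cfsg.Agent.KO698b44f.k42 @x0))) ?_); rewrite [← Cfsg.Agent.KO698b44f.e42, ← Cfsg.Agent.KO698b44f.e41.{0, 0}, ← Cfsg.Agent.KO698b44f.e40.{0}]; (try delta Cfsg.Agent.H931.A7D.NS); (try generalize @Cfsg.Agent.H931.A7D.NN = g0); rfl') | exact @Cfsg.Agent.H931.A7D.NS | exact ()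
private theorem _root_.Cfsg.Agent.KO698b44f.e43 : (by first | exact @Cfsg.Agent.H931.A7D.NS = @_root_.Cfsg.Agent.KO698b44f.k43 | exact True : Prop) := by first | (delta _root_.Cfsg.Agent.KO698b44f.k43; exact @Subtype.property _ (fun g => @Cfsg.Agent.H931.A7D.NS = @g) _) | rfl | trivial
private noncomputable def _root_.Cfsg.Agent.KO698b44f.k44 : type_of% @Bool.decEq := @(letI c0 := @Bool.rec.{1}; letI c1 := @Decidable.isTrue; letI c2 := @rfl.{1}; letI c3 := @Decidable.isFalse; letI c4 := @Bool.noConfusion.{0}; @(fun x0 x1 => @c0 @(fun x2 => @Decidable (@Eq.{1} _ @x2 @x1)) (@c0 @(fun x2 => @Decidable (@Eq.{1} _ @Bool.false @x2)) (@c1 _ (@c2 _ _)) (@c3 _ @(fun x2 => @c4 _ _ _ @x2)) @x1) (@c0 @(fun x2 => @Decidable (@Eq.{1} _ @Bool.true @x2)) (@c3 _ @(fun x2 => @c4 _ _ _ @x2)) (@c1 _ (@c2 _ _)) @x1) @x0))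
private noncomputable def _root_.Cfsg.Agent.KO698b44f.k45 : type_of% @instDecidableEqBool := @Cfsg.Agent.KO698b44f.k44
private theorem _root_.Cfsg.Agent.KO698b44f.e45 : @instDecidableEqBool = @_root_.Cfsg.Agent.KO698b44f.k45 := by delta _root_.Cfsg.Agent.KO698b44f.k45; exact Subsingleton.elim _ _
private noncomputable def _root_.Cfsg.Agent.KO698b44f.k46 : type_of% @Int.decEq := @(letI c0 := @Int.rec.{1}; letI c1 := @Int.ofNat; letI c2 := @Decidable.rec.{1}; letI c3 := @Decidable.isFalse; letI c4 := @Decidable.isTrue; letI c5 := @Int.negSucc; @(fun x0 x1 => @c0 @(fun x2 => @Decidable (@Eq.{1} _ @x2 @x1)) @(fun x2 => @c0 @(fun x3 => @Decidable (@Eq.{1} _ (@c1 @x2) @x3)) @(fun x3 => @c2 _ @(fun x4 => @Decidable (@Eq.{1} _ (@c1 @x2) (@c1 @x3))) @(fun x4 => @c3 _ (@Int.decEq._proof_2 @x2 @x3 @x4)) @(fun x4 => @c4 _ (@Int.decEq._proof_1 @x2 @x3 @x4)) (@Cfsg.Agent.KO698b44f.k12 @x2 @x3)) @(fun x3 => @c3 _ (@Int.decEq._proof_3 @x2 @x3)) @x1) @(fun x2 =>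 @c0 @(fun x3 => @Decidable (@Eq.{1} _ (@c5 @x2) @x3)) @(fun x3 => @c3 _ (@Int.decEq._proof_4 @x2 @x3)) @(fun x3 => @c2 _ @(fun x4 => @Decidable (@Eq.{1} _ (@c5 @x2) (@c5 @x3))) @(fun x4 => @c3 _ (@Int.decEq._proof_6 @x2 @x3 @x4)) @(fun x4 => @c4 _ (@Int.decEq._proof_5 @x2 @x3 @x4)) (@Cfsg.Agent.KO698b44f.k12 @x2 @x3)) @x1) @x0))
private theorem _root_.Cfsg.Agent.KO698b44f.e46 : @Int.decEq = @_root_.Cfsg.Agent.KO698b44f.k46 := by delta _root_.Cfsg.Agent.KO698b44f.k46; exact Subsingleton.elim _ _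
private noncomputable def _root_.Cfsg.Agent.KO698b44f.k47s : (by first | exact Subtype (fun g => @BEq.beq.{0} (ℤ) _ = @g) | exact Unit : Sort _) := by first | (refine @Subtype.mk _ _ (@(fun x0 x1 => @Decidable.rec.{1} _ @(fun x2 => @Bool) @(fun x2 => @Bool.false) @(fun x2 => @Bool.true) (@Cfsg.Agent.KO698b44f.k46 @x0 @x1))) ?_; rewrite [← Cfsg.Agent.KO698b44f.e46]; rfl') | exact ⟨_, rfl⟩ | exact ()
private noncomputable def _root_.Cfsg.Agent.KO698b44f.k47 : (by first | exact type_of% (@Subtype.val _ _ _root_.Cfsg.Agent.KO698b44f.k47s) | exact Unit : Sort _) := by first | exact @Subtype.val _ _ _root_.Cfsg.Agent.KO698b44f.k47s | exact ()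
private theorem _root_.Cfsg.Agent.KO698b44f.e47 : (by first | exact type_of% (show _ = @_root_.Cfsg.Agent.KO698b44f.k47 from @Subtype.property _ _ _root_.Cfsg.Agent.KO698b44f.k47s) | exact True : Prop) := by first | exact @Subtype.property _ _ _root_.Cfsg.Agent.KO698b44f.k47s | trivial
private noncomputable def _root_.Cfsg.Agent.KO698b44f.k48s : (by first | exact Subtype (fun g => @HMod.hMod.{0, 0, 0} (ℤ) (ℤ) (ℤ) _ = @g) | exact Unit : Sort _) := by first | (refine @Subtype.mk _ _ (@(letI c0 := @Int.rec.{1}; letI c1 := @Int.ofNat; letI c2 := @Nat.mod; letI c3 := @Nat.succ; letI c4 := @Nat.sub; @(fun x0 x1 => @c0 @(fun x2 => ℤ) @(fun x2 => @c1 (@c2 @x2 (@c0 @(fun x3 => ℕ) @(fun x3 => @x3) @(fun x3 => @c3 @x3) @x1))) @(fun x2 => @Nat.rec.{1} @(fun x3 => ℤ) (@c1 (@c4 (@c0 @(fun x3 => ℕ) @(fun x3 => @x3) @(fun x3 => @c3 @x3) @x1) (@c3 (@c2 @x2 (@c0 @(fun x3 => ℕ) @(fun x3 => @x3) @(fun x3 => @c3 @x3) @x1))))) @(fun x3 x4 => @Int.negSucc @x3) (@c4 (@c3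 (@c2 @x2 (@c0 @(fun x3 => ℕ) @(fun x3 => @x3) @(fun x3 => @c3 @x3) @x1))) (@c0 @(fun x3 => ℕ) @(fun x3 => @x3) @(fun x3 => @c3 @x3) @x1))) @x0))) ?_; rfl') | exact ⟨_, rfl⟩ | exact ()
private noncomputable def _root_.Cfsg.Agent.KO698b44f.k48 : (by first | exact type_of% (@Subtype.val _ _ _root_.Cfsg.Agent.KO698b44f.k48s) | exact Unit : Sort _) := by first | exact @Subtype.val _ _ _root_.Cfsg.Agent.KO698b44f.k48s | exact ()
private theorem _root_.Cfsg.Agent.KO698b44f.e48 : (by first | exact type_of% (show _ = @_root_.Cfsg.Agent.KO698b44f.k48 from @Subtype.property _ _ _root_.Cfsg.Agent.KO698b44f.k48s) | exact True : Prop) := by first | exact @Subtype.property _ _ _root_.Cfsg.Agent.KO698b44f.k48s | trivial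
private noncomputable def _root_.Cfsg.Agent.KO698b44f.k49.{ku0} : type_of% @List.all.{ku0} := @(fun x0 x1 x2 => @List.rec.{(ku0+1), ku0} @x0 @(fun x3 => (@x0 → @Bool) → @Bool) @(fun x3 => @Bool.true) @(fun x3 x4 x5 x6 => @Bool.rec.{1} @(fun x7 => @Bool) @Bool.false (@x5 @x6) (@x6 @x3)) @x1 @x2)
private theorem _root_.Cfsg.Agent.KO698b44f.e49.{ku0} : @List.all.{ku0} = @_root_.Cfsg.Agent.KO698b44f.k49.{ku0} := by delta _root_.Cfsg.Agent.KO698b44f.k49; funext a0 a1 a2; refine (congrFun (_root_.Cfsg.Agent.KO698b44f.e2 (fun a1 a2 => @List.all.{ku0} a0 a1 a2) ?_ (fun c0 c1 => ?_) a1) a2 :) <;> (rfl')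
private noncomputable def _root_.Cfsg.Agent.KO698b44f.oLe.{ku} (α : Sort ku) (a b : Nat) (f t : α) : α := @Decidable.rec (@LE.le Nat instLENat a b) (fun _ => α) (fun _ => f) (fun _ => t) (Nat.decLe a b)
private noncomputable def _root_.Cfsg.Agent.KO698b44f.k50.{ku} (α : Sort ku) (a b : Nat) (f t : α) : α := @Bool.rec (fun _ => α) f t (Nat.ble a b)
private theorem _root_.Cfsg.Agent.KO698b44f.e50.{ku} : @_root_.Cfsg.Agent.KO698b44f.oLe.{ku} = @_root_.Cfsg.Agent.KO698b44f.k50.{ku} := funext fun α => funext fun a => funext fun b => funext fun f => funext fun t => by delta _root_.Cfsg.Agent.KO698b44f.oLe _root_.Cfsg.Agent.KO698b44f.k50; cases h : Nat.ble a b <;> cases Nat.decLe a b <;> rename_i g <;> first | rfl | exact absurd (h.symm.trans (Nat.ble_eq_true_of_le g)) Bool.false_ne_true | exact absurd (Nat.le_of_ble_eq_true h) g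
private noncomputable def _root_.Cfsg.Agent.KO698b44f.k51.{ku0, ku1} : type_of% @List.foldr.{ku0, ku1} := @(fun x0 x1 x2 x3 x4 => @List.rec.{(ku1+1), ku0} @x0 @(fun x5 => @x1) @x3 @(fun x5 x6 x7 => @x2 @x5 @x7) @x4)
private theorem _root_.Cfsg.Agent.KO698b44f.e51.{ku0, ku1} : @List.foldr.{ku0, ku1} = @_root_.Cfsg.Agent.KO698b44f.k51.{ku0, ku1} := by delta _root_.Cfsg.Agent.KO698b44f.k51; funext a0 a1 a2 a3 a4; refine (_root_.Cfsg.Agent.KO698b44f.e2 (fun a4 => @List.foldr.{ku0, ku1} a0 a1 a2 a3 a4) ?_ (fun c0 c1 => ?_) a4 :) <;> (rfl')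
private noncomputable def _root_.Cfsg.Agent.KO698b44f.k52 : (by first | exact type_of% @Cfsg.Agent.H931.A7D.pack | exact Unit : Sort _) := by first | (refine @Subtype.val _ (fun g => @Cfsg.Agent.H931.A7D.pack = @g) (@Subtype.mk _ _ (@(fun x0 => @Cfsg.Agent.KO698b44f.k51.{0, 0} _ _ @(fun x1 x2 => @Nat.add @x1 (@Nat.mul (nat_lit 8) @x2)) (nat_lit 0) @x0)) ?_); rewrite [← Cfsg.Agent.KO698b44f.e51.{0, 0}]; rfl') | exact @Cfsg.Agent.H931.A7D.pack | exact ()
private theorem _root_.Cfsg.Agent.KO698b44f.e52 : (by first | exact @Cfsg.Agent.H931.A7D.pack = @_root_.Cfsg.Agent.KO698b44f.k52 | exact True : Prop) := by first | (delta _root_.Cfsg.Agent.KO698b44f.k52; exact @Subtype.property _ (fun g => @Cfsg.Agent.H931.A7D.pack = @g) _) | rfl | trivial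
private noncomputable def _root_.Cfsg.Agent.KO698b44f.k53 : (by first | exact type_of% @Cfsg.Agent.H931.A7D.nent | exact Unit : Sort _) := by first | (refine @Subtype.val _ (fun g => @Cfsg.Agent.H931.A7D.nent = @g) (@Subtype.mk _ _ (@(letI c0 := @Nat.mod; @(fun x0 x1 => @c0 (@Nat.sub (nat_lit 7) (@c0 (@Cfsg.Agent.KO698b44f.k32 @x0 @x1) (nat_lit 7))) (nat_lit 7)))) ?_); rewrite [← Cfsg.Agent.KO698b44f.e32]; (try delta Cfsg.Agent.H931.A7D.nent); (try generalize @Cfsg.Agent.H931.A7D.dig = g0); rfl') | exact @Cfsg.Agent.H931.A7D.nent | exact ()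
private theorem _root_.Cfsg.Agent.KO698b44f.e53 : (by first | exact @Cfsg.Agent.H931.A7D.nent = @_root_.Cfsg.Agent.KO698b44f.k53 | exact True : Prop) := by first | (delta _root_.Cfsg.Agent.KO698b44f.k53; exact @Subtype.property _ (fun g => @Cfsg.Agent.H931.A7D.nent = @g) _) | rfl | trivial
private noncomputable def _root_.Cfsg.Agent.KO698b44f.k54 : (by first | exact type_of% @Cfsg.Agent.H931.A7D.negC | exact Unit : Sort _) := by first | (refine @Subtype.val _ (fun g => @Cfsg.Agent.H931.A7D.negC = @g) (@Subtype.mk _ _ (@(letI c0 := @Cfsg.Agent.KO698b44f.k53; @(fun x0 => @Cfsg.Agent.KO698b44f.k52 ((@c0 @x0 (nat_lit 0)) :: ((@c0 @x0 (nat_lit 1)) :: ((@c0 @x0 (nat_lit 2)) :: ((@c0 @x0 (nat_lit 3)) :: ((@c0 @x0 (nat_lit 4)) :: ((@c0 @x0 (nat_lit 5)) :: ((@c0 @x0 (nat_lit 6)) :: ((@c0 @x0 (nat_lit 7)) :: ((@c0 @x0 (nat_lit 8)) :: ((@c0 @x0 (nat_lit 9)) :: ((@c0 @x0 (nat_lit 10)) :: ((@c0 @x0 (nat_lit 11)) :: ((@c0 @x0 (nat_lit 12)) :: ((@c0 @x0 (nat_lit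 13)) :: ((@c0 @x0 (nat_lit 14)) :: ((@c0 @x0 (nat_lit 15)) :: []))))))))))))))))))) ?_); rewrite [← Cfsg.Agent.KO698b44f.e53, ← Cfsg.Agent.KO698b44f.e52]; (try delta Cfsg.Agent.H931.A7D.negC); (try generalize @Cfsg.Agent.H931.A7D.pack = g0); (try generalize @Cfsg.Agent.H931.A7D.nent = g1); rfl') | exact @Cfsg.Agent.H931.A7D.negC | exact ()
private theorem _root_.Cfsg.Agent.KO698b44f.e54 : (by first | exact @Cfsg.Agent.H931.A7D.negC = @_root_.Cfsg.Agent.KO698b44f.k54 | exact True : Prop) := by first | (delta _root_.Cfsg.Agent.KO698b44f.k54; exact @Subtype.property _ (fun g => @Cfsg.Agent.H931.A7D.negC = @g) _) | rfl | trivial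
private noncomputable def _root_.Cfsg.Agent.KO698b44f.k55 : (by first | exact type_of% @Cfsg.Agent.H931.A7D.ent | exact Unit : Sort _) := by first | (refine @Subtype.val _ (fun g => @Cfsg.Agent.H931.A7D.ent = @g) (@Subtype.mk _ _ (@(letI c0 := @Nat.add; letI c1 := @Nat.mul; letI c2 := @Cfsg.Agent.KO698b44f.k32; @(fun x0 x1 x2 x3 => @Nat.mod (@c0 (@c0 (@c0 (@c1 (@c2 @x0 (@c1 (nat_lit 4) @x2)) (@c2 @x1 @x3)) (@c1 (@c2 @x0 (@c0 (@c1 (nat_lit 4) @x2) (nat_lit 1))) (@c2 @x1 (@c0 (nat_lit 4) @x3)))) (@c1 (@c2 @x0 (@c0 (@c1 (nat_lit 4) @x2) (nat_lit 2))) (@c2 @x1 (@c0 (nat_lit 8) @x3)))) (@c1 (@c2 @x0 (@c0 (@c1 (nat_lit 4) @x2) (nat_lit 3))) (@c2 @x1 (@c0 (nat_lit 12) @x3)))) (nat_lit 7)))) ?_); rewrite [← Cfsg.Agent.KO698b44f.e32]; (try delta Cfsg.Agent.H931.A7D.ent); (try generalize @Cfsg.Agent.H931.A7D.dig = g0); rfl') | exact @Cfsg.Agent.H931.A7D.ent | exact ()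
private theorem _root_.Cfsg.Agent.KO698b44f.e55 : (by first | exact @Cfsg.Agent.H931.A7D.ent = @_root_.Cfsg.Agent.KO698b44f.k55 | exact True : Prop) := by first | (delta _root_.Cfsg.Agent.KO698b44f.k55; exact @Subtype.property _ (fun g => @Cfsg.Agent.H931.A7D.ent = @g) _) | rfl | trivial
private noncomputable def _root_.Cfsg.Agent.KO698b44f.k56 : (by first | exact type_of% @Cfsg.Agent.H931.A7D.mulC | exact Unit : Sort _) := by first | (refine @Subtype.val _ (fun g => @Cfsg.Agent.H931.A7D.mulC = @g) (@Subtype.mk _ _ (@(letI c0 := @Cfsg.Agent.KO698b44f.k55; @(fun x0 x1 => @Cfsg.Agent.KO698b44f.k52 ((@c0 @x0 @x1 (nat_lit 0) (nat_lit 0)) :: ((@c0 @x0 @x1 (nat_lit 0) (nat_lit 1)) :: ((@c0 @x0 @x1 (nat_lit 0) (nat_lit 2)) :: ((@c0 @x0 @x1 (nat_lit 0) (nat_lit 3)) :: ((@c0 @x0 @x1 (nat_lit 1) (nat_lit 0)) :: ((@c0 @x0 @x1 (nat_lit 1) (nat_lit 1)) :: ((@c0 @x0 @x1 (nat_lit 1) (nat_lit 2)) :: ((@c0 @x0 @x1 (nat_lit 1) (nat_lit 3)) :: ((@c0 @x0 @x1 (nat_lit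 2) (nat_lit 0)) :: ((@c0 @x0 @x1 (nat_lit 2) (nat_lit 1)) :: ((@c0 @x0 @x1 (nat_lit 2) (nat_lit 2)) :: ((@c0 @x0 @x1 (nat_lit 2) (nat_lit 3)) :: ((@c0 @x0 @x1 (nat_lit 3) (nat_lit 0)) :: ((@c0 @x0 @x1 (nat_lit 3) (nat_lit 1)) :: ((@c0 @x0 @x1 (nat_lit 3) (nat_lit 2)) :: ((@c0 @x0 @x1 (nat_lit 3) (nat_lit 3)) :: []))))))))))))))))))) ?_); rewrite [← Cfsg.Agent.KO698b44f.e55, ← Cfsg.Agent.KO698b44f.e52]; (try delta Cfsg.Agent.H931.A7D.mulC); (try generalize @Cfsg.Agent.H931.A7D.pack = g0); (try generalize @Cfsg.Agent.H931.A7D.ent = g1); rfl') | exact @Cfsg.Agent.H931.A7D.mulC | exact ()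
private theorem _root_.Cfsg.Agent.KO698b44f.e56 : (by first | exact @Cfsg.Agent.H931.A7D.mulC = @_root_.Cfsg.Agent.KO698b44f.k56 | exact True : Prop) := by first | (delta _root_.Cfsg.Agent.KO698b44f.k56; exact @Subtype.property _ (fun g => @Cfsg.Agent.H931.A7D.mulC = @g) _) | rfl | trivial
private noncomputable def _root_.Cfsg.Agent.KO698b44f.k57 : (by first | exact type_of% @Cfsg.Agent.H931.A7D.codeW | exact Unit : Sort _) := by first | (refine @Subtype.val _ (fun g => @Cfsg.Agent.H931.A7D.codeW = @g) (@Subtype.mk _ _ (@(fun x0 => @Cfsg.Agent.KO698b44f.k51.{0, 0} _ _ @(fun x1 x2 => @Cfsg.Agent.KO698b44f.k56 (@Cfsg.Agent.KO698b44f.k38 @x1) @x2) (@Cfsg.Agent.KO698b44f.k52 ((nat_lit 1) :: ((nat_lit 0) :: ((nat_lit 0) :: ((nat_lit 0) :: ((nat_lit 0) :: ((nat_lit 1) :: ((nat_lit 0) :: ((nat_lit 0) :: ((nat_lit 0) :: ((nat_lit 0) :: ((nat_lit 1) :: ((nat_lit 0) :: ((nat_lit 0) :: ((nat_lit 0) :: ((nat_lit 0) :: ((nat_lit 1) :: []))))))))))))))))) @x0))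 ?_); rewrite [← Cfsg.Agent.KO698b44f.e52, ← Cfsg.Agent.KO698b44f.e38, ← Cfsg.Agent.KO698b44f.e56, ← Cfsg.Agent.KO698b44f.e51.{0, 0}]; (try delta Cfsg.Agent.H931.A7D.codeW); (try generalize @Cfsg.Agent.H931.A7D.mulC = g0); (try generalize @Cfsg.Agent.H931.A7D.genC = g1); (try generalize @Cfsg.Agent.H931.A7D.pack = g2); rfl') | exact @Cfsg.Agent.H931.A7D.codeW | exact ()
private theorem _root_.Cfsg.Agent.KO698b44f.e57 : (by first | exact @Cfsg.Agent.H931.A7D.codeW = @_root_.Cfsg.Agent.KO698b44f.k57 | exact True : Prop) := by first | (delta _root_.Cfsg.Agent.KO698b44f.k57; exact @Subtype.property _ (fun g => @Cfsg.Agent.H931.A7D.codeW = @g) _) | rfl | trivial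
private noncomputable def _root_.Cfsg.Agent.KO698b44f.oEq.{ku} (α : Sort ku) (a b : Nat) (f t : α) : α := @Decidable.rec (a = b) (fun _ => α) (fun _ => f) (fun _ => t) (Nat.decEq a b)
private noncomputable def _root_.Cfsg.Agent.KO698b44f.k58.{ku} (α : Sort ku) (a b : Nat) (f t : α) : α := @Bool.rec (fun _ => α) f t (Nat.beq a b)
private theorem _root_.Cfsg.Agent.KO698b44f.e58.{ku} : @_root_.Cfsg.Agent.KO698b44f.oEq.{ku} = @_root_.Cfsg.Agent.KO698b44f.k58.{ku} := funext fun α => funext fun a => funext fun b => funext fun f => funext fun t => by delta _root_.Cfsg.Agent.KO698b44f.oEq _root_.Cfsg.Agent.KO698b44f.k58; cases h : Nat.beq a b <;> cases Nat.decEq a b <;> rename_i g <;> first | rfl | exact absurd g (Nat.ne_of_beq_eq_false h) | exact absurd (Nat.eq_of_beq_eq_true h) g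
private noncomputable def _root_.Cfsg.Agent.KO698b44f.k59 : type_of% @Int.add := @(letI c0 := @Int.rec.{1}; letI c1 := @Int.ofNat; letI c2 := @Nat.add; letI c3 := @Nat.rec.{1}; letI c4 := @Nat.sub; letI c5 := @Nat.succ; letI c6 := @Int.negSucc; @(fun x0 x1 => @c0 @(fun x2 => ℤ) @(fun x2 => @c0 @(fun x3 => ℤ) @(fun x3 => @c1 (@c2 @x2 @x3)) @(fun x3 => @c3 @(fun x4 => ℤ) (@c1 (@c4 @x2 (@c5 @x3))) @(fun x4 x5 => @c6 @x4) (@c4 (@c5 @x3) @x2)) @x1) @(fun x2 => @c0 @(fun x3 => ℤ) @(fun x3 => @c3 @(fun x4 => ℤ) (@c1 (@c4 @x3 (@c5 @x2))) @(fun x4 x5 => @c6 @x4) (@c4 (@c5 @x2) @x3)) @(fun x3 => @c6 (@c5 (@c2 @x2 @x3))) @x1) @x0))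
private theorem _root_.Cfsg.Agent.KO698b44f.e59 : @Int.add = @_root_.Cfsg.Agent.KO698b44f.k59 := by delta _root_.Cfsg.Agent.KO698b44f.k59; rfl'
private noncomputable def _root_.Cfsg.Agent.KO698b44f.k60 : (by first | exact type_of% @Cfsg.Agent.H931.A7D.ins | exact Unit : Sort _) := by first | (refine @Subtype.val _ (fun g => @Cfsg.Agent.H931.A7D.ins = @g) (@Subtype.mk _ _ (@(letI c0 := @Prod.fst.{0, 0}; @(fun x0 x1 x2 => @List.rec.{1, 0} (ℕ × ℤ) @(fun x3 => @List.{0} (ℕ × ℤ)) (((@x0, @x1)) :: []) @(fun x3 x4 x5 => @Cfsg.Agent.KO698b44f.k58.{1} (@List.{0} (ℕ × ℤ)) @x0 (@c0 _ _ @x3) (@x3 :: @x5) (((@c0 _ _ @x3, @Cfsg.Agent.KO698b44f.k59 @x1 (@Prod.snd.{0, 0} _ _ @x3))) :: @x4)) @x2))) ?_); rewrite [← Cfsg.Agent.KO698b44f.e59, ← Cfsg.Agent.KO698b44f.e58.{1}]; funext a0 a1 a2; refine (_root_.Cfsg.Agent.KO698b44f.e2 (fun a2 => @Cfsg.Agent.H931.A7D.ins a0 a1 a2) ?_ (fun c0 c1 => ?_) a2 :) <;> (rfl')) | exact @Cfsg.Agent.H931.A7D.ins | exact ()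
private theorem _root_.Cfsg.Agent.KO698b44f.e60 : (by first | exact @Cfsg.Agent.H931.A7D.ins = @_root_.Cfsg.Agent.KO698b44f.k60 | exact True : Prop) := by first | (delta _root_.Cfsg.Agent.KO698b44f.k60; exact @Subtype.property _ (fun g => @Cfsg.Agent.H931.A7D.ins = @g) _) | rfl | trivial
private noncomputable def _root_.Cfsg.Agent.KO698b44f.k61 : (by first | exact type_of% @Cfsg.Agent.H931.A7D.coll | exact Unit : Sort _) := by first | (refine @Subtype.val _ (fun g => @Cfsg.Agent.H931.A7D.coll = @g) (@Subtype.mk _ _ (@(letI c0 := @Nat.succ; letI c1 := @Cfsg.Agent.KO698b44f.k57; letI c2 := @Prod.snd.{0, 0}; letI c3 := @Prod.fst.{0, 0}; letI c4 := @Int.ofNat; @(fun x0 => @List.rec.{1, 0} (ℤ × (@List.{0} (@Fin ((5 : ℕ))))) @(fun x1 => @List.{0} (ℕ × ℤ)) [] @(fun x1 x2 x3 => @Cfsg.Agent.KO698b44f.k50.{1} (@List.{0} (ℕ × ℤ)) (@c0 (@Cfsg.Agent.KO698b44f.k54 (@c1 (@c2 _ _ @x1)))) (@c1 (@c2 _ _ @x1)) (@Cfsg.Agent.KO698b44f.k60 (@c1 (@c2 _ _ @x1)) (@c3 _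 _ @x1) @x3) (@Cfsg.Agent.KO698b44f.k60 (@Cfsg.Agent.KO698b44f.k54 (@c1 (@c2 _ _ @x1))) (@Int.rec.{1} @(fun x4 => ℤ) @(fun x4 => @Nat.rec.{1} @(fun x5 => ℤ) (@c4 (nat_lit 0)) @(fun x5 x6 => @Int.negSucc @x5) @x4) @(fun x4 => @c4 (@c0 @x4)) (@c3 _ _ @x1)) @x3)) @x0))) ?_); rewrite [← Cfsg.Agent.KO698b44f.e60, ← Cfsg.Agent.KO698b44f.e57, ← Cfsg.Agent.KO698b44f.e54, ← Cfsg.Agent.KO698b44f.e50.{1}]; funext a0; refine (_root_.Cfsg.Agent.KO698b44f.e2 (fun a0 => @Cfsg.Agent.H931.A7D.coll a0) ?_ (fun c0 c1 => ?_) a0 :) <;> ((try delta Cfsg.Agent.H931.A7D.coll Cfsg.Agent.H931.A7D.coll._f); (try generalize @Cfsg.Agent.H931.A7D.negC = g0); (try generalize @Cfsg.Agent.H931.A7D.codeW = g1); (try generalize @Cfsg.Agent.H931.A7D.ins = g2); rfl')) | exact @Cfsg.Agent.H931.A7D.coll | exact ()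
private theorem _root_.Cfsg.Agent.KO698b44f.e61 : (by first | exact @Cfsg.Agent.H931.A7D.coll = @_root_.Cfsg.Agent.KO698b44f.k61 | exact True : Prop) := by first | (delta _root_.Cfsg.Agent.KO698b44f.k61; exact @Subtype.property _ (fun g => @Cfsg.Agent.H931.A7D.coll = @g) _) | rfl | trivial
private noncomputable def _root_.Cfsg.Agent.KO698b44f.k62 : (by first | exact type_of% @Cfsg.Agent.H931.A7D.chk | exact Unit : Sort _) := by first | (refine @Subtype.val _ (fun g => @Cfsg.Agent.H931.A7D.chk = @g) (@Subtype.mk _ _ (@(fun x0 x1 => @Cfsg.Agent.KO698b44f.k49.{0} _ (@Cfsg.Agent.KO698b44f.k61 @x1) @(fun x2 => @Cfsg.Agent.KO698b44f.k47 (@Cfsg.Agent.KO698b44f.k48 (@Prod.snd.{0, 0} _ _ @x2) @x0) (@Int.ofNat (nat_lit 0))))) ?_); rewrite [← Cfsg.Agent.KO698b44f.e61, ← Cfsg.Agent.KO698b44f.e49.{0}, ← Cfsg.Agent.KO698b44f.e47, ← Cfsg.Agent.KO698b44f.e48]; (try delta Cfsg.Agent.H931.A7D.chk); (try generalize @Cfsg.Agent.H931.A7D.coll = g0); rfl') | exact @Cfsg.Agent.H931.A7D.chk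 | exact ()
private theorem _root_.Cfsg.Agent.KO698b44f.e62 : (by first | exact @Cfsg.Agent.H931.A7D.chk = @_root_.Cfsg.Agent.KO698b44f.k62 | exact True : Prop) := by first | (delta _root_.Cfsg.Agent.KO698b44f.k62; exact @Subtype.property _ (fun g => @Cfsg.Agent.H931.A7D.chk = @g) _) | rfl | trivial
private noncomputable def _root_.Cfsg.Agent.KO698b44f.k63 : (by first | exact type_of% @Cfsg.Agent.H931.A7D.GR.add | exact Unit : Sort _) := by first | (refine @Subtype.val _ (fun g => @Cfsg.Agent.H931.A7D.GR.add = @g) (@Subtype.mk _ _ (@(fun x0 x1 => @Cfsg.Agent.KO698b44f.k39.{0} _ @x0 @x1)) ?_); rewrite [← Cfsg.Agent.KO698b44f.e39.{0}]; rfl') | exact @Cfsg.Agent.H931.A7D.GR.add | exact ()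
private theorem _root_.Cfsg.Agent.KO698b44f.e63 : (by first | exact @Cfsg.Agent.H931.A7D.GR.add = @_root_.Cfsg.Agent.KO698b44f.k63 | exact True : Prop) := by first | (delta _root_.Cfsg.Agent.KO698b44f.k63; exact @Subtype.property _ (fun g => @Cfsg.Agent.H931.A7D.GR.add = @g) _) | rfl | trivial
private noncomputable def _root_.Cfsg.Agent.KO698b44f.k64 : (by first | exact type_of% @Cfsg.Agent.H931.A7D.GR.smul | exact Unit : Sort _) := by first | (refine @Subtype.val _ (fun g => @Cfsg.Agent.H931.A7D.GR.smul = @g) (@Subtype.mk _ _ (@(fun x0 x1 => @Cfsg.Agent.KO698b44f.k41.{0, 0} _ _ @(fun x2 => (@Cfsg.Agent.KO698b44f.k21 @x0 (@Prod.fst.{0, 0} _ _ @x2), @Prod.snd.{0, 0} _ _ @x2)) @x1)) ?_); rewrite [← Cfsg.Agent.KO698b44f.e21, ← Cfsg.Agent.KO698b44f.e41.{0, 0}]; rfl') | exact @Cfsg.Agent.H931.A7D.GR.smul | exact ()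
private theorem _root_.Cfsg.Agent.KO698b44f.e64 : (by first | exact @Cfsg.Agent.H931.A7D.GR.smul = @_root_.Cfsg.Agent.KO698b44f.k64 | exact True : Prop) := by first | (delta _root_.Cfsg.Agent.KO698b44f.k64; exact @Subtype.property _ (fun g => @Cfsg.Agent.H931.A7D.GR.smul = @g) _) | rfl | trivial
private noncomputable def _root_.Cfsg.Agent.KO698b44f.k65 : (by first | exact type_of% @Cfsg.Agent.H931.A7D.GR.sub | exact Unit : Sort _) := by first | (refine @Subtype.val _ (fun g => @Cfsg.Agent.H931.A7D.GR.sub = @g) (@Subtype.mk _ _ (@(fun x0 x1 => @Cfsg.Agent.KO698b44f.k63 @x0 (@Cfsg.Agent.KO698b44f.k64 (@Int.negSucc (nat_lit 0)) @x1))) ?_); rewrite [← Cfsg.Agent.KO698b44f.e64, ← Cfsg.Agent.KO698b44f.e63]; (try delta Cfsg.Agent.H931.A7D.GR.sub); (try generalize @Cfsg.Agent.H931.A7D.GR.add = g0); (try generalize @Cfsg.Agent.H931.A7D.GR.smul = g1); rfl') | exact @Cfsg.Agent.H931.A7D.GR.sub | exact ()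
private theorem _root_.Cfsg.Agent.KO698b44f.e65 : (by first | exact @Cfsg.Agent.H931.A7D.GR.sub = @_root_.Cfsg.Agent.KO698b44f.k65 | exact True : Prop) := by first | (delta _root_.Cfsg.Agent.KO698b44f.k65; exact @Subtype.property _ (fun g => @Cfsg.Agent.H931.A7D.GR.sub = @g) _) | rfl | trivial
private noncomputable def _root_.Cfsg.Agent.KO698b44f.k66 : (by first | exact type_of% @Cfsg.Agent.H931.A7D.GR.mul | exact Unit : Sort _) := by first | (refine @Subtype.val _ (fun g => @Cfsg.Agent.H931.A7D.GR.mul = @g) (@Subtype.mk _ _ (@(letI c0 := @Prod.fst.{0, 0}; letI c1 := @Prod.snd.{0, 0}; @(fun x0 x1 => @Cfsg.Agent.KO698b44f.k40.{0} _ (@Cfsg.Agent.KO698b44f.k41.{0, 0} _ _ @(fun x2 => @Cfsg.Agent.KO698b44f.k41.{0, 0} _ _ @(fun x3 => (@Cfsg.Agent.KO698b44f.k21 (@c0 _ _ @x2) (@c0 _ _ @x3), @Cfsg.Agent.KO698b44f.k39.{0} _ (@c1 _ _ @x2) (@c1 _ _ @x3))) @x1) @x0)))) ?_); rewrite [← Cfsg.Agent.KO698b44f.e39.{0}, ← Cfsg.Agent.KO698b44f.e21, ← Cfsg.Agent.KO698b44f.e41.{0,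 0}, ← Cfsg.Agent.KO698b44f.e40.{0}]; rfl') | exact @Cfsg.Agent.H931.A7D.GR.mul | exact ()
private theorem _root_.Cfsg.Agent.KO698b44f.e66 : (by first | exact @Cfsg.Agent.H931.A7D.GR.mul = @_root_.Cfsg.Agent.KO698b44f.k66 | exact True : Prop) := by first | (delta _root_.Cfsg.Agent.KO698b44f.k66; exact @Subtype.property _ (fun g => @Cfsg.Agent.H931.A7D.GR.mul = @g) _) | rfl | trivial
private noncomputable def _root_.Cfsg.Agent.KO698b44f.k67 : (by first | exact type_of% @Cfsg.Agent.H931.A7D.PH | exact Unit : Sort _) := by first | (refine @Subtype.val _ (fun g => @Cfsg.Agent.H931.A7D.PH = @g) (@Subtype.mk _ _ (@(letI c0 := @Int.ofNat; letI c1 := @Cfsg.Agent.KO698b44f.k39.{0}; @(fun x0 => ((@c0 (nat_lit 1), [])) :: (((@c0 (nat_lit 1), @x0)) :: (((@c0 (nat_lit 1), @c1 _ @x0 @x0)) :: (((@c0 (nat_lit 1), @c1 _ @x0 (@c1 _ @x0 @x0))) :: (((@c0 (nat_lit 1), @c1 _ @x0 (@c1 _ @x0 (@c1 _ @x0 @x0)))) :: []))))))) ?_); rewrite [← Cfsg.Agent.KO698b44f.e39.{0}];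 rfl') | exact @Cfsg.Agent.H931.A7D.PH | exact ()
private theorem _root_.Cfsg.Agent.KO698b44f.e67 : (by first | exact @Cfsg.Agent.H931.A7D.PH = @_root_.Cfsg.Agent.KO698b44f.k67 | exact True : Prop) := by first | (delta _root_.Cfsg.Agent.KO698b44f.k67; exact @Subtype.property _ (fun g => @Cfsg.Agent.H931.A7D.PH = @g) _) | rfl | trivial
private noncomputable def _root_.Cfsg.Agent.KO698b44f.k68 : (by first | exact type_of% @Cfsg.Agent.H931.A7D.cert | exact Unit : Sort _) := by first | (refine @Subtype.val _ (fun g => @Cfsg.Agent.H931.A7D.cert = @g) (@Subtype.mk _ _ (@(letI c0 := @Prod.fst.{0, 0}; letI c1 := @Prod.snd.{0, 0}; @(fun x0 => @Cfsg.Agent.KO698b44f.k40.{0} _ (@Cfsg.Agent.KO698b44f.k41.{0, 0} _ _ @(fun x1 => @Cfsg.Agent.KO698b44f.k66 (@Cfsg.Agent.KO698b44f.k66 (((@c0 _ _ @x1, @c0 _ _ (@c1 _ _ @x1))) :: []) (@Cfsg.Agent.KO698b44f.k67 @Cfsg.Agent.H931.A7D.wx)) (((@Int.ofNat (nat_lit 1), @c1 _ _ (@c1 _ _ @x1))) :: [])) @x0)))) ?_); rewrite [←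 Cfsg.Agent.KO698b44f.e67, ← Cfsg.Agent.KO698b44f.e66, ← Cfsg.Agent.KO698b44f.e41.{0, 0}, ← Cfsg.Agent.KO698b44f.e40.{0}]; (try delta Cfsg.Agent.H931.A7D.cert); (try generalize @Cfsg.Agent.H931.A7D.GR.mul = g0); (try generalize @Cfsg.Agent.H931.A7D.PH = g1); (try generalize @Cfsg.Agent.H931.A7D.wx = g2); rfl') | exact @Cfsg.Agent.H931.A7D.cert | exact ()
private theorem _root_.Cfsg.Agent.KO698b44f.e68 : (by first | exact @Cfsg.Agent.H931.A7D.cert = @_root_.Cfsg.Agent.KO698b44f.k68 | exact True : Prop) := by first | (delta _root_.Cfsg.Agent.KO698b44f.k68; exact @Subtype.property _ (fun g => @Cfsg.Agent.H931.A7D.cert = @g) _) | rfl | trivial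

theorem chk_S4 : ∀ i : Fin 5, chk 0 (GR.sub (GR.sub (GR.mul [(1, [i])] S4) (GR.mul S4 [(1, [i])])) (cert (cS i))) = true := by
  (first | (refine of_decide_eq_true ?_; delta Cfsg.Agent.H931.A7D.S4; rewrite [Cfsg.Agent.KO698b44f.e29, Cfsg.Agent.KO698b44f.e31, Cfsg.Agent.KO698b44f.e45, Cfsg.Agent.KO698b44f.e62, Cfsg.Agent.KO698b44f.e65, Cfsg.Agent.KO698b44f.e66, Cfsg.Agent.KO698b44f.e43, Cfsg.Agent.KO698b44f.e68]; decide +kernel) | decide +kernel)

theorem chk_S4N : chk 0 (GR.sub (GR.mul S4 (NN 12)) (GR.smul 6 (NN 12))) = true := by (first | (delta Cfsg.Agent.H931.A7D.S4; rewrite [Cfsg.Agent.KO698b44f.e62, Cfsg.Agent.KO698b44f.e65, Cfsg.Agent.KO698b44f.e66, Cfsg.Agent.KO698b44f.e43, Cfsg.Agent.KO698b44f.e42, Cfsg.Agent.KO698b44f.e64]; decide +kernel) | decide +kernel)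

private noncomputable def _root_.Cfsg.Agent.KO698b44f.k69 : type_of% @forall_prop_decidable := @(fun x0 x1 x2 x3 => @Decidable.rec.{1} _ @(fun x4 => @Decidable ((x5 : @x0) → @x1 @x5)) @(fun x4 => @Decidable.isTrue _ (@forall_prop_decidable._proof_2 _ @x1 @x4)) @(fun x4 => @Decidable.rec.{1} _ @(fun x5 => @Decidable ((x6 : @x0) → @x1 @x6)) @(fun x5 => @Decidable.isFalse _ (@decidable_of_decidable_of_iff._proof_1 _ _ (@forall_prop_decidable._proof_1 _ @x1 @x4) @x5)) @(fun x5 => @Decidable.isTrue _ (@Iff.mp _ _ (@forall_prop_decidable._proof_1 _ @x1 @x4) @x5)) (@x3 @x4)) @x2)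
private theorem _root_.Cfsg.Agent.KO698b44f.e69 : @forall_prop_decidable = @_root_.Cfsg.Agent.KO698b44f.k69 := by delta _root_.Cfsg.Agent.KO698b44f.k69; exact Subsingleton.elim _ _
private noncomputable def _root_.Cfsg.Agent.KO698b44f.k70 : type_of% @Nat.decLe := @(fun x0 x1 => @Decidable.rec.{1} _ @(fun x2 => @Decidable (@LE.le.{0} _ _ @x0 @x1)) @(fun x2 => @Decidable.isFalse _ (@Nat.not_le_of_not_ble_eq_true _ _ @x2)) @(fun x2 => @Decidable.isTrue _ (@Nat.le_of_ble_eq_true _ _ @x2)) (@Cfsg.Agent.KO698b44f.k44 (@Nat.ble @x0 @x1) @Bool.true))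
private noncomputable def _root_.Cfsg.Agent.KO698b44f.k71 : type_of% @Fin.decLt := @(letI c0 := @Fin.val; @(fun x0 x1 x2 => @Cfsg.Agent.KO698b44f.k70 (@Nat.succ (@c0 _ @x1)) (@c0 _ @x2)))
private theorem _root_.Cfsg.Agent.KO698b44f.e71 : @Fin.decLt = @_root_.Cfsg.Agent.KO698b44f.k71 := by delta _root_.Cfsg.Agent.KO698b44f.k71; exact Subsingleton.elim _ _

theorem chk_O5 : ∀ i : Fin 5, i < 3 → chk 0 (GR.sub (GR.mul [(1, [i])] O5) (GR.mul O5 [(1, [i])])) = true := by
  (first | (refine of_decide_eq_true ?_; rewrite [Cfsg.Agent.KO698b44f.e29, Cfsg.Agent.KO698b44f.e31, Cfsg.Agent.KO698b44f.e69, Cfsg.Agent.KO698b44f.e71, Cfsg.Agent.KO698b44f.e45, Cfsg.Agent.KO698b44f.e62, Cfsg.Agent.KO698b44f.e65, Cfsg.Agent.KO698b44f.e66]; decide +kernel) | decide +kernel)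

theorem chk_O5x : chk 0 (GR.mul O5 (PH wx)) = true := by (first | (rewrite [Cfsg.Agent.KO698b44f.e62, Cfsg.Agent.KO698b44f.e66, Cfsg.Agent.KO698b44f.e67]; decide +kernel) | decide +kernel)

theorem chk_O5y : chk 0 (GR.mul O5 (PH wy5)) = true := by (first | (rewrite [Cfsg.Agent.KO698b44f.e62, Cfsg.Agent.KO698b44f.e66, Cfsg.Agent.KO698b44f.e67]; decide +kernel) | decide +kernel)

theorem gens_wd (g : Fin 5 → D) (i : Fin 5) : wd g [i] = g i := by simp [wd]

theorem ev_single {A : Type*} [Ring A] (g : Fin 5 → D) (σ : D →* A) (w : List (Fin 5)) :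
    ev g σ [(1, w)] = σ (wd g w) := by
  simp [ev]

theorem ev_NN {A : Type*} [Ring A] (g : Fin 5 → D) (σ : D →* A) (k : ℕ) :
    ev g σ (NN k) = 1 + σ (wd g (w3 k)) + σ (wd g (w3 k)) * σ (wd g (w3 k)) := by
  simp only [ev, NN, wd_append, List.map_cons, List.map_nil, List.sum_cons, List.sum_nil, map_mul, Int.cast_one, one_mul,
    add_zero]
  rw [show σ (wd g []) = 1 by rw [wd, List.map_nil, List.prod_nil, map_one]]
  abel

theorem ev_append {A : Type*} [Ring A] (g : Fin 5 → D) (σ : D →* A) (L M : GR) :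
    ev g σ (L ++ M) = ev g σ L + ev g σ M := ev_add σ L M

theorem ev_PH {A : Type*} [Ring A] (g : Fin 5 → D) (σ : D →* A) (w : List (Fin 5)) :
    ev g σ (PH w) = 1 + σ (wd g w) + σ (wd g w) ^ 2 + σ (wd g w) ^ 3 + σ (wd g w) ^ 4 := by
  simp only [ev, PH, wd_append, List.map_cons, List.map_nil, List.sum_cons, List.sum_nil, map_mul, Int.cast_one, one_mul,
    add_zero, pow_succ, pow_zero, mul_assoc]
  rw [show σ (wd g []) = 1 by rw [wd, List.map_nil, List.prod_nil, map_one]]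
  abel

theorem ev_cert {A : Type*} [Ring A] (g : Fin 5 → D) (σ : D →* A) (h : ev g σ (PH wx) = 0)
    (l : List (ℤ × List (Fin 5) × List (Fin 5))) : ev g σ (cert l) = 0 := by
  unfold cert
  induction l with
  | nil => simp [ev]
  | cons t l ih => rw [List.flatMap_cons, ev_append, ih, add_zero, ev_mul, ev_mul, h, mul_zero, zero_mul]

/-- irreducibility -/
theorem irr_of_span (hspan : Submodule.span K (Set.range σ) = ⊤) (U : Submodule K V)
    (hU : ∀ d, ∀ u ∈ U, σ d u ∈ U) : U = ⊥ ∨ U = ⊤ := by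
  by_cases hb : U = ⊥
  · exact Or.inl hb
  · right
    obtain ⟨v, hv, hv0⟩ := Submodule.exists_mem_ne_zero_of_ne_bot hb
    rw [eq_top_iff]
    intro w _
    have h1 : ∀ f : Module.End K V, f v ∈ U := by
      intro f
      have hf : f ∈ Submodule.span K (Set.range σ) := by rw [hspan]; trivial
      induction hf using Submodule.span_induction with
      | mem x hx =>
        obtain ⟨d, rfl⟩ := hx
        exact hU d v hv
      | zero => exact U.zero_mem
      | add x y _ _ hx hy => exact U.add_mem hx hy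
      | smul c x _ hx => exact U.smul_mem c hx
    obtain ⟨φ, hφ⟩ : ∃ φ : Module.Dual K V, φ v ≠ 0 := by
      by_contra hcon
      push Not at hcon
      exact hv0 ((Module.forall_dual_apply_eq_zero_iff K v).1 hcon)
    have h3 := h1 (φ.smulRight ((φ v)⁻¹ • w))
    rwa [LinearMap.smulRight_apply, smul_smul, mul_inv_cancel₀ hφ, one_smul] at h3

/-- invariance under `2.A₅` -/
def Inv5 (σ : D →* Module.End K V) (g : Fin 5 → D) (W : Submodule K V) : Prop :=
  ∀ i : Fin 5, i < 3 → ∀ w ∈ W, σ (g i) w ∈ W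

theorem Inv5.word {W : Submodule K V} (h : Inv5 σ g W) (l : List (Fin 5)) (hl : ∀ i ∈ l, i < 3) :
    ∀ w ∈ W, σ (wd g l) w ∈ W := by
  induction l with
  | nil =>
    intro w hw
    have : wd g [] = 1 := rfl
    rwa [this, act_one]
  | cons i l ih =>
    intro w hw
    have : wd g (i :: l) = g i * wd g l := rfl
    rw [this, mul_apply']
    exact h i (hl i List.mem_cons_self) _ (ih (fun j hj => hl j (List.mem_cons_of_mem _ hj)) w hw)

include H

/-- operators commuting with the generators are scalars -/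
theorem Cov.scalar_of_comm (hspan : Submodule.span K (Set.range σ) = ⊤) (hn : finrank K V = 12) {X : Module.End K V}
    (hX : ∀ i, σ (g i) * X = X * σ (g i)) : ∃ μ : K, X = μ • 1 := by
  have hall : ∀ d, σ d * X = X * σ d := by
    intro d
    have hd : d ∈ _root_.Subgroup.closure (Set.range g) := by rw [H.gen]; trivial
    induction hd using closure_induction with
    | mem x hx =>
      obtain ⟨i, rfl⟩ := hx
      exact hX i
    | one => rw [map_one, one_mul, mul_one]
    | mul x y _ _ hx hy => rw [map_mul, mul_assoc, hy, ← mul_assoc, hx, mul_assoc]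
    | inv x _ hx =>
      have h1 : σ x⁻¹ * σ x = 1 := by rw [← map_mul, inv_mul_cancel, map_one]
      have h2 : σ x * σ x⁻¹ = 1 := by rw [← map_mul, mul_inv_cancel, map_one]
      calc σ x⁻¹ * X = σ x⁻¹ * X * (σ x * σ x⁻¹) := by rw [h2, mul_one]
        _ = σ x⁻¹ * (X * σ x) * σ x⁻¹ := by noncomm_ring
        _ = (σ x⁻¹ * σ x) * X * σ x⁻¹ := by rw [← hx]; noncomm_ring
        _ = X * σ x⁻¹ := by rw [h1, one_mul]
  have : Nontrivial V := Module.nontrivial_of_finrank_pos (R := K) (by omega)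
  obtain ⟨μ, hμ⟩ := Module.End.exists_eigenvalue X
  refine ⟨μ, ?_⟩
  rcases irr_of_span hspan (X.eigenspace μ) (fun d u hu => by
    rw [Module.End.mem_eigenspace_iff] at hu ⊢
    have := LinearMap.congr_fun (hall d) u
    rw [Module.End.mul_apply, Module.End.mul_apply, hu, map_smul] at this
    exact this.symm) with h1 | h1
  · exact absurd h1 hμ
  · ext v
    have : v ∈ X.eigenspace μ := by rw [h1]; trivial
    rw [Module.End.mem_eigenspace_iff] at this
    rw [this]
    rfl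

theorem Cov.S4_comm (hz : σ z = -1) (h5 : ev g σ (PH wx) = 0) (i : Fin 5) :
    σ (g i) * ev g σ S4 = ev g σ S4 * σ (g i) := by
  have h1 := H.ev_eq_zero σ hz (m := 0) (by simp) (chk_S4 i)
  rw [ev_sub, ev_sub, ev_cert g σ h5, ev_mul, ev_mul, ev_single, gens_wd, sub_zero] at h1
  exact sub_eq_zero.1 h1

theorem Cov.S4_N (hz : σ z = -1) : ev g σ S4 * ev g σ (NN 12) = 6 * ev g σ (NN 12) := by
  have h1 := H.ev_eq_zero σ hz (m := 0) (by simp) chk_S4N
  rw [ev_sub, ev_mul, ev_smul] at h1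
  have h2 := sub_eq_zero.1 h1
  rw [h2]
  norm_num

/-- no fixed vectors: the sum of the powers of `x` vanishes -/
theorem Cov.PH_zero {w : List (Fin 5)} (hw : wd g w ^ 5 = 1) (h : _root_.Cfsg.Agent.H637.JW.Fix σ (wd g w) = ⊥) : ev g σ (PH w) = 0 := by
  rw [ev_PH]
  have h5 : σ (wd g w) ^ 5 = 1 := by rw [← map_pow, hw, map_one]
  ext v
  have h1 : (1 + σ (wd g w) + σ (wd g w) ^ 2 + σ (wd g w) ^ 3 + σ (wd g w) ^ 4 : Module.End K V) v ∈ _root_.Cfsg.Agent.H637.JW.Fix σ (wd g w) := by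
    rw [mem_Fix, ← Module.End.mul_apply]
    have : σ (wd g w) * (1 + σ (wd g w) + σ (wd g w) ^ 2 + σ (wd g w) ^ 3 + σ (wd g w) ^ 4) =
        (1 + σ (wd g w) + σ (wd g w) ^ 2 + σ (wd g w) ^ 3 + σ (wd g w) ^ 4) + (σ (wd g w) ^ 5 - 1) := by noncomm_ring
    rw [this, h5, sub_self, add_zero]
  rw [h, Submodule.mem_bot] at h1
  exact h1

theorem Cov.wx5 : wd g wx ^ 5 = 1 := H.pow_one 5 (by decide +kernel)

theorem Cov.Fix_y : finrank K (Fix σ (wd g wy5)) = finrank K (Fix σ (wd g wx)) := by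
  have h1 : wd g [2] * wd g (wx ++ wx) = wd g wy5 * wd g [2] := H.rel (by decide +kernel)
  have h2 := fix_conj (σ := σ) h1
  rw [h2]
  have h3 : _root_.Cfsg.Agent.H637.JW.Fix σ (wd g (wx ++ wx)) = _root_.Cfsg.Agent.H637.JW.Fix σ (wd g wx) := by
    ext v
    rw [mem_Fix, mem_Fix, wd_append, mul_apply']
    constructor
    · intro h
      have h4 : wd g wx ^ 6 = wd g wx := by
        rw [show 6 = 5 + 1 from rfl, pow_succ, H.wx5, one_mul]
      have h5 : σ (wd g wx ^ 2) v = v := by rw [pow_two, mul_apply', h]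
      have h6 := fix_pow h5 3
      rw [← pow_mul] at h6
      rwa [h4] at h6
    · intro h
      rw [h, h]
  rw [h3]

/-- **The dimension of the fixed space of an element of order five.** -/
theorem Cov.five_dvd (h5 : (5 : K) ≠ 0) (hn : finrank K V = 12) :
    ∃ m, 12 = finrank K (Fix σ (wd g wx)) + 4 * m := by
  have h1 : wd g [3, 0, 4, 2, 3] * wd g wx * (wd g [3, 0, 4, 2, 3])⁻¹ = wd g wx ^ 2 := by
    have h2 : wd g [3, 0, 4, 2, 3] * wd g wx = wd g (wx ++ wx) * wd g [3, 0, 4, 2, 3] := H.rel (by decide +kernel)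
    rw [h2, mul_inv_cancel_right, wd_append, pow_two]
  rw [← hn]
  exact eig_five h5 H.wx5 h1

/-- **`2 f₅ + f₃ ≤ dim`** for invariant subspaces -/
theorem Cov.five_three (hz : σ z = -1) (h2 : (2 : K) ≠ 0) {W : Submodule K V} (hW : Inv5 σ g W) :
    finrank K (W ⊓ _root_.Cfsg.Agent.H637.JW.Fix σ (wd g wx) : Submodule K V) + finrank K (W ⊓ _root_.Cfsg.Agent.H637.JW.Fix σ (wd g wy5) : Submodule K V) +
      finrank K (W ⊓ _root_.Cfsg.Agent.H637.JW.Fix σ (g 0) : Submodule K V) ≤ finrank K W := by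
  have hzm : z ∈ _root_.Subgroup.closure ({wd g wx, wd g wy5} : Set D) :=
    H.z_mem (A := wx) (B := wy5) [false, false, true, true, false, false, true, true] (by decide +kernel)
  have h1 := scott_sub (σ := σ) hz h2 hzm W (hW.word wx (by decide)) (hW.word wy5 (by decide))
  have h3 : finrank K (W ⊓ _root_.Cfsg.Agent.H637.JW.Fix σ (g 0) : Submodule K V) ≤
      finrank K (W ⊓ _root_.Cfsg.Agent.H637.JW.Fix σ (wd g wx * wd g wy5) : Submodule K V) := by
    refine fix_conj_sub (c := wd g [0, 1]) ?_ W (hW.word _ (by decide))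
    have h4 : wd g [0, 1] * wd g [0] = wd g (wx ++ wy5) * wd g [0, 1] := H.rel (by decide +kernel)
    rwa [gens_wd, wd_append] at h4
  omega

/-- `2 f₃ ≤ dim` -/
theorem Cov.three_three (hz : σ z = -1) (h2 : (2 : K) ≠ 0) {W : Submodule K V} (hW : Inv5 σ g W) :
    2 * finrank K (W ⊓ _root_.Cfsg.Agent.H637.JW.Fix σ (g 0) : Submodule K V) ≤ finrank K W := by
  have h01 : z ∈ _root_.Subgroup.closure ({g 0, g 1} : Set D) := by
    have := H.z_mem (A := [0]) (B := [1]) [false, true, false, true] (by decide +kernel)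
    rwa [gens_wd, gens_wd] at this
  have h1 := two_fix (σ := σ) hz h2 h01 W
  have h3 : finrank K (W ⊓ _root_.Cfsg.Agent.H637.JW.Fix σ (g 0) : Submodule K V) ≤ finrank K (W ⊓ _root_.Cfsg.Agent.H637.JW.Fix σ (g 1) : Submodule K V) := by
    refine fix_conj_sub (c := wd g [0, 2, 2, 1]) ?_ W (hW.word _ (by decide))
    have h4 : wd g [0, 2, 2, 1] * wd g [0] = wd g [1] * wd g [0, 2, 2, 1] := H.rel (by decide +kernel)
    rwa [gens_wd, gens_wd] at h4
  omega

theorem Cov.O5_comm (hz : σ z = -1) (i : Fin 5) (hi : i < 3) : σ (g i) * ev g σ O5 = ev g σ O5 * σ (g i) := by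
  have h1 := H.ev_eq_zero σ hz (m := 0) (by simp) (chk_O5 i hi)
  rw [ev_sub, ev_mul, ev_mul, ev_single, gens_wd] at h1
  exact (sub_eq_zero.1 h1 :)

theorem Cov.O5_fix (hz : σ z = -1) (h5 : (5 : K) ≠ 0) {w : List (Fin 5)} (hw : chk 0 (GR.mul O5 (PH w)) = true) {v : V}
    (hv : v ∈ _root_.Cfsg.Agent.H637.JW.Fix σ (wd g w)) : ev g σ O5 v = 0 := by
  have h1 := H.ev_eq_zero σ hz (m := 0) (by simp) hw
  rw [ev_mul, ev_PH] at h1
  have h2 := LinearMap.congr_fun h1 v
  rw [Module.End.mul_apply] at h2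
  have h3 : ∀ n, (σ (wd g w) ^ n) v = v := by
    intro n
    rw [← map_pow]
    exact fix_pow (mem_Fix.1 hv) n
  have h4 : (1 + σ (wd g w) + σ (wd g w) ^ 2 + σ (wd g w) ^ 3 + σ (wd g w) ^ 4 : Module.End K V) v = (5 : K) • v := by
    simp only [LinearMap.add_apply, h3, Module.End.one_apply, mem_Fix.1 hv]
    module
  rw [h4, map_smul] at h2
  exact (smul_eq_zero.1 h2).resolve_left h5

/-- `f₅ = 4` and `4 ≤ f₃` : the operator `O5` vanishes -/
theorem Cov.O5_zero (hz : σ z = -1) (h2 : (2 : K) ≠ 0) (h5 : (5 : K) ≠ 0) (hn : finrank K V = 12)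
    (hf : finrank K (Fix σ (wd g wx)) = 4) (h3 : 4 ≤ finrank K (Fix σ (g 0))) : ev g σ O5 = 0 := by
  set Ω := ev g σ O5 with hΩ
  let W : Submodule K V := LinearMap.ker Ω
  let M : Submodule K V := LinearMap.range Ω
  have hcomm : ∀ i : Fin 5, i < 3 → ∀ v, Ω (σ (g i) v) = σ (g i) (Ω v) := fun i hi v =>
    (LinearMap.congr_fun (H.O5_comm hz i hi) v).symm
  have hW : Inv5 σ g W := by
    intro i hi w hw
    have hw' : Ω w = 0 := hw
    show Ω (σ (g i) w) = 0
    rw [hcomm i hi, hw', map_zero]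
  have hM : Inv5 σ g M := by
    rintro i hi _ ⟨v, rfl⟩
    exact ⟨σ (g i) v, hcomm i hi v⟩
  have hx : W ⊓ _root_.Cfsg.Agent.H637.JW.Fix σ (wd g wx) = _root_.Cfsg.Agent.H637.JW.Fix σ (wd g wx) :=
    inf_eq_right.2 fun v hv => H.O5_fix hz h5 chk_O5x hv
  have hy : W ⊓ _root_.Cfsg.Agent.H637.JW.Fix σ (wd g wy5) = _root_.Cfsg.Agent.H637.JW.Fix σ (wd g wy5) :=
    inf_eq_right.2 fun v hv => H.O5_fix hz h5 chk_O5y hv
  have e1 := H.five_three hz h2 hW
  rw [hx, hy, H.Fix_y, hf] at e1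
  have e2 := H.three_three hz h2 hM
  -- rank and nullity on the fixed space
  have e3 : finrank K (Fix σ (g 0)) ≤ finrank K (W ⊓ _root_.Cfsg.Agent.H637.JW.Fix σ (g 0) : Submodule K V) +
      finrank K (M ⊓ _root_.Cfsg.Agent.H637.JW.Fix σ (g 0) : Submodule K V) := by
    have h6 := LinearMap.finrank_range_add_finrank_ker (Ω.comp (_root_.Cfsg.Agent.H637.JW.Fix σ (g 0)).subtype)
    have h7 : LinearMap.range (Ω.comp (_root_.Cfsg.Agent.H637.JW.Fix σ (g 0)).subtype) ≤ M ⊓ _root_.Cfsg.Agent.H637.JW.Fix σ (g 0) := by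
      rintro _ ⟨⟨v, hv⟩, rfl⟩
      refine ⟨⟨v, rfl⟩, mem_Fix.2 ?_⟩
      show σ (g 0) (Ω v) = Ω v
      rw [← hcomm 0 (by decide), mem_Fix.1 hv]
    have h8 : finrank K (LinearMap.ker (Ω.comp (_root_.Cfsg.Agent.H637.JW.Fix σ (g 0)).subtype)) ≤
        finrank K (W ⊓ _root_.Cfsg.Agent.H637.JW.Fix σ (g 0) : Submodule K V) := by
      have h9 : (LinearMap.ker (Ω.comp (_root_.Cfsg.Agent.H637.JW.Fix σ (g 0)).subtype)).map (_root_.Cfsg.Agent.H637.JW.Fix σ (g 0)).subtype ≤ W ⊓ _root_.Cfsg.Agent.H637.JW.Fix σ (g 0) := by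
        rintro _ ⟨v, hv, rfl⟩
        exact ⟨hv, v.2⟩
      have h10 := Submodule.finrank_mono h9
      rwa [Submodule.finrank_map_subtype_eq] at h10
    have h11 := Submodule.finrank_mono h7
    omega
  have e4 := LinearMap.finrank_range_add_finrank_ker Ω
  rw [hn] at e4
  have e5 : finrank K M + finrank K W = 12 := e4
  have hM0 : finrank K M = 0 := by omega
  have : M = ⊥ := Submodule.finrank_eq_zero.1 hM0
  exact LinearMap.range_eq_bot.1 this

/-! ### `p ≠ 2, 3, 5` -/

/-- the sum over a set of triples minus ten -/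
def OR (l : List ℕ) : GR := NS l ++ [(-10, [])]

/-- the six five-sets, with conjugating words -/
def RR : Fin 6 → List ℕ × List (Fin 5)
  | 0 => ([123, 124, 125, 134, 135, 145, 234, 235, 245, 345], [3])
  | 1 => ([23, 24, 25, 34, 35, 45, 234, 235, 245, 345], [0, 3])
  | 2 => ([13, 14, 15, 34, 35, 45, 134, 135, 145, 345], [0, 0, 3])
  | 3 => ([12, 14, 15, 24, 25, 45, 124, 125, 145, 245], [1, 0, 3])
  | 4 => ([12, 13, 15, 23, 25, 35, 123, 125, 135, 235], [2, 0, 3])
  | 5 => ([12, 13, 14, 23, 24, 34, 123, 124, 134, 234], [])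

private noncomputable def _root_.Cfsg.Agent.KO698b44f.k72 : (by first | exact type_of% @Cfsg.Agent.H931.A7D.OR | exact Unit : Sort _) := by first | (refine @Subtype.val _ (fun g => @Cfsg.Agent.H931.A7D.OR = @g) (@Subtype.mk _ _ (@(fun x0 => @Cfsg.Agent.KO698b44f.k39.{0} _ (@Cfsg.Agent.KO698b44f.k40.{0} _ (@Cfsg.Agent.KO698b44f.k41.{0, 0} _ _ @Cfsg.Agent.KO698b44f.k42 @x0)) (((@Int.negSucc (nat_lit 9), [])) :: []))) ?_); rewrite [← Cfsg.Agent.KO698b44f.e42, ← Cfsg.Agent.KO698b44f.e41.{0, 0}, ← Cfsg.Agent.KO698b44f.e40.{0}, ← Cfsg.Agent.KO698b44f.e39.{0}]; (try delta Cfsg.Agent.H931.A7D.OR Cfsg.Agent.H931.A7D.NS); (try generalize @Cfsg.Agent.H931.A7D.NN = g0); rfl') | exact @Cfsg.Agent.H931.A7D.OR | exact ()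
private theorem _root_.Cfsg.Agent.KO698b44f.e72 : (by first | exact @Cfsg.Agent.H931.A7D.OR = @_root_.Cfsg.Agent.KO698b44f.k72 | exact True : Prop) := by first | (delta _root_.Cfsg.Agent.KO698b44f.k72; exact @Subtype.property _ (fun g => @Cfsg.Agent.H931.A7D.OR = @g) _) | rfl | trivial
private noncomputable def _root_.Cfsg.Agent.KO698b44f.k73 : (by first | exact type_of% @Cfsg.Agent.H931.A7D.RR | exact Unit : Sort _) := by first | (refine @Subtype.val _ (fun g => @Cfsg.Agent.H931.A7D.RR = @g) (@Subtype.mk _ _ (@(letI c0 := @Nat.rec.{1}; letI c1 := @Fin.mk; letI c2 := @Fin.ofNat._proof_1; letI c3 := @Nat.succ; letI c4 := @False.elim.{0}; letI c5 := @Nat.le.casesOn; letI c6 := @Nat.Internal.elimOffset.{0}; letI c7 := @HAdd.hAdd.{0, 0, 0}; letI c8 := @noConfusion_of_Nat.{1}; letI c9 := @Nat.ctorIdx; letI c10 := @Nat.le.step; letI c11 := @Eq.ndrec.{0, 1}; letI c12 := @Eq.refl.{1}; letI c13 := @HEq.refl.{0}; @(fun x0 => @Fin.rec.{1} (nat_lit 6) @(fun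 x1 => (@List.{0} ℕ) × (@List.{0} (@Fin ((5 : ℕ))))) @(fun x1 x2 => @c0 @(fun x3 => (@LT.lt.{0} _ _ @x3 ((6 : ℕ))) → (@List.{0} ℕ) × (@List.{0} (@Fin ((5 : ℕ))))) @(fun x3 => ((nat_lit 123) :: ((nat_lit 124) :: ((nat_lit 125) :: ((nat_lit 134) :: ((nat_lit 135) :: ((nat_lit 145) :: ((nat_lit 234) :: ((nat_lit 235) :: ((nat_lit 245) :: ((nat_lit 345) :: []))))))))), (@c1 (nat_lit 5) (nat_lit 3) (@c2 ((5 : ℕ)) _ (nat_lit 3))) :: [])) @(fun x3 x4 x5 => @c0 @(fun x6 => (@LT.lt.{0} _ _ (@c3 @x6) ((6 : ℕ))) → (@List.{0} ℕ) × (@List.{0} (@Fin ((5 : ℕ))))) @(fun x6 => ((nat_lit 23) :: ((nat_lit 24) :: ((nat_lit 25) :: ((nat_lit 34) :: ((nat_lit 35) :: ((nat_lit 45) :: ((nat_lit 234) :: ((nat_lit 235) :: ((nat_lit 245) :: ((nat_lit 345) :: []))))))))), (@c1 (nat_lit 5) (nat_lit 0) (@c2 ((5 : ℕ)) _ (nat_lit 0))) :: ((@c1 (nat_lit 5) (nat_lit 3) (@c2 ((5 : ℕ)) _ (nat_lit 3))) :: []))) @(fun x6 x7 x8 => @c0 @(fun x9 => (@LT.lt.{0} _ _ (@c3 (@c3 @x9)) ((6 :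 ℕ))) → (@List.{0} ℕ) × (@List.{0} (@Fin ((5 : ℕ))))) @(fun x9 => ((nat_lit 13) :: ((nat_lit 14) :: ((nat_lit 15) :: ((nat_lit 34) :: ((nat_lit 35) :: ((nat_lit 45) :: ((nat_lit 134) :: ((nat_lit 135) :: ((nat_lit 145) :: ((nat_lit 345) :: []))))))))), (@c1 (nat_lit 5) (nat_lit 0) (@c2 ((5 : ℕ)) _ (nat_lit 0))) :: ((@c1 (nat_lit 5) (nat_lit 0) (@c2 ((5 : ℕ)) _ (nat_lit 0))) :: ((@c1 (nat_lit 5) (nat_lit 3) (@c2 ((5 : ℕ)) _ (nat_lit 3))) :: [])))) @(fun x9 x10 x11 => @c0 @(fun x12 => (@LT.lt.{0} _ _ (@c3 (@c3 (@c3 @x12))) ((6 : ℕ))) → (@List.{0} ℕ) × (@List.{0} (@Fin ((5 : ℕ))))) @(fun x12 => ((nat_lit 12) :: ((nat_lit 14) :: ((nat_lit 15) :: ((nat_lit 24) :: ((nat_lit 25) :: ((nat_lit 45) :: ((nat_lit 124) :: ((nat_lit 125) :: ((nat_lit 145) :: ((nat_lit 245) :: []))))))))), (@c1 (nat_lit 5) (nat_lit 1) (@c2 ((5 : ℕ)) _ (nat_lit 1))) :: ((@c1 (nat_lit 5) (nat_lit 0) (@c2 ((5 : ℕ)) _ (nat_lit 0))) :: ((@c1 (nat_lit 5) (nat_lit 3) (@c2 ((5 : ℕ)) _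 (nat_lit 3))) :: [])))) @(fun x12 x13 x14 => @c0 @(fun x15 => (@LT.lt.{0} _ _ (@c3 (@c3 (@c3 (@c3 @x15)))) ((6 : ℕ))) → (@List.{0} ℕ) × (@List.{0} (@Fin ((5 : ℕ))))) @(fun x15 => ((nat_lit 12) :: ((nat_lit 13) :: ((nat_lit 15) :: ((nat_lit 23) :: ((nat_lit 25) :: ((nat_lit 35) :: ((nat_lit 123) :: ((nat_lit 125) :: ((nat_lit 135) :: ((nat_lit 235) :: []))))))))), (@c1 (nat_lit 5) (nat_lit 2) (@c2 ((5 : ℕ)) _ (nat_lit 2))) :: ((@c1 (nat_lit 5) (nat_lit 0) (@c2 ((5 : ℕ)) _ (nat_lit 0))) :: ((@c1 (nat_lit 5) (nat_lit 3) (@c2 ((5 : ℕ)) _ (nat_lit 3))) :: [])))) @(fun x15 x16 x17 => @c0 @(fun x18 => (@LT.lt.{0} _ _ (@c3 (@c3 (@c3 (@c3 (@c3 @x18))))) ((6 : ℕ))) → (@List.{0} ℕ) × (@List.{0} (@Fin ((5 : ℕ))))) @(fun x18 => ((nat_lit 12) :: ((nat_lit 13) :: ((nat_lit 14) :: ((nat_lit 23) :: ((nat_lit 24) :: ((nat_lit 34) :: ((nat_lit 123) :: ((nat_lit 124) :: ((nat_lit 134) :: ((nat_lit 234) :: []))))))))), [])) @(fun x18 x19 x20 => @False.rec.{1} @(fun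 x21 => (@List.{0} ℕ) × (@List.{0} (@Fin ((5 : ℕ))))) (@c4 _ (@c4 _ (@c5 _ @(fun x21 x22 => (@Eq.{1} _ ((6 : ℕ)) @x21) → (@HEq.{0} _ @x20 _ @x22) → @False) _ @x20 @(fun x21 => @c6 _ ((0 : ℕ)) (@c7 _ _ _ _ @x18 ((1 : ℕ))) ((6 : ℕ)) @x21 @(fun x22 => @c4 _ (@c8 _ @c9 (nat_lit 0) _ @x22))) @(fun x21 x22 x23 => @c6 _ (@c7 _ _ _ _ ((0 : ℕ)) ((5 : ℕ))) @x21 ((1 : ℕ)) @x23 @(fun x24 => @c11 _ _ @(fun x25 => (x26 : @Nat.le (@c3 (@c3 (@c3 (@c3 (@c3 (@c3 (@c3 @x18))))))) @x25) → (@HEq.{0} _ @x20 _ (@c10 _ _ @x26)) → @False) @(fun x25 x26 => @c5 _ @(fun x27 x28 => (@Eq.{1} _ (@c7 _ _ _ _ ((0 : ℕ)) ((5 : ℕ))) @x27) → (@HEq.{0} _ @x25 _ @x28) → @False) _ @x25 @(fun x27 => @c6 _ ((0 : ℕ)) (@c7 _ _ _ _ @x18 ((2 : ℕ))) ((5 : ℕ)) @x27 @(fun x28 => @c4 _ (@c8 _ @c9 (nat_lit 0) _ @x28))) @(fun x27 x28 x29 => @c6 _ (@c7 _ _ _ _ ((0 : ℕ)) ((4 : ℕ))) @x27 ((1 : ℕ)) @x29 @(fun x30 => @c11 _ _ @(fun x31 => (x32 : @Nat.le (@c3 (@c3 (@c3 (@c3 (@c3 (@c3 (@c3 @x18))))))) @x31)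 → (@HEq.{0} _ @x25 _ (@c10 _ _ @x32)) → @False) @(fun x31 x32 => @c5 _ @(fun x33 x34 => (@Eq.{1} _ (@c7 _ _ _ _ ((0 : ℕ)) ((4 : ℕ))) @x33) → (@HEq.{0} _ @x31 _ @x34) → @False) _ @x31 @(fun x33 => @c6 _ ((0 : ℕ)) (@c7 _ _ _ _ @x18 ((3 : ℕ))) ((4 : ℕ)) @x33 @(fun x34 => @c4 _ (@c8 _ @c9 (nat_lit 0) _ @x34))) @(fun x33 x34 x35 => @c6 _ (@c7 _ _ _ _ ((0 : ℕ)) ((3 : ℕ))) @x33 ((1 : ℕ)) @x35 @(fun x36 => @c11 _ _ @(fun x37 => (x38 : @Nat.le (@c3 (@c3 (@c3 (@c3 (@c3 (@c3 (@c3 @x18))))))) @x37) → (@HEq.{0} _ @x31 _ (@c10 _ _ @x38)) → @False) @(fun x37 x38 => @c5 _ @(fun x39 x40 => (@Eq.{1} _ (@c7 _ _ _ _ ((0 : ℕ)) ((3 : ℕ))) @x39) → (@HEq.{0} _ @x37 _ @x40) → @False) _ @x37 @(fun x39 => @c6 _ ((0 : ℕ)) (@c7 _ _ _ _ @x18 ((4 : ℕ))) ((3 : ℕ)) @x39 @(fun x40 => @c4 _ (@c8 _ @c9 (nat_lit 0) _ @x40))) @(fun x39 x40 x41 => @c6 _ (@c7 _ _ _ _ ((0 : ℕ)) ((2 : ℕ))) @x39 ((1 : ℕ)) @x41 @(fun x42 => @c11 _ _ @(fun x43 => (x44 : @Nat.le (@c3 (@c3 (@c3 (@c3 (@c3 (@c3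 (@c3 @x18))))))) @x43) → (@HEq.{0} _ @x37 _ (@c10 _ _ @x44)) → @False) @(fun x43 x44 => @c5 _ @(fun x45 x46 => (@Eq.{1} _ (@c7 _ _ _ _ ((0 : ℕ)) ((2 : ℕ))) @x45) → (@HEq.{0} _ @x43 _ @x46) → @False) _ @x43 @(fun x45 => @c6 _ ((0 : ℕ)) (@c7 _ _ _ _ @x18 ((5 : ℕ))) ((2 : ℕ)) @x45 @(fun x46 => @c4 _ (@c8 _ @c9 (nat_lit 0) _ @x46))) @(fun x45 x46 x47 => @c6 _ (@c7 _ _ _ _ ((0 : ℕ)) ((1 : ℕ))) @x45 ((1 : ℕ)) @x47 @(fun x48 => @c11 _ _ @(fun x49 => (x50 : @Nat.le (@c3 (@c3 (@c3 (@c3 (@c3 (@c3 (@c3 @x18))))))) @x49) → (@HEq.{0} _ @x43 _ (@c10 _ _ @x50)) → @False) @(fun x49 x50 => @c5 _ @(fun x51 x52 => (@Eq.{1} _ (@c7 _ _ _ _ ((0 : ℕ)) ((1 : ℕ))) @x51) → (@HEq.{0} _ @x49 _ @x52) → @False) _ @x49 @(fun x51 => @c6 _ ((0 : ℕ)) (@c7 _ _ _ _ @x18 ((6 : ℕ))) ((1 : ℕ)) @x51 @(fun x52 => @c4 _ (@c8 _ @c9 (nat_lit 0) _ @x52))) @(fun x51 x52 x53 => @c6 _ ((0 : ℕ)) @x51 ((1 : ℕ)) @x53 @(fun x54 => @c11 _ _ @(fun x55 => (x56 : @Nat.le (@c3 (@c3 (@c3 (@c3 (@c3 (@c3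 (@c3 @x18))))))) @x55) → (@HEq.{0} _ @x49 _ (@c10 _ _ @x56)) → @False) @(fun x55 x56 => @c5 _ @(fun x57 x58 => (@Eq.{1} _ ((0 : ℕ)) @x57) → (@HEq.{0} _ @x55 _ @x58) → @False) _ @x55 @(fun x57 => @c4 _ (@c8 _ @c9 _ _ @x57)) @(fun x57 x58 x59 => @c4 _ (@c8 _ @c9 _ _ @x59)) (@c12 _ ((0 : ℕ))) (@c13 _ @x55)) _ @x54 @x52)) (@c12 _ (@c7 _ _ _ _ ((0 : ℕ)) ((1 : ℕ)))) (@c13 _ @x49)) _ @x48 @x46)) (@c12 _ (@c7 _ _ _ _ ((0 : ℕ)) ((2 : ℕ)))) (@c13 _ @x43)) _ @x42 @x40)) (@c12 _ (@c7 _ _ _ _ ((0 : ℕ)) ((3 : ℕ)))) (@c13 _ @x37)) _ @x36 @x34)) (@c12 _ (@c7 _ _ _ _ ((0 : ℕ)) ((4 : ℕ)))) (@c13 _ @x31)) _ @x30 @x28)) (@c12 _ (@c7 _ _ _ _ ((0 : ℕ)) ((5 : ℕ)))) (@c13 _ @x25)) _ @x24 @x22)) (@c12 _ ((6 : ℕ))) (@c13 _ @x20))))) @x15 @x17) @x12 @x14) @x9 @x11) @x6 @x8) @x3 @x5) @x1 @x2) @x0))) ?_); rfl') | exact @Cfsg.Agent.H931.A7D.RR | exact ()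
private theorem _root_.Cfsg.Agent.KO698b44f.e73 : (by first | exact @Cfsg.Agent.H931.A7D.RR = @_root_.Cfsg.Agent.KO698b44f.k73 | exact True : Prop) := by first | (delta _root_.Cfsg.Agent.KO698b44f.k73; exact @Subtype.property _ (fun g => @Cfsg.Agent.H931.A7D.RR = @g) _) | rfl | trivial

omit H in
theorem chk_RR : ∀ i : Fin 6, chk 0 (GR.sub (GR.mul (OR (RR i).1) [(1, (RR i).2)]) (GR.mul [(1, (RR i).2)] O5)) = true := by
  (first | (refine of_decide_eq_true ?_; rewrite [Cfsg.Agent.KO698b44f.e29, Cfsg.Agent.KO698b44f.e31, Cfsg.Agent.KO698b44f.e45, Cfsg.Agent.KO698b44f.e62, Cfsg.Agent.KO698b44f.e65, Cfsg.Agent.KO698b44f.e66, Cfsg.Agent.KO698b44f.e72, Cfsg.Agent.KO698b44f.e73]; decide +kernel) | decide +kernel)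

/-- the three four-sets `0123`, `0124`, `0125` -/
def QQ : GR := NS [12, 13, 23, 123, 12, 14, 24, 124, 12, 15, 25, 125]

private noncomputable def _root_.Cfsg.Agent.KO698b44f.k74s : (by first | exact Subtype (fun g => @HAppend.hAppend.{0, 0, 0} (@Cfsg.Agent.H931.A7D.GR) (@Cfsg.Agent.H931.A7D.GR) (@Cfsg.Agent.H931.A7D.GR) _ = @g) | exact Unit : Sort _) := by first | (refine @Subtype.mk _ _ (@(fun x0 x1 => @Cfsg.Agent.KO698b44f.k39.{0} _ @x0 @x1)) ?_; rewrite [← Cfsg.Agent.KO698b44f.e39.{0}]; rfl') | exact ⟨_, rfl⟩ | exact ()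
private noncomputable def _root_.Cfsg.Agent.KO698b44f.k74 : (by first | exact type_of% (@Subtype.val _ _ _root_.Cfsg.Agent.KO698b44f.k74s) | exact Unit : Sort _) := by first | exact @Subtype.val _ _ _root_.Cfsg.Agent.KO698b44f.k74s | exact ()
private theorem _root_.Cfsg.Agent.KO698b44f.e74 : (by first | exact type_of% (show _ = @_root_.Cfsg.Agent.KO698b44f.k74 from @Subtype.property _ _ _root_.Cfsg.Agent.KO698b44f.k74s) | exact True : Prop) := by first | exact @Subtype.property _ _ _root_.Cfsg.Agent.KO698b44f.k74s | trivial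
private noncomputable def _root_.Cfsg.Agent.KO698b44f.k75 : type_of% @Int.neg := @(letI c0 := @Int.ofNat; @(fun x0 => @Int.rec.{1} @(fun x1 => ℤ) @(fun x1 => @Nat.rec.{1} @(fun x2 => ℤ) (@c0 (nat_lit 0)) @(fun x2 x3 => @Int.negSucc @x2) @x1) @(fun x1 => @c0 (@Nat.succ @x1)) @x0))
private theorem _root_.Cfsg.Agent.KO698b44f.e75 : @Int.neg = @_root_.Cfsg.Agent.KO698b44f.k75 := by delta _root_.Cfsg.Agent.KO698b44f.k75; rfl'
private noncomputable def _root_.Cfsg.Agent.KO698b44f.k76s : (by first | exact Subtype (fun g => @Neg.neg.{0} (ℤ) _ = @g) | exact Unit : Sort _) := by first | (refine @Subtype.mk _ _ (@Cfsg.Agent.KO698b44f.k75) ?_; rewrite [← Cfsg.Agent.KO698b44f.e75]; rfl') | exact ⟨_, rfl⟩ | exact ()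
private noncomputable def _root_.Cfsg.Agent.KO698b44f.k76 : (by first | exact type_of% (@Subtype.val _ _ _root_.Cfsg.Agent.KO698b44f.k76s) | exact Unit : Sort _) := by first | exact @Subtype.val _ _ _root_.Cfsg.Agent.KO698b44f.k76s | exact ()
private theorem _root_.Cfsg.Agent.KO698b44f.e76 : (by first | exact type_of% (show _ = @_root_.Cfsg.Agent.KO698b44f.k76 from @Subtype.property _ _ _root_.Cfsg.Agent.KO698b44f.k76s) | exact True : Prop) := by first | exact @Subtype.property _ _ _root_.Cfsg.Agent.KO698b44f.k76s | trivial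

omit H in
theorem chk_QQ : chk 0 (GR.sub (GR.sub (GR.smul 3 (GR.sub (GR.sub (GR.sub QQ (NN 12)) (NN 345)) [(10, [])]))
    (GR.smul 3 (OR (RR 5).1 ++ (OR (RR 4).1 ++ OR (RR 3).1))))
    (GR.smul (-1) (OR (RR 0).1 ++ (OR (RR 1).1 ++ (OR (RR 2).1 ++ (OR (RR 3).1 ++ (OR (RR 4).1 ++ OR (RR 5).1))))))) = true := by
  (first | (delta Cfsg.Agent.H931.A7D.QQ; rewrite [Cfsg.Agent.KO698b44f.e74, Cfsg.Agent.KO698b44f.e76, Cfsg.Agent.KO698b44f.e62, Cfsg.Agent.KO698b44f.e65, Cfsg.Agent.KO698b44f.e64, Cfsg.Agent.KO698b44f.e43, Cfsg.Agent.KO698b44f.e42, Cfsg.Agent.KO698b44f.e72, Cfsg.Agent.KO698b44f.e73]; decide +kernel) | decide +kernel)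

omit H in
theorem chk_QN : chk 0 (GR.sub (GR.mul QQ (NN 12)) (GR.smul 18 (NN 12))) = true := by (first | (delta Cfsg.Agent.H931.A7D.QQ; rewrite [Cfsg.Agent.KO698b44f.e62, Cfsg.Agent.KO698b44f.e65, Cfsg.Agent.KO698b44f.e66, Cfsg.Agent.KO698b44f.e43, Cfsg.Agent.KO698b44f.e42, Cfsg.Agent.KO698b44f.e64]; decide +kernel) | decide +kernel)

omit H in
theorem chk_N2 : chk 0 (GR.sub (GR.mul (NN 12) (NN 12)) (GR.smul 3 (NN 12))) = true := by decide +kernel

omit H in
theorem chk_N2' : chk 0 (GR.sub (GR.mul (NN 345) (NN 345)) (GR.smul 3 (NN 345))) = true := by (first | (rewrite [Cfsg.Agent.KO698b44f.e62, Cfsg.Agent.KO698b44f.e65, Cfsg.Agent.KO698b44f.e66, Cfsg.Agent.KO698b44f.e42, Cfsg.Agent.KO698b44f.e64]; decide +kernel) | decide +kernel)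

theorem Cov.OR_zero (hz : σ z = -1) (h0 : ev g σ O5 = 0) (i : Fin 6) : ev g σ (OR (RR i).1) = 0 := by
  have h1 := H.ev_eq_zero σ hz (m := 0) (by simp) (chk_RR i)
  rw [ev_sub, ev_mul, ev_mul, h0, mul_zero, sub_zero, ev_single] at h1
  have h2 : σ (wd g (RR i).2) * σ (wd g (RR i).2)⁻¹ = 1 := by rw [← map_mul, mul_inv_cancel, map_one]
  calc ev g σ (OR (RR i).1) = ev g σ (OR (RR i).1) * (σ (wd g (RR i).2) * σ (wd g (RR i).2)⁻¹) := by rw [h2, mul_one]
    _ = 0 := by rw [← mul_assoc, h1, zero_mul]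

theorem Cov.N_fix {v : V} (hv : v ∈ _root_.Cfsg.Agent.H637.JW.Fix σ (g 0)) : ev g σ (NN 12) v = (3 : K) • v := by
  rw [ev_NN]
  have h1 : wd g (w3 12) = g 0 := gens_wd g 0
  rw [h1]
  simp only [LinearMap.add_apply, Module.End.one_apply, Module.End.mul_apply, mem_Fix.1 hv]
  module

theorem Cov.O5_ne (hz : σ z = -1) (h2 : (2 : K) ≠ 0) (h3 : (3 : K) ≠ 0) (h5 : (5 : K) ≠ 0)
    (hpos : 0 < finrank K (Fix σ (g 0))) (h0 : ev g σ O5 = 0) : False := by
  have hO := H.OR_zero hz h0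
  set n := ev g σ (NN 12) with hnd
  set m := ev g σ (NN 345) with hm
  set q := ev g σ QQ with hq
  have e1 := H.ev_eq_zero σ hz (m := 0) (by simp) chk_QQ
  rw [ev_sub, ev_sub, ev_smul, ev_smul, ev_smul, ev_append, ev_append, ev_append, ev_append, ev_append, ev_append,
    ev_append, hO 0, hO 1, hO 2, hO 3, hO 4, hO 5, ev_sub, ev_sub, ev_sub, ← hnd, ← hm, ← hq] at e1
  have e10 : ev g σ [(10, [])] = 10 := by
    simp only [ev, wd, _root_.List.map_cons, _root_.Int.cast_ofNat, _root_.List.map_nil, _root_.List.prod_nil, _root_.map_one, _root_.mul_one, _root_.List.sum_cons, _root_.List.sum_nil, _root_.add_zero]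
  rw [e10] at e1
  have e1' : (3 : K) • (q - n - m - 10) = 0 := by
    have : ((3 : ℤ) : Module.End K V) * (q - n - m - 10) = 0 := by simpa only [_root_.Int.cast_ofNat, _root_.add_zero, _root_.MulZeroClass.mul_zero, _root_.sub_zero, _root_.Int.reduceNeg, _root_.Int.cast_neg, _root_.Int.cast_one] using e1
    have h4 : (3 : K) • (q - n - m - 10) = ((3 : ℤ) : Module.End K V) * (q - n - m - 10) := by
      rw [Int.cast_ofNat, Algebra.smul_def, map_ofNat]
    rw [h4, this]
  have e2 : q - n - m - 10 = 0 := (smul_eq_zero.1 e1').resolve_left h3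
  have e3 := H.ev_eq_zero σ hz (m := 0) (by simp) chk_QN
  rw [ev_sub, ev_mul, ev_smul, ← hnd, ← hq] at e3
  have e4 := H.ev_eq_zero σ hz (m := 0) (by simp) chk_N2
  rw [ev_sub, ev_mul, ev_smul, ← hnd] at e4
  have e5 := H.ev_eq_zero σ hz (m := 0) (by simp) chk_N2'
  rw [ev_sub, ev_mul, ev_smul, ← hm] at e5
  -- `m n = 5 n`
  have e6 : m * n = 5 * n := by
    have h4 : (q - n - m - 10) * n = 0 := by rw [e2, zero_mul]
    have h6 : q * n = 18 * n := by simpa only [_root_.Int.cast_ofNat] using sub_eq_zero.1 e3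
    have h7 : n * n = 3 * n := by simpa using sub_eq_zero.1 e4
    rw [sub_mul, sub_mul, sub_mul, h6, h7] at h4
    linear_combination (norm := noncomm_ring) -h4
  have e7 : (10 : Module.End K V) * n = 0 := by
    have h7 : m * m = 3 * m := by simpa only [_root_.Int.cast_ofNat] using sub_eq_zero.1 e5
    have h8 : m * m * n = 25 * n := by
      rw [mul_assoc, e6]
      have : m * (5 * n) = 5 * (m * n) := by noncomm_ring
      rw [this, e6]
      noncomm_ring
    have h9 : m * m * n = 15 * n := by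
      rw [h7, mul_assoc, e6]
      noncomm_ring
    linear_combination (norm := noncomm_ring) h9 - h8
  obtain ⟨v, hv, hv0⟩ := exists_fix_of_pos hpos
  have h10 := LinearMap.congr_fun e7 v
  rw [Module.End.mul_apply, hnd, H.N_fix hv, map_smul] at h10
  have h11 : (10 : Module.End K V) v = (10 : K) • v := by
    have : (10 : Module.End K V) = algebraMap K (Module.End K V) 10 := by rw [map_ofNat]
    rw [this, Module.algebraMap_end_apply]
  rw [h11, smul_smul] at h10
  have h12 : (3 : K) * 10 ≠ 0 := by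
    refine mul_ne_zero h3 ?_
    rw [show (10 : K) = 2 * 5 by norm_num]
    exact mul_ne_zero h2 h5
  exact hv0 ((smul_eq_zero.1 h10).resolve_left h12)

omit H in
/-- the operator `1 + x + x²` is three times the projection onto the fixed space -/
theorem trace_N (h3 : (3 : K) ≠ 0) {x : D} (hx : x * x * x = 1) :
    LinearMap.trace K V (1 + σ x + σ x * σ x) = 3 * (finrank K (Fix σ x) : K) := by
  have hxxx : ∀ v, σ x (σ x (σ x v)) = v := fun v => by rw [← mul_apply', ← mul_apply', hx, act_one]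
  set p : Module.End K V := (3 : K)⁻¹ • (1 + σ x + σ x * σ x) with hp
  have hpv : ∀ v, p v = (3 : K)⁻¹ • (v + σ x v + σ x (σ x v)) := fun v => rfl
  have hproj : LinearMap.IsProj (_root_.Cfsg.Agent.H637.JW.Fix σ x) p := by
    refine ⟨fun v => ?_, fun v hv => ?_⟩
    · rw [mem_Fix, hpv, map_smul, map_add, map_add, hxxx]
      congr 1
      abel
    · rw [hpv, mem_Fix.1 hv, mem_Fix.1 hv]
      have : v + v + v = (3 : K) • v := by module
      rw [this, smul_smul, inv_mul_cancel₀ h3, one_smul]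
  have h1 := hproj.trace
  have h2 : (1 + σ x + σ x * σ x : Module.End K V) = (3 : K) • p := by
    rw [hp, smul_smul, mul_inv_cancel₀ h3, one_smul]
  rw [h2, map_smul, h1, smul_eq_mul]

theorem Cov.f3_conj {A B : List (Fin 5)} (h : codeW (A ++ [0]) = codeW (B ++ A)) :
    finrank K (Fix σ (wd g B)) = finrank K (Fix σ (g 0)) := by
  have h1 : wd g A * wd g [0] = wd g B * wd g A := H.rel h
  rw [gens_wd] at h1
  exact fix_conj h1

/-- **`p ≠ 2, 3, 5`.** -/
theorem Cov.path_b (hz : σ z = -1) (h2 : (2 : K) ≠ 0) (h3 : (3 : K) ≠ 0) (h5 : (5 : K) ≠ 0)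
    (hspan : Submodule.span K (Set.range σ) = ⊤) (hn : finrank K V = 12) : False := by
  obtain ⟨fa, -, -⟩ := H.three hz h2 h3 hspan hn
  have hpos := H.fix_ne hz hspan hn
  obtain ⟨m, hm⟩ := H.five_dvd (σ := σ) h5 hn
  have e1 := H.five_three hz h2 (W := (⊤ : Submodule K V)) (fun _ _ _ _ => trivial)
  rw [top_inf_eq, top_inf_eq, top_inf_eq, finrank_top, H.Fix_y, fa, hn] at e1
  have h04 : finrank K (Fix σ (wd g wx)) = 0 ∨ finrank K (Fix σ (wd g wx)) = 4 := by omega
  rcases h04 with h0 | h4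
  · have hPH := H.PH_zero (σ := σ) H.wx5 (Submodule.finrank_eq_zero.1 h0)
    obtain ⟨μ, hμ⟩ := H.scalar_of_comm hspan hn (H.S4_comm hz hPH)
    -- the scalar is six
    have hSN := H.S4_N (σ := σ) hz
    obtain ⟨v, hv, hv0⟩ := exists_fix_of_pos hpos
    have h6 := LinearMap.congr_fun hSN v
    rw [Module.End.mul_apply, Module.End.mul_apply, H.N_fix hv, hμ, LinearMap.smul_apply, Module.End.one_apply] at h6
    have h7 : (6 : Module.End K V) ((3 : K) • v) = (6 : K) • (3 : K) • v := by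
      have : (6 : Module.End K V) = algebraMap K (Module.End K V) 6 := by rw [map_ofNat]
      rw [this, Module.algebraMap_end_apply]
    rw [h7, ← sub_eq_zero, ← sub_smul, smul_smul] at h6
    have h8 : μ = 6 := by
      have h9 := (smul_eq_zero.1 h6).resolve_right hv0
      exact sub_eq_zero.1 ((mul_eq_zero.1 h9).resolve_right h3)
    -- the trace
    have ht := congrArg (LinearMap.trace K V) hμ
    have hS : ev g σ S4 = ev g σ (NN 12) + (ev g σ (NN 13) + (ev g σ (NN 23) + ev g σ (NN 123))) := by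
      have : S4 = NN 12 ++ (NN 13 ++ (NN 23 ++ NN 123)) := by
        simp [S4, NS]
      rw [this, ev_append, ev_append, ev_append]
    rw [hS, map_add, map_add, map_add, ev_NN, ev_NN, ev_NN, ev_NN,
      trace_N h3 (x := wd g (w3 12)) (H.wcube (by decide +kernel)),
      trace_N h3 (x := wd g (w3 13)) (H.wcube (by decide +kernel)),
      trace_N h3 (x := wd g (w3 23)) (H.wcube (by decide +kernel)),
      trace_N h3 (x := wd g (w3 123)) (H.wcube (by decide +kernel)),
      H.f3_conj (A := []) (B := w3 12) (by decide +kernel), H.f3_conj (A := [0, 2, 2, 1]) (B := w3 13) (by decide +kernel),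
      H.f3_conj (A := [0, 1]) (B := w3 23) (by decide +kernel), H.f3_conj (A := [2, 0, 1]) (B := w3 123) (by decide +kernel),
      fa, h8, map_smul, LinearMap.trace_one, hn, smul_eq_mul] at ht
    push_cast at ht
    have h24 : (24 : K) = 0 := by linear_combination -ht
    have : (24 : K) = 2 * 2 * 2 * 3 := by norm_num
    rw [this] at h24
    exact mul_ne_zero (mul_ne_zero (mul_ne_zero h2 h2) h2) h3 h24
  · exact H.O5_ne hz h2 h3 h5 hpos (H.O5_zero hz h2 h5 hn h4 (by omega))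

end Cfsg.Agent.H931.A7D
end

private theorem dce_99ffdcfd335b : _root_.True := by
  try have : _root_.True := by simp only [_root_.Cfsg.Agent.H931.A7D.NS.eq_1]
  try have : _root_.True := by simp only [_root_.Cfsg.Agent.H931.A7D.GR.wd.eq_1]
  try have : _root_.True := by simp only [_root_.Cfsg.Agent.H931.A7D.NN.eq_1]
  try have : _root_.True := by simp only [_root_.Cfsg.Agent.H931.A7D.ins.eq_2]
  try have : _root_.True := by simp only [_root_.Cfsg.Agent.H931.A7D.ev.eq_1]
  try have : _root_.True := by simp only [_root_.Cfsg.Agent.H931.A7D.S4.eq_1]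
  try have : _root_.True := by simp only [_root_.Cfsg.Agent.H931.A7D.PH.eq_1]
  try have : _root_.True := by simp only [_root_.Cfsg.Agent.H931.A7D.ins.eq_1]
  try have : _root_.True := by simp only [_root_.Cfsg.Agent.H931.A7D.pack.eq_1]
  try have : _root_.True := by simp only [_root_.Cfsg.Agent.H931.A7D.wd.eq_1]
  try have : _root_.True := by simp only [_root_.Cfsg.Agent.H931.A7D.ins.eq_def]
  try have : _root_.True := by simp only [_root_.Cfsg.Agent.H931.A7D.dig.eq_1]
  try have : _root_.True := by simp only [_root_.Cfsg.Agent.H931.A7D.GR.mul.eq_1]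
  try have : _root_.True := by simp only [_root_.Cfsg.Agent.H931.A7D.GR.smul.eq_1]
  exact _root_.True.intro
end

-- part: H931/A7D/PathC
section
prune_inst 0x35300540344002000000809003200004680001200000080008a009040101a22200c02840af90040402aa080130010040001000b04000000000000000011d00208828100601400004060019000080000000000000000000000000000000010004000000000
set_option linter.all false
open scoped Cfsg.Agent.FastGrp

/-!
# `2.A₇` in degree 12, characteristic three: the monomial module of degree 70 (helper931)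

`a = (0 1 2)`, `b = (3 4 5)` (lifts of order three), `h` the lift `0 1 3 0 0 2` of `(0 3 1 4)(2 5)`: the cosets of
`⟨a, b⟩ ⟨h⟩` in `2.A₇` are numbered from 0 to 69.
-/

set_option autoImplicit false
set_option linter.unusedSectionVars false
set_option maxRecDepth 100000

namespace Cfsg.Agent.H931.A7D

open Module Subgroup Cfsg.Agent.H637.JW Cfsg.Agent.H882.Dim Cfsg.Agent.H882.Sc Cfsg.Agent.H637.A7Cov

universe u

/-- the element of order eight -/
def hw : List (Fin 5) := [0, 1, 3, 0, 0, 2]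

/-- coset representatives of `3² : 8` -/
def TC : List (List (Fin 5)) :=
  [[], [1], [2], [3], [4], [0, 1], [0, 2],
    [0, 3], [0, 4], [1, 2], [1, 3], [1, 4], [2, 3], [2, 4],
    [3, 4], [4, 1], [4, 2], [4, 3], [0, 0, 4], [0, 1, 4], [0, 2, 4],
    [0, 3, 4], [0, 4, 1], [0, 4, 2], [0, 4, 3], [1, 0, 4], [1, 1, 4], [1, 2, 4],
    [1, 3, 4], [2, 0, 4], [2, 1, 4], [2, 2, 4], [2, 3, 4], [3, 0, 4], [3, 1, 4],
    [3, 2, 4], [3, 3, 4], [4, 0, 1], [4, 0, 2], [4, 0, 3], [4, 1, 2], [4, 1, 3],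
    [4, 2, 3], [4, 4, 1], [4, 4, 2], [4, 4, 3], [0, 0, 4, 1], [0, 0, 4, 2], [0, 0, 4, 3],
    [0, 1, 1, 4], [0, 1, 2, 4], [0, 1, 3, 4], [0, 2, 1, 4], [0, 2, 2, 4], [0, 2, 3, 4], [0, 3, 1, 4],
    [0, 3, 2, 4], [0, 3, 3, 4], [0, 4, 4, 1], [0, 4, 4, 2], [0, 4, 4, 3], [1, 0, 4, 2], [1, 0, 4, 3],
    [1, 4, 4, 1], [2, 0, 4, 1], [2, 0, 4, 3], [2, 4, 4, 2], [3, 0, 4, 1], [3, 0, 4, 2], [3, 4, 4, 3]]

/-- the elements `aⁱ bʲ hᵏ`, `k < 4` -/
def EH : List (List (Fin 5)) :=
  [[], [0, 1, 3, 0, 0, 2], [2, 1, 1, 2], [0, 2, 3, 0, 0, 1],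
    [0, 1, 0, 3, 2, 2, 1], [1, 1, 0, 2, 3], [1, 3, 3, 1], [1, 1, 0, 1, 3, 2],
    [0, 1, 0, 2, 3, 3, 1], [1, 1, 0, 2, 3, 0], [3, 2, 2, 3], [1, 2, 0, 0, 3],
    [0], [2, 2, 0, 3, 1, 0], [0, 2, 1, 1, 2], [1, 1, 0, 3, 2, 0],
    [1, 0, 3, 1, 2, 0, 1], [0, 1, 1, 0, 2, 3], [0, 1, 3, 3, 1], [1, 1, 0, 3, 2],
    [1, 0, 2, 1, 3, 0, 1], [2, 2, 0, 3, 1], [0, 3, 2, 2, 3], [0, 1, 2, 0, 0, 3],
    [0, 0], [1, 3, 0, 0, 2], [2, 0, 1, 2, 2], [2, 3, 0, 0, 1],
    [1, 0, 3, 2, 2, 1], [1, 1, 0, 1, 2, 3], [1, 0, 3, 1, 1], [0, 1, 1, 0, 3, 2],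
    [1, 0, 2, 3, 3, 1], [0, 2, 2, 0, 3, 1], [3, 0, 2, 3, 3], [2, 1, 0, 1, 1, 3]]

/-- the action on the cosets -/
def tabN : Fin 5 → ℕ
  | 0 => 1959092083662559994574398034688380590956724286307851087993224151045142209053438273796171262148763607415780468367517484016569935422770469464660032761566393052414337238225277244416491526685842785480840458518514832352228607662048198575559937971041461318098831718747761887752979850395981232285500928
  | 1 => 2829198868645931933426216119582909072059129676232140999666465651732139549069945909222821205697832043822885167310668669415674864479343672538138423647044844457390544297128925219952633269837234123087618484614793377606199191324475704779527620790104265097885113790619213421127230379743950733450493953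
  | 2 => 2349850724506289508402207608159479382516558794825656838536922827322463883282468407042232055391954624074606524831294374316890576396235592199333321326205588170661765729012734263349409868040330106606686468560874281060176283327612586985726110836610281420928990261880593044847867313997405042109464578
  | 3 => 982645803571358843347964267445860346504068584088058108626434949021633827413540176189565457520214942513397231277964459188512151273573452497324245275230491104535011912619895203139224881155095289430119321590784907238621922379811829586736369220019408701009435845329112839589454280524413080699043843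
  | 4 => 6088055727000057191835215652680335402944439795079484339835423128986418962391903348465716046994974244571057907282753324163204052055151126398107784738031177749527778928992024660083243215018918605877566488524421889092148831949409576918642354475422727550278156852160779164815301461100790018470035460

/-- eight cosets -/
def B8 : List ℕ := [33, 35, 36, 55, 3, 4, 54, 47]

/-- percolation -/
def st8 : List (List (Fin 5) × ℕ) :=
  [([4, 4], 57), ([0, 1], 68), ([], 67), ([0], 56), ([1], 33), ([], 56),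
    ([4, 3], 26), ([1, 3, 3], 23), ([0, 2, 3, 4], 29), ([1, 0, 3], 49), ([3, 0, 1], 17), ([0, 3, 4, 0], 62),
    ([4, 1], 29), ([2, 3], 63), ([3], 59), ([0, 4, 4], 32), ([1], 13), ([1, 3], 48),
    ([1, 1], 51), ([3], 31), ([3, 0], 11), ([0, 3], 48), ([3, 0], 22), ([0], 40),
    ([1], 38), ([3], 30), ([2], 29), ([0], 15), ([1], 45), ([3], 32),
    ([0, 1], 44), ([4], 31), ([], 58), ([0], 28), ([], 37), ([0], 62),
    ([], 38), ([1], 32), ([], 21), ([3], 15), ([], 41), ([1], 41),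
    ([], 42), ([1], 61), ([0], 49), ([2], 45), ([], 15), ([0], 4),
    ([], 60), ([0], 13), ([], 61), ([0], 31), ([], 13), ([4], 8),
    ([4], 11), ([4], 13), ([4], 14), ([2], 0), ([0], 5), ([], 9),
    ([1], 0), ([], 10)]

/-- the certificate for `s = 1`, target `0`, allowed `[]` -/
def certP : List (ℕ × List (Fin 5) × ℕ) :=
  [(0, [1, 0, 3], 1), (6, [], 7), (5, [3], 6), (6, [], 3), (7, [0, 3], 6)]

/-- the certificate for `s = -1`, target `69`, allowed `[9, 3, 7]` -/
def certM : List (ℕ × List (Fin 5) × ℕ) :=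
  [(4, [0, 0, 3], 17), (6, [0, 3], 34), (0, [3], 21), (6, [3, 4], 1), (6, [1, 2, 3, 4], 40)]

/-- words of `2.A₆` moving the coset 69 to the others -/
def W6 : List (List (Fin 5)) :=
  [[], [], [], [], [3, 2, 0, 0, 1], [], [],
    [], [2, 3, 0, 0, 1], [], [], [0, 3, 2], [], [0, 3, 1],
    [0, 3, 2, 1], [3, 0, 0, 2], [3, 0, 0, 1], [3, 0, 2, 1], [2, 0, 0, 3, 1], [0, 0, 3, 2], [0, 0, 3, 1],
    [0, 0, 3, 2, 1], [2, 3], [1, 3], [2, 3, 0, 1], [0, 1, 2, 3], [1, 0, 3, 2], [1, 0, 3, 1],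
    [1, 0, 3, 2, 1], [0, 2, 1, 3], [2, 0, 3, 2], [2, 0, 3, 1], [2, 0, 3, 2, 1], [0, 2, 1], [0, 0, 2],
    [0, 0, 1], [2, 0, 0, 1], [3, 0, 1], [3, 0, 2], [3], [3, 2, 1], [3, 1],
    [3, 2], [3, 3, 1], [3, 3, 2], [0, 3], [0, 2, 3], [0, 1, 3], [0, 2, 3, 0, 1],
    [1, 2, 3], [1, 0, 3], [1, 3, 3, 2], [2, 0, 3], [2, 1, 3], [2, 3, 3, 1], [2],
    [1], [2, 1], [0, 3, 3, 1], [0, 3, 3, 2], [0, 0, 3], [1, 1, 3], [3, 1, 2, 3],
    [1, 3, 3, 1], [2, 2, 3], [3, 2, 1, 3], [2, 3, 3, 2], [0, 2], [0, 1], []]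

/-- coset representative -/
def T (c : ℕ) : List (Fin 5) := TC.getD c []

/-- table entries -/
def tEnt (i : Fin 5) (c : ℕ) : ℕ := (tabN i >>> (14 * c)) % 16384
/-- the image -/
def nx (i : Fin 5) (c : ℕ) : ℕ := tEnt i c % 128
/-- the index in `EH` -/
def jx (i : Fin 5) (c : ℕ) : ℕ := tEnt i c / 128 % 64
/-- the sign -/
def sx (i : Fin 5) (c : ℕ) : ℕ := tEnt i c / 8192
/-- the exponent -/
def kx (i : Fin 5) (c : ℕ) : ℕ := jx i c % 4 + 4 * sx i c

/-- verification of a table entry -/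
def chkT (i : Fin 5) (c : ℕ) : Bool :=
  decide (nx i c < 70) && (decide (jx i c < 36) &&
    if sx i c = 0 then codeW (i :: T c) == codeW (T (nx i c) ++ EH.getD (jx i c) [])
    else sx i c == 1 && codeW (i :: T c) == negC (codeW (T (nx i c) ++ EH.getD (jx i c) [])))

/-- the product from the digits -/
private def cmb (a0 a1 a2 a3 a4 a5 a6 a7 a8 a9 a10 a11 a12 a13 a14 a15 b0 b1 b2 b3 b4 b5 b6 b7 b8 b9 b10 b11 b12 b13 b14 b15 : ℕ) : ℕ :=
  Nat.add (Nat.mod (Nat.add (Nat.add (Nat.add (Nat.mul a0 b0) (Nat.mul a1 b4)) (Nat.mul a2 b8)) (Nat.mul a3 b12)) 7)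
    (Nat.mul 8 (Nat.add (Nat.mod (Nat.add (Nat.add (Nat.add (Nat.mul a0 b1) (Nat.mul a1 b5)) (Nat.mul a2 b9)) (Nat.mul a3 b13)) 7)
    (Nat.mul 8 (Nat.add (Nat.mod (Nat.add (Nat.add (Nat.add (Nat.mul a0 b2) (Nat.mul a1 b6)) (Nat.mul a2 b10)) (Nat.mul a3 b14)) 7)
    (Nat.mul 8 (Nat.add (Nat.mod (Nat.add (Nat.add (Nat.add (Nat.mul a0 b3) (Nat.mul a1 b7)) (Nat.mul a2 b11)) (Nat.mul a3 b15)) 7)
    (Nat.mul 8 (Nat.add (Nat.mod (Nat.add (Nat.add (Nat.add (Nat.mul a4 b0) (Nat.mul a5 b4)) (Nat.mul a6 b8)) (Nat.mul a7 b12)) 7)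
    (Nat.mul 8 (Nat.add (Nat.mod (Nat.add (Nat.add (Nat.add (Nat.mul a4 b1) (Nat.mul a5 b5)) (Nat.mul a6 b9)) (Nat.mul a7 b13)) 7)
    (Nat.mul 8 (Nat.add (Nat.mod (Nat.add (Nat.add (Nat.add (Nat.mul a4 b2) (Nat.mul a5 b6)) (Nat.mul a6 b10)) (Nat.mul a7 b14)) 7)
    (Nat.mul 8 (Nat.add (Nat.mod (Nat.add (Nat.add (Nat.add (Nat.mul a4 b3) (Nat.mul a5 b7)) (Nat.mul a6 b11)) (Nat.mul a7 b15)) 7)
    (Nat.mul 8 (Nat.add (Nat.mod (Nat.add (Nat.add (Nat.add (Nat.mul a8 b0) (Nat.mul a9 b4)) (Nat.mul a10 b8)) (Nat.mul a11 b12)) 7)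
    (Nat.mul 8 (Nat.add (Nat.mod (Nat.add (Nat.add (Nat.add (Nat.mul a8 b1) (Nat.mul a9 b5)) (Nat.mul a10 b9)) (Nat.mul a11 b13)) 7)
    (Nat.mul 8 (Nat.add (Nat.mod (Nat.add (Nat.add (Nat.add (Nat.mul a8 b2) (Nat.mul a9 b6)) (Nat.mul a10 b10)) (Nat.mul a11 b14)) 7)
    (Nat.mul 8 (Nat.add (Nat.mod (Nat.add (Nat.add (Nat.add (Nat.mul a8 b3) (Nat.mul a9 b7)) (Nat.mul a10 b11)) (Nat.mul a11 b15)) 7)
    (Nat.mul 8 (Nat.add (Nat.mod (Nat.add (Nat.add (Nat.add (Nat.mul a12 b0) (Nat.mul a13 b4)) (Nat.mul a14 b8)) (Nat.mul a15 b12)) 7)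
    (Nat.mul 8 (Nat.add (Nat.mod (Nat.add (Nat.add (Nat.add (Nat.mul a12 b1) (Nat.mul a13 b5)) (Nat.mul a14 b9)) (Nat.mul a15 b13)) 7)
    (Nat.mul 8 (Nat.add (Nat.mod (Nat.add (Nat.add (Nat.add (Nat.mul a12 b2) (Nat.mul a13 b6)) (Nat.mul a14 b10)) (Nat.mul a15 b14)) 7)
    (Nat.mul 8 (Nat.add (Nat.mod (Nat.add (Nat.add (Nat.add (Nat.mul a12 b3) (Nat.mul a13 b7)) (Nat.mul a14 b11)) (Nat.mul a15 b15)) 7)
    (Nat.mul 8 (0))))))))))))))))))))))))))))))))

/-- `mulC` with every digit read once -/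
private def mulF (a b : ℕ) : ℕ :=
  cmb
    (Nat.mod (Nat.div a 1) 8) (Nat.mod (Nat.div a 8) 8) (Nat.mod (Nat.div a 64) 8) (Nat.mod (Nat.div a 512) 8)
    (Nat.mod (Nat.div a 4096) 8) (Nat.mod (Nat.div a 32768) 8) (Nat.mod (Nat.div a 262144) 8) (Nat.mod (Nat.div a 2097152) 8)
    (Nat.mod (Nat.div a 16777216) 8) (Nat.mod (Nat.div a 134217728) 8) (Nat.mod (Nat.div a 1073741824) 8) (Nat.mod (Nat.div a 8589934592) 8)
    (Nat.mod (Nat.div a 68719476736) 8) (Nat.mod (Nat.div a 549755813888) 8) (Nat.mod (Nat.div a 4398046511104) 8) (Nat.mod (Nat.div a 35184372088832) 8)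
    (Nat.mod (Nat.div b 1) 8) (Nat.mod (Nat.div b 8) 8) (Nat.mod (Nat.div b 64) 8) (Nat.mod (Nat.div b 512) 8)
    (Nat.mod (Nat.div b 4096) 8) (Nat.mod (Nat.div b 32768) 8) (Nat.mod (Nat.div b 262144) 8) (Nat.mod (Nat.div b 2097152) 8)
    (Nat.mod (Nat.div b 16777216) 8) (Nat.mod (Nat.div b 134217728) 8) (Nat.mod (Nat.div b 1073741824) 8) (Nat.mod (Nat.div b 8589934592) 8)
    (Nat.mod (Nat.div b 68719476736) 8) (Nat.mod (Nat.div b 549755813888) 8) (Nat.mod (Nat.div b 4398046511104) 8) (Nat.mod (Nat.div b 35184372088832) 8)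

private theorem cmb_pack (a0 a1 a2 a3 a4 a5 a6 a7 a8 a9 a10 a11 a12 a13 a14 a15 b0 b1 b2 b3 b4 b5 b6 b7 b8 b9 b10 b11 b12 b13 b14 b15 : ℕ) : cmb a0 a1 a2 a3 a4 a5 a6 a7 a8 a9 a10 a11 a12 a13 a14 a15 b0 b1 b2 b3 b4 b5 b6 b7 b8 b9 b10 b11 b12 b13 b14 b15 =
    pack [(a0 * b0 + a1 * b4 + a2 * b8 + a3 * b12) % 7, (a0 * b1 + a1 * b5 + a2 * b9 + a3 * b13) % 7, (a0 * b2 + a1 * b6 + a2 * b10 + a3 * b14) % 7, (a0 * b3 + a1 * b7 + a2 * b11 + a3 * b15) % 7,
      (a4 * b0 + a5 * b4 + a6 * b8 + a7 * b12) % 7, (a4 * b1 + a5 * b5 + a6 * b9 + a7 * b13) % 7, (a4 * b2 + a5 * b6 + a6 * b10 + a7 * b14) % 7, (a4 * b3 + a5 * b7 + a6 * b11 + a7 * b15) % 7,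
      (a8 * b0 + a9 * b4 + a10 * b8 + a11 * b12) % 7, (a8 * b1 + a9 * b5 + a10 * b9 + a11 * b13) % 7, (a8 * b2 + a9 * b6 + a10 * b10 + a11 * b14) % 7, (a8 * b3 + a9 * b7 + a10 * b11 + a11 * b15) % 7,
      (a12 * b0 + a13 * b4 + a14 * b8 + a15 * b12) % 7, (a12 * b1 + a13 * b5 + a14 * b9 + a15 * b13) % 7, (a12 * b2 + a13 * b6 + a14 * b10 + a15 * b14) % 7, (a12 * b3 + a13 * b7 + a14 * b11 + a15 * b15) % 7] := by
  have h1 : ∀ (e : ℕ) (l : List ℕ), pack (e :: l) = e + 8 * pack l := fun _ _ => rfl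
  have h2 : pack [] = 0 := rfl
  have h3 : ∀ x y : ℕ, Nat.add x y = x + y := fun _ _ => rfl
  have h4 : ∀ x y : ℕ, Nat.mul x y = x * y := fun _ _ => rfl
  have h5 : ∀ x y : ℕ, Nat.mod x y = x % y := fun _ _ => rfl
  unfold cmb
  simp only [h1, h2, h3, h4, h5]

private theorem mulF_eq (a b : ℕ) : mulF a b = mulC a b := by
  have h : ∀ c m v : ℕ, 8 ^ m = v → Nat.mod (Nat.div c v) 8 = dig c m := fun c m v e => by subst e; rfl
  have e : ∀ i j p0 p1 p2 p3 q1 q2 q3 : ℕ, 4 * i = p0 → 4 * i + 1 = p1 → 4 * i + 2 = p2 → 4 * i + 3 = p3 → 4 + j = q1 →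
      8 + j = q2 → 12 + j = q3 →
      ent a b i j = (dig a p0 * dig b j + dig a p1 * dig b q1 + dig a p2 * dig b q2 + dig a p3 * dig b q3) % 7 :=
    fun i j p0 p1 p2 p3 q1 q2 q3 e0 e1 e2 e3 e4 e5 e6 => by subst e0 e1 e2 e3 e4 e5 e6; rfl
  unfold mulF mulC
  rw [h a 0 1 rfl, h a 1 8 rfl, h a 2 64 rfl, h a 3 512 rfl, h a 4 4096 rfl, h a 5 32768 rfl, h a 6 262144 rfl, h a 7 2097152 rfl, h a 8 16777216 rfl, h a 9 134217728 rfl, h a 10 1073741824 rfl, h a 11 8589934592 rfl, h a 12 68719476736 rfl, h a 13 549755813888 rfl, h a 14 4398046511104 rfl, h a 15 35184372088832 rfl, h b 0 1 rfl, h b 1 8 rfl, h b 2 64 rfl, h b 3 512 rfl, h b 4 4096 rfl, h b 5 32768 rfl, h b 6 262144 rfl, h b 7 2097152 rfl, h b 8 16777216 rfl, h b 9 134217728 rfl, h b 10 1073741824 rfl, h b 11 8589934592 rfl, h b 12 68719476736 rfl, h b 13 549755813888 rfl, h b 14 4398046511104 rfl, h b 15 35184372088832 rfl, cmb_pack,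
    e 0 0 0 1 2 3 4 8 12 rfl rfl rfl rfl rfl rfl rfl, e 0 1 0 1 2 3 5 9 13 rfl rfl rfl rfl rfl rfl rfl, e 0 2 0 1 2 3 6 10 14 rfl rfl rfl rfl rfl rfl rfl, e 0 3 0 1 2 3 7 11 15 rfl rfl rfl rfl rfl rfl rfl, e 1 0 4 5 6 7 4 8 12 rfl rfl rfl rfl rfl rfl rfl, e 1 1 4 5 6 7 5 9 13 rfl rfl rfl rfl rfl rfl rfl, e 1 2 4 5 6 7 6 10 14 rfl rfl rfl rfl rfl rfl rfl, e 1 3 4 5 6 7 7 11 15 rfl rfl rfl rfl rfl rfl rfl, e 2 0 8 9 10 11 4 8 12 rfl rfl rfl rfl rfl rfl rfl, e 2 1 8 9 10 11 5 9 13 rfl rfl rfl rfl rfl rfl rfl, e 2 2 8 9 10 11 6 10 14 rfl rfl rfl rfl rfl rfl rfl, e 2 3 8 9 10 11 7 11 15 rfl rfl rfl rfl rfl rfl rfl, e 3 0 12 13 14 15 4 8 12 rfl rfl rfl rfl rfl rfl rfl, e 3 1 12 13 14 15 5 9 13 rfl rfl rfl rfl rfl rfl rfl, e 3 2 12 13 14 15 6 10 14 rfl rfl rfl rfl rfl rfl rfl, e 3 3 12 13 14 15 7 11 15 rfl rfl rfl rfl rfl rfl rfl]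

private noncomputable def fc (x : ℕ) (k : ℕ → ℕ) : ℕ :=
  Nat.rec (motive := fun _ => ℕ) (k 0) (fun n _ => k (Nat.succ n)) x

private theorem fc_eq (x : ℕ) (k : ℕ → ℕ) : fc x k = k x := by cases x <;> rfl

/-- `codeW` with evaluated intermediate codes -/
private noncomputable def codeF (w : List (Fin 5)) : ℕ :=
  List.rec (motive := fun _ => ℕ) 35185445863425 (fun i _ ih => fc ih (mulF (genC i))) w

private theorem codeF_eq (w : List (Fin 5)) : codeW w = codeF w := by
  induction w with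
  | nil => decide
  | cons i w ih =>
    show mulC (genC i) (codeW w) = fc (codeF w) (mulF (genC i))
    rw [fc_eq, mulF_eq, ih]

theorem chkT_all : ∀ i : Fin 5, ((List.range 70).all fun c => chkT i c) = true := by
  simp only [chkT, codeF_eq]
  decide +kernel

theorem chkE : ((List.range 36).all fun j => codeW (EH.getD j []) == codeW ((List.replicate (j / 12) [0]).flatten ++
    ((List.replicate (j / 4 % 3) (w3 345)).flatten ++ (List.replicate (j % 4) hw).flatten))) = true := by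
  simp only [codeF_eq]
  decide +kernel

variable {K : Type*} [Field K] [IsAlgClosed K] {V : Type*} [AddCommGroup V] [Module K V] [FiniteDimensional K V]
  {D : Type u} [Group D] {π : D →* alternatingGroup (Fin 7)} {g : Fin 5 → D} {z : D}
  {β : D →* Matrix.GeneralLinearGroup (Fin 4) (ZMod 7)} (H : Cov π g z β) {σ : D →* Module.End K V}

theorem wd_rep (w : List (Fin 5)) (n : ℕ) : wd g (List.replicate n w).flatten = wd g w ^ n := by
  induction n with
  | zero => simp [wd]
  | succ n ih => rw [List.replicate_succ, List.flatten_cons, wd_append, ih, pow_succ']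

/-- fixed by `3²`, eigenvector for the element of order eight -/
structure Vec (σ : D →* Module.End K V) (g : Fin 5 → D) (lam : K) (v : V) : Prop where
  ha : σ (g 0) v = v
  hb : σ (wd g (w3 345)) v = v
  hh : σ (wd g hw) v = lam • v
  hl : lam ^ 4 = -1
  h0 : v ≠ 0

theorem pow_act' {x : D} {μ : K} {v : V} (h : σ x v = μ • v) (n : ℕ) : σ (x ^ n) v = μ ^ n • v := by
  induction n with
  | zero => rw [pow_zero, act_one, pow_zero, one_smul]
  | succ n ih => rw [pow_succ, mul_apply', h, map_smul, ih, smul_smul, pow_succ, mul_comm]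

/-- the monomial vectors -/
def uu (σ : D →* Module.End K V) (g : Fin 5 → D) (v : V) (c : ℕ) : V := σ (wd g (T c)) v

include H in
theorem Cov.EH_act {lam : K} {v : V} (X : Vec σ g lam v) {j : ℕ} (hj : j < 36) :
    σ (wd g (EH.getD j [])) v = lam ^ (j % 4) • v := by
  have h1 := List.all_eq_true.1 chkE j (List.mem_range.2 hj)
  have h2 : wd g (EH.getD j []) = wd g ((List.replicate (j / 12) [0]).flatten ++
    ((List.replicate (j / 4 % 3) (w3 345)).flatten ++ (List.replicate (j % 4) hw).flatten)) := H.wd_eq (eq_of_beq h1)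
  rw [h2, wd_append, wd_append, wd_rep, wd_rep, wd_rep, mul_apply', mul_apply', pow_act' X.hh, map_smul, map_smul,
    fix_pow X.hb, gens_wd, fix_pow X.ha]

include H in
theorem Cov.step (hz : σ z = -1) {lam : K} {v : V} (X : Vec σ g lam v) (i : Fin 5) {c : ℕ} (hc : c < 70) :
    nx i c < 70 ∧ σ (g i) (uu σ g v c) = lam ^ kx i c • uu σ g v (nx i c) := by
  have h1 := List.all_eq_true.1 (chkT_all i) c (List.mem_range.2 hc)
  unfold chkT at h1
  rw [Bool.and_eq_true, Bool.and_eq_true, decide_eq_true_eq, decide_eq_true_eq] at h1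
  obtain ⟨h2, h3, h4⟩ := h1
  refine ⟨h2, ?_⟩
  have h5 : σ (g i) (uu σ g v c) = σ (wd g (i :: T c)) v := by
    have : wd g (i :: T c) = g i * wd g (T c) := rfl
    rw [this, mul_apply']
    rfl
  have h6 : σ (wd g (T (nx i c) ++ EH.getD (jx i c) [])) v = lam ^ (jx i c % 4) • uu σ g v (nx i c) := by
    rw [wd_append, mul_apply', H.EH_act X h3, map_smul]
    rfl
  rw [h5]
  split_ifs at h4 with h7
  · rw [H.wd_eq (eq_of_beq h4), h6, kx, h7, mul_zero, add_zero]
  · rw [Bool.and_eq_true] at h4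
    obtain ⟨h8, h9⟩ := h4
    have h10 : sx i c = 1 := eq_of_beq h8
    rw [H.wd_neg (w' := T (nx i c) ++ EH.getD (jx i c) []) (eq_of_beq h9), map_mul, hz, Module.End.mul_apply, h6,
      kx, h10, mul_one, pow_add, X.hl, mul_neg_one, neg_smul]
    rfl

/-- the action of words -/
def walk : List (Fin 5) → ℕ × ℕ → ℕ × ℕ
  | [], p => p
  | i :: w, p => (nx i (walk w p).1, (walk w p).2 + kx i (walk w p).1)

include H in
theorem Cov.walk_spec (hz : σ z = -1) {lam : K} {v : V} (X : Vec σ g lam v) (w : List (Fin 5)) {p : ℕ × ℕ}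
    (hp : p.1 < 70) : (walk w p).1 < 70 ∧
      σ (wd g w) (lam ^ p.2 • uu σ g v p.1) = lam ^ (walk w p).2 • uu σ g v (walk w p).1 := by
  induction w with
  | nil =>
    refine ⟨hp, ?_⟩
    have : wd g [] = 1 := rfl
    rw [this, act_one]
    rfl
  | cons i w ih =>
    obtain ⟨h1, h2⟩ := ih
    obtain ⟨h3, h4⟩ := H.step hz X i h1
    refine ⟨h3, ?_⟩
    have : wd g (i :: w) = g i * wd g w := rfl
    rw [this, mul_apply', h2, map_smul, h4, smul_smul, ← pow_add]
    rfl

/-- relation rows -/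
def row (ws : List (List (Fin 5))) (d : List (Fin 5)) (c m : ℕ) : List (ℕ × ℕ) :=
  ws.map fun w => walk (d ++ w) (c, m)

include H in
theorem Cov.row_lt (hz : σ z = -1) {lam : K} {v : V} (X : Vec σ g lam v) (ws : List (List (Fin 5)))
    (d : List (Fin 5)) {c : ℕ} (hc : c < 70) (m : ℕ) : ∀ p ∈ row ws d c m, p.1 < 70 := by
  intro p hp
  obtain ⟨w, _, rfl⟩ := List.mem_map.1 hp
  exact (H.walk_spec hz X _ hc).1

include H in
theorem Cov.row_zero (hz : σ z = -1) {lam : K} {v : V} (X : Vec σ g lam v) {ws : List (List (Fin 5))}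
    (hws : (ws.map fun w => σ (wd g w)).sum = 0) (d : List (Fin 5)) {c : ℕ} (hc : c < 70) (m : ℕ) :
    ((row ws d c m).map fun p => lam ^ p.2 • uu σ g v p.1).sum = 0 := by
  have key : ∀ l : List (List (Fin 5)), ((row l d c m).map fun p => lam ^ p.2 • uu σ g v p.1).sum =
      σ (wd g d) (((l.map fun w => σ (wd g w)).sum) (lam ^ m • uu σ g v c)) := by
    intro l
    induction l with
    | nil => simp [row]
    | cons w l ih =>
      have h1 : row (w :: l) d c m = walk (d ++ w) (c, m) :: row l d c m := rfl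
      rw [h1, List.map_cons, List.sum_cons, ih, List.map_cons, List.sum_cons, LinearMap.add_apply, map_add]
      congr 1
      rw [← (H.walk_spec hz X (d ++ w) (p := (c, m)) hc).2, wd_append, mul_apply']
  rw [key, hws, LinearMap.zero_apply, map_zero]

/-! ### percolation -/

/-- one relation after the other -/
def prc (ws : List (List (Fin 5))) : List ℕ → List (List (Fin 5) × ℕ) → List ℕ
  | S, [] => S
  | S, t :: l =>
    match row ws t.1 t.2 0 with
    | [] => S
    | q :: qs => if (decide (t.2 < 70) && qs.all fun r => S.contains r.1) = true then prc ws (q.1 :: S) l else prc ws S l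

include H in
theorem Cov.prc_spec (hz : σ z = -1) {lam : K} {v : V} (X : Vec σ g lam v) {ws : List (List (Fin 5))}
    (hws : (ws.map fun w => σ (wd g w)).sum = 0) (U : Submodule K V) (l : List (List (Fin 5) × ℕ)) :
    ∀ S : List ℕ, (∀ c ∈ S, uu σ g v c ∈ U) → ∀ c ∈ prc ws S l, uu σ g v c ∈ U := by
  have hlam : lam ≠ 0 := by
    intro h
    have h1 := X.hl
    rw [h, zero_pow (by norm_num)] at h1
    exact absurd h1 (by rw [eq_comm, neg_eq_zero]; exact one_ne_zero)
  induction l with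
  | nil => intro S hS; exact hS
  | cons t l ih =>
    intro S hS
    unfold prc
    rcases hr : row ws t.1 t.2 0 with _ | ⟨q, qs⟩
    · exact hS
    · dsimp only
      split_ifs with h
      · apply ih
        rw [Bool.and_eq_true, decide_eq_true_eq, List.all_eq_true] at h
        obtain ⟨h1, h2⟩ := h
        have h3 := H.row_zero hz X hws t.1 h1 0
        rw [hr, List.map_cons, List.sum_cons] at h3
        have h4 : (qs.map fun p => lam ^ p.2 • uu σ g v p.1).sum ∈ U := by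
          apply list_sum_mem
          intro x hx
          obtain ⟨p, hp, rfl⟩ := List.mem_map.1 hx
          exact U.smul_mem _ (hS _ (by simpa using h2 p hp))
        intro c hc
        rcases List.mem_cons.1 hc with rfl | hc
        · have h5 : lam ^ q.2 • uu σ g v q.1 ∈ U := by
            rw [eq_neg_of_add_eq_zero_left h3]
            exact U.neg_mem h4
          exact (U.smul_mem_iff (pow_ne_zero _ hlam)).1 h5
        · exact hS c hc
      · exact ih S hS

/-! ### linear combinations -/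

/-- the powers of `lam` -/
def pw (s : ℤ) : ℕ → ℤ × ℤ
  | 0 => (1, 0)
  | k + 1 => ((pw s k).2, (pw s k).1 + s * (pw s k).2)

/-- coefficients -/
def co (s : ℤ) : List (ℕ × ℕ) → ℕ → ℤ × ℤ
  | [], _ => (0, 0)
  | p :: L, c => if p.1 = c then ((pw s (p.2 % 8)).1 + (co s L c).1, (pw s (p.2 % 8)).2 + (co s L c).2) else co s L c

/-- evaluation of a coefficient -/
def cv (lam : K) (x : ℤ × ℤ) : K := (x.1 : K) + (x.2 : K) * lam

omit [IsAlgClosed K] in
theorem pw_spec {lam : K} {s : ℤ} (hs : lam ^ 2 = (s : K) * lam + 1) (k : ℕ) : cv lam (pw s k) = lam ^ k := by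
  induction k with
  | zero => simp [pw, cv]
  | succ k ih =>
    have : cv lam (pw s (k + 1)) = cv lam (pw s k) * lam := by
      unfold cv
      rw [pw]
      push_cast
      linear_combination (-((pw s k).2 : K)) * hs
    rw [this, ih, pow_succ]

omit [IsAlgClosed K] [FiniteDimensional K V] in
theorem co_spec {lam : K} (hl : lam ^ 4 = -1) {s : ℤ} (hs : lam ^ 2 = (s : K) * lam + 1) (f : ℕ → V) (L : List (ℕ × ℕ))
    (hL : ∀ p ∈ L, p.1 < 70) :
    (L.map fun p => lam ^ p.2 • f p.1).sum = ∑ c ∈ Finset.range 70, cv lam (co s L c) • f c := by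
  induction L with
  | nil => simp [co, cv]
  | cons p L ih =>
    have h1 : ∀ c, cv lam (co s (p :: L) c) • f c =
        (if p.1 = c then lam ^ p.2 • f p.1 else 0) + cv lam (co s L c) • f c := by
      intro c
      have h0 : co s (p :: L) c = if p.1 = c then ((pw s (p.2 % 8)).1 + (co s L c).1,
        (pw s (p.2 % 8)).2 + (co s L c).2) else co s L c := rfl
      rw [h0]
      split_ifs with h
      · have h8 : lam ^ p.2 = lam ^ (p.2 % 8) := by
          have h9 : lam ^ 8 = 1 := by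
            have : lam ^ 8 = (lam ^ 4) ^ 2 := by ring
            rw [this, hl]
            norm_num
          conv_lhs => rw [← Nat.div_add_mod p.2 8, pow_add, pow_mul, h9, one_pow, one_mul]
        rw [h8, ← pw_spec hs, h, ← add_smul]
        congr 1
        unfold cv
        push_cast
        ring
      · rw [zero_add]
    rw [List.map_cons, List.sum_cons, ih fun q hq => hL q (List.mem_cons_of_mem _ hq)]
    simp only [h1]
    rw [Finset.sum_add_distrib, Finset.sum_ite_eq, if_pos (Finset.mem_range.2 (hL p List.mem_cons_self))]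

/-- the rows of a certificate -/
def crt (ws : List (List (Fin 5))) (C : List (ℕ × List (Fin 5) × ℕ)) : List (ℕ × ℕ) :=
  C.flatMap fun t => row ws t.2.1 t.2.2 t.1

/-- the check of a certificate -/
def chkO (s : ℤ) (L : List (ℕ × ℕ)) (t : ℕ) (al : List ℕ) : Bool :=
  (List.range 70).all fun c =>
    if c = t then ((co s L c).1 - 1) % 3 == 0 && (co s L c).2 % 3 == 0
    else al.contains c || ((co s L c).1 % 3 == 0 && (co s L c).2 % 3 == 0)

include H in
theorem Cov.crt_spec (hz : σ z = -1) (h3 : (3 : K) = 0) {lam : K} {v : V} (X : Vec σ g lam v) {s : ℤ}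
    (hs : lam ^ 2 = (s : K) * lam + 1) {ws : List (List (Fin 5))} (hws : (ws.map fun w => σ (wd g w)).sum = 0)
    {C : List (ℕ × List (Fin 5) × ℕ)} (hC : ∀ t ∈ C, t.2.2 < 70) {t : ℕ} (ht : t < 70) {al : List ℕ}
    (h : chkO s (crt ws C) t al = true) (U : Submodule K V) (hU : ∀ c ∈ al, uu σ g v c ∈ U) : uu σ g v t ∈ U := by
  have h1 : ((crt ws C).map fun p => lam ^ p.2 • uu σ g v p.1).sum = 0 := by
    clear h
    induction C with
    | nil => simp [crt]
    | cons a C ih =>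
      have e1 : crt ws (a :: C) = row ws a.2.1 a.2.2 a.1 ++ crt ws C := List.flatMap_cons ..
      rw [e1, List.map_append, List.sum_append, H.row_zero hz X hws _ (hC a List.mem_cons_self),
        ih fun b hb => hC b (List.mem_cons_of_mem _ hb), add_zero]
  have h2 : ∀ p ∈ crt ws C, p.1 < 70 := by
    intro p hp
    obtain ⟨a, ha, hpa⟩ := List.mem_flatMap.1 hp
    exact H.row_lt hz X _ _ (hC a ha) _ p hpa
  rw [co_spec X.hl hs (uu σ g v) _ h2, ← Finset.add_sum_erase _ _ (Finset.mem_range.2 ht)] at h1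
  have hint : ∀ n : ℤ, (n % 3 == 0) = true → (n : K) = 0 := by
    intro n hn
    have : n % 3 = 0 := by simpa using hn
    obtain ⟨c, rfl⟩ := Int.dvd_of_emod_eq_zero this
    rw [Int.cast_mul, Int.cast_ofNat, h3, zero_mul]
  have h4 : ∑ c ∈ (Finset.range 70).erase t, cv lam (co s (crt ws C) c) • uu σ g v c ∈ U := by
    apply Submodule.sum_mem
    intro c hc
    rw [Finset.mem_erase, Finset.mem_range] at hc
    have h5 := List.all_eq_true.1 h c (List.mem_range.2 hc.2)
    rw [if_neg hc.1, Bool.or_eq_true, Bool.and_eq_true] at h5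
    rcases h5 with h5 | ⟨h5, h6⟩
    · exact U.smul_mem _ (hU c (by simpa using h5))
    · have : cv lam (co s (crt ws C) c) = 0 := by
        unfold cv
        rw [hint _ h5, hint _ h6, zero_mul, add_zero]
      rw [this, zero_smul]
      exact U.zero_mem
  have h5 := List.all_eq_true.1 h t (List.mem_range.2 ht)
  rw [if_pos rfl, Bool.and_eq_true] at h5
  have h6 : cv lam (co s (crt ws C) t) = 1 := by
    unfold cv
    have e1 := hint _ h5.1
    rw [Int.cast_sub, Int.cast_one, sub_eq_zero] at e1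
    rw [e1, hint _ h5.2, zero_mul, add_zero]
  rw [h6, one_smul] at h1
  rw [eq_neg_of_add_eq_zero_left h1]
  exact U.neg_mem h4

/-! ### the checks -/

/-- the powers of the element of order five -/
def PHw : List (List (Fin 5)) := [[], wx, wx ++ wx, wx ++ (wx ++ wx), wx ++ (wx ++ (wx ++ wx))]

/-- the twenty elements of order three of `2.A₅` -/
def O20 : List (List (Fin 5)) :=
  [12, 13, 14, 23, 24, 34, 123, 124, 134, 234].flatMap fun k => [w3 k, w3 k ++ w3 k]

/-- with coefficients one -/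
def one' (ws : List (List (Fin 5))) : GR := ws.map fun w => (1, w)

theorem ev_one' {A : Type*} [Ring A] (g : Fin 5 → D) (σ : D →* A) (ws : List (List (Fin 5))) :
    ev g σ (one' ws) = (ws.map fun w => σ (wd g w)).sum := by
  unfold ev one'
  rw [List.map_map]
  congr 1
  apply List.map_congr_left
  intro w _
  simp

theorem PHw_eq : one' PHw = PH wx := rfl

theorem chk_O20 : chk 0 (GR.sub O5 (one' O20)) = true := by decide +kernel

/-- the ten cosets of `2.A₆` -/
def U6 : List ℕ := [0, 1, 2, 3, 5, 6, 7, 9, 10, 12]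

theorem chk_B8 : ((List.range 70).all fun c => (prc PHw B8 st8).contains c) = true := by decide +kernel

theorem chk_P : chkO 1 (crt O20 certP) 0 [] = true := by decide +kernel

theorem chk_M : chkO (-1) (crt O20 certM) 69 [9, 3, 7] = true := by decide +kernel

theorem chk_U6 : (U6.all fun c => (List.range 4).all fun i => U6.contains (nx (Fin.ofNat 5 i) c)) = true := by
  decide +kernel

theorem chk_W6 : ((List.range 70).all fun c => U6.contains c ||
    ((W6.getD c []).all fun i => decide (i < 4)) && (walk (W6.getD c []) (69, 0)).1 == c) = true := by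
  decide +kernel

theorem uu_zero (v : V) : uu σ g v 0 = v := by
  have : wd g (T 0) = 1 := by simp [wd, T, TC]
  rw [uu, this, act_one]

include H in
/-- the monomial vectors are not contained in a small subspace -/
theorem Cov.no_small (hz : σ z = -1) (hspan : Submodule.span K (Set.range σ) = ⊤) (hn : finrank K V = 12) {lam : K}
    {v : V} (X : Vec σ g lam v) (S : List ℕ) (hS : S.length < 12)
    (h : ∀ c < 70, uu σ g v c ∈ Submodule.span K (Set.range fun j : Fin S.length => uu σ g v (S.get j))) : False := by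
  set U : Submodule K V := Submodule.span K (Set.range fun j : Fin S.length => uu σ g v (S.get j)) with hU
  let W : Submodule K V := Submodule.span K {x | ∃ c < 70, x = uu σ g v c}
  have hgen : ∀ i, ∀ w ∈ W, σ (g i) w ∈ W := by
    intro i w hw
    induction hw using Submodule.span_induction with
    | mem x hx =>
      obtain ⟨c, hc, rfl⟩ := hx
      obtain ⟨h1, h2⟩ := H.step hz X i hc
      rw [h2]
      exact W.smul_mem _ (Submodule.subset_span ⟨_, h1, rfl⟩)
    | zero => rw [map_zero]; exact W.zero_mem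
    | add x y _ _ hx hy => rw [map_add]; exact W.add_mem hx hy
    | smul a x _ hx => rw [map_smul]; exact W.smul_mem _ hx
  have hall : ∀ d, ∀ w ∈ W, σ d w ∈ W := by
    intro d
    have hd : d ∈ closure (Set.range g) := by rw [H.gen]; trivial
    induction hd using closure_induction with
    | mem x hx =>
      obtain ⟨i, rfl⟩ := hx
      exact hgen i
    | one => intro w hw; rwa [act_one]
    | mul x y _ _ hx hy => intro w hw; rw [mul_apply']; exact hx _ (hy _ hw)
    | inv x _ hx => intro w hw; exact inv_inv hx hw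
  have h0 : v ∈ W := Submodule.subset_span ⟨0, by norm_num, (uu_zero v).symm⟩
  rcases irr_of_span hspan W hall with h1 | h1
  · rw [h1, Submodule.mem_bot] at h0
    exact X.h0 h0
  · have h2 : W ≤ U := by
      apply Submodule.span_le.2
      rintro _ ⟨c, hc, rfl⟩
      exact h c hc
    have h3 : U = ⊤ := top_le_iff.1 (h1 ▸ h2)
    have h4 : finrank K U ≤ S.length := by
      have := finrank_range_le_card (R := K) (fun j : Fin S.length => uu σ g v (S.get j))
      rwa [Fintype.card_fin] at this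
    rw [h3, finrank_top, hn] at h4
    omega

theorem mem_get (S : List ℕ) {c : ℕ} (hc : c ∈ S) (v : V) :
    uu σ g v c ∈ Submodule.span K (Set.range fun j : Fin S.length => uu σ g v (S.get j)) := by
  obtain ⟨j, hj⟩ := List.mem_iff_get.1 hc
  exact Submodule.subset_span ⟨j, by rw [← hj]⟩

include H in
/-- elements of order five without fixed vectors -/
theorem Cov.c_zero (hz : σ z = -1) (hspan : Submodule.span K (Set.range σ) = ⊤) (hn : finrank K V = 12) {lam : K}
    {v : V} (X : Vec σ g lam v) (h : ev g σ (PH wx) = 0) : False := by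
  rw [← PHw_eq, ev_one'] at h
  refine H.no_small hz hspan hn X B8 (by decide) fun c hc => ?_
  refine H.prc_spec hz X h _ st8 B8 (fun c hc => mem_get B8 hc v) c ?_
  have := List.all_eq_true.1 chk_B8 c (List.mem_range.2 hc)
  simpa using this

include H in
/-- elements of order five with fixed vectors -/
theorem Cov.c_four (hz : σ z = -1) (h3 : (3 : K) = 0) (hspan : Submodule.span K (Set.range σ) = ⊤)
    (hn : finrank K V = 12) {lam : K} {v : V} (X : Vec σ g lam v) (h : ev g σ O5 = 0) : False := by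
  have h20 : (O20.map fun w => σ (wd g w)).sum = 0 := by
    have h1 := H.ev_eq_zero σ hz (m := 0) (by simp) chk_O20
    rw [ev_sub, h, zero_sub, neg_eq_zero, ev_one'] at h1
    exact h1
  have hl : (lam ^ 2 - (lam + 1)) * (lam ^ 2 - (-lam + 1)) = 0 := by
    linear_combination X.hl - lam ^ 2 * h3
  rcases mul_eq_zero.1 hl with h1 | h1
  · have h2 : lam ^ 2 = ((1 : ℤ) : K) * lam + 1 := by
      rw [sub_eq_zero.1 h1, Int.cast_one, one_mul]
    have h5 := H.crt_spec hz h3 X h2 h20 (C := certP) (by decide) (t := 0) (by norm_num) chk_P ⊥ (by simp)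
    rw [uu_zero, Submodule.mem_bot] at h5
    exact X.h0 h5
  · have h2 : lam ^ 2 = ((-1 : ℤ) : K) * lam + 1 := by
      rw [sub_eq_zero.1 h1, Int.cast_neg, Int.cast_one, neg_one_mul]
    set U : Submodule K V := Submodule.span K (Set.range fun j : Fin U6.length => uu σ g v (U6.get j)) with hU
    have h5 : uu σ g v 69 ∈ U := H.crt_spec hz h3 X h2 h20 (C := certM) (by decide) (t := 69) (by norm_num) chk_M U
      (fun c hc => mem_get U6 (by revert hc; revert c; decide) v)
    have hlam : lam ≠ 0 := by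
      intro h
      have h1 := X.hl
      rw [h, zero_pow (by norm_num)] at h1
      exact absurd h1 (by rw [eq_comm, neg_eq_zero]; exact one_ne_zero)
    have hinv : ∀ i : Fin 5, i < 4 → ∀ w ∈ U, σ (g i) w ∈ U := by
      intro i hi w hw
      induction hw using Submodule.span_induction with
      | mem x hx =>
        obtain ⟨j, rfl⟩ := hx
        have hj : U6.get j ∈ U6 := List.get_mem _ _
        have h70 : U6.get j < 70 := by
          have : ∀ c ∈ U6, c < 70 := by decide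
          exact this _ hj
        obtain ⟨e1, e2⟩ := H.step hz X i h70
        show σ (g i) (uu σ g v (U6.get j)) ∈ U
        rw [e2]
        refine U.smul_mem _ (mem_get U6 ?_ v)
        have e3 := List.all_eq_true.1 chk_U6 _ hj
        have e4 := List.all_eq_true.1 e3 i.val (List.mem_range.2 hi)
        have e5 : Fin.ofNat 5 i.val = i := by
          apply Fin.ext
          simp
        rw [e5] at e4
        simpa using e4
      | zero => rw [map_zero]; exact U.zero_mem
      | add x y _ _ hx hy => rw [map_add]; exact U.add_mem hx hy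
      | smul a x _ hx => rw [map_smul]; exact U.smul_mem _ hx
    have hwd : ∀ l : List (Fin 5), (∀ i ∈ l, i < 4) → ∀ w ∈ U, σ (wd g l) w ∈ U := by
      intro l
      induction l with
      | nil =>
        intro _ w hw
        have : wd g [] = 1 := rfl
        rwa [this, act_one]
      | cons i l ih =>
        intro hl w hw
        have : wd g (i :: l) = g i * wd g l := rfl
        rw [this, mul_apply']
        exact hinv i (hl i List.mem_cons_self) _ (ih (fun j hj => hl j (List.mem_cons_of_mem _ hj)) w hw)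
    refine H.no_small hz hspan hn X U6 (by decide) fun c hc => ?_
    have e1 := List.all_eq_true.1 chk_W6 c (List.mem_range.2 hc)
    rw [Bool.or_eq_true, Bool.and_eq_true] at e1
    rcases e1 with e1 | ⟨e1, e2⟩
    · exact mem_get U6 (by simpa using e1) v
    · have e3 : ∀ i ∈ W6.getD c [], i < 4 := by
        intro i hi
        have := List.all_eq_true.1 e1 i hi
        simpa using this
      have e4 := (H.walk_spec hz X (W6.getD c []) (p := (69, 0)) (by norm_num)).2
      have e5 := hwd _ e3 _ h5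
      rw [pow_zero, one_smul, eq_of_beq e2] at e4
      rw [e4] at e5
      exact (U.smul_mem_iff (pow_ne_zero _ hlam)).1 e5

/-- unipotent elements fix vectors in invariant subspaces -/
theorem fix_inf_ne (h3 : (3 : K) = 0) {x : D} (hx : x * x * x = 1) {W : Submodule K V} (hW : W ≠ ⊥)
    (hi : ∀ w ∈ W, σ x w ∈ W) : W ⊓ Fix σ x ≠ ⊥ := by
  intro hcon
  obtain ⟨w, hw, hw0⟩ := Submodule.exists_mem_ne_zero_of_ne_bot hW
  have key : ∀ u ∈ W, σ x u = u → u = 0 := by
    intro u hu hxu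
    have : u ∈ W ⊓ Fix σ x := ⟨hu, mem_Fix.2 hxu⟩
    rw [hcon, Submodule.mem_bot] at this
    exact this
  have hxxx : σ x (σ x (σ x w)) = w := by rw [← mul_apply', ← mul_apply', hx, act_one]
  have h1 := hi w hw
  have h2 := hi _ h1
  -- `w + x w + x² w` is fixed
  have e1 : w + σ x w + σ x (σ x w) = 0 := by
    apply key _ (W.add_mem (W.add_mem hw h1) h2)
    rw [map_add, map_add, hxxx]
    abel
  have e2 : σ x w - w = 0 := by
    apply key _ (W.sub_mem h1 hw)
    rw [map_sub]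
    have h4 : (3 : K) • σ x w = 0 := by rw [h3, zero_smul]
    have h5 : σ x (σ x w) - σ x w - (σ x w - w) = (w + σ x w + σ x (σ x w)) - (3 : K) • σ x w := by module
    rw [e1, h4, sub_zero] at h5
    exact sub_eq_zero.1 h5
  exact hw0 (key w hw (sub_eq_zero.1 e2))

include H in
/-- existence of the vector -/
theorem Cov.exists_vec (hz : σ z = -1) (h3 : (3 : K) = 0) (hn : finrank K V = 12) : ∃ (lam : K) (v : V), Vec σ g lam v := by
  have hnt : Nontrivial V := Module.nontrivial_of_finrank_pos (R := K) (by omega)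
  have ha3 : g 0 * g 0 * g 0 = 1 := by
    have := H.wcube (A := [0]) (by decide +kernel)
    rwa [gens_wd] at this
  have hb3 : wd g (w3 345) * wd g (w3 345) * wd g (w3 345) = 1 := H.wcube (by decide +kernel)
  have hab : wd g (w3 345) * wd g [0] = wd g [0] * wd g (w3 345) := H.rel (by decide +kernel)
  have hha : wd g (w3 345) * wd g hw = wd g hw * wd g [0] := H.rel (by decide +kernel)
  have hhb : wd g [0] * wd g (hw ++ w3 345) = wd g hw := H.rel1 (by decide +kernel)
  have hh4 : wd g (hw ++ (hw ++ (hw ++ hw))) = z * wd g [] := H.wd_neg (by decide +kernel)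
  rw [gens_wd] at hab hha hhb
  have htop : (⊤ : Submodule K V) ≠ ⊥ := top_ne_bot
  have h1 := fix_inf_ne (σ := σ) h3 ha3 htop (fun _ _ => trivial)
  rw [top_inf_eq] at h1
  have h2 := fix_inf_ne (σ := σ) h3 hb3 h1 (fun w hw' => by
    rw [mem_Fix] at hw' ⊢
    rw [← mul_apply', ← hab, mul_apply', hw'])
  set W := Fix σ (g 0) ⊓ Fix σ (wd g (w3 345)) with hWd
  have hWh : ∀ w ∈ W, σ (wd g hw) w ∈ W := by
    rintro w ⟨hwa, hwb⟩
    rw [SetLike.mem_coe, mem_Fix] at hwa hwb
    constructor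
    · rw [SetLike.mem_coe, mem_Fix]
      have h5 : σ (g 0) (σ (wd g hw) (σ (wd g (w3 345)) w)) = σ (wd g hw) w := by
        rw [← mul_apply' (wd g hw), ← wd_append, ← mul_apply', hhb]
      rwa [hwb] at h5
    · rw [SetLike.mem_coe, mem_Fix, ← mul_apply', hha, mul_apply', hwa]
  have hWnt : Nontrivial W := Submodule.nontrivial_iff_ne_bot.2 h2
  obtain ⟨lam, hlam⟩ := Module.End.exists_eigenvalue ((σ (wd g hw)).restrict hWh)
  obtain ⟨w, hw'⟩ := hlam.exists_hasEigenvector
  have hw1 : σ (wd g hw) (w : V) = lam • (w : V) := by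
    have := congrArg (Subtype.val) hw'.apply_eq_smul
    exact this
  have hw0 : (w : V) ≠ 0 := fun h => hw'.2 (Subtype.ext h)
  refine ⟨lam, w, mem_Fix.1 w.2.1, mem_Fix.1 w.2.2, hw1, ?_, hw0⟩
  have h6 := pow_act' hw1 4
  have h7 : wd g hw ^ 4 = z := by
    have : wd g (hw ++ (hw ++ (hw ++ hw))) = wd g hw ^ 4 := by
      rw [wd_append, wd_append, wd_append, pow_succ, pow_succ, pow_succ, _root_.pow_one, mul_assoc, mul_assoc]
    rw [← this, hh4]
    have : wd g [] = 1 := rfl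
    rw [this, mul_one]
  rw [h7, hz] at h6
  have h8 : (lam ^ 4 - (-1)) • (w : V) = 0 := by
    rw [sub_smul, ← h6]
    simp
  exact sub_eq_zero.1 ((smul_eq_zero.1 h8).resolve_right hw0)

include H in
/-- **Characteristic three.** -/
theorem Cov.path_c (hz : σ z = -1) (h3 : (3 : K) = 0) (hspan : Submodule.span K (Set.range σ) = ⊤)
    (hn : finrank K V = 12) : False := by
  have h2 : (2 : K) ≠ 0 := by
    intro h
    apply one_ne_zero (α := K)
    linear_combination h3 - h
  have h5 : (5 : K) ≠ 0 := by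
    intro h
    apply one_ne_zero (α := K)
    linear_combination 2 * h3 - h
  obtain ⟨lam, v, X⟩ := H.exists_vec (σ := σ) hz h3 hn
  have h3' : ((3 : ℕ) : K) = 0 := by exact_mod_cast h3
  have hp : Fact (Nat.Prime 3) := ⟨Nat.prime_three⟩
  have hch : CharP K 3 := ringChar.of_eq (CharP.ringChar_of_prime_eq_zero Nat.prime_three h3')
  have hg3 : g 0 ^ 3 = 1 := by
    have := H.wcube (A := [0]) (by decide +kernel)
    rw [gens_wd] at this
    rw [← this, pow_succ, pow_succ, _root_.pow_one]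
  have f3 := le_of_char (σ := σ) (p := 3) hg3
  rw [hn] at f3
  obtain ⟨m, hm⟩ := H.five_dvd (σ := σ) h5 hn
  have e1 := H.five_three hz h2 (W := (⊤ : Submodule K V)) (fun _ _ _ _ => trivial)
  rw [top_inf_eq, top_inf_eq, top_inf_eq, finrank_top, H.Fix_y, hn] at e1
  have h04 : finrank K (Fix σ (wd g wx)) = 0 ∨ finrank K (Fix σ (wd g wx)) = 4 := by omega
  rcases h04 with h0 | h4
  · exact H.c_zero hz hspan hn X (H.PH_zero (σ := σ) H.wx5 (Submodule.finrank_eq_zero.1 h0))
  · exact H.c_four hz h3 hspan hn X (H.O5_zero hz h2 h5 hn h4 (by omega))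

end Cfsg.Agent.H931.A7D

private theorem dce_c2b36609941e : _root_.True := by
  try have : _root_.True := by simp only [_root_.Cfsg.Agent.H931.A7D.pw.eq_2]
  try have : _root_.True := by simp only [_root_.Cfsg.Agent.H931.A7D.kx.eq_1]
  try have : _root_.True := by simp only [_root_.Cfsg.Agent.H931.A7D.row.eq_1]
  try have : _root_.True := by simp only [_root_.Cfsg.Agent.H931.A7D.pw.eq_def]
  try have : _root_.True := by simp only [_root_.Cfsg.Agent.H931.A7D.pw.eq_1]
  try have : _root_.True := by simp only [_root_.Cfsg.Agent.H931.A7D.co.eq_def]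
  try have : _root_.True := by simp only [_root_.Cfsg.Agent.H931.A7D.uu.eq_1]
  try have : _root_.True := by simp only [_root_.Cfsg.Agent.H931.A7D.cv.eq_1]
  try have : _root_.True := by simp only [_root_.Cfsg.Agent.H931.A7D.T.eq_1]
  try have : _root_.True := by simp only [_root_.Cfsg.Agent.H931.A7D.crt.eq_1]
  try have : _root_.True := by simp only [_root_.Cfsg.Agent.H931.A7D.TC.eq_1]
  try have : _root_.True := by simp only [_root_.Cfsg.Agent.H931.A7D.co.eq_2]
  try have : _root_.True := by simp only [_root_.Cfsg.Agent.H931.A7D.prc.eq_def]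
  try have : _root_.True := by simp only [_root_.Cfsg.Agent.H931.A7D.co.eq_1]
  exact _root_.True.intro
end

-- part: H937/G24/Qg
section
set_option linter.all false
open scoped Cfsg.Agent.FastGrp

/-!
# The elements of `QQ` modulo `RR` (helper937)
-/

set_option autoImplicit false
set_option linter.unusedSectionVars false
set_option linter.unusedSimpArgs false

namespace Cfsg.Agent.H937.G24

section

open Cfsg.Lie Cfsg.Agent.H161.Oct Cfsg.Agent.H148.Oct

variable {K : Type*} [Field K]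

/-- the elements of `QQ` modulo `RR` -/
noncomputable def qg (a c s t : K) : ↥(AutO K) :=
  ⟨ut a 0 c, ut_mem _ _ _⟩ * ⟨tau ![s, 0, 0], tau_mem _⟩ * ⟨tl ![0, 0, t], tl_mem _⟩

theorem qg_apply (a c s t : K) (x : V K) :
    (qg a c s t).1 x = ut a 0 c (tau ![s, 0, 0] (tl ![0, 0, t] x)) := rfl

theorem qg_QQ (a c s t : K) : qg a c s t ∈ QQ K :=
  (QQ K).mul_mem ((QQ K).mul_mem (ut_QQ _ _ _) (tau_QQ _)) (tl_QQ _)

theorem qk_eq_qg (n : K) (i : K × K) : qk n i = qg (i.2 * n + i.1) ((i.1 + i.2) * n ^ 2) i.1 i.2 := rfl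

variable [CharP K 2]

theorem qg_comm (a c s t a' c' s' t' : K) : qg a c s t * qg a' c' s' t' =
    rt (t * s' + s * t' + a * c' + c * a') * (qg a' c' s' t' * qg a c s t) := by
  have h2 := two_zero (K := K)
  obtain ⟨β, hβ⟩ := mem_RR_iff.1 (QQ_comm (qg_QQ a c s t) (qg_QQ a' c' s' t'))
  have h1 : qg a c s t * qg a' c' s' t' = rt β * (qg a' c' s' t' * qg a c s t) := by
    rw [← hβ]; group
  rw [h1]
  congr 2
  have h3 := congrArg (fun g : ↥(AutO K) => g.1 (Pi.single 3 1) 1) h1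
  simp only [val_mul, rt_apply, qg_apply] at h3
  simp [ut0, ut1, ut2, ut3, ut4, ut5, ut6, ut7, tau_apply, tau0, tau1, tau2, tau3, tau4, tau5, tau6, tau7,
    tl0, tl1, tl2, tl3, tl4, tl5, tl6, tl7] at h3
  linear_combination (-1 : K) * h3 + (t * s' - 2 * t' * s - a' * c) * h2

variable {n : K} (hn : n ^ 2 + n + 1 = 0)

include hn

theorem xx_qk (i : K × K) : qg 1 0 (n ^ 2) (n ^ 2) * qk n i = qk n i * qg 1 0 (n ^ 2) (n ^ 2) := by
  have h2 := two_zero (K := K)
  rw [qk_eq_qg, qg_comm]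
  have e : n ^ 2 * i.1 + n ^ 2 * i.2 + 1 * ((i.1 + i.2) * n ^ 2) + 0 * (i.2 * n + i.1) = (0 : K) := by
    linear_combination (n ^ 2 * i.1 + n ^ 2 * i.2) * h2
  rw [e, rt_zero, one_mul]

theorem xx_xx : qg 1 0 (n ^ 2) (n ^ 2) * qg 0 1 n 1 ≠ qg 0 1 n 1 * qg 1 0 (n ^ 2) (n ^ 2) := by
  have h2 := two_zero (K := K)
  intro h
  rw [qg_comm] at h
  have h1 := mul_eq_right.1 h
  rw [← rt_zero] at h1
  have h3 := rt_inj h1
  apply n_ne hn
  have h5 : n ^ 2 = 0 := by linear_combination h3 - (n - 1) * hn - h2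
  exact pow_eq_zero_iff (by norm_num) |>.1 h5

end

end Cfsg.Agent.H937.G24
end
end
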